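import Mathlib
import Cfsg.Agent.FGS.PseudoSylow

/-!
More fixed point counting for actions on Sylow subgroups.
-/

set_option autoImplicit false

namespace CL.PSyl

open Subgroup MulAction CL.SR

section General

variable {G X : Type*} [Group G] [MulAction G X]

/-- Block counting. -/
theorem relIndex_mul_ncard_le [Finite X] {H K : Subgroup G} {S Y : Set X}
    (hSY : ∀ g ∈ H, ∀ x ∈ S, g • x ∈ Y) (hK : ∀ g ∈ H, ∀ x ∈ S, g • x ∈ S → g ∈ K) :
    K.relIndex H * S.ncard ≤ Y.ncard := by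
  rw [relIndex, index, ← Nat.card_coe_set_eq, ← Nat.card_coe_set_eq, ← Nat.card_prod]
  refine Nat.card_le_card_of_injective
    (fun z : (H ⧸ K.subgroupOf H) × S => (⟨(z.1.out : G) • (z.2 : X), hSY _ z.1.out.2 _ z.2.2⟩ : Y))
    ?_
  rintro ⟨q, x⟩ ⟨q', x'⟩ h
  have h1 : ((q.out : H) : G) • (x : X) = ((q'.out : H) : G) • (x' : X) := congrArg Subtype.val h
  have h2 : (((q'.out)⁻¹ * q.out : H) : G) • (x : X) = x' := by
    rw [coe_mul, coe_inv, mul_smul, h1, inv_smul_smul]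
  have h3 := hK _ ((q'.out)⁻¹ * q.out : H).2 x x.2 (h2 ▸ x'.2)
  have h4 : q' = q := by
    rw [← QuotientGroup.out_eq' q', ← QuotientGroup.out_eq' q, QuotientGroup.eq]
    exact h3
  subst h4
  exact Prod.ext rfl (Subtype.ext (smul_left_cancel _ h1))

theorem ncard_fix_add_ncard_moved [Finite X] (U : Subgroup G) :
    {x : X | ∀ g ∈ U, g • x = x}.ncard + {x : X | ¬ ∀ g ∈ U, g • x = x}.ncard = Nat.card X :=
  Set.ncard_add_ncard_compl _

theorem smul_mem_moved {U : Subgroup G} :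
    ∀ g ∈ U, ∀ x ∈ {x : X | ¬ ∀ g ∈ U, g • x = x}, g • x ∈ {x : X | ¬ ∀ g ∈ U, g • x = x} := by
  intro g hg x hx h
  refine hx fun a ha => ?_
  have h1 := h g⁻¹ (U.inv_mem hg)
  rw [inv_smul_smul] at h1
  rw [h1]
  exact h a ha

theorem card_dvd_ncard_moved [Finite G] [Finite X] {r : ℕ} [hr : Fact r.Prime] {U : Subgroup G}
    (hU : IsPGroup r U) (h : ∀ t ∈ U, orderOf t = r →
      {x : X | t • x = x}.ncard ≤ {x : X | ∀ g ∈ U, g • x = x}.ncard) :
    Nat.card U ∣ {x : X | ¬ ∀ g ∈ U, g • x = x}.ncard := by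
  refine card_dvd_ncard_of_free U _ smul_mem_moved fun g hg x hx hgx => ?_
  by_contra hg1
  have hp : IsPGroup r (U ⊓ stabilizer G x : Subgroup G) := hU.to_le inf_le_left
  obtain ⟨k, hk⟩ := IsPGroup.iff_card.1 hp
  obtain ⟨t, ht, htr⟩ := CL.Small.exists_mem_orderOf_eq_prime (U ⊓ stabilizer G x) r (by
    rw [hk]
    refine dvd_pow_self r fun h0 => hg1 ?_
    rw [h0, pow_zero, card_eq_one] at hk
    exact mem_bot.1 (hk ▸ mem_inf.2 ⟨hg, hgx⟩))
  have h1 := Set.eq_of_subset_of_ncard_le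
    (show {x : X | ∀ g ∈ U, g • x = x} ⊆ {x : X | t • x = x} from fun y hy => hy t ht.1)
    (h t ht.1 htr)
  have h2 : x ∈ {x : X | t • x = x} := ht.2
  rw [← h1] at h2
  exact hx h2

theorem ncard_fix_modEq [Finite X] {r : ℕ} [hr : Fact r.Prime] {U : Subgroup G}
    (hU : IsPGroup r U) : Nat.card X ≡ {x : X | ∀ g ∈ U, g • x = x}.ncard [MOD r] := by
  have := ncard_modEq_of_isPGroup hU (Set.univ : Set X) (fun _ _ _ _ => trivial)
  simpa using this

theorem smul_mem_fix {U : Subgroup G} {a : G} (ha : a ∈ normalizer (U : Set G)) {x : X}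
    (hx : ∀ g ∈ U, g • x = x) : ∀ g ∈ U, g • a • x = a • x := by
  intro g hg
  have h1 := hx _ ((mem_normalizer_iff''.1 ha g).1 hg)
  rwa [mul_smul, mul_smul, inv_smul_eq_iff] at h1

/-- An element normalizing but not centralizing a group `Q` of prime order fixes at most one point
in each regular orbit of `Q`. -/
theorem mul_ncard_fixed_le [Finite G] [Finite X] {q : ℕ} [Fact q.Prime] {Q : Subgroup G}
    (hQ : Nat.card Q = q) {t : G} (htC : t ∉ centralizer (Q : Set G))
    (htN : t ∈ normalizer (Q : Set G)) {S : Set X} (hS : ∀ g ∈ Q, ∀ x ∈ S, g • x ∈ S)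
    (hfree : ∀ g ∈ Q, ∀ x ∈ S, g • x = x → g = 1) :
    q * {x | x ∈ S ∧ t • x = x}.ncard ≤ S.ncard := by
  have := relIndex_mul_ncard_le (H := Q) (K := ⊥) (S := {x | x ∈ S ∧ t • x = x}) (Y := S)
    (fun g hg x hx => hS g hg x hx.1) (fun g hg x hx hgx => by
      by_contra hg1
      apply htC
      have h1 : (g⁻¹ * (t * g * t⁻¹)) • x = x := by
        rw [mul_smul, mul_smul, mul_smul, inv_smul_eq_iff, inv_smul_eq_iff.2 hx.2.symm]
        exact hgx.2
      have h2 := hfree _ (Q.mul_mem (Q.inv_mem hg) ((mem_normalizer_iff.1 htN g).1 hg)) x hx.1 h1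
      rw [CL.Small.eq_zpowers_of_card_prime hQ hg hg1, CL.Small.centralizer_zpowers_eq,
        mem_centralizer_singleton_iff]
      rw [inv_mul_eq_one, eq_mul_inv_iff_mul_eq] at h2
      exact h2.symm)
  rwa [relIndex_bot_left, hQ] at this

end General

variable {G : Type*} [Group G] [Finite G] {p : ℕ} [hp : Fact p.Prime]

theorem ncard_ne_sylow (P : Sylow p G) :
    {Q : Sylow p G | Q ≠ P}.ncard + 1 = Nat.card (Sylow p G) := by
  have h1 : {Q : Sylow p G | Q ≠ P} = ({P} : Set _)ᶜ := by ext; simp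
  rw [h1, add_comm, ← Set.ncard_singleton P]
  exact Set.ncard_add_ncard_compl _

omit [Finite G] hp in
theorem smul_mem_ne {P : Sylow p G} {H : Subgroup G}
    (hH : H ≤ normalizer ((P : Subgroup G) : Set G)) :
    ∀ g ∈ H, ∀ Q ∈ {Q : Sylow p G | Q ≠ P}, g • Q ∈ {Q : Sylow p G | Q ≠ P} := by
  intro g hg Q hQ h
  have h1 : g • P = P := Sylow.smul_eq_iff_mem_normalizer.2 (hH hg)
  exact hQ (smul_left_cancel g (h.trans h1.symm))

theorem ncard_fix_mod (P : Sylow p G) {U : Subgroup G}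
    (hU : U ≤ centralizer ((P : Subgroup G) : Set G)) :
    {Q : Sylow p G | ∀ g ∈ U, g • Q = Q}.ncard % p = 1 := by
  have := ncard_modEq_one P {Q : Sylow p G | ∀ g ∈ U, g • Q = Q}
    (fun g hg => sylow_smul_eq_iff.2 (centralizer_le_normalizer _ (hU hg)))
    (fun a ha x hx => smul_mem_fix
      (centralizer_le_normalizer _ (le_centralizer_iff.1 hU ha)) hx)
  rwa [Nat.ModEq, Nat.mod_eq_of_lt hp.out.one_lt] at this

theorem relIndex_stabilizer_sylow {P : Subgroup G} (hP : IsPGroup p P) (Q : Sylow p G) :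
    (stabilizer G Q).relIndex P = (Q : Subgroup G).relIndex P := by
  rw [stabilizer_sylow, CL.SN.normalizer_relIndex_eq hP]

theorem exists_relIndex_eq_pow {P Q : Sylow p G} (h : Q ≠ P) :
    ∃ k, 0 < k ∧ (Q : Subgroup G).relIndex P = p ^ k ∧ p ^ k < Nat.card (Sylow p G) := by
  obtain ⟨b, hb⟩ := IsPGroup.iff_card.1 P.isPGroup'
  obtain ⟨c, -, hc⟩ := (Nat.dvd_prime_pow hp.out).1
    (hb ▸ relIndex_dvd_card (Q : Subgroup G) (P : Subgroup G))
  refine ⟨c, Nat.pos_of_ne_zero fun h0 => h ?_, hc, ?_⟩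
  · rw [h0, pow_zero, relIndex_eq_one] at hc
    exact (CL.Small.sylow_eq_of_le hc).symm
  · have := relIndex_stabilizer_le_ncard (smul_mem_ne (P := P) le_normalizer) h
    rw [relIndex_stabilizer_sylow P.isPGroup', hc] at this
    have h2 := ncard_ne_sylow P
    omega

/-- A prime `r` with `p * r ≥ n_p` and no power of `p` in `[r, n_p)` does not divide the order of a
Sylow normalizer. -/
theorem not_dvd_card_normalizer [FaithfulSMul G (Sylow p G)] (P : Sylow p G) {r : ℕ}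
    (hr : r.Prime) (hrp : r ≠ p) (h1 : Nat.card (Sylow p G) ≤ p * r)
    (h2 : ∀ k, p ^ k < Nat.card (Sylow p G) → p ^ k < r) :
    ¬ r ∣ Nat.card (normalizer ((P : Subgroup G) : Set G)) := by
  intro h
  have := Fact.mk hr
  obtain ⟨x, hx, hxr⟩ := CL.Small.exists_mem_orderOf_eq_prime _ r h
  have hx1 : x ≠ 1 := by
    rintro rfl
    rw [orderOf_one] at hxr
    exact hr.one_lt.ne hxr
  obtain ⟨β, hβ⟩ := Set.nonempty_of_ncard_ne_zero (ncard_moved_ne_zero (X := Sylow p G) hx1)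
  have hxN : zpowers x ≤ normalizer ((P : Subgroup G) : Set G) := zpowers_le.2 hx
  have hβP : β ≠ P := by
    rintro rfl
    exact hβ (sylow_smul_eq_iff.2 hx)
  set L := zpowers x ⊔ (P : Subgroup G) with hL
  have hLN : L ≤ normalizer ((P : Subgroup G) : Set G) := sup_le hxN le_normalizer
  have hle := relIndex_stabilizer_le_ncard (smul_mem_ne hLN) hβP
  have hne := ncard_ne_sylow P
  have hinv : ∀ g ∈ L, ∀ y ∈ orbit L β, g • y ∈ orbit L β := by
    rintro g hg _ ⟨a, rfl⟩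
    exact ⟨⟨g, hg⟩ * a, mul_smul _ _ _⟩
  have h3 : p ∣ (stabilizer G β).relIndex L := by
    rw [← ncard_orbit_eq_relIndex]
    refine prime_dvd_ncard_of_isPGroup P.isPGroup' _ (fun g hg => hinv g (mem_sup_right hg)) ?_
    rintro _ ⟨a, rfl⟩
    by_contra hcon
    push Not at hcon
    exact smul_mem_ne hLN a a.2 β hβP ((sylow_eq_iff_forall_smul P _).1 hcon)
  have h4 : r ≤ (stabilizer G β).relIndex L := by
    have h5 := relIndex_stabilizer_le_ncard (H := zpowers x) (S := orbit L β)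
      (fun g hg => hinv g (mem_sup_left hg)) (mem_orbit_self β)
    rw [ncard_orbit_eq_relIndex] at h5
    have h6 := relIndex_dvd_card (stabilizer G β) (zpowers x)
    rw [Nat.card_zpowers, hxr] at h6
    rcases (Nat.dvd_prime hr).1 h6 with h7 | h7
    · exact absurd (relIndex_eq_one.1 h7 (mem_zpowers x)) hβ
    · rwa [h7] at h5
  obtain ⟨b, hb⟩ := IsPGroup.iff_card.1 P.isPGroup'
  have h5 := (relIndex_dvd_card (stabilizer G β) L).trans
    (CL.card_sup_dvd_mul_of_le_normalizer hxN)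
  rw [Nat.card_zpowers, hxr, hb] at h5
  by_cases h6 : r ∣ (stabilizer G β).relIndex L
  · have h7 := Nat.le_of_dvd (by have := hr.pos; omega)
      (((Nat.coprime_primes hp.out hr).2 hrp.symm).mul_dvd_of_dvd_of_dvd h3 h6)
    omega
  · obtain ⟨c, -, hc⟩ := (Nat.dvd_prime_pow hp.out).1
      (((Nat.Prime.coprime_iff_not_dvd hr).2 h6).symm.dvd_of_dvd_mul_left h5)
    have := h2 c (by omega)
    omega

end CL.PSyl
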