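import Cfsg.Agent.FGS.CycSylQD
import Cfsg.Agent.S0483
import Cfsg.Agent.S3099
import Cfsg.Agent.INV.ThompsonTransfer
import Cfsg.Agent.SOLV.PGroupCyclicSCN
import Cfsg.Agent.SPOR.GraphIso

/-! Perfect groups with cyclic odd Sylow subgroups and a cyclic subgroup of index two in a Sylow
2-subgroup. -/

set_option autoImplicit false

namespace CL.CycS

open Subgroup CL.ABG CL.PGL2 CL.Dk CL.PCyc
open scoped MatrixGroups

variable {G : Type*} [Group G] [Finite G]

theorem OC.mem_zpowers (h : OC G) {r : ℕ} (hr : r.Prime) (h2 : r ≠ 2) {a b : G}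
    (ha : orderOf a = r) (hb : orderOf b = r) (hc : Commute a b) : b ∈ zpowers a := by
  by_contra hn
  have := Fact.mk hr
  obtain ⟨h1, h3⟩ := elemAb_zpowers_sup hr ha hb hc hn
  exact not_isCyclic_of_elemAb hr h1 (by rw [h3]; nlinarith [hr.one_lt])
    (h r hr h2 _ (IsPGroup.of_card h3))

theorem not_oc_alt : ¬ OC (alternatingGroup (Fin 7)) := fun h => by
  let a : alternatingGroup (Fin 7) := ⟨Equiv.swap 0 1 * Equiv.swap 1 2, by simp⟩
  let b : alternatingGroup (Fin 7) := ⟨Equiv.swap 3 4 * Equiv.swap 4 5, by simp⟩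
  obtain ⟨k, hk⟩ := h.mem_zpowers Nat.prime_three (by decide) (a := a) (b := b)
    (orderOf_eq_prime (by decide) (by decide)) (orderOf_eq_prime (by decide) (by decide))
    (by rw [commute_iff_eq]; decide)
  have h1 : ((a : Equiv.Perm (Fin 7)) ^ k) 3 = 3 :=
    Equiv.Perm.zpow_apply_eq_self_of_apply_eq_self (by decide) k
  rw [← coe_zpow, show a ^ k = b from hk] at h1
  exact absurd h1 (by decide)

theorem prime_card {F : Type*} [Field F] [Fintype F] (hF : Odd (Fintype.card F))
    (h : OC PSL(2, F)) : (Fintype.card F).Prime := by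
  obtain ⟨p, _, k, hp, hk⟩ := FiniteField.card' F
  have hi : Function.Injective ((QuotientGroup.mk' _).comp (unip F) : _ →* PSL(2, F)) :=
    (injective_iff_map_eq_one _).2 fun t ht => by
      have : aff 1 t.toAdd = 1 := by
        rw [← sl2pgl_unip, ← psl2pgl_mk', show (unip F t : PSL(2, F)) = 1 from ht, map_one]
      exact (aff_eq_one_iff.1 this).2
  have h2 : p ≠ 2 := by
    rintro rfl
    rw [hk] at hF
    exact absurd (Nat.odd_pow_iff k.ne_zero |>.1 hF) (by decide)
  have := h.of_injective hi p hp h2 ⊤ (IsPGroup.of_card (n := k) (by simp [hk]))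
  have : IsCyclic (Multiplicative F) := isCyclic_of_surjective _ topEquiv.surjective
  have h3 : Monoid.exponent (Multiplicative F) ∣ p := Monoid.exponent_dvd_of_forall_pow_eq_one
    fun t => Multiplicative.toAdd.injective (by simp)
  rw [IsCyclic.exponent_eq_card, Nat.card_eq_fintype_card, Fintype.card_multiplicative] at h3
  rwa [((Nat.dvd_prime hp).1 h3).resolve_left Fintype.one_lt_card.ne']

variable [Group.IsPerfect G]

omit [Finite G] in
theorem perf_hom {A : Type*} [CommGroup A] (l : G →* A) : l = 1 := MonoidHom.ext fun _ =>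
  Abelianization.commutator_subset_ker l Group.IsPerfect.mem_commutator

omit [Finite G] in
theorem perf_index (H : Subgroup G) : H.index ≠ 2 := fun h => by
  have := normal_of_index_eq_two h
  have : IsCyclic (G ⧸ H) := isCyclic_of_prime_card h
  have : Subsingleton (G ⧸ H) := Group.IsPerfect.subsingleton_of_isMulCommutative
  rw [index, Nat.card_of_subsingleton (1 : G ⧸ H)] at h
  exact absurd h (by decide)

theorem eq_bot_of_cyclic (h : OC G) {N : Subgroup G} [N.Normal] (hN : IsCyclic N)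
    (ho : (Nat.card N).Coprime 2) : N = ⊥ := by
  by_contra hn
  obtain ⟨a, rfl⟩ := (Subgroup.isCyclic_iff_exists_zpowers_eq_top _).1 hN
  obtain ⟨r, hr, h1⟩ := Nat.exists_prime_and_dvd (mt card_eq_one.1 hn)
  have := Fact.mk hr
  obtain ⟨x, hx⟩ := exists_prime_orderOf_dvd_card' r h1
  have h2 : r ≠ 2 := by
    rintro rfl
    exact absurd (Nat.eq_one_of_dvd_coprimes ho h1 dvd_rfl) (by decide)
  obtain ⟨P, hP⟩ := (IsPGroup.of_card (n := 1) (by
    rw [Nat.card_zpowers, orderOf_coe, hx, pow_one]) : IsPGroup r (zpowers (x : G))).exists_le_sylow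
  have := h r hr h2 P P.isPGroup'
  have h3 : (x : G) ∈ center G := zpowers_le.2 (mem_center_iff.2 fun g =>
    mem_centralizer_singleton_iff.1 (commutator_le_centralizer_of_normal a
      Group.IsPerfect.mem_commutator)) x.2
  rw [show x = 1 from Subtype.ext (eq_one_of_central P (hP (Subgroup.mem_zpowers _))
    Group.IsPerfect.mem_commutator h3), orderOf_one] at hx
  exact hr.ne_one hx.symm

omit [Group.IsPerfect G] in
theorem OC.isZGroup (h : OC G) (ho : (Nat.card G).Coprime 2) : IsZGroup G :=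
  ⟨fun p hp P => by
    by_cases h2 : p = 2
    · subst h2
      obtain ⟨k, hk⟩ := IsPGroup.iff_card.1 P.isPGroup'
      have : Nat.card P = 1 := Nat.eq_one_of_dvd_coprimes (ho.pow_right k)
        (card_subgroup_dvd_card _) hk.dvd
      have := (Nat.card_eq_one_iff_unique.1 this).1
      infer_instance
    · exact h p hp h2 P P.isPGroup'⟩

theorem oddCore_eq_bot (h : OC G) : Cfsg.oddCore G = ⊥ := by
  have ho := CL.coprime_card_pPrimeCore 2 G
  set O := Cfsg.oddCore G
  have := (h.of_injective O.subtype_injective).isZGroup ho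
  have := IsZGroup.isCyclic_commutator O
  have h1 : (commutator O).map O.subtype = ⊥ := eq_bot_of_cyclic h
    (isCyclic_of_surjective _ (MonoidHom.subgroupMap_surjective _ _))
    (ho.coprime_dvd_left (card_dvd_of_le (map_subtype_le _)))
  have h2 := (map_eq_bot_iff_of_injective _ O.subtype_injective).1 h1
  refine eq_bot_of_cyclic h (isCyclic_of_injective (Abelianization.of (G := O)) ?_) ho
  rw [← MonoidHom.ker_eq_bot_iff, Abelianization.ker_of, h2]

theorem sq_eq_one_of_comm (S : Sylow 2 G) {a y w : G} (ha : a ∈ (S : Subgroup G))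
    (hi : ∀ x ∈ (S : Subgroup G), ∀ y ∈ (S : Subgroup G), x ∉ zpowers a → y ∉ zpowers a →
      x * y ∈ zpowers a) (hy : y ∈ (S : Subgroup G)) (hya : y ∉ zpowers a) (yy : y * y = 1)
    (hw : w ∈ zpowers a) (hwy : w * y = y * w) : w * w = 1 := by
  by_contra hn
  have hle := zpowers_le.2 ha
  have h2 : (zpowers a).relIndex S = 2 := by
    refine index_eq_two_iff_exists_notMem_and.2 ⟨⟨y, hy⟩, hya, fun b => ?_⟩
    by_cases h : (b : G) ∈ zpowers a
    · exact Or.inr h
    · exact Or.inl (hi b b.2 y hy h hya)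
  have hnorm : ((zpowers a).subgroupOf S).Normal := normal_of_index_eq_two h2
  have sq : ∀ x ∈ (S : Subgroup G), x * x ∈ zpowers a := fun x hx => by
    by_cases h : x ∈ zpowers a
    · exact mul_mem h h
    · exact hi x hx x hx h h
  have y2 : orderOf y = 2 := orderOf_eq_prime (by rwa [pow_two]) fun e => hya (e ▸ one_mem _)
  have uniq : ∀ u ∈ zpowers a, ∀ v ∈ zpowers a, orderOf u = 2 → orderOf v = 2 → u = v :=
    fun u hu v hv => CL.SylowAux.eq_of_isCyclic_subgroup inferInstance hu hv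
  obtain ⟨g, hg⟩ := CL.ThompsonTransfer.exists_conj_mem perf_index S hle h2.dvd yy
  have z2 : orderOf (g * y * g⁻¹) = 2 := ((MulAut.conj g).orderOf_eq y).trans y2
  set z := g * y * g⁻¹ with hz
  have hSC : (S : Subgroup G) ≤ centralizer {z} := fun s hs => by
    have h3 : s * z * s⁻¹ ∈ zpowers a := hnorm.conj_mem ⟨z, hle hg⟩ hg ⟨s, hs⟩
    exact mem_centralizer_singleton_iff.2 (mul_inv_eq_iff_eq_mul.1
      (uniq _ h3 _ hg (((MulAut.conj s).orderOf_eq z).trans z2) z2))
  obtain ⟨k, hk⟩ := IsPGroup.iff_orderOf.1 S.isPGroup' ⟨w, hle hw⟩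
  rw [← orderOf_coe] at hk
  obtain ⟨k, rfl⟩ : ∃ m, k = m + 2 := ⟨k - 2, by
    by_contra h
    refine hn ?_
    rw [← pow_two, ← orderOf_dvd_iff_pow_eq_one, hk]
    exact pow_dvd_pow 2 (show k ≤ 1 by omega)⟩
  have h4 : orderOf (w ^ 2 ^ k * w ^ 2 ^ k) = 2 := by
    rw [← pow_two, ← pow_mul, ← pow_succ]
    exact orderOf_pow_pow Nat.prime_two hk
  have h5 : g * w * g⁻¹ ∈ centralizer ({z} : Set G) := mem_centralizer_singleton_iff.2 (by
    rw [hz, conj_mul, conj_mul, hwy])
  obtain ⟨h, hh⟩ := exists_conj_mem_sylow' (S.subtype hSC) (x := ⟨_, h5⟩) (k := k + 2)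
    (Subtype.ext (by simp [← hk]))
  have h6 : (h : G) * g * w * (h * g)⁻¹ ∈ (S : Subgroup G) := by
    simpa [mul_assoc, mem_subgroupOf] using hh
  have h7 := sq _ (pow_mem h6 (2 ^ k))
  rw [conj_pow, conj_mul] at h7
  have h8 := uniq _ h7 _ hg (((MulAut.conj _).orderOf_eq _).trans h4) z2
  have h9 : (h : G) * g * y * (h * g)⁻¹ = z := by
    have := mem_centralizer_singleton_iff.1 h.2
    calc (h : G) * g * y * (h * g)⁻¹ = h * (g * y * g⁻¹) * (h : G)⁻¹ := by group
      _ = z := by rw [← hz, this, mul_inv_cancel_right]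
  exact hya (mul_left_cancel (mul_right_cancel (h8.trans h9.symm)) ▸
    mul_mem (pow_mem hw _) (pow_mem hw _))

theorem dihedral_or_qd (hi : CI G) (h1 : ¬ Cfsg.PRankLE 2 1 G) (S : Sylow 2 G) :
    (∃ n, 2 ≤ n ∧ Nonempty ((S : Subgroup G) ≃* DihedralGroup n)) ∨
      Cfsg.IsQuasiDihedral (S : Subgroup G) := by
  obtain ⟨a, ha, hi⟩ := hi S S.isPGroup'
  obtain ⟨y, hy, hya, yy, hne⟩ : ∃ y ∈ (S : Subgroup G), y ∉ zpowers a ∧ y * y = 1 ∧ a ≠ 1 := by
    simp only [Cfsg.PRankLE, not_forall, not_le] at h1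
    obtain ⟨A, hA, h2, h3⟩ := h1
    obtain ⟨g, hg⟩ := exists_conj_le_sylow S (P := A) fun x => ⟨1, Subtype.ext (h2 x x.2)⟩
    obtain ⟨u, v, u1, v1, uv⟩ : ∃ u v : A, u ≠ 1 ∧ v ≠ 1 ∧ u ≠ v := by
      have := Fintype.ofFinite A
      obtain ⟨x, y, w, xy, xw, yw⟩ := (Fintype.two_lt_card_iff (α := A)).1 (by
        rwa [← Nat.card_eq_fintype_card])
      by_cases e : x = 1
      · exact ⟨y, w, e ▸ xy.symm, e ▸ xw.symm, yw⟩
      by_cases e' : y = 1
      · exact ⟨x, w, e, e' ▸ yw.symm, xw⟩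
      · exact ⟨x, y, e, e', xy⟩
    have o : ∀ u : A, u ≠ 1 → orderOf (g * u * g⁻¹) = 2 := fun u h =>
      ((MulAut.conj g).orderOf_eq _).trans (orderOf_eq_prime (h2 u u.2) fun e => h (Subtype.ext e))
    have sq : ∀ u : A, g * u * g⁻¹ * (g * u * g⁻¹) = 1 := fun u => by
      rw [conj_mul, ← pow_two, h2 u u.2, mul_one, mul_inv_cancel]
    have ne : g * u * g⁻¹ ≠ g * v * g⁻¹ := fun e =>
      uv (Subtype.ext (mul_left_cancel (mul_right_cancel e)))
    have hne : a ≠ 1 := by
      rintro rfl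
      have n : ∀ u : A, u ≠ 1 → g * u * g⁻¹ ∉ zpowers (1 : G) := fun u h e => by
        have := o u h
        rw [zpowers_one_eq_bot, mem_bot] at e
        simp [e] at this
      have := hi _ (hg u u.2) _ (hg v v.2) (n u u1) (n v v1)
      rw [zpowers_one_eq_bot, mem_bot] at this
      exact ne (mul_left_cancel ((sq u).trans this.symm))
    by_cases e : g * u * g⁻¹ ∈ zpowers a
    · exact ⟨_, hg v v.2, fun e' => ne (CL.SylowAux.eq_of_isCyclic_subgroup inferInstance e e'
        (o u u1) (o v v1)), sq v, hne⟩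
    · exact ⟨_, hg u u.2, e, sq u, hne⟩
  have h2 : (zpowers a).relIndex S = 2 := by
    refine index_eq_two_iff_exists_notMem_and.2 ⟨⟨y, hy⟩, hya, fun b => ?_⟩
    by_cases h : (b : G) ∈ zpowers a
    · exact Or.inr h
    · exact Or.inl (hi b b.2 y hy h hya)
  have hnorm : ((zpowers a).subgroupOf S).Normal := normal_of_index_eq_two h2
  have hc : y * a * y⁻¹ ∈ zpowers a := hnorm.conj_mem ⟨a, ha⟩ (Subgroup.mem_zpowers a) ⟨y, hy⟩
  have hcomm := commute_of_mem_zpowers hc
  have yi : y⁻¹ = y := inv_eq_of_mul_eq_one_right yy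
  have key := fun w => sq_eq_one_of_comm S (w := w) ha hi hy hya yy
  have h3 := key (y * a * y⁻¹ * a) (mul_mem hc (Subgroup.mem_zpowers a)) (by
    calc y * a * y⁻¹ * a * y = y * (a * (y * a * y⁻¹)) := by rw [yi]; simp only [mul_assoc]
      _ = _ := by rw [hcomm.eq])
  have hcard : Nat.card (S : Subgroup G) = 2 * orderOf a := by
    rw [← Nat.card_zpowers, ← Nat.card_congr (subgroupOfEquivOfLe (zpowers_le.2 ha)).toEquiv,
      ← ((zpowers a).subgroupOf S).index_mul_card, ← relIndex, h2]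
  obtain ⟨k, hk⟩ := IsPGroup.iff_orderOf.1 S.isPGroup' ⟨a, ha⟩
  have hk' : orderOf a = 2 ^ k := (orderOf_coe _).trans hk
  by_cases h4 : y * a * y⁻¹ * a = 1
  · refine Or.inl ⟨orderOf a, ?_, CL.DQ.subgroup_dihedral (orderOf_pos a).ne' _ a y ha hy rfl yy
      (eq_inv_of_mul_eq_one_left h4) hya hcard⟩
    have := orderOf_pos a
    have := mt orderOf_eq_one_iff.1 hne
    omega
  obtain ⟨k, rfl⟩ : ∃ m, k = m + 1 := ⟨k - 1, by
    rcases k with _ | k
    · exact absurd (orderOf_eq_one_iff.1 hk') hne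
    · rfl⟩
  have h5 := CL.SylowAux.eq_of_isCyclic_subgroup inferInstance
    (mul_mem hc (Subgroup.mem_zpowers a)) (npow_mem_zpowers a _)
    (orderOf_eq_prime (by rwa [pow_two]) h4) (orderOf_pow_pow Nat.prime_two hk')
  have h6 : y * a * y⁻¹ = a ^ (2 ^ k - 1) := mul_right_cancel (h5.trans (by
    rw [← pow_succ, Nat.sub_add_cancel Nat.one_le_two_pow]))
  rcases k with _ | _ | k
  · simp [hne] at h6
  · have := key a (Subgroup.mem_zpowers a) (mul_inv_eq_iff_eq_mul.1 (by simpa using h6)).symm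
    rw [← pow_two, ← orderOf_dvd_iff_pow_eq_one, hk'] at this
    exact absurd this (by decide)
  · refine Or.inr ⟨k + 3, by omega, by rw [hcard, hk']; ring, ⟨a, ha⟩, ⟨y, hy⟩, hk,
      orderOf_eq_prime (Subtype.ext (by simpa [pow_two] using yy))
        fun e => hya (by rw [show y = 1 from congrArg Subtype.val e]; exact one_mem _),
      Subtype.ext h6⟩

theorem perfect_cases [Nontrivial G] (hc : OC G) (hi : CI G) : ∃ (p : ℕ) (_ : Fact p.Prime),
    5 ≤ p ∧ (Nonempty (G ≃* PSL(2, ZMod p)) ∨ Nonempty (G ≃* SL(2, ZMod p))) := by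
  have hO := oddCore_eq_bot hc
  have e : G ≃* G ⧸ Cfsg.oddCore G :=
    ((QuotientGroup.quotientMulEquivOfEq hO).trans QuotientGroup.quotientBot).symm
  have fin : ∀ (F : Type) [Field F] [Fintype F], Odd (Fintype.card F) → 3 < Fintype.card F →
      OC PSL(2, F) → ∃ (p : ℕ) (_ : Fact p.Prime), 5 ≤ p ∧ Nonempty (ZMod p ≃+* F) :=
    fun F _ _ h1 h2 h3 => by
      have := Fact.mk (prime_card h1 h3)
      refine ⟨_, this, ?_, ⟨FiniteField.ringEquivOfCardEq (ZMod.card _)⟩⟩
      obtain ⟨m, hm⟩ := h1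
      omega
  by_cases h1 : Cfsg.PRankLE 2 1 G
  · have h2 : Even (Nat.card G) := by
      by_contra h
      have := CL.le_pPrimeCore (p := 2) (N := (⊤ : Subgroup G))
        (by simpa [Nat.coprime_two_right] using h)
      exact top_ne_bot (le_bot_iff.1 (this.trans hO.le))
    rcases Cfsg.Agent.S3099.result inferInstance h1 h2 with ⟨F, _, _, h3, h4, ⟨f⟩⟩ | ⟨-, ⟨f⟩, -⟩
    · obtain ⟨p, _, h5, ⟨g⟩⟩ := fin F h3 h4 ((hc.of_surjective (f := (e.trans f).toMonoidHom)
        (e.trans f).surjective).of_surjective (QuotientGroup.mk'_surjective _))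
      exact ⟨p, inferInstance, h5, Or.inr ⟨(e.trans f).trans (CL.Graph.slCongr g.symm)⟩⟩
    · exact absurd (((hc.of_surjective (f := e.toMonoidHom) e.surjective).of_surjective
        (QuotientGroup.mk'_surjective _)).of_surjective (f := f.toMonoidHom) f.surjective)
        not_oc_alt
  · obtain ⟨S⟩ : Nonempty (Sylow 2 G) := inferInstance
    obtain ⟨n, hn, hS⟩ := (dihedral_or_qd hi h1 S).resolve_right
      (not_qd hc hi perf_hom perf_index S)
    rcases Cfsg.Agent.S0483.result S n hn hS with ⟨F, _, _, h3, h4, ⟨f⟩⟩ | ⟨⟨f⟩⟩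
    · obtain ⟨p, _, h5, ⟨g⟩⟩ := fin F h3 h4 (hc.of_surjective (f := (e.trans f).toMonoidHom)
        (e.trans f).surjective)
      exact ⟨p, inferInstance, h5, Or.inl ⟨(e.trans f).trans (CL.Graph.pslCongr g.symm)⟩⟩
    · exact absurd (hc.of_surjective (f := (e.trans f).toMonoidHom) (e.trans f).surjective)
        not_oc_alt

end CL.CycS
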