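import Mathlib
import Cfsg.Agent.SOLV.Basic

/-! The "norm trick": if `V` is an abelian normal subgroup, `S` a subgroup of coprime order without
fixed points on `V`, `y` normalizes `S` and every element of the coset `V S y` has order dividing
the prime `p`, then `V = 1`. -/

set_option autoImplicit false

namespace CL.FGS

theorem eq_of_pow_eq_of_pow_prime_eq_one {G : Type*} [Monoid G] {p i : ℕ} (hp : p.Prime)
    (hi : ¬ p ∣ i) {a b : G} (ha : a ^ p = 1) (hb : b ^ p = 1) (h : a ^ i = b ^ i) : a = b := by
  have hc : Nat.Coprime i p := ((Nat.Prime.coprime_iff_not_dvd hp).2 hi).symm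
  obtain ⟨j, -, hj⟩ := Nat.exists_mul_mod_eq_one_of_coprime hc hp.one_lt
  have e : ∀ c : G, c ^ p = 1 → (c ^ i) ^ j = c := by
    intro c hc
    rw [← pow_mul, pow_eq_pow_mod _ hc, hj, pow_one]
  rw [← e a ha, ← e b hb, h]

theorem coe_mul_pow_eq_prod {G : Type*} [Group G] (V : Subgroup G) [V.Normal] (v : V) (g : G)
    (n : ℕ) : ((v : G) * g) ^ n =
      (((List.range n).map (fun i => MulAut.conjNormal (g ^ i) v)).prod : V) * g ^ n := by
  induction n with
  | zero => simp
  | succ n ih =>
    rw [pow_succ, ih, List.range_succ, List.map_append, List.prod_append]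
    simp only [List.map_cons, List.map_nil, List.prod_cons, List.prod_nil, mul_one,
      Subgroup.coe_mul, MulAut.conjNormal_apply]
    group

theorem mul_pow_mul_inv_pow_mem {G : Type*} [Group G] {S : Subgroup G} {y : G}
    (hy : y ∈ Subgroup.normalizer (S : Set G)) {s : G} (hs : s ∈ S) (i : ℕ) :
    (s * y) ^ i * (y ^ i)⁻¹ ∈ S := by
  induction i with
  | zero => simp
  | succ i ih =>
    have h1 : y ^ i * s * (y ^ i)⁻¹ ∈ S :=
      (Subgroup.mem_normalizer_iff.1 (Subgroup.pow_mem _ hy i) s).1 hs
    have := S.mul_mem ih h1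
    convert this using 1
    rw [pow_succ, pow_succ]
    group

theorem eq_bot_of_coset_pow_prime_eq_one {G : Type*} [Group G] [Finite G] {p : ℕ} (hp : p.Prime)
    (V S : Subgroup G) [V.Normal] [IsMulCommutative V] {y : G}
    (hy : y ∈ Subgroup.normalizer (S : Set G))
    (hpow : ∀ v ∈ V, ∀ s ∈ S, (v * (s * y)) ^ p = 1)
    (hfix : V ⊓ Subgroup.centralizer (S : Set G) = ⊥)
    (hcop : (Nat.card V).Coprime (Nat.card S)) : V = ⊥ := by
  classical
  let _ : CommGroup V := { (inferInstance : Group V) with mul_comm := mul_comm' }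
  have : Fintype S := Fintype.ofFinite S
  set φ : G →* MulAut V := MulAut.conjNormal with hφ
  have h0 : ∀ s ∈ S, (s * y) ^ p = 1 := fun s hs => by simpa using hpow 1 V.one_mem s hs
  -- norms over `S` are trivial
  have hnorm : ∀ w : V, ∏ t : S, φ t w = 1 := by
    intro w
    have hmem : ((∏ t : S, φ t w : V) : G) ∈ V ⊓ Subgroup.centralizer (S : Set G) := by
      refine ⟨(∏ t : S, φ t w).2, ?_⟩
      intro u hu
      have : φ u (∏ t : S, φ t w) = ∏ t : S, φ t w := by
        rw [map_prod]
        refine Fintype.prod_equiv (Equiv.mulLeft (⟨u, hu⟩ : S)) _ _ ?_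
        intro t
        simp [← MulAut.mul_apply, ← map_mul]
      have h2 := congrArg Subtype.val this
      rw [hφ, MulAut.conjNormal_apply] at h2
      rw [← mul_inv_eq_iff_eq_mul, h2]
    rw [hfix, Subgroup.mem_bot] at hmem
    exact Subtype.ext hmem
  have hsum : ∀ v : V, ∀ s : S, ∏ i ∈ Finset.range p, φ (((s : G) * y) ^ i) v = 1 := by
    intro v s
    have h1 := coe_mul_pow_eq_prod V v (s * y) p
    rw [hpow v v.2 s s.2, h0 s s.2, mul_one] at h1
    have h2 : ∀ (f : ℕ → V) (n : ℕ), ∏ i ∈ Finset.range n, f i = ((List.range n).map f).prod := by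
      intro f n
      induction n with
      | zero => simp
      | succ n ih => rw [Finset.prod_range_succ, ih, List.range_succ]; simp
    rw [h2]
    exact Subtype.ext h1.symm
  have hi : ∀ v : V, ∀ i, ¬ p ∣ i → ∏ s : S, φ (((s : G) * y) ^ i) v = 1 := by
    intro v i hi
    let t : S → S := fun s => ⟨((s : G) * y) ^ i * (y ^ i)⁻¹, mul_pow_mul_inv_pow_mem hy s.2 i⟩
    have ht : Function.Injective t := by
      intro a b hab
      have h1 : ((a : G) * y) ^ i = ((b : G) * y) ^ i := by
        have := congrArg Subtype.val hab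
        simpa [t] using this
      have := eq_of_pow_eq_of_pow_prime_eq_one hp hi (h0 a a.2) (h0 b b.2) h1
      exact Subtype.ext (mul_right_cancel this)
    rw [← hnorm (φ (y ^ i) v)]
    refine Fintype.prod_bijective t (Finite.injective_iff_bijective.1 ht) _ _ ?_
    intro s
    rw [← MulAut.mul_apply, ← map_mul]
    simp [t]
  rw [eq_bot_iff]
  intro v hv
  have h1 : ∏ s : S, ∏ i ∈ Finset.range p, φ (((s : G) * y) ^ i) ⟨v, hv⟩ = 1 := by
    exact Finset.prod_eq_one fun s _ => hsum _ s
  rw [Finset.prod_comm, Finset.prod_eq_single 0] at h1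
  · simp only [pow_zero, map_one, MulAut.one_apply, Finset.prod_const, Finset.card_univ] at h1
    have h2 : orderOf (⟨v, hv⟩ : V) ∣ Nat.card S := by
      rw [Nat.card_eq_fintype_card]; exact orderOf_dvd_of_pow_eq_one h1
    have h3 := Nat.eq_one_of_dvd_coprimes hcop (orderOf_dvd_natCard _) h2
    rw [orderOf_eq_one_iff] at h3
    exact congrArg Subtype.val h3
  · intro i hi1 hi0
    refine hi _ i fun hd => ?_
    have := Nat.le_of_dvd (Nat.pos_of_ne_zero hi0) hd
    have := Finset.mem_range.1 hi1
    omega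
  · intro h; exact absurd (Finset.mem_range.2 hp.pos) h

end CL.FGS
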