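import Mathlib
import Cfsg.Agent.SOLV.MinNormal
import Cfsg.Agent.PLOC.Fusion
import Cfsg.Agent.FGS.NormTrick

/-! Hughes–Thompson–Kegel, the part that does not need Thompson's normal `p`-complement theorem:
let `N` be a proper normal subgroup of `G` with `g ^ p = 1` for every `g ∉ N`. If `V ≤ N` is a
solvable minimal normal subgroup of `G` and `N / V` is nilpotent, then `N` is nilpotent. -/

set_option autoImplicit false

open scoped Pointwise

namespace CL.FGS

/-- Frattini argument for a Sylow subgroup `S` of a normal subgroup `N` when `S V ⊴ G`. -/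
theorem exists_mul_mem_normalizer_of_sup_normal {G : Type*} [Group G] [Finite G] {s : ℕ}
    [Fact s.Prime] {N V : Subgroup G} [V.Normal] (hVN : V ≤ N) (S : Sylow s N)
    (hT : (((S : Subgroup N).map N.subtype) ⊔ V).Normal) (g : G) :
    ∃ v ∈ V, v * g ∈ Subgroup.normalizer (((S : Subgroup N).map N.subtype : Subgroup G) : Set G) := by
  set S' : Subgroup G := (S : Subgroup N).map N.subtype with hS'
  have hS'N : S' ≤ N := Subgroup.map_subtype_le _
  have hTN : S' ⊔ V ≤ N := sup_le hS'N hVN
  have h1 : ¬ s ∣ S'.relIndex (S' ⊔ V) := by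
    intro hd
    have h2 := Subgroup.relIndex_mul_relIndex S' (S' ⊔ V) N le_sup_left hTN
    have h3 : S'.relIndex N = (S : Subgroup N).index := by
      rw [Subgroup.relIndex, hS', Subgroup.subgroupOf,
        Subgroup.comap_map_eq_self_of_injective N.subtype_injective]
    exact S.not_dvd_index (h3 ▸ h2 ▸ hd.mul_right _)
  obtain ⟨n, hn, hng⟩ := CL.Tr.frattini_argument (S.isPGroup'.map N.subtype) le_sup_left h1
    (g := g) (by rw [Subgroup.normalizer_eq_top_iff.2 hT]; trivial)
  obtain ⟨a, ha, v, hv, rfl⟩ := Subgroup.mem_sup_of_normal_right.1 hn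
  refine ⟨v, hv, ?_⟩
  have := Subgroup.mul_mem _ (Subgroup.inv_mem _ (Subgroup.le_normalizer ha)) hng
  rwa [mul_assoc, inv_mul_cancel_left] at this

/-- If `N / V` is nilpotent (`N, V ⊴ G`) then `S V ⊴ G` for every Sylow subgroup `S` of `N`. -/
theorem normal_sylow_sup_of_isNilpotent_map {G : Type*} [Group G] [Finite G] {s : ℕ}
    [Fact s.Prime] {N V : Subgroup G} [N.Normal] [V.Normal]
    (hnil : Group.IsNilpotent (N.map (QuotientGroup.mk' V))) (S : Sylow s N) :
    (((S : Subgroup N).map N.subtype) ⊔ V).Normal := by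
  set π := QuotientGroup.mk' V with hπ
  have hNn : (N.map π).Normal := Subgroup.Normal.map inferInstance π (QuotientGroup.mk'_surjective V)
  let S1 : Sylow s (N.map π) := S.mapSurjective (π.subgroupMap_surjective N)
  have h1 : (S1 : Subgroup (N.map π)).Normal :=
    (CL.isNilpotent_iff_sylow_normal.1 hnil) s inferInstance S1
  have h2 : (S1 : Subgroup (N.map π)).Characteristic := S1.characteristic_of_normal h1
  have h3 : ((S1 : Subgroup (N.map π)).map (N.map π).subtype).Normal :=
    ConjAct.normal_of_characteristic_of_normal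
  have h4 : (S1 : Subgroup (N.map π)).map (N.map π).subtype =
      ((S : Subgroup N).map N.subtype).map π := by
    simp only [S1, Sylow.coe_mapSurjective, Subgroup.map_map]
    rfl
  rw [h4] at h3
  rw [← CL.comap_map_mk']
  exact h3.comap _

theorem isNilpotent_of_minNormal_of_pow_prime {G : Type*} [Group G] [Finite G] {p : ℕ}
    (hp : p.Prime) {N V : Subgroup G} [N.Normal] (hN : N ≠ ⊤) (hpow : ∀ g, g ∉ N → g ^ p = 1)
    (hV : CL.IsMinNormal V) (hVN : V ≤ N) (hVs : Group.IsSolvable V)
    (hnil : have := hV.normal; Group.IsNilpotent (N.map (QuotientGroup.mk' V))) :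
    Group.IsNilpotent N := by
  have := hV.normal
  have hab := hV.isMulCommutative_of_isSolvable hVs
  obtain ⟨r, hr, hVr⟩ := hV.exists_isPGroup_of_isSolvable hVs
  rw [CL.isNilpotent_iff_sylow_normal]
  intro s hs S
  set S' : Subgroup G := (S : Subgroup N).map N.subtype with hS'
  have hT := normal_sylow_sup_of_isNilpotent_map hnil S
  have hfr := exists_mul_mem_normalizer_of_sup_normal hVN S hT
  suffices h : V ≤ Subgroup.normalizer (S' : Set G) by
    have hn : S'.Normal := by
      rw [← Subgroup.normalizer_eq_top_iff, eq_top_iff]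
      intro g _
      obtain ⟨v, hv, hg⟩ := hfr g
      have := Subgroup.mul_mem _ (Subgroup.inv_mem _ (h hv)) hg
      simpa using this
    exact Subgroup.Normal.of_map_injective N.subtype_injective hn
  by_cases hsr : s = r
  · subst hsr
    have h1 : V.subgroupOf N ≤ S := by
      refine IsPGroup.le_sylow_of_normal ?_ S
      exact hVr.of_injective (Subgroup.subgroupOfEquivOfLe hVN).toMonoidHom
        (Subgroup.subgroupOfEquivOfLe hVN).injective
    refine le_trans ?_ Subgroup.le_normalizer
    intro v hv
    exact ⟨⟨v, hVN hv⟩, h1 hv, rfl⟩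
  · have hCn : (V ⊓ Subgroup.centralizer (S' : Set G)).Normal := by
      rw [← Subgroup.normalizer_eq_top_iff, eq_top_iff]
      intro g _
      obtain ⟨v, hv, hg⟩ := hfr g
      have h1 : v * g ∈ Subgroup.normalizer
          ((V ⊓ Subgroup.centralizer (S' : Set G) : Subgroup G) : Set G) := by
        refine CL.le_normalizer_inf (A := Subgroup.normalizer (S' : Set G)) ?_
          (CL.normalizer_le_normalizer_centralizer S') hg
        rw [Subgroup.normalizer_eq_top_iff.2 this]; exact le_top
      have h2 : v ∈ Subgroup.normalizer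
          ((V ⊓ Subgroup.centralizer (S' : Set G) : Subgroup G) : Set G) := by
        apply Subgroup.centralizer_le_normalizer
        intro c hc
        exact setLike_mul_comm (s := V) hc.1 hv
      have := Subgroup.mul_mem _ (Subgroup.inv_mem _ h2) h1
      simpa using this
    rcases hV.eq_bot_or_eq _ hCn inf_le_left with hb | hb
    · exfalso
      obtain ⟨g, hg⟩ : ∃ g, g ∉ N := by
        by_contra h
        push Not at h
        exact hN (eq_top_iff.2 fun g _ => h g)
      obtain ⟨v, hv, hy⟩ := hfr g
      have hyN : v * g ∉ N := fun h => hg ((N.mul_mem_cancel_left (hVN hv)).1 h)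
      apply hV.ne_bot
      refine eq_bot_of_coset_pow_prime_eq_one hp V S' hy ?_ hb ?_
      · intro w hw t ht
        apply hpow
        rw [N.mul_mem_cancel_left (hVN hw), N.mul_mem_cancel_left (Subgroup.map_subtype_le _ ht)]
        exact hyN
      · have : Fact r.Prime := ⟨hr⟩
        exact IsPGroup.coprime_card_of_ne r s (Ne.symm hsr) V S' hVr (S.isPGroup'.map _)
    · have : V ≤ Subgroup.centralizer (S' : Set G) := hb ▸ inf_le_right
      exact this.trans (Subgroup.centralizer_le_normalizer _)

end CL.FGS
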