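import Mathlib
import Cfsg.Agent.SOLV.Basic

/-! Small facts: index of an overgroup of a Sylow normalizer, coatoms in quotients. -/

set_option autoImplicit false

namespace CL.FGS

/-- If `H` contains the normalizer of a Sylow `p`-subgroup then `[G:H] ≡ 1 mod p`. -/
theorem index_modEq_one_of_normalizer_sylow_le {G : Type*} [Group G] [Finite G] {p : ℕ}
    [Fact p.Prime] (P : Sylow p G) {H : Subgroup G}
    (h : Subgroup.normalizer ((P : Subgroup G) : Set G) ≤ H) : H.index ≡ 1 [MOD p] := by
  have hPH : (P : Subgroup G) ≤ H := Subgroup.le_normalizer.trans h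
  have h1 : (Subgroup.normalizer ((P : Subgroup G) : Set G)).index ≡ 1 [MOD p] := by
    have := card_sylow_modEq_one p G
    rwa [P.card_eq_index_normalizer] at this
  have h2 : (Subgroup.normalizer ((P : Subgroup G) : Set G)).relIndex H ≡ 1 [MOD p] := by
    have := card_sylow_modEq_one p H
    rw [(P.subtype hPH).card_eq_index_normalizer] at this
    have e : Subgroup.normalizer ((P.subtype hPH : Sylow p H) : Set H) =
        (Subgroup.normalizer ((P : Subgroup G) : Set G)).subgroupOf H := by
      rw [Subgroup.subgroupOf_normalizer_eq hPH]; rfl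
    rw [e] at this
    exact this
  have h3 := Subgroup.relIndex_mul_index h
  have h4 : (Subgroup.normalizer ((P : Subgroup G) : Set G)).relIndex H * H.index ≡
      1 * H.index [MOD p] := h2.mul_right _
  rw [h3, one_mul] at h4
  exact h4.symm.trans h1

theorem isCoatom_comap_mk' {G : Type*} [Group G] (N : Subgroup G) [N.Normal]
    {M : Subgroup (G ⧸ N)} (hM : IsCoatom M) : IsCoatom (M.comap (QuotientGroup.mk' N)) :=
  Subgroup.isCoatom_comap_of_surjective (QuotientGroup.mk'_surjective N) hM

/-- For `N` normal with `M ⊔ N = ⊤`, `[N : M ∩ N] = [G : M]`. -/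
theorem relIndex_eq_index_of_sup_normal_eq_top {G : Type*} [Group G] [Finite G] {M N : Subgroup G}
    [N.Normal] (h : M ⊔ N = ⊤) : M.relIndex N = M.index := by
  have h1 := CL.card_sup_mul_card_inf M N
  have h2 := CL.card_inf_mul_relIndex M N
  have h3 := M.card_mul_index
  rw [h, Subgroup.card_top] at h1
  have hpos : 0 < Nat.card M * Nat.card (M ⊓ N : Subgroup G) := Nat.mul_pos Nat.card_pos Nat.card_pos
  apply Nat.eq_of_mul_eq_mul_left hpos
  calc Nat.card M * Nat.card (M ⊓ N : Subgroup G) * M.relIndex N
      = Nat.card M * Nat.card N := by rw [mul_assoc, h2]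
    _ = Nat.card M * M.index * Nat.card (M ⊓ N : Subgroup G) := by rw [h3, h1]
    _ = _ := by ring

theorem exists_isCoatom_ge {G : Type*} [Group G] [Finite G] {H : Subgroup G} (h : H ≠ ⊤) :
    ∃ M : Subgroup G, IsCoatom M ∧ H ≤ M :=
  (eq_top_or_exists_le_coatom H).resolve_left h

end CL.FGS
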