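import Mathlib
import Cfsg.Agent.FGS.KegelSolv
import Cfsg.Agent.FGS.SylowIdx
import Cfsg.Agent.PLOC.NPC
import Cfsg.Agent.PLOC.Thompson
import Cfsg.Agent.S0108

/-! Hughes–Thompson–Kegel: if every element outside the proper normal subgroup `N` of the finite
group `G` satisfies `g ^ p = 1`, then `N` is nilpotent. -/

set_option autoImplicit false

namespace CL.FGS

universe u

theorem isNilpotent_of_forall_not_mem_pow_prime {p : ℕ} (hp : p.Prime) (G : Type u) [Group G]
    [Finite G] : ∀ N : Subgroup G, N.Normal → N ≠ ⊤ → (∀ g, g ∉ N → g ^ p = 1) →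
      Group.IsNilpotent N := by
  refine CL.card_induction (P := fun G _ _ => ∀ N : Subgroup G, N.Normal → N ≠ ⊤ →
    (∀ g, g ∉ N → g ^ p = 1) → Group.IsNilpotent N) ?_ G
  intro G _ _ ih N hNn hN hpow
  obtain ⟨y0, hy0⟩ : ∃ g, g ∉ N := by
    by_contra h
    push Not at h
    exact hN (eq_top_iff.2 fun g _ => h g)
  -- proper subgroups
  have hsub : ∀ D : Subgroup G, D ≠ ⊤ → ¬ D ≤ N → Group.IsNilpotent (N ⊓ D : Subgroup G) := by
    intro D hD hDN
    have h1 := ih D (CL.card_lt_of_ne_top hD) (N.subgroupOf D) inferInstance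
      (fun h => hDN (Subgroup.subgroupOf_eq_top.1 h))
      (fun g hg => Subtype.ext (by simpa using hpow g hg))
    have h2 := CL.isNilpotent_map (N.subgroupOf D) D.subtype
    rwa [Subgroup.subgroupOf_map_subtype] at h2
  -- solvable normal subgroups
  have hmin : ∀ K : Subgroup G, K.Normal → K ≤ N → K ≠ ⊥ → Group.IsSolvable K →
      Group.IsNilpotent N := by
    intro K hKn hKN hK hKs
    obtain ⟨V, hV, hVK⟩ := CL.exists_isMinNormal_le K hK
    have := hV.normal
    refine isNilpotent_of_minNormal_of_pow_prime hp hN hpow hV (hVK.trans hKN)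
      (Group.isSolvable_of_isSolvable_injective (Subgroup.inclusion_injective hVK)) ?_
    refine ih (G ⧸ V) (CL.card_quotient_lt hV.ne_bot) _
      (hNn.map _ (QuotientGroup.mk'_surjective V)) ?_ ?_
    · intro h
      have h2 := CL.comap_map_mk' N V
      rw [h, Subgroup.comap_top, sup_of_le_left (hVK.trans hKN)] at h2
      exact hN h2.symm
    · intro g hg
      obtain ⟨g, rfl⟩ := QuotientGroup.mk'_surjective V g
      rw [← map_pow, hpow g fun h => hg (Subgroup.mem_map_of_mem _ h), map_one]
  by_cases hodd : ∃ q : ℕ, q.Prime ∧ q ≠ 2 ∧ q ∣ Nat.card N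
  swap
  · push Not at hodd
    have : IsPGroup 2 N := by
      rw [CL.isPGroup_iff_isPiNum]
      intro q hq hd
      by_contra h
      exact hodd q hq h hd
    exact this.isNilpotent
  obtain ⟨q, hq, hq2, hqd⟩ := hodd
  have : Fact q.Prime := ⟨hq⟩
  obtain ⟨P⟩ : Nonempty (Sylow q N) := inferInstance
  set P' : Subgroup G := (P : Subgroup N).map N.subtype with hP'
  have hPne : (P : Subgroup N) ≠ ⊥ := P.ne_bot_of_dvd_card hqd
  have hfr : ¬ Subgroup.normalizer (P' : Set G) ≤ N := by
    intro h
    have := P.normalizer_sup_eq_top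
    exact hN (by rw [← this]; exact (sup_of_le_right h).symm)
  -- local subgroups
  have hloc : ∀ X : Subgroup N, X ≠ ⊥ → X ≤ P →
      Subgroup.normalizer (P' : Set G) ≤ Subgroup.normalizer ((X.map N.subtype : Subgroup G) : Set G) →
      Group.IsNilpotent N ∨ Group.IsNilpotent (Subgroup.normalizer (X : Set N)) := by
    intro X hX hXP hXn
    by_cases htop : Subgroup.normalizer ((X.map N.subtype : Subgroup G) : Set G) = ⊤
    · left
      refine hmin _ (Subgroup.normalizer_eq_top_iff.1 htop) (Subgroup.map_subtype_le _) ?_ ?_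
      · rwa [Ne, Subgroup.map_eq_bot_iff_of_injective _ N.subtype_injective]
      · have := ((P.isPGroup'.to_le hXP).map N.subtype).isNilpotent
        infer_instance
    · right
      have h1 := hsub _ htop (fun h => hfr (hXn.trans h))
      rw [← CL.isNilpotent_map_subtype_iff]
      exact CL.isNilpotent_of_le h1 (le_inf (Subgroup.map_subtype_le _)
        (Subgroup.le_normalizer_map _))
  have hJ := hloc (Cfsg.thompsonSubgroupOf q (P : Subgroup N))
    (CL.Th.thompsonSubgroupOf_ne_bot_of_isPGroup P.isPGroup' hPne)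
    (CL.Th.thompsonSubgroupOf_le _) (by
      rw [CL.Th.map_thompsonSubgroupOf _ N.subtype_injective]
      exact CL.Th.normalizer_le_normalizer_thompsonSubgroupOf _)
  have hZ := hloc ((P : Subgroup N) ⊓ Subgroup.centralizer (P : Set N))
    (CL.inf_centralizer_ne_bot_of_isPGroup P.isPGroup' P.isPGroup' Subgroup.le_normalizer hPne)
    inf_le_left (by
      have e : ((P : Subgroup N) ⊓ Subgroup.centralizer (P : Set N)).map N.subtype =
          P' ⊓ Subgroup.centralizer (P' : Set G) := by
        ext x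
        constructor
        · rintro ⟨a, ⟨ha, hc⟩, rfl⟩
          refine ⟨⟨a, ha, rfl⟩, ?_⟩
          rintro _ ⟨b, hb, rfl⟩
          exact congrArg Subtype.val (hc b hb)
        · rintro ⟨⟨a, ha, rfl⟩, hc⟩
          exact ⟨a, ⟨ha, fun b hb => Subtype.ext (hc b ⟨b, hb, rfl⟩)⟩, rfl⟩
      rw [e]
      exact CL.le_normalizer_inf le_rfl (CL.normalizer_le_normalizer_centralizer _))
  rcases hJ with hJ | hJ
  · exact hJ
  rcases hZ with hZ | hZ
  · exact hZ
  have hnpc : Cfsg.HasNormalPComplement q N := by
    refine (Cfsg.Agent.S0108.result hq2 P).2 ⟨CL.hasNPC_of_isNilpotent, ?_⟩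
    have := CL.isNilpotent_of_le hZ (Subgroup.centralizer_le_normalizer _)
    exact CL.hasNPC_of_isNilpotent
  have hcop := CL.hasNPC_iff_not_dvd_card_pResidual.1 hnpc
  have hch := CL.pResidual_characteristic q N
  set K : Subgroup G := (Cfsg.pResidual q N).map N.subtype with hK
  have hKn : K.Normal := ConjAct.normal_of_characteristic_of_normal
  have hKN : K ≤ N := Subgroup.map_subtype_le _
  by_cases hK1 : K = ⊥
  · rw [hK, Subgroup.map_eq_bot_iff_of_injective _ N.subtype_injective] at hK1
    exact (CL.isPGroup_iff_pResidual_eq_bot.2 hK1).isNilpotent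
  have hD : K ⊔ Subgroup.zpowers y0 ≠ ⊤ := by
    intro h
    apply hcop
    have hNK : N ≤ K := by
      intro n hn
      have : n ∈ K ⊔ Subgroup.zpowers y0 := h ▸ Subgroup.mem_top n
      obtain ⟨k, hk, z, hz, rfl⟩ := Subgroup.mem_sup_of_normal_left.1 this
      have hzN : z ∈ N := (N.mul_mem_cancel_left (hKN hk)).1 hn
      by_cases hz1 : z = 1
      · simpa [hz1] using hk
      · exfalso
        have hy1 : y0 ≠ 1 := fun h => hy0 (h ▸ N.one_mem)
        have : Fact p.Prime := ⟨hp⟩
        have ho : orderOf y0 = p := orderOf_eq_prime (hpow y0 hy0) hy1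
        have h1 : (⟨y0, Subgroup.mem_zpowers y0⟩ : Subgroup.zpowers y0) ∈
            Subgroup.zpowers (⟨z, hz⟩ : Subgroup.zpowers y0) :=
          mem_zpowers_of_prime_card (p := p) (by rw [Nat.card_zpowers, ho])
            (fun h => hz1 (congrArg Subtype.val h))
        obtain ⟨k, hk⟩ := Subgroup.mem_zpowers_iff.1 h1
        have h2 : z ^ k = y0 := by simpa using congrArg Subtype.val hk
        exact hy0 (h2 ▸ N.zpow_mem hzN k)
    have e : Nat.card K = Nat.card (Cfsg.pResidual q N) :=
      Subgroup.card_map_of_injective N.subtype_injective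
    rw [← e, le_antisymm hKN hNK]
    exact hqd
  have h1 := hsub _ hD (fun h => hy0 (h (Subgroup.mem_sup_right (Subgroup.mem_zpowers y0))))
  have h2 : Group.IsNilpotent K := CL.isNilpotent_of_le h1 (le_inf hKN le_sup_left)
  exact hmin K hKn hKN hK1 inferInstance

end CL.FGS
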