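import Mathlib
import Cfsg.Agent.TECH.Conj

/-!
Frobenius' theorem on the number of solutions of `x ^ n ∈ C` (Brauer's proof).
-/

set_option autoImplicit false

namespace CL.FrobSol

open Subgroup CL.MSS

variable {G : Type*} [Group G]

/-- If all points of a finite invariant set have the same minimal period then this period divides
the size of the set. -/
theorem dvd_card_of_minimalPeriod {X : Type*} [Finite X] (α : Equiv.Perm X) (l : ℕ)
    (h : ∀ x, Function.minimalPeriod α x = l) : l ∣ Nat.card X := by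
  classical
  have := Fintype.ofFinite X
  have := Fintype.ofFinite (MulAction.orbitRel.Quotient (zpowers α) X)
  rw [Nat.card_congr (MulAction.selfEquivSigmaOrbits (zpowers α) X), Nat.card_sigma]
  refine Finset.dvd_sum fun ω _ => ?_
  have := Fintype.ofFinite (MulAction.orbit (zpowers α) ω.out)
  rw [Nat.card_eq_fintype_card, ← MulAction.minimalPeriod_eq_card, ← h ω.out]
  rfl

/-- Brauer's lemma. -/
theorem brauer_lemma (U : Subgroup G) [Finite U] {v u : G} (hv : v ∈ normalizer (U : Set G))
    (hu : u ∈ U) : ∃ w ∈ U, (v * u) ^ Nat.card U = w⁻¹ * v ^ Nat.card U * w := by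
  classical
  let f : U → U := fun w => ⟨v⁻¹ * w * v * u, U.mul_mem (conj_mem_of_normalizes' le_rfl hv w.2) hu⟩
  have hf : Function.Injective f := by
    intro a b e
    have : v⁻¹ * a * v * u = v⁻¹ * b * v * u := congrArg Subtype.val e
    exact Subtype.ext (by simpa using this)
  let α : Equiv.Perm U := Equiv.ofBijective f hf.bijective_of_finite
  have hα : ∀ (i : ℕ) (w : U), ((α^[i] w : U) : G) = (v ^ i)⁻¹ * w * (v * u) ^ i := by
    intro i
    induction i with
    | zero => simp
    | succ i ih =>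
      intro w
      rw [Function.iterate_succ_apply']
      show v⁻¹ * (α^[i] w : U) * v * u = _
      rw [ih, pow_succ, pow_succ]
      group
  obtain ⟨w0, hw0⟩ : ∃ w0 : U, ∀ w', Function.minimalPeriod α w0 ≤ Function.minimalPeriod α w' :=
    ⟨_, fun w' => Function.argmin_le (fun w : U => Function.minimalPeriod α w) w'⟩
  set l := Function.minimalPeriod α w0 with hl
  have hper : ∀ w : U, 0 < Function.minimalPeriod α w := fun w =>
    Function.minimalPeriod_pos_of_mem_periodicPts (α.injective.mem_periodicPts w)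
  have h0 : (v ^ l)⁻¹ * w0 * (v * u) ^ l = w0 := by
    rw [← hα, (Function.isPeriodicPt_minimalPeriod α w0).eq]
  -- fixed points of `α ^ l`
  let F := {w : U // Function.IsPeriodicPt α l w}
  let β : Equiv.Perm F := α.subtypePerm fun w => by
    constructor
    · intro h
      have h1 : α (α^[l] w) = α w := by
        rw [← Function.iterate_succ_apply' α l w, Function.iterate_succ_apply]
        exact h
      exact α.injective h1
    · exact fun h => h.apply
  have hβ : ∀ (i : ℕ) (w : F), ((β^[i] w : F) : U) = α^[i] w := by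
    intro i
    induction i with
    | zero => intro w; rfl
    | succ i ih => intro w; rw [Function.iterate_succ_apply', Function.iterate_succ_apply', ← ih]; rfl
  have h1 : l ∣ Nat.card F := by
    refine dvd_card_of_minimalPeriod β l fun w => ?_
    have e : Function.minimalPeriod β w = Function.minimalPeriod α w.1 := by
      refine Function.minimalPeriod_eq_minimalPeriod_iff.mpr fun n => ?_
      unfold Function.IsPeriodicPt Function.IsFixedPt
      rw [← hβ, Subtype.ext_iff]
    rw [e]
    exact le_antisymm (w.2.minimalPeriod_le (hper w0)) (hw0 _)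
  have h2 : Nat.card F = Nat.card (U ⊓ centralizer {v ^ l} : Subgroup G) := by
    have key : ∀ w : U, Function.IsPeriodicPt α l w ↔
        (w : G) * (w0 : G)⁻¹ ∈ centralizer ({v ^ l} : Set G) := by
      intro w
      unfold Function.IsPeriodicPt Function.IsFixedPt
      rw [Subtype.ext_iff, hα, mem_centralizer_singleton_iff]
      have e : (v * u) ^ l = (w0 : G)⁻¹ * v ^ l * w0 := by
        calc (v * u) ^ l = (w0 : G)⁻¹ * v ^ l * ((v ^ l)⁻¹ * w0 * (v * u) ^ l) := by group
          _ = _ := by rw [h0]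
      rw [e]
      constructor
      · intro h
        calc (w : G) * (w0 : G)⁻¹ * v ^ l
            = v ^ l * ((v ^ l)⁻¹ * w * ((w0 : G)⁻¹ * v ^ l * w0)) * (w0 : G)⁻¹ := by group
          _ = _ := by rw [h]; group
      · intro h
        calc (v ^ l)⁻¹ * w * ((w0 : G)⁻¹ * v ^ l * w0)
            = (v ^ l)⁻¹ * ((w : G) * (w0 : G)⁻¹ * v ^ l) * w0 := by group
          _ = _ := by rw [h]; group
    refine Nat.card_congr
      { toFun := fun w => ⟨(w.1 : G) * (w0 : G)⁻¹, U.mul_mem w.1.2 (U.inv_mem w0.2), (key _).mp w.2⟩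
        invFun := fun c => ⟨⟨c.1 * w0, U.mul_mem c.2.1 w0.2⟩, (key _).mpr (by simpa using c.2.2)⟩
        left_inv := fun w => by ext; simp
        right_inv := fun c => by ext; simp }
  have h3 : l ∣ Nat.card U := h1.trans (h2 ▸ card_dvd_of_le inf_le_left)
  have h4 := ((Function.isPeriodicPt_minimalPeriod α w0).trans_dvd h3).eq
  have h5 := congrArg Subtype.val h4
  rw [hα] at h5
  refine ⟨w0, w0.2, ?_⟩
  calc (v * u) ^ Nat.card U
      = (w0 : G)⁻¹ * v ^ Nat.card U * ((v ^ Nat.card U)⁻¹ * w0 * (v * u) ^ Nat.card U) := by group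
    _ = _ := by rw [h5]

/-- The largest subgroup of `H` normalised by `x`. -/
def core (H : Subgroup G) (x : G) : Subgroup G where
  carrier := {h | ∀ i : ℤ, (x ^ i)⁻¹ * h * x ^ i ∈ H}
  one_mem' := fun i => by simp
  mul_mem' := fun {a b} ha hb i => by
    have := H.mul_mem (ha i) (hb i)
    convert this using 1
    group
  inv_mem' := fun {a} ha i => by
    have := H.inv_mem (ha i)
    convert this using 1
    group

theorem core_le (H : Subgroup G) (x : G) : core H x ≤ H := fun h hh => by simpa using hh 0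

theorem conj_mem_core {H : Subgroup G} {x h : G} (j : ℤ) (hh : h ∈ core H x) :
    (x ^ j)⁻¹ * h * x ^ j ∈ core H x := fun i => by
  have := hh (j + i)
  convert this using 1
  group

theorem mem_normalizer_core (H : Subgroup G) (x : G) : x ∈ normalizer (core H x : Set G) := by
  rw [mem_normalizer_iff]
  intro h
  constructor
  · intro hh
    simpa using conj_mem_core (-1) hh
  · intro hh
    simpa [mul_assoc] using conj_mem_core 1 hh

theorem le_core {H K : Subgroup G} {x : G} (h1 : K ≤ H) (h2 : x ∈ normalizer (K : Set G)) :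
    K ≤ core H x := fun _ hk i => h1 (conj_mem_of_normalizes' le_rfl (zpow_mem h2 i) hk)

theorem core_mul {H : Subgroup G} {x u : G} (hu : u ∈ core H x) : core H (x * u) = core H x := by
  have key : ∀ {x u : G}, u ∈ core H x → core H x ≤ core H (x * u) := fun {x u} hu =>
    le_core (core_le H x) (mul_mem (mem_normalizer_core H x) (le_normalizer hu))
  refine le_antisymm ?_ (key hu)
  have := key (x := x * u) (u := u⁻¹) (inv_mem (key hu hu))
  simpa using this

theorem mem_core_conj {H : Subgroup G} {x g h : G} (hg : g ∈ H) (hh : h ∈ core H x) :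
    g * h * g⁻¹ ∈ core H (g * x * g⁻¹) := fun i => by
  have := H.mul_mem (H.mul_mem hg (hh i)) (H.inv_mem hg)
  rw [conj_zpow]
  convert this using 1
  group

theorem mem_core_of_conj {H : Subgroup G} {x h u : G} (hh : h ∈ H) (hu : u ∈ core H x)
    (e : h * x * h⁻¹ = x * u) : h ∈ core H x := by
  have hn := mem_normalizer_core H x
  have key : ∀ i : ℤ, (x ^ i)⁻¹ * h * x ^ i * h⁻¹ ∈ core H x := by
    intro i
    induction i using Int.induction_on with
    | zero => simp
    | succ i ih =>
      have h1 := (core H x).mul_mem (conj_mem_core 1 ih) hu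
      convert h1 using 1
      have : u = x⁻¹ * (h * x * h⁻¹) := by rw [e]; group
      rw [this]
      group
    | pred i ih =>
      have h1 := conj_mem_core (-1) ((core H x).mul_mem ih (inv_mem hu))
      convert h1 using 1
      have : u = x⁻¹ * (h * x * h⁻¹) := by rw [e]; group
      rw [this]
      group
  intro i
  simpa using H.mul_mem (core_le H x (key i)) hh

/-- A set closed under `H`-conjugation and under `x ↦ x * u`, `u ∈ core H x`, has size divisible
by `|H|`. -/
theorem card_dvd_of_closed [Finite G] (H : Subgroup G) (S : Set G)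
    (h1 : ∀ h ∈ H, ∀ x ∈ S, h * x * h⁻¹ ∈ S) (h2 : ∀ x ∈ S, ∀ u ∈ core H x, x * u ∈ S) :
    Nat.card H ∣ Nat.card S := by
  classical
  let r : Setoid G :=
    { r := fun x y => ∃ h ∈ H, ∃ u ∈ core H x, y = h * (x * u) * h⁻¹
      iseqv := ⟨fun x => ⟨1, one_mem _, 1, one_mem _, by simp⟩, by
        rintro x _ ⟨h, hh, u, hu, rfl⟩
        refine ⟨h⁻¹, inv_mem hh, h * u⁻¹ * h⁻¹, mem_core_conj hh ?_, by group⟩
        rw [core_mul hu]
        exact inv_mem hu, by
        rintro x _ _ ⟨h, hh, u, hu, rfl⟩ ⟨k, hk, w, hw, rfl⟩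
        have hw' := mem_core_conj (inv_mem hh) hw
        have e : h⁻¹ * (h * (x * u) * h⁻¹) * h⁻¹⁻¹ = x * u := by group
        rw [e, core_mul hu] at hw'
        exact ⟨k * h, mul_mem hk hh, u * (h⁻¹ * w * h⁻¹⁻¹), mul_mem hu hw', by group⟩⟩ }
  have hcl : ∀ x : G, Nat.card {y : G // r x y} = Nat.card H := by
    intro x
    let K := (core H x).subgroupOf H
    rw [card_eq_card_quotient_mul_card_subgroup K,
      Nat.card_congr (subgroupOfEquivOfLe (core_le H x)).toEquiv, ← Nat.card_prod]
    symm
    refine Nat.card_congr (Equiv.ofBijective (fun z : (H ⧸ K) × core H x =>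
      (⟨(z.1.out : G) * (x * z.2) * (z.1.out : G)⁻¹, _, z.1.out.2, _, z.2.2, rfl⟩ :
        {y : G // r x y})) ⟨?_, ?_⟩)
    · rintro ⟨a, u⟩ ⟨b, w⟩ e
      have e1 : (a.out : G) * (x * u) * (a.out : G)⁻¹ = (b.out : G) * (x * w) * (b.out : G)⁻¹ :=
        congrArg Subtype.val e
      have e2 : ((a.out⁻¹ * b.out : H) : G) ∈ core H (x * w) := by
        refine mem_core_of_conj (a.out⁻¹ * b.out).2 (u := (w : G)⁻¹ * u) ?_ ?_
        · rw [core_mul w.2]
          exact mul_mem (inv_mem w.2) u.2
        · show (a.out : G)⁻¹ * b.out * (x * w) * ((a.out : G)⁻¹ * b.out)⁻¹ = _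
          calc _ = (a.out : G)⁻¹ * ((b.out : G) * (x * w) * (b.out : G)⁻¹) * a.out := by group
            _ = _ := by rw [← e1]; group
      rw [core_mul w.2] at e2
      have e3 : a = b := by
        rw [← a.out_eq, ← b.out_eq]
        exact QuotientGroup.eq.mpr e2
      subst e3
      refine Prod.ext rfl (Subtype.ext ?_)
      simpa using e1
    · rintro ⟨_, h, hh, u, hu, rfl⟩
      obtain ⟨⟨k, hk⟩, e⟩ := QuotientGroup.mk_out_eq_mul K (⟨h, hh⟩ : H)
      have hk' : (k : G) ∈ core H x := hk
      refine ⟨((⟨h, hh⟩ : H), ⟨(x⁻¹ * (k : G)⁻¹ * x) * u * k, mul_mem (mul_mem ?_ hu) hk'⟩), ?_⟩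
      · simpa using conj_mem_core 1 (inv_mem hk')
      · refine Subtype.ext ?_
        simp only [e, coe_mul]
        group
  have := Fintype.ofFinite (Quotient r)
  rw [Nat.card_congr (Equiv.sigmaFiberEquiv (fun x : S => Quotient.mk r x.1)).symm, Nat.card_sigma]
  refine Finset.dvd_sum fun ω _ => ?_
  by_cases hω : Nonempty {x : S // Quotient.mk r x.1 = ω}
  · obtain ⟨⟨x, hx⟩, rfl⟩ := hω
    rw [← hcl x]
    refine dvd_of_eq (Nat.card_congr
      { toFun := fun y => ⟨⟨y.1, by
          obtain ⟨h, hh, u, hu, e⟩ := y.2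
          rw [e]
          exact h1 h hh _ (h2 x hx u hu)⟩, (Quotient.sound y.2).symm⟩
        invFun := fun y => ⟨y.1.1, Quotient.exact y.2.symm⟩
        left_inv := fun _ => rfl
        right_inv := fun _ => rfl })
  · rw [not_nonempty_iff] at hω
    simp

/-- Frobenius' theorem for a normal subset `C`. -/
theorem dvd_card_pow_mem [Finite G] (C : Set G) (hC : ∀ g : G, ∀ x ∈ C, g * x * g⁻¹ ∈ C)
    {d n : ℕ} (h1 : d ∣ n) (h2 : d ∣ Nat.card G) : d ∣ Nat.card {x : G // x ^ n ∈ C} := by
  rw [Nat.dvd_iff_prime_pow_dvd_dvd]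
  intro p k hp hd
  have := Fact.mk hp
  obtain ⟨H, hH⟩ := Sylow.exists_subgroup_card_pow_prime p (hd.trans h2)
  rw [← hH]
  refine card_dvd_of_closed H {x : G | x ^ n ∈ C} (fun h _ x hx => ?_) (fun x hx u hu => ?_)
  · show (h * x * h⁻¹) ^ n ∈ C
    rw [conj_pow]
    exact hC _ _ hx
  · obtain ⟨w, -, hw⟩ := brauer_lemma (core H x) (mem_normalizer_core H x) hu
    obtain ⟨m, hm⟩ : Nat.card (core H x) ∣ n :=
      (card_dvd_of_le (core_le H x)).trans (hH ▸ hd.trans h1)
    show (x * u) ^ n ∈ C
    have := hC w⁻¹ _ hx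
    rw [hm, pow_mul] at this
    rw [hm, pow_mul, hw, show w⁻¹ * x ^ Nat.card (core H x) * w =
      w⁻¹ * x ^ Nat.card (core H x) * w⁻¹⁻¹ by rw [inv_inv], conj_pow]
    exact this

/-- Frobenius' theorem. -/
theorem dvd_card_pow_eq_one [Finite G] {d n : ℕ} (h1 : d ∣ n) (h2 : d ∣ Nat.card G) :
    d ∣ Nat.card {x : G // x ^ n = 1} :=
  dvd_card_pow_mem {1} (fun g x hx => by rw [show x = 1 from hx]; simp) h1 h2

end CL.FrobSol
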