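import Mathlib

/-!
# Several primes between `n` and `2 n`
-/

set_option autoImplicit false
open Nat

namespace CL.FGS.TwoPrimes

theorem centralBinom_le (n k : ℕ) (hn : 2 < n)
    (h : ((Finset.Ioc n (2 * n)).filter Nat.Prime).card ≤ k) :
    centralBinom n ≤ (2 * n) ^ (sqrt (2 * n) + k) * 4 ^ (2 * n / 3) := by
  have n_pos : 0 < n := by omega
  have n2_pos : 1 ≤ 2 * n := by omega
  let f x := x ^ n.centralBinom.factorization x
  let A := Finset.Icc 1 (sqrt (2 * n)) ∪ (Finset.Ioc n (2 * n)).filter Nat.Prime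
  let B := {p ∈ Finset.range (2 * n / 3 + 1) | Nat.Prime p ∧ sqrt (2 * n) < p}
  have h1 : ∏ x ∈ Finset.range (2 * n + 1), f x ≤ ∏ x ∈ A ∪ B, f x := by
    rw [← Finset.prod_filter_of_ne (p := fun x => f x ≠ 1) (fun _ _ h => h)]
    refine Finset.prod_le_prod_of_subset_of_one_le' (fun x hx => ?_) fun x hx _ => ?_
    · obtain ⟨h1, h2⟩ := Finset.mem_filter.1 hx
      rw [Finset.mem_range] at h1
      have hp : x.Prime := by
        by_contra hp
        exact h2 (by simp only [f]; rw [factorization_eq_zero_of_not_prime _ hp, _root_.pow_zero])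
      simp only [A, B, Finset.mem_union, Finset.mem_Icc, Finset.mem_filter, Finset.mem_Ioc,
        Finset.mem_range]
      by_cases h3 : x ≤ sqrt (2 * n)
      · exact Or.inl (Or.inl ⟨hp.one_le, h3⟩)
      by_cases h4 : n < x
      · exact Or.inl (Or.inr ⟨⟨h4, by omega⟩, hp⟩)
      refine Or.inr ⟨?_, hp, by omega⟩
      by_contra h5
      exact h2 (by
        simp only [f]
        rw [factorization_centralBinom_of_two_mul_self_lt_three_mul hn (by omega) (by omega),
          _root_.pow_zero])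
    · refine Nat.one_le_iff_ne_zero.2 (pow_ne_zero _ ?_)
      simp only [A, B, Finset.mem_union, Finset.mem_Icc, Finset.mem_filter, Finset.mem_Ioc] at hx
      rcases hx with (hx | hx) | hx <;> omega
  rw [← n.prod_pow_factorization_centralBinom]
  have hd : Disjoint A B := by
    rw [Finset.disjoint_left]
    intro x hx hy
    simp only [A, B, Finset.mem_union, Finset.mem_Icc, Finset.mem_filter, Finset.mem_Ioc,
      Finset.mem_range] at hx hy
    omega
  refine h1.trans ?_
  rw [Finset.prod_union hd]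
  apply mul_le_mul'
  · refine (Finset.prod_le_prod' fun p _ => (?_ : f p ≤ 2 * n)).trans ?_
    · exact pow_factorization_choose_le (mul_pos two_pos n_pos)
    rw [Finset.prod_const]
    refine pow_right_mono₀ n2_pos ((Finset.card_union_le _ _).trans ?_)
    rw [card_Icc, Nat.add_sub_cancel]
    omega
  · refine le_trans ?_ (primorial_le_four_pow (2 * n / 3))
    refine (Finset.prod_le_prod' fun p hp => (?_ : f p ≤ p)).trans ?_
    · obtain ⟨h1, h2, h3⟩ := Finset.mem_filter.1 hp
      refine (pow_right_mono₀ h2.one_lt.le ?_).trans (pow_one p).le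
      exact Nat.factorization_choose_le_one (sqrt_lt'.mp h3)
    refine Finset.prod_le_prod_of_subset_of_one_le' (fun p hp => ?_) ?_
    · obtain ⟨h1, h2, -⟩ := Finset.mem_filter.1 hp
      exact Finset.mem_filter.2 ⟨h1, h2⟩
    exact fun p hp _ => (Finset.mem_filter.1 hp).2.one_lt.le

theorem succ_pow_seven_le (s : ℕ) (hs : 37 ≤ s) : (s + 1) ^ 7 ≤ 2 ^ s := by
  induction s, hs using Nat.le_induction with
  | base => norm_num
  | succ s hs ih =>
    have : (s + 1 + 1) ^ 7 ≤ 2 * (s + 1) ^ 7 := by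
      have h1 : 38 * (s + 1 + 1) ≤ 39 * (s + 1) := by omega
      have h2 := Nat.pow_le_pow_left h1 7
      rw [mul_pow, mul_pow] at h2
      norm_num at h2
      omega
    rw [pow_succ 2 s]
    omega

/-- at least four primes between `n` and `2 n` for large `n` -/
theorem four_le_card (n : ℕ) (hn : 685 ≤ n) :
    4 ≤ ((Finset.Ioc n (2 * n)).filter Nat.Prime).card := by
  by_contra h
  have h1 := centralBinom_le n 3 (by omega) (by omega)
  have h2 := Nat.four_pow_lt_mul_centralBinom n (by omega)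
  set s := sqrt (2 * n) with hs
  have hs1 : s * s ≤ 2 * n := Nat.sqrt_le _
  have hs2 : 2 * n < (s + 1) ^ 2 := by rw [pow_two]; exact Nat.lt_succ_sqrt _
  have hs3 : 37 ≤ s := Nat.le_sqrt.2 (by omega)
  have h3 : 4 ^ n = 4 ^ (n - 2 * n / 3) * 4 ^ (2 * n / 3) := by
    rw [← pow_add]; congr 1; omega
  have h4 : 4 ^ (n - 2 * n / 3) < n * (2 * n) ^ (s + 3) := by
    have := h2.trans_le (Nat.mul_le_mul_left n h1)
    rw [h3, ← mul_assoc] at this
    exact lt_of_mul_lt_mul_right this (Nat.zero_le _)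
  have h5 : n * (2 * n) ^ (s + 3) ≤ ((s + 1) ^ 2) ^ (s + 4) := by
    rw [pow_succ' _ (s + 3)]
    exact Nat.mul_le_mul (by omega) (Nat.pow_le_pow_left hs2.le _)
  have h6 : (((s + 1) ^ 2) ^ (s + 4)) ^ 3 ≤ 2 ^ (s * s) := by
    calc (((s + 1) ^ 2) ^ (s + 4)) ^ 3 = (s + 1) ^ (6 * (s + 4)) := by
          rw [← pow_mul, ← pow_mul]; congr 1; ring
      _ ≤ (s + 1) ^ (7 * s) := Nat.pow_le_pow_right (by omega) (by omega)
      _ = ((s + 1) ^ 7) ^ s := pow_mul _ _ _
      _ ≤ (2 ^ s) ^ s := Nat.pow_le_pow_left (succ_pow_seven_le s hs3) _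
      _ = _ := by rw [← pow_mul]
  have h7 : 2 ^ (s * s) ≤ (4 ^ (n - 2 * n / 3)) ^ 3 := by
    rw [show 4 = 2 ^ 2 by norm_num, ← pow_mul, ← pow_mul]
    exact Nat.pow_le_pow_right (by norm_num) (by omega)
  have h8 := Nat.pow_lt_pow_left (h4.trans_le h5) (show 3 ≠ 0 by norm_num)
  omega

theorem exists_two_primes (m : ℕ) (hm : 17 ≤ m) :
    ∃ p q : ℕ, p.Prime ∧ q.Prime ∧ m < 2 * p ∧ p + 3 ≤ q ∧ q ≤ m := by
  by_cases h : 1370 ≤ m
  · have h4 := four_le_card (m / 2) (by omega)
    set S := (Finset.Ioc (m / 2) (2 * (m / 2))).filter Nat.Prime with hS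
    have hne : S.Nonempty := Finset.card_pos.1 (by omega)
    have h1 := Finset.mem_filter.1 (S.min'_mem hne)
    have h2 := Finset.mem_filter.1 (S.max'_mem hne)
    rw [Finset.mem_Ioc] at h1 h2
    refine ⟨S.min' hne, S.max' hne, h1.2, h2.2, by omega, ?_, by omega⟩
    have : S ⊆ Finset.Icc (S.min' hne) (S.max' hne) := fun x hx =>
      Finset.mem_Icc.2 ⟨S.min'_le x hx, S.le_max' x hx⟩
    have := Finset.card_le_card this
    rw [card_Icc] at this
    omega
  by_cases h : m < 26
  · exact ⟨13, 17, by norm_num, by norm_num, by omega, by omega, by omega⟩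
  by_cases h : m < 38
  · exact ⟨19, 23, by norm_num, by norm_num, by omega, by omega, by omega⟩
  by_cases h : m < 62
  · exact ⟨31, 37, by norm_num, by norm_num, by omega, by omega, by omega⟩
  by_cases h : m < 106
  · exact ⟨53, 59, by norm_num, by norm_num, by omega, by omega, by omega⟩
  by_cases h : m < 194
  · exact ⟨97, 101, by norm_num, by norm_num, by omega, by omega, by omega⟩
  by_cases h : m < 362
  · exact ⟨181, 191, by norm_num, by norm_num, by omega, by omega, by omega⟩
  by_cases h : m < 706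
  · exact ⟨353, 359, by norm_num, by norm_num, by omega, by omega, by omega⟩
  exact ⟨691, 701, by norm_num, by norm_num, by omega, by omega, by omega⟩

end CL.FGS.TwoPrimes
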