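import Mathlib
import Cfsg.Agent.INV.EltP
import Cfsg.Agent.FGS.CITBasic
import Cfsg.Agent.SOLV.CoprimeGen

/-! Involutory automorphisms whose fixed subgroup has a normal `2`-complement. -/

set_option autoImplicit false
set_option linter.unusedSectionVars false
set_option linter.unusedVariables false

namespace CL.PP4

open Subgroup Cfsg CL CL.EltP CL.Small
open scoped Pointwise

variable {G : Type*} [Group G]

/-- the `p'`-elements of `H` are closed under multiplication. -/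
def NC (p : ℕ) (H : Subgroup G) : Prop :=
  ∀ a ∈ H, ∀ b ∈ H, ¬ p ∣ orderOf a → ¬ p ∣ orderOf b → ¬ p ∣ orderOf (a * b)

theorem NC.mono {p : ℕ} {H K : Subgroup G} (h : NC p K) (hle : H ≤ K) : NC p H :=
  fun a ha b hb => h a (hle ha) b (hle hb)

/-- the subgroup of `p'`-elements. -/
def NC.core {p : ℕ} [hp : Fact p.Prime] {H : Subgroup G} (h : NC p H) : Subgroup G where
  carrier := {a | a ∈ H ∧ ¬ p ∣ orderOf a}
  one_mem' := ⟨one_mem _, by rw [orderOf_one]; exact hp.out.not_dvd_one⟩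
  mul_mem' := fun {a b} ha hb => ⟨mul_mem ha.1 hb.1, h a ha.1 b hb.1 ha.2 hb.2⟩
  inv_mem' := fun {a} ha => ⟨inv_mem ha.1, by rw [orderOf_inv]; exact ha.2⟩

section
variable {p : ℕ} [hp : Fact p.Prime] {H : Subgroup G}

theorem NC.mem_core (h : NC p H) {a : G} : a ∈ h.core ↔ a ∈ H ∧ ¬ p ∣ orderOf a := Iff.rfl

theorem orderOf_conj' (g a : G) : orderOf (g * a * g⁻¹) = orderOf a :=
  (MulAut.conj g).orderOf_eq a

theorem NC.conj_mem (h : NC p H) {g a : G} (hg : ∀ b ∈ H, g * b * g⁻¹ ∈ H) (ha : a ∈ h.core) :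
    g * a * g⁻¹ ∈ h.core := ⟨hg a ha.1, by rw [orderOf_conj']; exact ha.2⟩

theorem NC.le_normalizer [Finite G] (h : NC p H) : H ≤ normalizer (h.core : Set G) := fun g hg =>
  mem_normalizer_fintype fun a ha => h.conj_mem (fun b hb => H.mul_mem (H.mul_mem hg hb) (H.inv_mem hg)) ha

theorem NC.core_normal (h : NC p H) [hH : H.Normal] : h.core.Normal :=
  ⟨fun _ ha g => h.conj_mem (fun b hb => hH.conj_mem b hb g) ha⟩

theorem NC.not_dvd_card [Finite G] (h : NC p H) : ¬ p ∣ Nat.card h.core := fun hd => by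
  obtain ⟨x, hx⟩ := exists_prime_orderOf_dvd_card' (G := h.core) p hd
  exact x.2.2 (by rw [orderOf_coe, hx])

/-- a `p'`-element normalising a `p`-subgroup of `H` centralises it. -/
theorem NC.commute (h : NC p H) {U : Subgroup G} (hU : IsPGroup p U) {x u : G} (hx : x ∈ H)
    (hx' : ¬ p ∣ orderOf x) (hu : u ∈ U) (huH : u ∈ H) (hn : x * u * x⁻¹ ∈ U) :
    x * u = u * x := by
  have h1 : u⁻¹ * (x * u * x⁻¹) ∈ U := mul_mem (inv_mem hu) hn
  have h2 : ¬ p ∣ orderOf (u⁻¹ * x * u⁻¹⁻¹ * x⁻¹) :=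
    h _ (mul_mem (mul_mem (inv_mem huH) hx) (inv_mem (inv_mem huH))) _ (inv_mem hx)
      (by rwa [orderOf_conj']) (by rwa [orderOf_inv])
  obtain ⟨k, hk⟩ := hU ⟨_, h1⟩
  have h3 : (u⁻¹ * (x * u * x⁻¹)) ^ p ^ k = 1 := congrArg Subtype.val hk
  obtain ⟨j, -, hj⟩ := (Nat.dvd_prime_pow hp.out).1 (orderOf_dvd_of_pow_eq_one h3)
  rw [show u⁻¹ * x * u⁻¹⁻¹ * x⁻¹ = u⁻¹ * (x * u * x⁻¹) by group, hj] at h2
  have h4 : j = 0 := by_contra fun e => h2 (dvd_pow_self p e)
  rw [h4, pow_zero, orderOf_eq_one_iff] at hj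
  calc x * u = u * (u⁻¹ * (x * u * x⁻¹)) * x := by group
    _ = u * x := by rw [hj, mul_one]

end

/-- fixed points of an automorphism. -/
def fix (α : MulAut G) : Subgroup G where
  carrier := {x | α x = x}
  one_mem' := map_one α
  mul_mem' := fun {a b} (ha : α a = a) (hb : α b = b) => show α _ = _ by rw [map_mul, ha, hb]
  inv_mem' := fun {a} (ha : α a = a) => show α _ = _ by rw [map_inv, ha]

theorem mem_fix {α : MulAut G} {x : G} : x ∈ fix α ↔ α x = x := Iff.rfl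

/-- every element of odd prime order is fixed by an automorphism of order at most two whose fixed
subgroup has a normal `2`-complement. -/
def Bad (L : Type*) [Group L] : Prop :=
  ∀ x : L, (orderOf x).Prime → orderOf x ≠ 2 → ∃ α : MulAut L, α * α = 1 ∧ α x = x ∧ NC 2 (fix α)

theorem Bad.of_equiv {L : Type*} [Group L] (h : Bad G) (e : G ≃* L) : Bad L := fun x h1 h2 => by
  obtain ⟨α, h3, h4, h5⟩ := h (e.symm x) (by rwa [e.symm.orderOf_eq]) (by rwa [e.symm.orderOf_eq])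
  refine ⟨MulAut.congr e α, by rw [← map_mul, h3, map_one], by simp [h4], fun a ha b hb h6 h7 => ?_⟩
  have h8 : ∀ c ∈ fix (MulAut.congr e α), e.symm c ∈ fix α := fun c hc => by
    apply e.injective
    simpa using mem_fix.1 hc
  have := h5 _ (h8 a ha) _ (h8 b hb) (by rwa [e.symm.orderOf_eq]) (by rwa [e.symm.orderOf_eq])
  rwa [← map_mul, e.symm.orderOf_eq] at this

variable [Finite G]

theorem exists_inv_fix (he : 2 ∣ Nat.card G) {α : MulAut G} (h : α * α = 1) :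
    ∃ t ∈ fix α, orderOf t = 2 := by
  classical
  have := Fintype.ofFinite G
  have h1 := Equiv.Perm.card_fixedPoints_modEq (α := G) (f := (α : G → G)) (p := 2) (n := 1)
    (funext fun x => congrArg (fun β : MulAut G => β x) h)
  have h2 : 2 ∣ Nat.card (fix α) := by
    rw [← Nat.card_eq_fintype_card, ← Nat.card_eq_fintype_card] at h1
    exact (Nat.modEq_zero_iff_dvd.1 (h1.symm.trans (Nat.modEq_zero_iff_dvd.2 he)))
  obtain ⟨t, ht⟩ := exists_prime_orderOf_dvd_card' (G := fix α) 2 h2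
  exact ⟨t, t.2, by rw [orderOf_coe, ht]⟩

theorem aut_smul_smul {p : ℕ} (α : MulAut G) (g : G) (P : Sylow p G) :
    α • g • P = α g • α • P := by
  rw [Sylow.smul_def, Sylow.smul_def, ← mul_smul, ← mul_smul]
  congr 1
  ext x
  simp

theorem aut_mem {p : ℕ} {α : MulAut G} {P : Sylow p G} (h : α • P = P) {g : G}
    (hg : g ∈ (P : Subgroup G)) : α g ∈ (P : Subgroup G) := by
  rw [← h, Sylow.pointwise_smul_def]
  exact smul_mem_pointwise_smul g α _ hg

/-- Sylow subgroups acting regularly on the others, odd prime. -/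
theorem not_bad_of_TI {p : ℕ} [hp : Fact p.Prime] (hp2 : p ≠ 2) (hd : p ∣ Nat.card G)
    (hTI : ∀ P R : Sylow p G, R ≠ P → (P : Subgroup G) ⊓ R = ⊥)
    (hn : ∀ P : Sylow p G, Nat.card (Sylow p G) = Nat.card P + 1) : ¬ Bad G := fun h => by
  classical
  obtain ⟨x, hx⟩ := exists_prime_orderOf_dvd_card' (G := G) p hd
  have hx1 : x ≠ 1 := fun e => hp.out.one_lt.ne (by rw [← hx, e, orderOf_one])
  obtain ⟨α, h1, h2, h3⟩ := h x (hx ▸ hp.out) (hx ▸ hp2)
  obtain ⟨U, hU⟩ := (IsPGroup.of_card (G := zpowers x) (p := p) (n := 1)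
    (by rw [Nat.card_zpowers, hx, pow_one])).exists_le_sylow
  have hxU : x ∈ (U : Subgroup G) := hU (mem_zpowers x)
  have hαU : α • U = U := by_contra fun e => hx1 (mem_bot.1 (hTI U _ e ▸ mem_inf.2 ⟨hxU, by
    rw [Sylow.pointwise_smul_def, ← h2]; exact smul_mem_pointwise_smul x α _ hxU⟩))
  have hodd : ∀ P : Sylow p G, ∀ g ∈ (P : Subgroup G), ¬ 2 ∣ orderOf g := fun P g hg e => by
    obtain ⟨k, hk⟩ := P.isPGroup' ⟨g, hg⟩
    have h4 : g ^ p ^ k = 1 := congrArg Subtype.val hk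
    exact hp2 ((Nat.prime_dvd_prime_iff_eq Nat.prime_two hp.out).1
      (Nat.prime_two.dvd_of_dvd_pow (e.trans (orderOf_dvd_of_pow_eq_one h4)))).symm
  have := Fintype.ofFinite (Sylow p G)
  obtain ⟨U', hαU', hne⟩ := Equiv.Perm.exists_fixed_point_of_prime' (p := 2) (n := 1)
    (σ := MulAction.toPermHom (MulAut G) (Sylow p G) α) (a := U) (by
      obtain ⟨k, hk⟩ := U.isPGroup'.exists_card_eq
      rw [← Nat.card_eq_fintype_card, hn U, hk]
      exact ((hp.out.odd_of_ne_two hp2).pow.add_one).two_dvd)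
    (by rw [← map_pow, pow_one, sq, h1, map_one]) hαU
  replace hαU' : α • U' = U' := hαU'
  have key : ∀ R S : Sylow p G, α • R = R → α • S = S → R ≠ U' → S ≠ U' →
      ∃ g ∈ (U' : Subgroup G), g • R = S ∧ α g = g := fun R S hR hS hR' hS' => by
    obtain ⟨g, hg, e⟩ := exists_smul_sylow_of_TI hTI U' (hn U') hR' hS'
    refine ⟨g, hg, e, ?_⟩
    have h4 := eq_one_of_smul_eq_of_TI (hTI U' R hR') (mul_mem (inv_mem hg) (aut_mem hαU' hg)) (by
      rw [mul_smul, ← hR, ← aut_smul_smul, e, hS, ← e, hR, inv_smul_smul])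
    exact (inv_mul_eq_one.1 h4).symm
  have hmove : ∀ g ∈ (U : Subgroup G), g ≠ 1 → g • U' ≠ U' := fun g hg h4 e =>
    h4 (eq_one_of_smul_eq_of_TI (hTI U U' hne) hg e)
  obtain ⟨y, hy, e1, hy'⟩ := key U (x • U') hαU (by rw [aut_smul_smul, h2, hαU']) hne.symm
    (hmove x hxU hx1)
  obtain ⟨z, hz, e2, hz'⟩ := key (x⁻¹ • U') U (by rw [aut_smul_smul, map_inv, h2, hαU']) hαU
    (hmove _ (inv_mem hxU) (inv_ne_one.2 hx1)) hne.symm
  have hxf : x⁻¹ ∈ fix α := inv_mem h2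
  have h5 : ¬ 2 ∣ orderOf (z * x⁻¹ * y) :=
    h3 _ (mul_mem hz' hxf) _ hy' (h3 _ hz' _ hxf (hodd _ _ hz) (hodd _ _ (inv_mem hxU))) (hodd _ _ hy)
  have a1 : (z * x⁻¹ * y) • U = U' := by
    rw [mul_smul, mul_smul, e1, inv_smul_smul, smul_sylow_self U' hz]
  have a2 : (z * x⁻¹ * y) • U' = U := by
    rw [mul_smul, mul_smul, smul_sylow_self U' hy, e2]
  generalize z * x⁻¹ * y = w at h5 a1 a2
  have a3 : ∀ k : ℕ, (w ^ (2 * k + 1)) • U = U' := fun k => by
    induction k with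
    | zero => simpa using a1
    | succ k ih => rw [show 2 * (k + 1) + 1 = 1 + 1 + (2 * k + 1) by ring, pow_add, mul_smul, ih,
        pow_add, pow_one, mul_smul, a2, a1]
  obtain ⟨k, hk⟩ : Odd (orderOf w) := Nat.odd_iff.2 (Nat.two_dvd_ne_zero.1 h5)
  have := a3 k
  rw [← hk, pow_orderOf_eq_one, one_smul] at this
  exact hne this.symm

/-- centralisers of involutions are `2`-groups with more than four solutions of `s ^ 2 = 1`,
which form a subgroup. -/
theorem not_bad_of_cit (he : 2 ∣ Nat.card G) {r : ℕ} (hr : r.Prime) (hr2 : r ≠ 2)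
    (hd : r ∣ Nat.card G) (hC : CITC.IsCIT G)
    (hA : ∀ t : G, orderOf t = 2 → ∃ A : Subgroup G, 4 < Nat.card A ∧
      ∀ s, s ∈ A ↔ s * t = t * s ∧ s * s = 1) : ¬ Bad G := fun h => by
  classical
  have := Fact.mk hr
  obtain ⟨x, hx⟩ := exists_prime_orderOf_dvd_card' (G := G) r hd
  have hx1 : x ≠ 1 := fun e => hr.one_lt.ne (by rw [← hx, e, orderOf_one])
  obtain ⟨α, h1, h2, h3⟩ := h x (hx ▸ hr) (hx ▸ hr2)
  have hαα : ∀ y, α (α y) = y := fun y => by simpa using congrArg (fun β : MulAut G => β y) h1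
  obtain ⟨t, htf, ht⟩ := exists_inv_fix he h1
  obtain ⟨A, hA4, hA⟩ := hA t ht
  have ht2 : t * t = 1 := by rw [← sq, ← ht, pow_orderOf_eq_one]
  have ht1 : t ≠ 1 := fun e => by rw [e, orderOf_one] at ht; omega
  have htA : t ∈ A := (hA t).2 ⟨rfl, ht2⟩
  have hsq : ∀ a ∈ A, a * a = 1 := fun a ha => ((hA a).1 ha).2
  have hinv : ∀ a ∈ A, a⁻¹ = a := fun a ha => inv_eq_of_mul_eq_one_right (hsq a ha)
  have hcomm : ∀ a ∈ A, ∀ b ∈ A, a * b = b * a := fun a ha b hb => by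
    rw [← hinv _ (mul_mem ha hb), mul_inv_rev, hinv a ha, hinv b hb]
  have hαA : ∀ a ∈ A, α a ∈ A := fun a ha => (hA _).2
    ⟨by rw [← htf, ← map_mul, ((hA a).1 ha).1, map_mul], by rw [← map_mul, hsq a ha, map_one]⟩
  have hnorm : ∀ a ∈ A, a * α a ∈ fix α := fun a ha => by
    rw [mem_fix, map_mul, hαα, hcomm _ (hαA a ha) a ha]
  obtain ⟨s, hsA, hsf, hs1, hst⟩ : ∃ s ∈ A, s ∈ fix α ∧ s ≠ 1 ∧ s ≠ t := by
    by_contra! hno
    have h4 : ∀ a ∈ A, a * α a = 1 → a = 1 ∨ a = t := fun a ha e => by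
      by_cases h5 : a = 1
      · exact .inl h5
      · exact .inr (hno a ha (by rw [mem_fix, eq_inv_of_mul_eq_one_right e, hinv a ha]) h5)
    have h5 : ∀ a ∈ A, a * α a = 1 ∨ a * α a = t := fun a ha => by
      by_cases h6 : a * α a = 1
      · exact .inl h6
      · exact .inr (hno _ (mul_mem ha (hαA a ha)) (hnorm a ha) h6)
    obtain ⟨b, hb⟩ : ∃ b, ∀ a ∈ A, a ∈ ({1, t, b, t * b} : Set G) := by
      by_cases h6 : ∃ b ∈ A, b * α b = t
      · obtain ⟨b, hb, h6⟩ := h6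
        refine ⟨b, fun a ha => ?_⟩
        rcases h5 a ha with e | e
        · rcases h4 a ha e with e | e <;> simp [e]
        · have h7 : a * b * α (a * b) = 1 := by
            rw [map_mul, mul_assoc, ← mul_assoc b, hcomm b hb _ (hαA a ha), mul_assoc, ← mul_assoc,
              e, h6, ht2]
          rcases h4 _ (mul_mem ha hb) h7 with e | e
          · rw [eq_inv_of_mul_eq_one_left e, hinv b hb]; simp
          · rw [eq_mul_inv_of_mul_eq e, hinv b hb]; simp
      · refine ⟨1, fun a ha => ?_⟩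
        rcases h4 a ha ((h5 a ha).resolve_right fun e => h6 ⟨a, ha, e⟩) with e | e <;> simp [e]
    have h6 : (A : Set G).ncard ≤ 4 := (Set.ncard_le_ncard hb (Set.toFinite _)).trans
      ((Set.ncard_insert_le _ _).trans (Nat.succ_le_succ ((Set.ncard_insert_le _ _).trans
        (Nat.succ_le_succ ((Set.ncard_insert_le _ _).trans (by simp))))))
    exact absurd hA4 (not_lt.2 h6)
  have : IsMulCommutative (A ⊓ fix α : Subgroup G) :=
    ⟨⟨fun a b => Subtype.ext (hcomm _ a.2.1 _ b.2.1)⟩⟩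
  have hP : IsPGroup 2 (A ⊓ fix α : Subgroup G) := fun a =>
    ⟨1, Subtype.ext (by simpa [sq] using hsq _ a.2.1)⟩
  obtain ⟨a, ha, ha1, hne⟩ := coprime_exists_centralizer_ne_bot (A ⊓ fix α) h3.core (fun hc => by
      obtain ⟨⟨g, hg⟩, hg'⟩ := hc.exists_generator
      have h4 : ∀ a ∈ A ⊓ fix α, a ≠ 1 → a = g := fun a ha ha1 => by
        obtain ⟨k, hk⟩ := hg' ⟨a, ha⟩
        have h5 : g ^ k = a := congrArg Subtype.val hk
        have h6 : g ^ (2 : ℤ) = 1 := by rw [zpow_two, hsq g hg.1]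
        rcases Int.even_or_odd' k with ⟨j, rfl | rfl⟩
        · rw [zpow_mul, h6, one_zpow] at h5; exact absurd h5.symm ha1
        · rw [zpow_add, zpow_mul, h6, one_zpow, one_mul, zpow_one] at h5; exact h5.symm
      exact hst ((h4 s ⟨hsA, hsf⟩ hs1).trans (h4 t ⟨htA, htf⟩ ht1).symm))
    (inf_le_right.trans h3.le_normalizer) (by
      obtain ⟨k, hk⟩ := hP.exists_card_eq
      rw [hk]
      exact ((Nat.prime_two.coprime_iff_not_dvd).2 h3.not_dvd_card).pow_left k)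
    (ne_bot_iff_exists_ne_one.2 ⟨⟨x, h2, by
      rw [hx]; exact fun e => hr2 ((Nat.prime_dvd_prime_iff_eq Nat.prime_two hr).1 e).symm⟩,
      fun e => hx1 (congrArg Subtype.val e)⟩)
  obtain ⟨⟨k, hk⟩, hk1⟩ := ne_bot_iff_exists_ne_one.1 hne
  exact ha1 (hC.eq_one_of_commute (fun e => hk1 (Subtype.ext e))
    (Nat.odd_iff.2 (Nat.two_dvd_ne_zero.1 hk.1.2)) (mem_centralizer_singleton_iff.1 hk.2) (k := 1)
    (by simpa [sq] using hsq a ha.1))

/-- no involution normalises a Sylow subgroup of order seven. -/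
theorem not_bad_of_seven (he : 2 ∣ Nat.card G) {c : G} (hc : orderOf c = 7)
    (h49 : ¬ 7 ^ 2 ∣ Nat.card G)
    (hN : ∀ s : G, s * s = 1 → (s * c * s⁻¹ = c ∨ s * c * s⁻¹ = c⁻¹) → s = 1) : ¬ Bad G := fun h => by
  obtain ⟨α, h1, h2, h3⟩ := h c (by rw [hc]; decide) (by rw [hc]; decide)
  obtain ⟨t, htf, ht⟩ := exists_inv_fix he h1
  have : (h3.core.subgroupOf (fix α)).Normal := normal_subgroupOf_of_le_normalizer h3.le_normalizer
  obtain ⟨⟨l, hlf⟩, hl, i, -, -, e⟩ := CITC.frattini_prime (G := fix α)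
    (L := h3.core.subgroupOf (fix α)) (p := 7) (by decide) (x := ⟨c, h2⟩)
    (show c ∈ h3.core from ⟨h2, by rw [hc]; decide⟩) ((orderOf_mk _ _).trans hc)
    (fun e => h49 (e.trans ((card_subgroup_dvd_card _).trans (card_subgroup_dvd_card _)))) ⟨t, htf⟩
  replace e : l * t * c * (l * t)⁻¹ = c ^ i := congrArg Subtype.val e
  replace hl : l ∈ h3.core := hl
  obtain ⟨m, hm⟩ : 2 ∣ orderOf (l * t) := by_contra fun h4 => by
    have h5 : l⁻¹ * (l * t) ∈ h3.core := mul_mem (inv_mem hl) ⟨mul_mem hlf htf, h4⟩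
    rw [inv_mul_cancel_left] at h5
    exact h5.2 (ht ▸ dvd_rfl)
  have hm0 : 0 < m := by have := orderOf_pos (l * t); omega
  have h4 : (l * t) ^ m * (l * t) ^ m = 1 := by rw [← pow_add, ← two_mul, ← hm, pow_orderOf_eq_one]
  have h5 := CITC.conj_pow_eq e m
  generalize i ^ m = j at h5
  refine pow_ne_one_of_lt_orderOf hm0.ne' (by omega) (hN _ h4 ?_)
  have h6 := CITC.conj_pow_eq h5 2
  rw [sq, h4, one_mul, inv_one, mul_one] at h6
  have h7 : 1 ≡ j ^ 2 [MOD 7] := by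
    rw [← hc, ← pow_eq_pow_iff_modEq, pow_one]; exact h6
  have h8 : j % 7 = 1 ∨ j % 7 = 6 := by
    rw [Nat.ModEq, Nat.pow_mod] at h7
    have : j % 7 < 7 := Nat.mod_lt _ (by decide)
    generalize j % 7 = k at *
    interval_cases k <;> simp at h7 ⊢
  rw [h5, ← pow_mod_orderOf, hc]
  rcases h8 with e | e
  · left; rw [e, pow_one]
  · right; rw [e, eq_inv_iff_mul_eq_one, ← pow_succ]; exact orderOf_dvd_iff_pow_eq_one.1 (by rw [hc])

end CL.PP4
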