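import Mathlib
import Cfsg.Agent.FGS.PP4a
import Cfsg.Agent.FGS.CITStruct
import Cfsg.Agent.KSG.PSL2Basic
import Cfsg.Agent.S3214

/-! The simple groups with `2`-nilpotent involution centralisers are not `Bad`. -/

set_option autoImplicit false
set_option linter.unusedSectionVars false
set_option linter.unusedVariables false

namespace CL.PP4

open Subgroup Cfsg CL CL.EltP CL.Small CL.GL2 Matrix
open scoped MatrixGroups

section psl2
variable {F : Type*} [Field F] [Fintype F]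

theorem ep_psl2 (p : ℕ) [hp : Fact p.Prime] [CharP F p] : EP p PSL(2, F) := fun y hy => by
  classical
  obtain ⟨g, rfl⟩ := pslMk_surjective y
  have hq : p ∣ Fintype.card F := by
    obtain ⟨n, -, hn⟩ := FiniteField.card F p
    rw [hn]; exact dvd_pow_self p n.ne_zero
  by_cases hr : Reg g
  · exfalso
    have h1 := (hy.mul_left _).trans (Reg.gcd_mul_orderOf_dvd (g := g) (d := g) (mem_centSL.2 rfl))
    by_cases h2 : NoEig (g : Matrix (Fin 2) (Fin 2) F)
    · rw [card_centSL_noEig h2] at h1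
      exact hp.out.not_dvd_one ((Nat.dvd_add_right hq).1 h1)
    · obtain ⟨a, ha⟩ : ∃ a, cp (g : Matrix (Fin 2) (Fin 2) F) a = 0 := by
        by_contra! h3
        exact h2 (noEig_iff.2 h3)
      rw [card_centSL_split ha (hr.sep a ha)] at h1
      have h3 : 1 ≤ Fintype.card F := Fintype.card_pos
      exact hp.out.not_dvd_one ((Nat.dvd_add_right h1).1 (by rwa [Nat.sub_add_cancel h3]))
  · exact orderOf_pslMk_eq_char p hr fun hs => hp.out.not_dvd_one (by
      rwa [pslMk_eq_one_iff.2 hs, orderOf_one] at hy)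

theorem card_psl2_data (p : ℕ) [hp : Fact p.Prime] [CharP F p] :
    ∃ d, 0 < d ∧ d ≤ 2 ∧ d * Nat.card PSL(2, F) = Fintype.card F * (Fintype.card F ^ 2 - 1) ∧
      p ∣ Nat.card PSL(2, F) ∧ ∀ P : Sylow p PSL(2, F), Nat.card P = Fintype.card F := by
  classical
  have h1 : 1 < Fintype.card F := Fintype.one_lt_card
  have h2 := gcd_mul_card_PSL2 (F := F)
  obtain ⟨n, -, hn⟩ := FiniteField.card F p
  have hq : p ∣ Fintype.card F := by rw [hn]; exact dvd_pow_self p n.ne_zero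
  have h3 : Fintype.card F ^ 2 - 1 = (Fintype.card F + 1) * (Fintype.card F - 1) := by
    simpa using Nat.sq_sub_sq (Fintype.card F) 1
  obtain ⟨m, hm⟩ : Nat.gcd 2 (Fintype.card F - 1) ∣ Fintype.card F - 1 := Nat.gcd_dvd_right _ _
  have h0 : 0 < Nat.gcd 2 (Fintype.card F - 1) := Nat.gcd_pos_of_pos_left _ two_pos
  have h4 : Nat.card PSL(2, F) = p ^ (n : ℕ) * ((Fintype.card F + 1) * m) := by
    apply Nat.eq_of_mul_eq_mul_left h0
    rw [h2, ← hn]
    nth_rw 1 [hm]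
    ring
  have h5 : ¬ p ∣ (Fintype.card F + 1) * m := fun e => by
    rcases (Nat.Prime.dvd_mul hp.out).1 e with e | e
    · exact hp.out.not_dvd_one ((Nat.dvd_add_right hq).1 e)
    · have h6 : p ∣ Fintype.card F - 1 := hm ▸ e.mul_left _
      exact hp.out.not_dvd_one ((Nat.dvd_add_right h6).1 (by rwa [Nat.sub_add_cancel h1.le]))
  refine ⟨_, h0, Nat.gcd_le_left _ two_pos, by rw [h2, h3, mul_assoc], ?_, fun P => ?_⟩
  · rw [h4, ← hn]; exact hq.mul_right _
  · rw [card_sylow_eq_of_factor P h4 h5, hn]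

theorem not_bad_psl2_odd (p : ℕ) [hp : Fact p.Prime] [CharP F p] (hp2 : p ≠ 2) :
    ¬ Bad PSL(2, F) := by
  obtain ⟨d, h0, h1, h2, h3, h4⟩ := card_psl2_data (F := F) p
  exact not_bad_of_TI hp2 h3 (ep_psl2 p).sylow_TI fun P => by
    rw [(ep_psl2 p).card_sylow P (h4 P) Fintype.one_lt_card h0 h1 h2, h4]

theorem not_bad_psl2_even [CharP F 2] (hF : 4 < Fintype.card F) : ¬ Bad PSL(2, F) := by
  obtain ⟨d, h0, h1, h2, h3, h4⟩ := card_psl2_data (F := F) 2
  have h := ep_psl2 (F := F) 2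
  obtain ⟨x, hx⟩ := CITC.exists_orderOf_three_psl2 (F := F)
  refine not_bad_of_cit h3 Nat.prime_three (by decide) (hx ▸ orderOf_dvd_natCard x)
    (fun t ht => h.isPGroup_of_le ht fun g hg => (mem_centralizer_singleton_iff.1 hg).symm)
    fun t ht => ?_
  obtain ⟨P, hP⟩ := (IsPGroup.of_card (G := zpowers t) (p := 2) (n := 1)
    (by rw [Nat.card_zpowers, ht, pow_one])).exists_le_sylow
  have htP := hP (mem_zpowers t)
  have hsq : ∀ a ∈ (P : Subgroup PSL(2, F)), a * a = 1 := fun a ha => by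
    by_cases h5 : a = 1
    · simp [h5]
    obtain ⟨k, hk⟩ := P.isPGroup' ⟨a, ha⟩
    rw [← sq]
    exact orderOf_dvd_iff_pow_eq_one.1 (h.orderOf_eq (congrArg Subtype.val hk) h5).dvd
  have hinv : ∀ a ∈ (P : Subgroup PSL(2, F)), a⁻¹ = a := fun a ha =>
    inv_eq_of_mul_eq_one_right (hsq a ha)
  refine ⟨P, by rwa [h4], fun s => ⟨fun hs => ⟨?_, hsq s hs⟩, fun hs =>
    h.mem_sylow P t htP (fun e => by rw [e, orderOf_one] at ht; omega) s hs.1⟩⟩
  rw [← hinv _ (mul_mem hs htP), _root_.mul_inv_rev, hinv s hs, hinv t htP]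

theorem not_bad_psl2 (hF : 3 < Fintype.card F) : ¬ Bad PSL(2, F) := by
  obtain ⟨p, hp⟩ := CharP.exists F
  have := Fact.mk (CharP.char_is_prime F p)
  by_cases hp2 : p = 2
  · subst hp2
    by_cases h4 : Fintype.card F = 4
    · obtain ⟨e⟩ := Agent.S0252.result h4
      have := Fact.mk Nat.prime_five
      obtain ⟨f⟩ := Agent.S0253.result (F := ZMod 5) (ZMod.card 5)
      exact fun h => not_bad_psl2_odd (F := ZMod 5) 5 (by decide) (h.of_equiv (e.trans f.symm))
    · exact not_bad_psl2_even (by omega)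
  · exact not_bad_psl2_odd p hp2

end psl2

variable {G : Type*} [Group G] [Finite G]

theorem not_bad_sz (hS : Lie.IsoSuzuki G) : ¬ Bad G := by
  obtain ⟨F, _, _, m, hm, hF, ⟨e⟩⟩ := hS
  have := Sz.charP_two hF
  let M := (Sz.lieModel hF).ofEquiv e
  have hq : Nat.card F = 2 ^ (2 * m + 1) := by rw [Nat.card_eq_fintype_card, hF]
  have h8 : 8 ≤ Nat.card F := hq ▸ Nat.pow_le_pow_right (n := 2) (i := 3) two_pos (by omega)
  have hU : ∀ t : G, orderOf t = 2 → ∃ M' : Sz.Model (Sz.theta F m) G, t ∈ M'.U := fun t ht => by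
    obtain ⟨P, hP⟩ := (IsPGroup.of_card (G := zpowers t) (p := 2) (n := 1)
      (by rw [Nat.card_zpowers, ht, pow_one])).exists_le_sylow
    obtain ⟨M', hM'⟩ := M.exists_model_U_eq P
    exact ⟨M', hM' ▸ hP (mem_zpowers t)⟩
  have h1 : ∀ t : G, orderOf t = 2 → t ≠ 1 := fun t ht e => by rw [e, orderOf_one] at ht; omega
  have h2 : 2 ∣ Nat.card F := hq ▸ dvd_pow_self 2 (by omega)
  have ho : Odd (Nat.card F - 1) := by
    obtain ⟨k, hk⟩ := h2
    exact ⟨k - 1, by omega⟩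
  refine not_bad_of_cit (r := (Nat.card F - 1).minFac) ?_ (Nat.minFac_prime (by omega))
    (fun e => ?_) ?_ (fun t ht => ?_) fun t ht => ?_
  · rw [M.card_G, mul_assoc, sq, mul_assoc]; exact h2.mul_right _
  · exact (Nat.not_even_iff_odd.2 ho) (even_iff_two_dvd.2 (e ▸ Nat.minFac_dvd _))
  · rw [M.card_G]; exact (Nat.minFac_dvd _).mul_left _
  · obtain ⟨M', hM'⟩ := hU t ht
    exact M'.isPGroup_U.to_le fun k hk =>
      M'.mem_U_of_commute hM' (h1 t ht) (mem_centralizer_singleton_iff.1 hk)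
  · obtain ⟨M', hM'⟩ := hU t ht
    refine ⟨M'.Z, by rw [M'.card_Z]; omega, fun s => ⟨fun hs => ⟨M'.Z_comm_U hs hM',
      M'.sq_eq_one_of_mem_Z hs⟩, fun hs =>
      M'.mem_Z_of_sq (M'.mem_U_of_commute hM' (h1 t ht) hs.1) hs.2⟩⟩

theorem not_bad_A7 : ¬ Bad (alternatingGroup (Fin 7)) := by
  let c : alternatingGroup (Fin 7) := ⟨Equiv.addRight 1, Equiv.Perm.mem_alternatingGroup.2 (by decide)⟩
  have := Fact.mk (by decide : Nat.Prime 7)
  have hc : orderOf c = 7 := orderOf_eq_prime (by decide) (by decide)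
  have hG : Nat.card (alternatingGroup (Fin 7)) = 2520 := by
    rw [nat_card_alternatingGroup]; simp [Nat.factorial]
  refine not_bad_of_seven (by rw [hG]; decide) hc (by rw [hG]; decide) fun s hs h => ?_
  obtain ⟨s, hsA⟩ := s
  have h0 : ∀ i, s (s i) = i := fun i => congrArg (fun x : alternatingGroup (Fin 7) => x.1 i) hs
  rcases h with h | h
  · have h1 : ∀ i, s (i + 1) = s i + 1 := fun i =>
      congrArg (fun x : alternatingGroup (Fin 7) => x.1 i) (mul_inv_eq_iff_eq_mul.1 h)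
    have h2 : ∀ a : Fin 7, ∀ f : Fin 7 → Fin 7, f 0 = a → (∀ i, f (i + 1) = f i + 1) →
        ∀ i, f i = a + i := fun a f h0 h i => by
      have e1 : f 1 = a + 1 := h0 ▸ h 0
      have e2 : f 2 = a + 1 + 1 := e1 ▸ h 1
      have e3 : f 3 = a + 1 + 1 + 1 := e2 ▸ h 2
      have e4 : f 4 = a + 1 + 1 + 1 + 1 := e3 ▸ h 3
      have e5 : f 5 = a + 1 + 1 + 1 + 1 + 1 := e4 ▸ h 4
      have e6 : f 6 = a + 1 + 1 + 1 + 1 + 1 + 1 := e5 ▸ h 5
      fin_cases i <;> simp [h0, e1, e2, e3, e4, e5, e6, add_assoc]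
    have h3 := h2 _ s rfl h1
    have h4 : s 0 = 0 := by
      have := h0 0
      rw [h3] at this
      revert this
      generalize s 0 = a
      revert a
      decide
    ext i
    simp [h3 i, h4]
  · exfalso
    have h1 : ∀ i, s (i + 1) = s i - 1 := fun i =>
      (congrArg (fun x : alternatingGroup (Fin 7) => x.1 i) (mul_inv_eq_iff_eq_mul.1 h)).trans
        (sub_eq_add_neg _ _).symm
    have h2 : ∀ a : Fin 7, ∀ f : Fin 7 → Fin 7, f 0 = a → (∀ i, f (i + 1) = f i - 1) →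
        ∀ i, f i = a - i := fun a f h0 h i => by
      have e1 : f 1 = a - 1 := h0 ▸ h 0
      have e2 : f 2 = a - 1 - 1 := e1 ▸ h 1
      have e3 : f 3 = a - 1 - 1 - 1 := e2 ▸ h 2
      have e4 : f 4 = a - 1 - 1 - 1 - 1 := e3 ▸ h 3
      have e5 : f 5 = a - 1 - 1 - 1 - 1 - 1 := e4 ▸ h 4
      have e6 : f 6 = a - 1 - 1 - 1 - 1 - 1 - 1 := e5 ▸ h 5
      fin_cases i <;> simp [h0, e1, e2, e3, e4, e5, e6, sub_sub]
    have h3 : s = Equiv.subLeft (s 0) := Equiv.ext (h2 _ s rfl h1)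
    have h4 := Equiv.Perm.mem_alternatingGroup.1 hsA
    rw [h3] at h4
    revert h4
    generalize s 0 = a
    revert a
    decide

theorem mat_eq_one {F : Type*} [Field F] (h2 : (2 : F) = 0) (T : Matrix (Fin 3) (Fin 3) F)
    (h6 : T * !![0, 0, 1; 1, 0, 1; 0, 1, 0] = !![0, 0, 1; 1, 0, 1; 0, 1, 0] * T) (h8 : T * T = 1) :
    T = 1 := by
  have a00 := congrFun (congrFun h6 0) 0
  have a10 := congrFun (congrFun h6 1) 0
  have a20 := congrFun (congrFun h6 2) 0
  have a01 := congrFun (congrFun h6 0) 1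
  have a11 := congrFun (congrFun h6 1) 1
  have a21 := congrFun (congrFun h6 2) 1
  have b0 := congrFun (congrFun h8 0) 0
  have b1 := congrFun (congrFun h8 1) 0
  have b2 := congrFun (congrFun h8 2) 0
  simp [Matrix.mul_apply, Fin.sum_univ_three] at a00 a10 a20 a01 a11 a21 b0 b1 b2
  have c2 : T 2 0 = 0 := pow_eq_zero_iff (n := 2) two_ne_zero |>.1 (by
    rw [a11, a10, a20, a00] at b1
    linear_combination b1 - (T 0 0 * T 1 0 + T 1 0 * T 2 0) * h2)
  have c1 : T 1 0 = 0 := pow_eq_zero_iff (n := 2) two_ne_zero |>.1 (by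
    rw [a20, c2] at b2
    linear_combination b2)
  have c0 : T 0 0 = 1 := sub_eq_zero.1 (pow_eq_zero_iff (n := 2) two_ne_zero |>.1 (by
    rw [c1, c2] at b0
    linear_combination b0 + (1 - T 0 0) * h2))
  ext i j
  fin_cases i <;> fin_cases j <;> simp [a00, a10, a20, a01, a11, a21, c0, c1, c2]

theorem not_bad_psl3 {F : Type*} [Field F] [Fintype F] (hF : Fintype.card F = 4) :
    ¬ Bad PSL(3, F) := by
  have h2 : (2 : F) = 0 := CITC.two_eq_zero_of_card (n := 2) hF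
  have : CharP F 2 := (CharP.charP_iff_prime_eq_zero Nat.prime_two).2 h2
  let f : SL(3, ZMod 2) →* SL(3, F) := Matrix.SpecialLinearGroup.map (ZMod.castHom dvd_rfl F)
  let x : SL(3, ZMod 2) := ⟨!![0, 0, 1; 1, 0, 1; 0, 1, 0], by decide⟩
  let y : SL(3, ZMod 2) := ⟨!![1, 1, 0; 0, 0, 1; 1, 0, 0], by decide⟩
  have hy : (f x)⁻¹ = f y := by rw [← map_inv, inv_eq_of_mul_eq_one_right (by decide : x * y = 1)]
  have h7 : f x ^ 7 = 1 := by rw [← map_pow, (by decide : x ^ 7 = 1), map_one]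
  have hX : (f x : Matrix (Fin 3) (Fin 3) F) = !![0, 0, 1; 1, 0, 1; 0, 1, 0] := by
    show (!![0, 0, 1; 1, 0, 1; 0, 1, 0] : Matrix (Fin 3) (Fin 3) (ZMod 2)).map
      (ZMod.castHom dvd_rfl F) = _
    ext i j; fin_cases i <;> fin_cases j <;> simp
  have hY : (f y : Matrix (Fin 3) (Fin 3) F) = !![1, 1, 0; 0, 0, 1; 1, 0, 0] := by
    show (!![1, 1, 0; 0, 0, 1; 1, 0, 0] : Matrix (Fin 3) (Fin 3) (ZMod 2)).map
      (ZMod.castHom dvd_rfl F) = _
    ext i j; fin_cases i <;> fin_cases j <;> simp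
  generalize f x = X at hy h7 hX
  generalize f y = Y at hy hY
  let π : SL(3, F) →* PSL(3, F) := QuotientGroup.mk' _
  have hz : ∀ Z : SL(3, F), π Z = 1 → Z ∈ center SL(3, F) ∧ Z ^ 3 = 1 := fun Z hZ => by
    have h3 := (QuotientGroup.eq_one_iff _).1 hZ
    obtain ⟨r, hr, e⟩ := Matrix.SpecialLinearGroup.mem_center_iff.1 h3
    refine ⟨h3, Subtype.ext ?_⟩
    rw [Matrix.SpecialLinearGroup.coe_pow, ← e, ← map_pow]
    simp only [Fintype.card_fin] at hr
    rw [hr, map_one]; rfl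
  have h3 : ∀ A B : SL(3, F), A ^ 7 = 1 → B ^ 7 = 1 → π A = π B → A = B := fun A B hA hB e => by
    obtain ⟨h4, h5⟩ := hz (B⁻¹ * A) (by rw [map_mul, map_inv, e, inv_mul_cancel])
    have h6 : Commute B (B⁻¹ * A) := mem_center_iff.1 h4 B
    have h8 := h6.mul_pow 7
    rw [mul_inv_cancel_left, hA, hB, one_mul, show 7 = 3 * 2 + 1 from rfl, pow_succ, pow_mul, h5,
      one_pow, one_mul] at h8
    exact (inv_mul_eq_one.1 h8.symm).symm
  have := Fact.mk (by decide : Nat.Prime 7)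
  have hc : orderOf (π X) = 7 := orderOf_eq_prime (by rw [← map_pow, h7, map_one]) fun e => by
    have h4 := h3 X 1 h7 (one_pow 7) (by rw [e, map_one])
    rw [h4] at hX
    simpa using congrFun (congrFun hX 0) 0
  refine not_bad_of_seven (by rw [CITC.card_psl3_four hF]; decide) hc
    (by rw [CITC.card_psl3_four hF]; decide) fun s hs h => ?_
  obtain ⟨T, rfl, hT⟩ : ∃ T, π T = s ∧ T * T = 1 := by
    obtain ⟨T, rfl⟩ := QuotientGroup.mk'_surjective _ s
    refine ⟨T ^ 3, ?_, ?_⟩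
    · rw [map_pow, pow_succ, sq]; exact (congrArg (· * π T) hs).trans (one_mul _)
    · rw [← (Commute.refl T).mul_pow]; exact (hz _ (by rw [map_mul]; exact hs)).2
  have h4 : (T * X * T⁻¹) ^ 7 = 1 := by rw [conj_pow, h7]; simp
  rcases h with h | h
  · have h5 := mul_inv_eq_iff_eq_mul.1 (h3 _ _ h4 h7 (by rw [map_mul, map_mul, map_inv]; exact h))
    have h6 : (T : Matrix (Fin 3) (Fin 3) F) * X = X * T := congrArg Subtype.val h5
    rw [hX] at h6
    rw [show T = 1 from Subtype.ext (mat_eq_one h2 _ h6 (congrArg Subtype.val hT)), map_one]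
  · exfalso
    have h5 := h3 _ X⁻¹ h4 (by rw [inv_pow, h7, inv_one])
      (by rw [map_mul, map_mul, map_inv, map_inv]; exact h)
    have h6 : ((T * X * T⁻¹ : SL(3, F)) : Matrix (Fin 3) (Fin 3) F).trace =
        (X : Matrix (Fin 3) (Fin 3) F).trace := by
      rw [Matrix.SpecialLinearGroup.coe_mul, trace_mul_comm, ← Matrix.SpecialLinearGroup.coe_mul,
        inv_mul_cancel_left]
    rw [h5, hy, hX, hY] at h6
    simp [trace_fin_three] at h6

theorem not_bad_simple [IsSimpleGroup G] (hG : ¬ IsMulCommutative G)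
    (hI : ∀ t : G, orderOf t = 2 → HasNormalPComplement 2 (centralizer ({t} : Set G))) :
    ¬ Bad G := fun h => by
  rcases Agent.S3214.result hG hI with ⟨F, _, _, hF, ⟨e⟩⟩ | hS | ⟨⟨e⟩⟩ | ⟨F, _, _, hF, ⟨e⟩⟩
  · exact not_bad_psl2 hF (h.of_equiv e)
  · exact not_bad_sz hS h
  · exact not_bad_A7 (h.of_equiv e)
  · exact not_bad_psl3 hF (h.of_equiv e)

end CL.PP4
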