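import Mathlib.GroupTheory.Sylow

/-! Trivial-intersection Sylow subgroups: the normalizer form versus the pairwise form. -/

set_option autoImplicit false
open scoped Pointwise

namespace CL

/-- A Sylow subgroup `P` meets its conjugates by elements outside `N_G(P)` trivially iff any two
distinct Sylow `p`-subgroups meet trivially. -/
theorem sylow_ti_iff_pairwise {G : Type*} [Group G] [Finite G] {p : ℕ} [Fact p.Prime]
    (P : Sylow p G) :
    (∀ g : G, g ∉ Subgroup.normalizer ((P : Subgroup G) : Set G) →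
      (P : Subgroup G) ⊓ (MulAut.conj g • (P : Subgroup G)) = ⊥) ↔
    ∀ P₁ P₂ : Sylow p G, P₁ ≠ P₂ → (P₁ : Subgroup G) ⊓ (P₂ : Subgroup G) = ⊥ := by
  constructor
  · intro h P₁ P₂ hne
    obtain ⟨a, rfl⟩ := MulAction.exists_smul_eq G P P₁
    obtain ⟨b, rfl⟩ := MulAction.exists_smul_eq G (a • P) P₂
    have h1 : a⁻¹ * b * a ∉ Subgroup.normalizer ((P : Subgroup G) : Set G) := by
      intro hc
      apply hne
      have := Sylow.smul_eq_iff_mem_normalizer.mpr hc
      rw [mul_assoc, mul_smul, inv_smul_eq_iff, mul_smul] at this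
      exact this.symm
    have h2 := congrArg (fun H : Subgroup G => MulAut.conj a • H) (h _ h1)
    simp only [Subgroup.smul_inf, Subgroup.smul_bot, smul_smul, ← map_mul] at h2
    rw [Sylow.coe_subgroup_smul, Sylow.coe_subgroup_smul, Sylow.coe_subgroup_smul, smul_smul,
      ← map_mul, ← h2]
    congr 3
    group
  · intro h g hg
    rw [← Sylow.coe_subgroup_smul]
    apply h
    intro hc
    exact hg (Sylow.smul_eq_iff_mem_normalizer.mp hc.symm)

/-- In the pairwise form: two Sylow subgroups sharing a non-identity element coincide. -/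
theorem sylow_eq_of_pairwise_ti {G : Type*} [Group G] {p : ℕ}
    (h : ∀ P₁ P₂ : Sylow p G, P₁ ≠ P₂ → (P₁ : Subgroup G) ⊓ (P₂ : Subgroup G) = ⊥)
    {P₁ P₂ : Sylow p G} {x : G} (hx : x ≠ 1) (h₁ : x ∈ (P₁ : Subgroup G))
    (h₂ : x ∈ (P₂ : Subgroup G)) : P₁ = P₂ := by
  by_contra hne
  have : x ∈ (P₁ : Subgroup G) ⊓ (P₂ : Subgroup G) := ⟨h₁, h₂⟩
  rw [h _ _ hne, Subgroup.mem_bot] at this
  exact hx this

/-- A `p`-element of a subgroup `H` containing the Sylow `p`-subgroup `P` lies in an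
`H`-conjugate of `P`. -/
theorem exists_mem_smul_sylow_of_le {G : Type*} [Group G] [Finite G] {p : ℕ} [Fact p.Prime]
    (P : Sylow p G) {H : Subgroup G} (hP : (P : Subgroup G) ≤ H) {R : Subgroup G}
    (hR : IsPGroup p R) (hRH : R ≤ H) : ∃ h ∈ H, R ≤ ((h • P : Sylow p G) : Subgroup G) := by
  have hR' : IsPGroup p (R.subgroupOf H) := hR.comap_subtype
  obtain ⟨Q, hQ⟩ := hR'.exists_le_sylow
  obtain ⟨h, rfl⟩ := MulAction.exists_smul_eq H (P.subtype hP) Q
  refine ⟨h, h.2, fun x hx => ?_⟩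
  have h1 : (⟨x, hRH hx⟩ : H) ∈ R.subgroupOf H := hx
  have h2 := hQ h1
  rw [Sylow.smul_subtype, Sylow.coe_subtype, Subgroup.mem_subgroupOf] at h2
  exact h2

end CL
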