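import Mathlib
import Cfsg.Agent.FGS.DerLen
import Cfsg.Agent.SOLV.Fitting
import Cfsg.Agent.SOLV.Frobenius
import Cfsg.Agent.PLOC.PNormal

/-! Free modules over a Frobenius complement (any field): Galois descent + normal basis. -/

set_option linter.style.haveILetI false

namespace CL.FreeMod

open Module Pointwise

/-- Normal basis in matrix form. -/
theorem exists_normal_gen {Γ K : Type*} [Group Γ] [Fintype Γ] [Field K] [MulSemiringAction Γ K]
    [FaithfulSMul Γ K] :
    ∃ x : K, ∀ c : Γ → K, (∀ h : Γ, ∑ g, c g * (g * h) • x = 0) → c = 0 := by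
  classical
  let K0 := FixedPoints.subfield Γ K
  let b := IsGalois.normalBasis K0 K
  let e := FixedPoints.toAlgAutMulEquiv Γ K
  refine ⟨b 1, fun c hc => ?_⟩
  have hall : ∀ y : K, ∑ g, c g * g • y = 0 := by
    intro y
    let L : K →ₗ[K0] K :=
      { toFun := fun y => ∑ g, c g * g • y
        map_add' := fun a b => by simp [mul_add, Finset.sum_add_distrib]
        map_smul' := fun a y => by
          simp only [RingHom.id_apply, Finset.smul_sum]
          refine Finset.sum_congr rfl fun g _ => ?_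
          have ha : g • (a : K) = a := a.2 g
          change c g * g • ((a : K) * y) = (a : K) * (c g * g • y)
          rw [smul_mul', ha]; ring }
    have hL : L = 0 := by
      refine b.ext fun σ => ?_
      obtain ⟨h, rfl⟩ := e.surjective σ
      rw [IsGalois.normalBasis_apply]
      change ∑ g, c g * g • (h • b 1) = 0
      simpa [mul_smul] using hc h
    exact congrArg (fun f : K →ₗ[K0] K => f y) hL
  have hli := (linearIndependent_monoidHom K K).comp
    (fun g : Γ => (MulSemiringAction.toRingHom Γ K g : K →* K)) (by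
      intro g g' hgg
      apply eq_of_smul_eq_smul (α := K)
      intro y
      exact DFunLike.congr_fun hgg y)
  rw [Fintype.linearIndependent_iff] at hli
  funext g
  refine hli c ?_ g
  funext y
  simpa using hall y

/-- An element of a commutative ring with invertible "Galois matrix" modulo all ideals in the orbit. -/
theorem exists_det {Γ R : Type*} [Group Γ] [Fintype Γ] [DecidableEq Γ] [CommRing R]
    [MulSemiringAction Γ R] (m : Ideal R) [hm : m.IsMaximal]
    (hf : ∀ h : Γ, h ≠ 1 → h • m = m → ∃ r : R, h • r - r ∉ m) :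
    ∃ x : R, ∀ g : Γ, (Matrix.of fun g h : Γ => (g * h) • x).det ∉ g • m := by
  classical
  letI : Field (R ⧸ m) := Ideal.Quotient.field m
  let S := MulAction.stabilizer Γ m
  let φ : S →* RingAut (R ⧸ m) :=
    { toFun := fun g => (Ideal.Quotient.stabilizerHom m (m.under ℤ) Γ g).toRingEquiv
      map_one' := by rw [map_one]; rfl
      map_mul' := fun g h => by rw [map_mul]; rfl }
  letI : MulSemiringAction S (R ⧸ m) := MulSemiringAction.compHom (R ⧸ m) φ
  have hφ : ∀ (g : S) (r : R), g • (Ideal.Quotient.mk m r) = Ideal.Quotient.mk m ((g : Γ) • r) :=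
    fun g r => rfl
  haveI : FaithfulSMul S (R ⧸ m) := by
    refine ⟨fun {g g'} hgg => ?_⟩
    by_contra hne
    have h1 : ((g'⁻¹ * g : S) : Γ) ≠ 1 := by
      intro h
      apply hne
      have : g'⁻¹ * g = 1 := Subtype.ext h
      exact (inv_mul_eq_one.mp this).symm
    obtain ⟨r, hr⟩ := hf _ h1 (g'⁻¹ * g).2
    apply hr
    rw [← Ideal.Quotient.eq, ← hφ, mul_smul, hgg, inv_smul_smul]
  obtain ⟨x1, hx1⟩ := exists_normal_gen (Γ := S) (K := R ⧸ m)
  obtain ⟨y, rfl⟩ := Ideal.Quotient.mk_surjective x1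
  -- an element ≡ 1 mod m lying in all other ideals of the orbit
  have hcrt : ∃ a : R, a - 1 ∈ m ∧ ∀ g : Γ, g ∉ S → a ∈ g • m := by
    have hcop : ∀ g : Γ, g ∉ S → ∃ a : R, a - 1 ∈ m ∧ a ∈ g • m := by
      intro g hg
      have hne : g • m ≠ m := hg
      haveI : (g • m).IsMaximal := by
        rw [Ideal.pointwise_smul_eq_comap]
        exact Ideal.comap_isMaximal_of_equiv _
      obtain ⟨a, ha, b, hb, hab⟩ := Ideal.isCoprime_iff_exists.mp
        (Ideal.isCoprime_iff_sup_eq.mpr (Ideal.IsMaximal.coprime_of_ne inferInstance hm hne))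
      refine ⟨a, ?_, ha⟩
      have : a - 1 = -b := by rw [← hab]; ring
      rw [this]; exact m.neg_mem hb
    choose! a ha using hcop
    refine ⟨∏ g ∈ Finset.univ.filter (fun g => g ∉ S), a g, ?_, ?_⟩
    · rw [← Ideal.Quotient.eq, map_prod, map_one]
      refine Finset.prod_eq_one fun g hg => ?_
      rw [← map_one (Ideal.Quotient.mk m), Ideal.Quotient.eq]
      exact (ha g (Finset.mem_filter.mp hg).2).1
    · intro g hg
      exact Ideal.mem_of_dvd _ (Finset.dvd_prod_of_mem a (by simpa using hg)) (ha g hg).2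
  obtain ⟨a, ha1, ha2⟩ := hcrt
  refine ⟨a * y, ?_⟩
  set M : Matrix Γ Γ R := Matrix.of fun g h : Γ => (g * h) • (a * y) with hM
  have hzero : ∀ g : Γ, g ∉ S → Ideal.Quotient.mk m (g • (a * y)) = 0 := by
    intro g hg
    rw [Ideal.Quotient.eq_zero_iff_mem]
    have h1 : a * y ∈ g⁻¹ • m := Ideal.mul_mem_right _ _ (ha2 _ (by simpa using hg))
    have := Ideal.smul_mem_pointwise_smul g _ _ h1
    simpa using this
  have hsame : ∀ g : S, Ideal.Quotient.mk m ((g : Γ) • (a * y)) = g • Ideal.Quotient.mk m y := by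
    intro g
    rw [← hφ, map_mul, (Ideal.Quotient.eq (x := a) (y := 1)).mpr ha1, map_one, one_mul]
  have hdet : M.det ∉ m := by
    rw [← Ideal.Quotient.eq_zero_iff_mem, RingHom.map_det, ← Matrix.exists_vecMul_eq_zero_iff]
    rintro ⟨c, hc0, hc⟩
    apply hc0
    funext g0
    have key := hx1 (fun u => c (u * g0)) (by
      intro h
      have h1 := congrFun hc (g0⁻¹ * h)
      simp only [Matrix.vecMul, dotProduct, RingHom.mapMatrix_apply, Matrix.map_apply, hM,
        Matrix.of_apply, Pi.zero_apply] at h1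
      rw [← Equiv.sum_comp (Equiv.mulRight g0)] at h1
      simp only [Equiv.coe_mulRight] at h1
      rw [← h1]
      have e1 : ∀ u : S, c (u * g0) * (u * h) • Ideal.Quotient.mk m y =
          c (u * g0) * Ideal.Quotient.mk m (((u : Γ) * g0 * (g0⁻¹ * h)) • (a * y)) := by
        intro u
        have : (u : Γ) * g0 * (g0⁻¹ * h) = ((u * h : S) : Γ) := by simp [mul_assoc]
        rw [this, hsame]
      rw [Finset.sum_congr rfl fun u _ => e1 u]
      rw [← Finset.sum_subtype (p := fun g => g ∈ S) (Finset.univ.filter (· ∈ S)) (by simp)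
        (fun u => c (u * g0) * Ideal.Quotient.mk m ((u * g0 * (g0⁻¹ * h)) • (a * y)))]
      refine Finset.sum_filter_of_ne ?_
      intro u _ hne
      by_contra hu
      apply hne
      rw [hzero, mul_zero]
      intro hmem
      apply hu
      have : u * g0 * (g0⁻¹ * h) = u * h := by group
      rw [this] at hmem
      simpa using S.mul_mem hmem (S.inv_mem h.2))
    simpa using congrFun key 1
  intro g hg
  apply hdet
  have h1 : g⁻¹ • M.det ∈ m := by
    have := Ideal.smul_mem_pointwise_smul g⁻¹ _ _ hg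
    simpa using this
  have h2 : g⁻¹ • M.det = (M.submatrix (Equiv.mulLeft g⁻¹) id).det := by
    have := RingHom.map_det (MulSemiringAction.toRingHom Γ R g⁻¹) M
    rw [MulSemiringAction.toRingHom_apply] at this
    rw [this]
    congr 1
    ext i j
    simp [hM, mul_smul]
  rw [h2, Matrix.det_permute] at h1
  rcases Int.units_eq_one_or (Equiv.Perm.sign (Equiv.mulLeft g⁻¹)) with h | h
  · simpa [h] using h1
  · rw [h] at h1
    simpa using h1

/-- `V` is free over the subgroup-indexed family of operators. -/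
def Free {k V Γ : Type*} [Field k] [AddCommGroup V] [Module k V] [Group Γ]
    (ρ : Representation k Γ V) : Prop :=
  ∃ W : Submodule k V, ⨆ g, W.map (ρ g) = ⊤ ∧ Nat.card Γ * finrank k W ≤ finrank k V

theorem free_of_galois {k V Γ R : Type*} [Field k] [AddCommGroup V] [Module k V]
    [FiniteDimensional k V] [Group Γ] [Fintype Γ] [CommRing R] [MulSemiringAction Γ R]
    (ρ : Representation k Γ V) (ι : R →+* Module.End k V)
    (hsemi : ∀ (g : Γ) (r : R), ρ g * ι r = ι (g • r) * ρ g) (m : Ideal R) [hm : m.IsMaximal]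
    (hf : ∀ h : Γ, h ≠ 1 → h • m = m → ∃ r : R, h • r - r ∉ m)
    (hkill : ∀ r ∈ ∏ g : Γ, g • m, ι r = 0) : Free ρ := by
  classical
  obtain ⟨x, hx⟩ := exists_det m hf
  set M : Matrix Γ Γ R := Matrix.of fun g h : Γ => (g * h) • x with hM
  have hcop : IsCoprime (Ideal.span {M.det}) (∏ g : Γ, g • m) := by
    refine IsCoprime.prod_right fun g _ => ?_
    haveI : (g • m).IsMaximal := by
      rw [Ideal.pointwise_smul_eq_comap]
      exact Ideal.comap_isMaximal_of_equiv _
    rw [Ideal.isCoprime_iff_sup_eq]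
    by_contra hne
    have := this.eq_of_le hne le_sup_right
    exact hx g (this ▸ Ideal.mem_sup_left (Ideal.mem_span_singleton_self _))
  obtain ⟨a, ha, j, hj, haj⟩ := Ideal.isCoprime_iff_exists.mp hcop
  obtain ⟨b, rfl⟩ := Ideal.mem_span_singleton'.mp ha
  have hd : ∀ v, ι M.det v = 0 → v = 0 := by
    intro v hv
    have : ι (b * M.det + j) v = v := by rw [haj, map_one]; rfl
    rw [← this, map_add, hkill j hj, add_zero, map_mul, Module.End.mul_apply, hv, map_zero]
  let T : (Γ → V) →ₗ[k] (Γ → V) :=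
    LinearMap.pi fun g => ∑ h, (ι (M g h)).comp (LinearMap.proj h)
  have hT : ∀ v g, T v g = ∑ h, ι ((g * h) • x) (v h) := by
    intro v g; simp [T, hM]
  have hTi : Function.Injective T := by
    rw [injective_iff_map_eq_zero]
    intro v hv
    funext h'
    apply hd
    have h1 : ∑ g, ι (M.adjugate h' g) (T v g) = 0 := by simp [hv]
    have h2 : ∑ g, ι (M.adjugate h' g) (T v g) = ∑ h, ι ((M.adjugate * M) h' h) (v h) := by
      simp only [hT, map_sum, Matrix.mul_apply, LinearMap.sum_apply, map_mul,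
        Module.End.mul_apply]
      rw [Finset.sum_comm]
      simp [hM]
    rw [h2, Matrix.adjugate_mul] at h1
    rw [Finset.sum_eq_single h' (fun h _ hne => by simp [Ne.symm hne])
      (by simp)] at h1
    simpa using h1
  have hTs : Function.Surjective T := LinearMap.injective_iff_surjective.mp hTi
  have happ : ∀ (g : Γ) (r : R) (v : V), ρ g (ι r v) = ι (g • r) (ρ g v) := fun g r v =>
    congrArg (fun f : Module.End k V => f v) (hsemi g r)
  refine ⟨ρ.invariants.map (ι x), ?_, ?_⟩
  · rw [eq_top_iff]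
    intro u _
    obtain ⟨v, hv⟩ := hTs fun g => ρ g u
    have hinv : ∀ h, v h ∈ ρ.invariants := by
      intro h g'
      have : T (fun h => ρ g' (v h)) = T v := by
        funext g
        rw [hT, hv]
        have h1 := congrFun hv (g'⁻¹ * g)
        rw [hT] at h1
        have h2 := congrArg (ρ g') h1
        rw [map_sum] at h2
        simp only [happ, ← mul_smul, ← Module.End.mul_apply, ← map_mul,
          ← mul_assoc, mul_inv_cancel, one_mul] at h2
        simpa using h2
      exact congrFun (hTi this) h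
    have h1 := congrFun hv 1
    rw [hT] at h1
    simp only [one_mul, map_one, Module.End.one_apply] at h1
    rw [← h1]
    refine Submodule.sum_mem _ fun h _ => Submodule.mem_iSup_of_mem h ?_
    refine ⟨ι x (v h), ⟨v h, hinv h, rfl⟩, ?_⟩
    rw [happ, hinv h h]
  · let Φ : (Γ → ρ.invariants) →ₗ[k] V :=
      ∑ h, (ι (h • x)).comp (ρ.invariants.subtype.comp (LinearMap.proj h))
    have hΦ : Function.Injective Φ := by
      rw [injective_iff_map_eq_zero]
      intro v hv
      have : T (fun h => (v h : V)) = 0 := by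
        funext g
        rw [hT]
        have h2 := congrArg (ρ g) hv
        simp only [Φ, LinearMap.sum_apply, map_sum, LinearMap.comp_apply, happ, map_zero,
          Submodule.subtype_apply, LinearMap.proj_apply] at h2
        simp only [Pi.zero_apply, mul_smul]
        rw [← h2]
        refine Finset.sum_congr rfl fun h _ => ?_
        rw [(v h).2 g]
      have h3 := (injective_iff_map_eq_zero T).mp hTi _ this
      funext h
      exact Subtype.ext (congrFun h3 h)
    have h1 := LinearMap.finrank_le_finrank_of_injective hΦ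
    rw [Module.finrank_pi_fintype, Finset.sum_const, Finset.card_univ, smul_eq_mul] at h1
    rw [Nat.card_eq_fintype_card]
    exact le_trans (Nat.mul_le_mul_left _ (Submodule.finrank_map_le _ _)) h1

theorem Free.extension {k V Γ : Type*} [Field k] [AddCommGroup V] [Module k V]
    [FiniteDimensional k V] [Group Γ] (ρ : Representation k Γ V) (U : Submodule k V)
    (hU : ∀ g, U ≤ U.comap (ρ g)) (h1 : Free (ρ.subrepresentation U hU))
    (h2 : Free (ρ.quotient U hU)) : Free ρ := by
  obtain ⟨W1, hW1, hd1⟩ := h1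
  obtain ⟨W2, hW2, hd2⟩ := h2
  obtain ⟨s, hs⟩ := U.mkQ.exists_rightInverse_of_surjective (Submodule.range_mkQ U)
  refine ⟨W1.map U.subtype ⊔ W2.map s, ?_, ?_⟩
  · set S := ⨆ g, (W1.map U.subtype ⊔ W2.map s).map (ρ g) with hS
    have hUS : U ≤ S := by
      have : U = (⨆ g, W1.map (ρ.subrepresentation U hU g)).map U.subtype := by
        rw [hW1, Submodule.map_top, Submodule.range_subtype]
      rw [this, Submodule.map_iSup]
      refine iSup_mono fun g => ?_
      rintro _ ⟨_, ⟨w, hw, rfl⟩, rfl⟩
      exact ⟨w, Submodule.mem_sup_left ⟨w, hw, rfl⟩, rfl⟩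
    have hQ : S.map U.mkQ = ⊤ := by
      rw [eq_top_iff, ← hW2, hS, Submodule.map_iSup]
      refine iSup_mono fun g => ?_
      rintro _ ⟨w, hw, rfl⟩
      refine ⟨ρ g (s w), ⟨s w, Submodule.mem_sup_right ⟨w, hw, rfl⟩, rfl⟩, ?_⟩
      have : U.mkQ (s w) = w := congrArg (fun f : (V ⧸ U) →ₗ[k] (V ⧸ U) => f w) hs
      conv_rhs => rw [← this]
      rfl
    rw [Submodule.map_mkQ_eq_top, sup_eq_right.mpr hUS] at hQ
    exact hQ
  · have e1 := Submodule.finrank_add_le_finrank_add_finrank (W1.map U.subtype) (W2.map s)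
    have e2 := Submodule.finrank_map_le U.subtype W1
    have e3 := Submodule.finrank_map_le s W2
    have e4 := Submodule.finrank_quotient_add_finrank U
    calc Nat.card Γ * finrank k ↥(W1.map U.subtype ⊔ W2.map s)
        ≤ Nat.card Γ * (finrank k W1 + finrank k W2) := Nat.mul_le_mul_left _ (by omega)
      _ ≤ _ := by rw [mul_add]; omega

theorem Free.isInternal {k V Γ : Type*} [Field k] [AddCommGroup V] [Module k V]
    [FiniteDimensional k V] [Group Γ] [Finite Γ] [DecidableEq Γ] {ρ : Representation k Γ V}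
    (h : Free ρ) : ∃ W : Submodule k V, DirectSum.IsInternal (fun g => W.map (ρ g)) := by
  obtain ⟨W, hW, hd⟩ := h
  have := Fintype.ofFinite Γ
  refine ⟨W, ?_⟩
  have hs : Function.Surjective (DirectSum.coeLinearMap fun g => W.map (ρ g)) := by
    rw [← LinearMap.range_eq_top, DirectSum.range_coeLinearMap, hW]
  have hle : finrank k (DirectSum Γ fun g => W.map (ρ g)) ≤ finrank k V := by
    rw [Module.finrank_directSum]
    refine le_trans (Finset.sum_le_card_nsmul _ _ (finrank k W) fun g _ =>
      Submodule.finrank_map_le _ _) ?_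
    rwa [Finset.card_univ, smul_eq_mul, ← Nat.card_eq_fintype_card]
  have hi : Function.Injective (DirectSum.coeLinearMap fun g => W.map (ρ g)) := by
    rw [← LinearMap.ker_eq_bot, ← Submodule.finrank_eq_zero]
    have := LinearMap.finrank_range_add_finrank_ker (DirectSum.coeLinearMap fun g => W.map (ρ g))
    rw [LinearMap.range_eq_top.mpr hs, finrank_top] at this
    omega
  exact ⟨hi, hs⟩

theorem exists_maximal_ann {k V R : Type*} [Field k] [AddCommGroup V] [Module k V] [Nontrivial V]
    [CommRing R] [Algebra k R] [Module.Finite k R] (ι : R →+* Module.End k V) :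
    ∃ m : Ideal R, m.IsMaximal ∧ ∃ v : V, v ≠ 0 ∧ ∀ r ∈ m, ι r v = 0 := by
  letI : Module R V := Module.compHom V ι
  haveI : IsArtinianRing R := IsArtinianRing.of_finite k R
  haveI : IsNoetherianRing R := isNoetherian_of_tower k (inferInstance : IsNoetherian k R)
  obtain ⟨P, hP⟩ := associatedPrimes.nonempty R V
  rw [AssociatedPrimes.mem_iff, isAssociatedPrime_iff] at hP
  obtain ⟨hP, v, hv⟩ := hP
  refine ⟨P, IsArtinianRing.isMaximal_of_isPrime P, v, ?_, ?_⟩
  · rintro rfl
    apply hP.ne_top
    rw [hv, eq_top_iff]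
    intro r _
    rw [Submodule.mem_colon_singleton]; simp
  · intro r hr
    rw [hv, Submodule.mem_colon_singleton] at hr
    exact hr

open scoped IsMulCommutative in
theorem free_of_irreducible {k V A : Type*} [Field k] [AddCommGroup V] [Module k V]
    [FiniteDimensional k V] [Nontrivial V] [Group A] [Finite A] (ρ : Representation k A V)
    (N F H : Subgroup A) [N.Normal] [F.Normal] (hNF : N ≤ F) (hFH : F ⊔ H = ⊤)
    (hnil : Group.IsNilpotent F)
    (hfpf : ∀ h ∈ H, h ≠ 1 → F ⊓ Subgroup.centralizer {h} = ⊥)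
    (hN : ∃ x ∈ N, ρ x ≠ 1)
    (hirr : ∀ U : Submodule k V, (∀ g, U ≤ U.comap (ρ g)) → U = ⊥ ∨ U = ⊤) :
    Free (V := V) (ρ.comp H.subtype) := by
  classical
  have := Fintype.ofFinite H
  have hmul : ∀ a b : A, ρ a * ρ b = ρ (a * b) := fun a b => (map_mul ρ a b).symm
  let E : Subgroup A :=
    { carrier := {x | x ∈ F ∧ ∀ y ∈ F, ρ x * ρ y = ρ y * ρ x}
      one_mem' := ⟨F.one_mem, by simp⟩
      mul_mem' := fun {a b} ha hb => ⟨F.mul_mem ha.1 hb.1, fun y hy => by
        rw [map_mul, mul_assoc, hb.2 y hy, ← mul_assoc, ha.2 y hy, mul_assoc]⟩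
      inv_mem' := fun {a} ha => ⟨F.inv_mem ha.1, fun y hy => by
        have h1 := ha.2 y hy
        calc ρ a⁻¹ * ρ y = ρ a⁻¹ * (ρ y * ρ a) * ρ a⁻¹ := by
              simp only [hmul]; congr 1; group
          _ = ρ y * ρ a⁻¹ := by rw [← h1]; simp only [hmul]; congr 1; group⟩ }
  have hEn : ∀ a x, x ∈ E → a * x * a⁻¹ ∈ E := by
    intro a x hx
    refine ⟨Subgroup.Normal.conj_mem inferInstance _ hx.1 a, fun y hy => ?_⟩
    have h1 := hx.2 (a⁻¹ * y * a) (Subgroup.Normal.conj_mem' inferInstance _ hy a)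
    have h2 := congrArg (fun T => ρ a * T * ρ a⁻¹) h1
    simp only [hmul] at h2 ⊢
    convert h2 using 2 <;> group
  have hE : ∃ x ∈ E, ρ x ≠ 1 := by
    let f : F →* (Module.End k V)ˣ := ρ.asGroupHom.comp F.subtype
    have hf : ∀ x : F, ((f x : (Module.End k V)ˣ) : Module.End k V) = ρ x := fun x => rfl
    haveI : Group.IsNilpotent f.range :=
      Group.nilpotent_of_surjective f.rangeRestrict f.rangeRestrict_surjective
    obtain ⟨x, hx, hx1⟩ := hN
    have hne : (⊤ : Subgroup f.range) ≠ ⊥ := by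
      intro h
      have : (⟨f ⟨x, hNF hx⟩, ⟨_, rfl⟩⟩ : f.range) ∈ (⊤ : Subgroup f.range) := trivial
      rw [h, Subgroup.mem_bot] at this
      apply hx1
      have h2 := congrArg (fun u : f.range => ((u : (Module.End k V)ˣ) : Module.End k V)) this
      simpa [hf] using h2
    have := CL.PN.inf_center_ne_bot ⊤ hne
    rw [top_inf_eq, Ne, Subgroup.eq_bot_iff_forall] at this
    push Not at this
    obtain ⟨⟨_, z, rfl⟩, hz, hz1⟩ := this
    refine ⟨z, ⟨z.2, fun y hy => ?_⟩, fun h => hz1 ?_⟩
    · have h1 := Subgroup.mem_center_iff.mp hz ⟨f ⟨y, hy⟩, ⟨_, rfl⟩⟩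
      have h2 := congrArg (fun u : f.range => ((u : (Module.End k V)ˣ) : Module.End k V)) h1
      simpa [hf] using h2.symm
    · exact Subtype.ext (Units.ext (by simpa [hf] using h))
  have hCE : ∀ v, (∀ x ∈ E, ρ x v = v) → v = 0 := by
    let U : Submodule k V :=
      { carrier := {v | ∀ x ∈ E, ρ x v = v}
        zero_mem' := by simp
        add_mem' := fun {a b} ha hb x hx => by rw [map_add, ha x hx, hb x hx]
        smul_mem' := fun c a ha x hx => by rw [map_smul, ha x hx] }
    rcases hirr U (fun g v hv x hx => by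
      have h1 := hv _ (by simpa using hEn g⁻¹ x hx)
      have h2 := congrArg (ρ g) h1
      rw [← Module.End.mul_apply, hmul] at h2
      have e : g * (g⁻¹ * x * g) = x * g := by group
      rw [e, ← hmul] at h2
      exact h2) with h | h
    · intro v hv
      have : v ∈ U := hv
      rwa [h, Submodule.mem_bot] at this
    · obtain ⟨x, hx, hx1⟩ := hE
      exact absurd (LinearMap.ext fun v => (h ▸ Submodule.mem_top : v ∈ U) x hx) hx1
  let R := Algebra.adjoin k (ρ '' (E : Set A))
  haveI : IsMulCommutative R := Algebra.isMulCommutative_adjoin k (by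
    rintro _ ⟨x, hx, rfl⟩ _ ⟨y, hy, rfl⟩
    exact hx.2 y hy.1)
  have hconj : ∀ (a : A) (r : Module.End k V), r ∈ R → ρ a * r * ρ a⁻¹ ∈ R := by
    intro a r hr
    induction hr using Algebra.adjoin_induction with
    | mem r hr =>
      obtain ⟨x, hx, rfl⟩ := hr
      exact Algebra.subset_adjoin ⟨_, hEn a x hx, by rw [hmul, hmul]⟩
    | algebraMap c =>
      rw [← Algebra.commutes, mul_assoc, hmul, mul_inv_cancel, map_one, mul_one]
      exact R.algebraMap_mem c
    | add x y _ _ hx hy => rw [mul_add, add_mul]; exact R.add_mem hx hy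
    | mul x y _ _ hx hy =>
      have : ρ a * (x * y) * ρ a⁻¹ = (ρ a * x * ρ a⁻¹) * (ρ a * y * ρ a⁻¹) := by
        simp only [mul_assoc]
        rw [← mul_assoc (ρ a⁻¹) (ρ a), hmul, inv_mul_cancel, map_one, one_mul]
      rw [this]; exact R.mul_mem hx hy
  have hFR : ∀ y ∈ F, ∀ r : Module.End k V, r ∈ R → r * ρ y = ρ y * r := by
    intro y hy r hr
    induction hr using Algebra.adjoin_induction with
    | mem r hr =>
      obtain ⟨x, hx, rfl⟩ := hr
      exact hx.2 y hy
    | algebraMap c => exact Algebra.commutes c _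
    | add x z _ _ hx hz => rw [mul_add, add_mul, hx, hz]
    | mul x z _ _ hx hz => rw [mul_assoc, hz, ← mul_assoc, hx, mul_assoc]
  letI : MulSemiringAction H R :=
    { smul := fun h r => ⟨ρ h * r * ρ (h : A)⁻¹, hconj h r r.2⟩
      one_smul := fun r => Subtype.ext (by
        change ρ ((1 : H) : A) * r * ρ ((1 : H) : A)⁻¹ = r
        simp)
      mul_smul := fun a b r => Subtype.ext (by
        change ρ ((a * b : H) : A) * r * ρ ((a * b : H) : A)⁻¹ =
          ρ a * (ρ b * r * ρ (b : A)⁻¹) * ρ (a : A)⁻¹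
        simp [mul_assoc])
      smul_zero := fun a => Subtype.ext (by
        change ρ a * 0 * ρ (a : A)⁻¹ = 0
        simp)
      smul_add := fun a r s => Subtype.ext (by
        change ρ a * (r + s) * ρ (a : A)⁻¹ = ρ a * r * ρ (a : A)⁻¹ + ρ a * s * ρ (a : A)⁻¹
        rw [mul_add, add_mul])
      smul_one := fun a => Subtype.ext (by
        change ρ a * 1 * ρ (a : A)⁻¹ = 1
        simp [hmul])
      smul_mul := fun a r s => Subtype.ext (by
        change ρ a * (r * s) * ρ (a : A)⁻¹ = (ρ a * r * ρ (a : A)⁻¹) * (ρ a * s * ρ (a : A)⁻¹)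
        simp only [mul_assoc]
        rw [← mul_assoc (ρ (a : A)⁻¹) (ρ a), hmul, inv_mul_cancel, map_one, one_mul]) }
  have hsm : ∀ (h : H) (r : R), ((h • r : R) : Module.End k V) = ρ h * r * ρ (h : A)⁻¹ :=
    fun _ _ => rfl
  let ι : R →+* Module.End k V := R.val.toRingHom
  have hι : ∀ r : R, ι r = r := fun _ => rfl
  obtain ⟨m, hm, v0, hv0, hmv⟩ := exists_maximal_ann (k := k) ι
  have hsemi : ∀ (g : H) (r : R), ρ g * ι r = ι (g • r) * ρ g := by
    intro g r
    rw [hι, hι, hsm, mul_assoc, hmul, inv_mul_cancel, map_one, mul_one]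
  refine free_of_galois (ρ.comp H.subtype) ι hsemi m ?_ ?_
  · intro h h1 hst
    by_contra! hall
    apply hv0
    apply hCE
    intro y hy
    -- y = (h x h⁻¹) x⁻¹ for some x ∈ E
    let c : E → E := fun x => ⟨h * x * (h : A)⁻¹ * (x : A)⁻¹,
      E.mul_mem (hEn h x x.2) (E.inv_mem x.2)⟩
    have hci : Function.Injective c := by
      intro x x' hxx
      have e1 : (h : A) * x * (h : A)⁻¹ * (x : A)⁻¹ = h * x' * (h : A)⁻¹ * (x' : A)⁻¹ :=
        congrArg Subtype.val hxx
      have hmem : (x' : A)⁻¹ * x ∈ F ⊓ Subgroup.centralizer {(h : A)} := by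
        refine Subgroup.mem_inf.mpr ⟨F.mul_mem (F.inv_mem x'.2.1) x.2.1, ?_⟩
        rw [Subgroup.mem_centralizer_singleton_iff]
        have e2 : (x : A) * (h : A)⁻¹ * (x : A)⁻¹ = x' * (h : A)⁻¹ * (x' : A)⁻¹ := by
          have := congrArg (fun t => (h : A)⁻¹ * t) e1
          simpa [mul_assoc] using this
        calc (x' : A)⁻¹ * x * h = (x' : A)⁻¹ * ((x : A) * (h : A)⁻¹ * (x : A)⁻¹)⁻¹ * x := by group
          _ = h * ((x' : A)⁻¹ * x) := by rw [e2]; group
      rw [hfpf h h.2 (fun e => h1 (Subtype.ext e)), Subgroup.mem_bot, inv_mul_eq_one] at hmem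
      exact Subtype.ext hmem.symm
    obtain ⟨x, hx⟩ := (Finite.injective_iff_surjective.mp hci) ⟨y, hy⟩
    have hy' : (h : A) * x * (h : A)⁻¹ * (x : A)⁻¹ = y := congrArg Subtype.val hx
    let r : R := ⟨ρ x, Algebra.subset_adjoin ⟨x, x.2, rfl⟩⟩
    let r' : R := ⟨ρ (x : A)⁻¹, Algebra.subset_adjoin ⟨_, E.inv_mem x.2, rfl⟩⟩
    have h2 := hmv _ (m.mul_mem_right r' (hall r))
    rw [hι] at h2
    change ((ρ h * ρ x * ρ (h : A)⁻¹ - ρ x) * ρ (x : A)⁻¹) v0 = 0 at h2
    rw [sub_mul, hmul, hmul, hmul, hmul, hy', mul_inv_cancel, map_one, LinearMap.sub_apply,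
      sub_eq_zero] at h2
    exact h2
  · let U : Submodule k V :=
      { carrier := {v | ∀ r ∈ ∏ g : H, g • m, ι r v = 0}
        zero_mem' := by simp
        add_mem' := fun {a b} ha hb x hx => by rw [map_add, ha x hx, hb x hx, add_zero]
        smul_mem' := fun c a ha x hx => by rw [map_smul, ha x hx, smul_zero] }
    have hJ : ∀ h : H, h • (∏ g : H, g • m) = ∏ g : H, g • m := by
      intro h
      rw [Finset.smul_prod']
      simp only [← mul_smul]
      exact Equiv.prod_comp (Equiv.mulLeft h) (fun g => g • m)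
    have hUF : ∀ y ∈ F, U ≤ U.comap (ρ y) := by
      intro y hy v hv r hr
      have := hv r hr
      rw [hι] at this ⊢
      rw [← Module.End.mul_apply, hFR y hy r r.2, Module.End.mul_apply, this, map_zero]
    have hUH : ∀ y ∈ H, U ≤ U.comap (ρ y) := by
      intro y hy v hv r hr
      have h1 : (⟨y, hy⟩ : H)⁻¹ • r ∈ ∏ g : H, g • m := by
        rw [← hJ (⟨y, hy⟩ : H)⁻¹]
        exact Ideal.smul_mem_pointwise_smul _ _ _ hr
      have h2 := congrArg (fun T : Module.End k V => T v) (hsemi ⟨y, hy⟩ ((⟨y, hy⟩ : H)⁻¹ • r))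
      simp only [smul_inv_smul, Module.End.mul_apply, hv _ h1, map_zero] at h2
      exact h2.symm
    have hU : ∀ g, U ≤ U.comap (ρ g) := by
      intro g
      have hg : g ∈ F ⊔ H := hFH ▸ Subgroup.mem_top g
      rw [Subgroup.mem_sup_of_normal_left] at hg
      obtain ⟨a, ha, b, hb, rfl⟩ := hg
      intro v hv
      have := hUF a ha (hUH b hb hv)
      simpa using this
    rcases hirr U hU with h | h
    · exfalso
      apply hv0
      have : v0 ∈ U := fun r hr => hmv r (by
        have h1 : ∏ g : H, g • m ≤ (1 : H) • m :=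
          Ideal.prod_le_inf.trans (Finset.inf_le (Finset.mem_univ 1))
        simpa using h1 hr)
      rwa [h, Submodule.mem_bot] at this
    · intro r hr
      exact LinearMap.ext fun v => (h ▸ Submodule.mem_top : v ∈ U) r hr

theorem free_of_sum_eq_zero {k A : Type*} [Field k] [Group A] [Finite A]
    (N F H : Subgroup A) [N.Normal] [F.Normal] [Fintype N] (hNF : N ≤ F) (hFH : F ⊔ H = ⊤)
    (hnil : Group.IsNilpotent F)
    (hfpf : ∀ h ∈ H, h ≠ 1 → F ⊓ Subgroup.centralizer {h} = ⊥) (hN : (Nat.card N : k) ≠ 0)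
    (n : ℕ) : ∀ {V : Type*} [AddCommGroup V] [Module k V] [FiniteDimensional k V]
      (ρ : Representation k A V), finrank k V = n → (∀ v, ∑ x : N, ρ x v = 0) →
      Free (V := V) (ρ.comp H.subtype) := by
  induction n using Nat.strong_induction_on with
  | _ n ih =>
  intro V _ _ _ ρ hn hs
  rcases subsingleton_or_nontrivial V with hV | hV
  · exact ⟨⊥, Subsingleton.elim _ _, by simp⟩
  by_cases hirr : ∀ U : Submodule k V, (∀ g, U ≤ U.comap (ρ g)) → U = ⊥ ∨ U = ⊤
  · refine free_of_irreducible ρ N F H hNF hFH hnil hfpf ?_ hirr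
    by_contra! h
    obtain ⟨v, hv⟩ := exists_ne (0 : V)
    have := hs v
    rw [Finset.sum_congr rfl (g := fun _ => v) (fun x _ => by rw [h x x.2]; rfl),
      Finset.sum_const, Finset.card_univ, ← Nat.cast_smul_eq_nsmul k, ← Nat.card_eq_fintype_card,
      smul_eq_zero] at this
    tauto
  push Not at hirr
  obtain ⟨U, hU, hU0, hU1⟩ := hirr
  have e4 := Submodule.finrank_quotient_add_finrank U
  have hpos : 0 < finrank k U := by
    rw [Nat.pos_iff_ne_zero, Ne, Submodule.finrank_eq_zero]; exact hU0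
  have hlt : finrank k U < finrank k V := Submodule.finrank_lt hU1
  refine Free.extension (ρ.comp H.subtype) U (fun g => hU g) ?_ ?_
  · refine ih _ (hn ▸ hlt) (ρ.subrepresentation U hU) rfl fun v => Subtype.ext ?_
    simpa using hs v
  · refine ih (finrank k (V ⧸ U)) (by omega) (ρ.quotient U hU) rfl fun v => ?_
    obtain ⟨v, rfl⟩ := U.mkQ_surjective v
    have := congrArg U.mkQ (hs v)
    rw [map_sum, map_zero] at this
    exact this

/-- A Frobenius group with kernel `F` without fixed points on `V` makes `V` free over the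
complement. -/
theorem free_of_frobenius {k V A : Type*} [Field k] [AddCommGroup V] [Module k V]
    [FiniteDimensional k V] [Group A] [Finite A] (ρ : Representation k A V)
    (F H : Subgroup A) [F.Normal] (hFH : F ⊔ H = ⊤) (hnil : Group.IsNilpotent F)
    (hfpf : ∀ h ∈ H, h ≠ 1 → F ⊓ Subgroup.centralizer {h} = ⊥)
    (hCF : ∀ v : V, (∀ f ∈ F, ρ f v = v) → v = 0) : Free (V := V) (ρ.comp H.subtype) := by
  classical
  have key : ∀ (N : Subgroup A) [N.Normal], N ≤ F → (Nat.card N : k) ≠ 0 →
      (∀ v : V, (∀ f ∈ N, ρ f v = v) → v = 0) → Free (V := V) (ρ.comp H.subtype) := by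
    intro N _ hNF hN hC
    have := Fintype.ofFinite N
    refine free_of_sum_eq_zero N F H hNF hFH hnil hfpf hN _ ρ rfl fun v => hC _ fun f hf => ?_
    rw [map_sum]
    simp only [← Module.End.mul_apply, ← map_mul]
    exact Equiv.sum_comp (Equiv.mulLeft (⟨f, hf⟩ : N)) (fun x : N => ρ x v)
  obtain ⟨p, hp⟩ := CharP.exists k
  rcases CharP.char_is_prime_or_zero k p with hpp | rfl
  · haveI := Fact.mk hpp
    let N := (Cfsg.pPrimeCore p F).map F.subtype
    haveI : N.Normal := inferInstance
    refine key N (Subgroup.map_subtype_le _) ?_ ?_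
    · rw [Ne, CharP.cast_eq_zero_iff k p, Subgroup.card_map_of_injective F.subtype_injective]
      exact (Nat.Prime.coprime_iff_not_dvd hpp).mp (CL.coprime_card_pPrimeCore p F).symm
    · intro v hv
      by_contra hv0
      let U : Submodule k V :=
        { carrier := {v | ∀ x ∈ N, ρ x v = v}
          zero_mem' := by simp
          add_mem' := fun {a b} ha hb x hx => by rw [map_add, ha x hx, hb x hx]
          smul_mem' := fun c a ha x hx => by rw [map_smul, ha x hx] }
      have hU : ∀ g, U ≤ U.comap (ρ g) := by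
        intro g w hw x hx
        have h1 := hw _ (Subgroup.Normal.conj_mem' inferInstance x hx g)
        have h2 := congrArg (ρ g) h1
        rw [← Module.End.mul_apply, ← map_mul] at h2
        rw [← Module.End.mul_apply, ← map_mul, ← h2]
        simp [mul_assoc]
      haveI : Nontrivial U := ⟨⟨⟨v, hv⟩, 0, fun h => hv0 (congrArg Subtype.val h)⟩⟩
      obtain ⟨w, hw0, hw⟩ := CL.DL.exists_fixed (CL.isPGroup_pCore p F)
        ((ρ.subrepresentation U hU).comp (F.subtype.comp (Cfsg.pCore p F).subtype))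
      apply hw0
      apply Subtype.ext
      apply hCF
      intro f hf
      have hmem : (⟨f, hf⟩ : F) ∈ Cfsg.pCore p F ⊔ Cfsg.pPrimeCore p F := by
        rw [CL.pCore_sup_pPrimeCore_of_isNilpotent]; trivial
      rw [Subgroup.mem_sup_of_normal_left] at hmem
      obtain ⟨a, ha, b, hb, hab⟩ := hmem
      have hf' : f = a * b := (congrArg Subtype.val hab).symm
      rw [hf', map_mul, Module.End.mul_apply, w.2 b ⟨b, hb, rfl⟩]
      exact congrArg Subtype.val (hw ⟨a, ha⟩)
  · haveI := CharP.charP_to_charZero k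
    exact key F le_rfl (by exact_mod_cast Nat.card_pos.ne') hCF

end CL.FreeMod
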