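import Cfsg.Agent.SOLV.MinNormal

/-! Pairs of `p`-elements of alternating groups generating non-solvable subgroups. -/

set_option autoImplicit false
open Cfsg Equiv
open scoped commutatorElement Pointwise

namespace CL.AltPair

/-- The norm map of a unipotent operator of large order vanishes. -/
theorem sum_pow_eq_zero' {M : Type*} [AddCommGroup M] [Finite M] {p : ℕ} [hp : Fact p.Prime]
    [Module (ZMod p) M] {a k e : ℕ} (hc : Nat.card M = p ^ a) (T : M →+ M)
    (hT : ∀ x, T^[p ^ e] x = x) (hk : a < p ^ k) (v : M) :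
    ∑ i ∈ Finset.range (p ^ k), T^[i] v = 0 := by
  haveI : Module.Finite (ZMod p) M := Module.Finite.of_finite
  let L : Module.End (ZMod p) M := T.toZModLinearMap p
  have hL : ∀ (i : ℕ) (x : M), (L ^ i) x = T^[i] x := by
    intro i x
    rw [Module.End.pow_apply]; rfl
  have hfr : Module.finrank (ZMod p) M = a := by
    have := Module.natCard_eq_pow_finrank (K := ZMod p) (V := M)
    rw [Nat.card_zmod, hc] at this
    exact (Nat.pow_right_injective hp.out.two_le this).symm
  have hpoly : ∀ j : ℕ, (Polynomial.X - 1 : Polynomial (ZMod p)) ^ p ^ j =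
      Polynomial.X ^ p ^ j - 1 := by
    intro j
    rw [sub_pow_char_pow, one_pow]
  have hnil : IsNilpotent (L - 1) := by
    refine ⟨p ^ e, ?_⟩
    have := congrArg (Polynomial.aeval L) (hpoly e)
    simp only [map_pow, map_sub, Polynomial.aeval_X, map_one] at this
    rw [this, sub_eq_zero]
    ext x
    rw [hL, hT]; rfl
  have hpow : (L - 1) ^ a = 0 := by
    have h1 := (LinearMap.isNilpotent_iff_charpoly _).mp hnil
    have h2 := LinearMap.aeval_self_charpoly (L - 1)
    rwa [h1, hfr, map_pow, Polynomial.aeval_X] at h2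
  have hgeom : (∑ i ∈ Finset.range (p ^ k), (Polynomial.X : Polynomial (ZMod p)) ^ i) =
      (Polynomial.X - 1) ^ (p ^ k - 1) := by
    have hne : (Polynomial.X - 1 : Polynomial (ZMod p)) ≠ 0 := by
      simpa using Polynomial.X_sub_C_ne_zero (1 : ZMod p)
    apply mul_right_cancel₀ hne
    rw [geom_sum_mul, ← pow_succ, Nat.sub_add_cancel (by omega), hpoly]
  have h3 := congrArg (Polynomial.aeval L) hgeom
  simp only [map_sum, map_pow, map_sub, Polynomial.aeval_X, map_one] at h3
  have h4 : (L - 1) ^ (p ^ k - 1) = 0 := by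
    obtain ⟨c, hc⟩ := Nat.exists_eq_add_of_le (show a ≤ p ^ k - 1 by omega)
    rw [hc, pow_add, hpow, zero_mul]
  have h5 := congrArg (fun f : Module.End (ZMod p) M => f v) (h3.trans h4)
  simpa only [LinearMap.sum_apply, hL, LinearMap.zero_apply] using h5

theorem sum_pow_eq_zero {M : Type*} [AddCommGroup M] [Finite M] {p : ℕ} [hp : Fact p.Prime]
    (hM : ∀ x : M, p • x = 0) {a k e : ℕ} (hc : Nat.card M = p ^ a) (T : M →+ M)
    (hT : ∀ x, T^[p ^ e] x = x) (hk : a < p ^ k) (v : M) :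
    ∑ i ∈ Finset.range (p ^ k), T^[i] v = 0 :=
  @sum_pow_eq_zero' M _ _ p _ (AddCommGroup.zmodModule hM) a k e hc T hT hk v

/-- The product is not a `p`-element and the pair generates a non-solvable group. -/
def Good (p : ℕ) {G : Type*} [Group G] (u w : G) : Prop :=
  (∀ k : ℕ, (u * w) ^ p ^ k ≠ 1) ∧ ¬ Group.IsSolvable (Subgroup.closure ({u, w} : Set G))

theorem Good.transfer {p : ℕ} {X Ω : Type*} {u w : Perm Ω} {u₀ w₀ : Perm X} (f : X → Ω)
    (hf : Function.Injective f) (hu : ∀ x, u (f x) = f (u₀ x)) (hw : ∀ x, w (f x) = f (w₀ x))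
    (h : Good p u₀ w₀) : Good p u w := by
  let R : Subgroup (Perm Ω × Perm X) :=
    { carrier := {g | ∀ x, g.1 (f x) = f (g.2 x)}
      one_mem' := fun x => rfl
      mul_mem' := fun {a b} ha hb x => by
        simp only [Prod.fst_mul, Prod.snd_mul, Perm.mul_apply]
        rw [hb x, ha]
      inv_mem' := fun {a} ha x => by
        simp only [Prod.fst_inv, Prod.snd_inv]
        rw [Perm.inv_eq_iff_eq, ha]; simp }
  have hinj : ∀ g ∈ R, g.1 = 1 → g.2 = 1 := by
    intro g hg h1
    ext x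
    apply hf
    rw [← hg x, h1]; rfl
  have huR : (u, u₀) ∈ R := hu
  have hwR : (w, w₀) ∈ R := hw
  refine ⟨fun k hk => h.1 k ?_, fun hs => h.2 ?_⟩
  · exact hinj ((( u, u₀) * (w, w₀)) ^ p ^ k) (pow_mem (mul_mem huR hwR) _) hk
  · set K := Subgroup.closure ({(u, u₀), (w, w₀)} : Set (Perm Ω × Perm X)) with hK
    have hKR : K ≤ R := by
      rw [hK, Subgroup.closure_le]
      rintro _ (rfl | rfl)
      exacts [huR, hwR]
    have h1 : K.map (MonoidHom.fst _ _) = Subgroup.closure {u, w} := by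
      rw [hK, MonoidHom.map_closure, Set.image_pair]; rfl
    have h2 : K.map (MonoidHom.snd _ _) = Subgroup.closure {u₀, w₀} := by
      rw [hK, MonoidHom.map_closure, Set.image_pair]; rfl
    have h3 : Group.IsSolvable K := by
      refine CL.isSolvable_of_map_of_inf_ker K (MonoidHom.fst _ _) (h1 ▸ hs) ?_
      have : K ⊓ (MonoidHom.fst (Perm Ω) (Perm X)).ker = ⊥ := by
        rw [eq_bot_iff]
        rintro g ⟨hg, hg1⟩
        rw [Subgroup.mem_bot]
        exact Prod.ext hg1 (hinj g (hKR hg) hg1)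
      rw [this]; infer_instance
    rw [← h2]
    exact CL.isSolvable_map K _

theorem Good.conj {p : ℕ} {G : Type*} [Group G] {u w : G} (h : Good p u w) (g : G) :
    Good p (g * u * g⁻¹) (g * w * g⁻¹) := by
  refine ⟨fun k hk => h.1 k ?_, fun hs => h.2 ?_⟩
  · have e : g * u * g⁻¹ * (g * w * g⁻¹) = g * (u * w) * g⁻¹ := by group
    rw [e, conj_pow] at hk
    simpa [mul_assoc, mul_eq_one_iff_eq_inv] using hk
  · have := CL.isSolvable_map (Subgroup.closure ({g * u * g⁻¹, g * w * g⁻¹} : Set G))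
      (MulAut.conj g⁻¹).toMonoidHom
    rw [MonoidHom.map_closure, Set.image_pair] at this
    have e1 : (MulAut.conj g⁻¹).toMonoidHom (g * u * g⁻¹) = u := by simp [mul_assoc]
    have e2 : (MulAut.conj g⁻¹).toMonoidHom (g * w * g⁻¹) = w := by simp [mul_assoc]
    rwa [e1, e2] at this

theorem Good.symm {p : ℕ} {G : Type*} [Group G] {u w : G} (h : Good p u w) : Good p w u := by
  refine ⟨fun k hk => h.1 k ?_, fun hs => h.2 ?_⟩
  · have e : u * w = u * (w * u) * u⁻¹ := by group
    rw [e, conj_pow, hk]; simp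
  · rwa [Set.pair_comm]

/-- Every sign occurs for a conjugator making the pair good. -/
def Core (p : ℕ) {X : Type*} [Fintype X] [DecidableEq X] (u w : Perm X) : Prop :=
  ∀ s : ℤˣ, ∃ σ : Perm X, Perm.sign σ = s ∧ Good p u (σ * w * σ⁻¹)

theorem Core.transfer {p : ℕ} {X Ω : Type*} [Fintype X] [DecidableEq X] [Fintype Ω]
    [DecidableEq Ω] {u w : Perm Ω} {u₀ w₀ : Perm X} (f₁ f₂ : X → Ω)
    (hf₁ : Function.Injective f₁) (hf₂ : Function.Injective f₂)
    (hu : ∀ x, u (f₁ x) = f₁ (u₀ x)) (hw : ∀ x, w (f₂ x) = f₂ (w₀ x))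
    (h : Core p u₀ w₀) : Core p u w := by
  intro s
  obtain ⟨g₀, hg₀⟩ := Perm.exists_extending_pair f₂ f₁ hf₂ hf₁
  obtain ⟨σ, hσ, hG⟩ := h (s * (Perm.sign g₀)⁻¹)
  let τ := σ.viaFintypeEmbedding ⟨f₁, hf₁⟩
  have hτ : ∀ x, τ (f₁ x) = f₁ (σ x) := fun x =>
    Perm.viaFintypeEmbedding_apply_image σ ⟨f₁, hf₁⟩ x
  refine ⟨τ * g₀, ?_, hG.transfer f₁ hf₁ hu fun x => ?_⟩
  · rw [map_mul, Perm.viaFintypeEmbedding_sign, hσ, inv_mul_cancel_right]
  · have h1 : (τ * g₀)⁻¹ (f₁ x) = f₂ (σ⁻¹ x) := by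
      rw [Perm.inv_eq_iff_eq, Perm.mul_apply, hg₀, hτ]; simp
    simp only [Perm.mul_apply] at h1 ⊢
    rw [h1, hw, hg₀, hτ]

theorem Core.symm {p : ℕ} {X : Type*} [Fintype X] [DecidableEq X] {u w : Perm X}
    (h : Core p u w) : Core p w u := by
  intro s
  obtain ⟨σ, hσ, hG⟩ := h s
  refine ⟨σ⁻¹, by rw [Perm.sign_inv, hσ], ?_⟩
  have := (hG.conj σ⁻¹).symm
  simpa [mul_assoc] using this

theorem good_of_words {p r : ℕ} {G : Type*} [Group G] {u w : G} (hr : r.Coprime p)
    (h1 : (u * w) ^ r = 1) (h2 : u * w ≠ 1) (hu : u ≠ 1) {y z : G}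
    (hy : y ∈ Subgroup.closure ({u, w} : Set G)) (hz : z ∈ Subgroup.closure ({u, w} : Set G))
    (h : ⁅y * u * y⁻¹, z * u * z⁻¹⁆ = u) : Good p u w := by
  refine ⟨fun k hk => h2 ?_, ?_⟩
  · have := (pow_gcd_eq_one (a := u * w)).mpr ⟨h1, hk⟩
    rwa [(Nat.Coprime.pow_right k hr : Nat.gcd _ _ = 1), pow_one] at this
  · have hu' : u ∈ Subgroup.closure ({u, w} : Set G) := Subgroup.subset_closure (by simp)
    refine not_isSolvable_of_mem_derivedSeries (g := ⟨u, hu'⟩)
      (fun h => hu (congrArg Subtype.val h)) fun n => ?_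
    induction n with
    | zero => exact Subgroup.mem_top _
    | succ n ih =>
      have e : (⟨u, hu'⟩ : Subgroup.closure ({u, w} : Set G)) =
          ⁅(⟨y, hy⟩ * ⟨u, hu'⟩ * ⟨y, hy⟩⁻¹ : Subgroup.closure ({u, w} : Set G)),
            (⟨z, hz⟩ * ⟨u, hu'⟩ * ⟨z, hz⟩⁻¹ : Subgroup.closure ({u, w} : Set G))⁆ :=
        Subtype.ext h.symm
      rw [e, derivedSeries_succ]
      exact Subgroup.commutator_mem_commutator ((derivedSeries_normal _ _).conj_mem _ ih _)
        ((derivedSeries_normal _ _).conj_mem _ ih _)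

theorem prod_eq_one {V : Type*} [CommGroup V] [Finite V] {p : ℕ} [hp : Fact p.Prime]
    (hV : ∀ x : V, x ^ p = 1) {a k e : ℕ} (hc : Nat.card V = p ^ a) (T : V →* V)
    (hT : ∀ x, T^[p ^ e] x = x) (hk : a < p ^ k) (v : V) :
    ∏ i ∈ Finset.range (p ^ k), T^[i] v = 1 :=
  sum_pow_eq_zero (M := Additive V) hV hc (MonoidHom.toAdditive T) hT hk (Additive.ofMul v)

/-- The full cycle. -/
def cyc (m : ℕ) : Perm (ZMod m) := Equiv.addRight 1

theorem cyc_apply (m : ℕ) (x : ZMod m) : cyc m x = x + 1 := rfl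

theorem cyc_pow (m k : ℕ) (x : ZMod m) : (cyc m ^ k) x = x + k := by
  induction k with
  | zero => simp
  | succ k ih => rw [pow_succ', Perm.mul_apply, ih, cyc_apply]; push_cast; ring

theorem lt_pow_aux {p : ℕ} (hp3 : 3 ≤ p) {a : ℕ} (ha : a ≠ 0) : a + 1 < p ^ a := by
  induction a with
  | zero => exact absurd rfl ha
  | succ a ih =>
    rcases Nat.eq_zero_or_pos a with rfl | h
    · simp; omega
    · have := ih h.ne'
      rw [pow_succ]; nlinarith

theorem not_solvable {p a m : ℕ} [hp : Fact p.Prime] (hp3 : 3 ≤ p) (hm : m = p ^ (a + 1))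
    (w : Perm (ZMod m)) {e : ℕ} (hw : w ^ p ^ e = 1)
    (h1 : a ≠ 0 → ¬ (p : ZMod m) ∣ w ((p ^ a : ℕ) : ZMod m) - w 0)
    (h2 : ∀ k : ℕ, (cyc m * w) ^ p ^ k ≠ 1) : Good p (cyc m) w := by
  refine ⟨h2, fun hs => ?_⟩
  have hm1 : 1 < m := hm ▸ Nat.one_lt_pow (by omega) hp.out.one_lt
  haveI : NeZero m := ⟨by omega⟩
  haveI : Fact (1 < m) := ⟨hm1⟩
  set u := cyc m with hu
  set H := Subgroup.closure ({u, w} : Set (Perm (ZMod m))) with hH
  have huH : u ∈ H := Subgroup.subset_closure (by simp)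
  have hwH : w ∈ H := Subgroup.subset_closure (by simp)
  have hu1 : u ≠ 1 := fun h => by
    have := congrArg (fun g : Perm (ZMod m) => g 0) h
    simp [hu, cyc_apply] at this
  have hum : u ^ m = 1 := by
    ext x; rw [hu, cyc_pow]; simp
  haveI : Nontrivial H := ⟨⟨⟨u, huH⟩, 1, fun h => hu1 (congrArg Subtype.val h)⟩⟩
  haveI : Group.IsSolvable H := hs
  obtain ⟨N, q, hN, hq, hNe, hNq⟩ := CL.exists_isMinNormal_isElementaryAbelian H
  haveI := hN.normal
  haveI := hN.isMulCommutative_of_isSolvable inferInstance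
  set V := N.map H.subtype with hV
  have hVn : ∀ g ∈ H, ∀ v ∈ V, g * v * g⁻¹ ∈ V := by
    rintro g hg _ ⟨v, hv, rfl⟩
    exact ⟨_, hN.normal.conj_mem v hv ⟨g, hg⟩, rfl⟩
  have hVc : ∀ v ∈ V, ∀ v' ∈ V, v * v' = v' * v := fun v hv v' hv' =>
    setLike_mul_comm (s := V) hv hv'
  have hconj : ∀ g ∈ H, ∀ x y, (∃ v ∈ V, v x = y) → ∃ v ∈ V, v (g x) = g y := by
    rintro g hg x y ⟨v, hv, rfl⟩
    exact ⟨_, hVn g hg v hv, by simp⟩
  have hshift : ∀ c x y : ZMod m, (∃ v ∈ V, v x = y) → ∃ v ∈ V, v (x + c) = y + c := by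
    intro c x y h
    have := hconj (u ^ c.val) (pow_mem huH _) x y h
    simpa [hu, cyc_pow] using this
  have hmul : ∀ r s : ZMod m, (∃ v ∈ V, v 0 = s) → ∃ v ∈ V, v 0 = r * s := by
    intro r s hs
    have : ∀ n : ℕ, ∃ v ∈ V, v 0 = n * s := by
      intro n
      induction n with
      | zero => exact ⟨1, one_mem _, by simp⟩
      | succ n ih =>
        obtain ⟨v, hv, h⟩ := ih
        obtain ⟨v', hv', h'⟩ := hshift (n * s) 0 s hs
        refine ⟨v' * v, mul_mem hv' hv, ?_⟩
        rw [Perm.mul_apply, h]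
        rw [zero_add] at h'
        rw [h']; push_cast; ring
    simpa using this r.val
  obtain ⟨s, hs0, hs⟩ : ∃ s : ZMod m, s ≠ 0 ∧ ∃ v ∈ V, v 0 = s := by
    obtain ⟨⟨v, hv⟩, hv1⟩ := Subgroup.ne_bot_iff_exists_ne_one.mp hN.ne_bot
    obtain ⟨x, hx⟩ : ∃ x, (v : Perm (ZMod m)) x ≠ x := by
      by_contra hcon
      push Not at hcon
      exact hv1 (Subtype.ext (Subtype.ext (Equiv.ext hcon)))
    refine ⟨(v : Perm (ZMod m)) x - x, sub_ne_zero.mpr hx, ?_⟩
    have := hshift (-x) x _ ⟨v, ⟨v, hv, rfl⟩, rfl⟩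
    simpa [sub_eq_add_neg] using this
  have hunit : ∀ n : ℕ, ¬ p ∣ n → IsUnit (n : ZMod m) := fun n hn =>
    (ZMod.isUnit_iff_coprime n m).mpr
      (by
        have := Nat.Coprime.pow_right (a + 1) ((Nat.Prime.coprime_iff_not_dvd hp.out).mpr hn).symm
        rwa [← hm] at this)
  have hd : ∃ v ∈ V, v 0 = ((p ^ a : ℕ) : ZMod m) := by
    have hsv : s.val ≠ 0 := fun h => hs0 ((ZMod.val_eq_zero s).mp h)
    obtain ⟨j, n, hn, hj⟩ := Nat.exists_eq_pow_mul_and_not_dvd hsv p hp.out.ne_one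
    have hja : j ≤ a := by
      by_contra hlt
      have h3 : m ∣ s.val := by
        rw [hj]; exact Dvd.dvd.mul_right (hm.dvd.trans (pow_dvd_pow p (by omega))) n
      exact hsv (Nat.eq_zero_of_dvd_of_lt h3 (ZMod.val_lt s))
    obtain ⟨c, hc⟩ := (hunit n hn).exists_right_inv
    obtain ⟨i, hi⟩ := Nat.exists_eq_add_of_le hja
    have := hmul ((p ^ i : ℕ) * c) s hs
    have e1 : ((p ^ i : ℕ) * c) * s = ((p ^ a : ℕ) : ZMod m) := by
      rw [← ZMod.natCast_zmod_val s, hj, hi]
      push_cast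
      calc (p : ZMod m) ^ i * c * (p ^ j * n) = p ^ (j + i) * (n * c) := by ring
        _ = _ := by rw [hc, mul_one]
    rwa [e1] at this
  have htrans : ∀ y : ZMod m, ∃ v ∈ V, v 0 = y := by
    by_cases ha : a = 0
    · intro y
      have := hmul y _ hd
      simpa [ha] using this
    · intro y
      have h3 := hshift (-w 0) _ _ (hconj w hwH _ _ hd)
      rw [add_neg_cancel, ← sub_eq_add_neg] at h3
      set t := w ((p ^ a : ℕ) : ZMod m) - w 0 with ht
      have h4 : ¬ p ∣ t.val := by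
        rintro ⟨c, hc⟩
        apply h1 ha
        refine ⟨c, ?_⟩
        rw [← ZMod.natCast_zmod_val t, hc]; push_cast; rfl
      obtain ⟨c, hc⟩ := (hunit _ h4).exists_left_inv
      rw [ZMod.natCast_zmod_val] at hc
      have := hmul (y * c) t h3
      rwa [mul_assoc, hc, mul_one] at this
  have hself : ∀ c : Perm (ZMod m), (∀ v ∈ V, v * c = c * v) → ∀ v ∈ V, v 0 = c 0 → v = c := by
    intro c hc v hv h0
    ext x
    obtain ⟨v', hv', rfl⟩ := htrans x
    rw [← Perm.mul_apply, hVc v hv v' hv', Perm.mul_apply, h0, ← Perm.mul_apply, hc v' hv',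
      Perm.mul_apply]
  have hcard : Nat.card V = m := by
    refine Eq.trans ?_ (Nat.card_zmod m)
    refine Nat.card_eq_of_bijective (fun v : V => (v : Perm (ZMod m)) 0) ⟨fun v v' h => ?_, fun y => ?_⟩
    · exact Subtype.ext (hself v' (fun x hx => hVc x hx v' v'.2) v v.2 h)
    · obtain ⟨v, hv, h⟩ := htrans y
      exact ⟨⟨v, hv⟩, h⟩
  have hqp : q = p := by
    haveI := Fact.mk hq
    obtain ⟨j, hj⟩ := IsPGroup.iff_card.mp (hNq.map H.subtype)
    have h3 : p ∣ q ^ j := by
      rw [← hj, hcard.trans hm]; exact dvd_pow_self p (by omega)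
    exact ((Nat.prime_dvd_prime_iff_eq hp.out hq).mp (hp.out.dvd_of_dvd_pow h3)).symm
  subst hqp
  have hVp : ∀ v ∈ V, v ^ q = 1 := by
    rintro _ ⟨v, hv, rfl⟩
    have := hNe.2 v hv
    rw [← map_pow, this, map_one]
  by_cases ha : a = 0
  · have hmq : m = q := by rw [hm, ha, zero_add, pow_one]
    have key : ∀ g ∈ H, ∀ k : ℕ, g ^ q ^ k = 1 → g ∈ V := by
      intro g hg k hk
      have hP : IsPGroup q (Subgroup.zpowers g) := by
        obtain ⟨i, -, hi⟩ := (Nat.dvd_prime_pow hp.out).mp (orderOf_dvd_of_pow_eq_one hk)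
        exact IsPGroup.of_card (by rw [Nat.card_zpowers, hi])
      have h3 := CL.inf_centralizer_ne_bot_of_isPGroup (V := V) (P := Subgroup.zpowers g)
        (hNq.map H.subtype) hP (by
          rw [Subgroup.zpowers_le, Subgroup.mem_normalizer_iff]
          intro v
          refine ⟨hVn g hg v, fun h => ?_⟩
          simpa [mul_assoc] using hVn g⁻¹ (inv_mem hg) _ h) (by
          intro h
          rw [h, Subgroup.card_bot] at hcard
          omega)
      have h4 : Nat.card (V ⊓ Subgroup.centralizer (Subgroup.zpowers g : Set (Perm (ZMod m))) :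
          Subgroup (Perm (ZMod m))) ∣ q := by
        have := Subgroup.card_dvd_of_le (inf_le_left : V ⊓ Subgroup.centralizer
          (Subgroup.zpowers g : Set (Perm (ZMod m))) ≤ V)
        rwa [hcard.trans hmq] at this
      rcases (Nat.dvd_prime hp.out).mp h4 with h | h
      · exact absurd (Subgroup.card_eq_one.mp h) h3
      have h5 := Subgroup.eq_of_le_of_card_ge (inf_le_left : V ⊓ Subgroup.centralizer
          (Subgroup.zpowers g : Set (Perm (ZMod m))) ≤ V)
          (by rw [h, hcard.trans hmq])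
      obtain ⟨v, hv, h0⟩ := htrans (g 0)
      rw [← hself g (fun x hx => ?_) v hv h0]
      · exact hv
      · rw [← h5] at hx
        have hx2 : x ∈ Subgroup.centralizer (Subgroup.zpowers g : Set (Perm (ZMod m))) := hx.2
        exact (Subgroup.mem_centralizer_iff.mp hx2 g (Subgroup.mem_zpowers g)).symm
    apply h2 1
    rw [pow_one]
    exact hVp _ (mul_mem (key u huH (a + 1) (by rw [← hm]; exact hum)) (key w hwH e hw))
  · letI : CommGroup V := { (inferInstance : Group V) with mul_comm := mul_comm' }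
    let T : V →* V :=
      { toFun := fun v => ⟨u * v * u⁻¹, hVn u huH v v.2⟩
        map_one' := Subtype.ext (by simp)
        map_mul' := fun x y => Subtype.ext (by simp [mul_assoc]) }
    have hT : ∀ (i : ℕ) (v : V), ((T^[i] v : V) : Perm (ZMod m)) = u ^ i * v * (u ^ i)⁻¹ := by
      intro i v
      induction i with
      | zero => simp
      | succ i ih =>
        rw [Function.iterate_succ_apply']
        show u * ((T^[i] v : V) : Perm (ZMod m)) * u⁻¹ = _
        rw [ih, pow_succ']; group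
    obtain ⟨v, hv, h0⟩ := htrans (u 0)
    have key : ∀ k : ℕ, (u ^ k) 0 =
        ((∏ i ∈ Finset.range k, T^[i] ⟨v, hv⟩ : V) : Perm (ZMod m)) 0 := by
      intro k
      induction k with
      | zero => simp
      | succ k ih =>
        rw [Finset.prod_range_succ_comm, Subgroup.coe_mul, Perm.mul_apply, ← ih, hT, pow_succ,
          Perm.mul_apply, ← h0]
        simp
    have h3 := prod_eq_one (V := V) (p := q) (fun x => Subtype.ext (hVp x x.2)) (a := a + 1)
      (k := a) (e := a + 1) (hcard.trans hm) T (fun x => Subtype.ext (by rw [hT, ← hm, hum]; simp))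
      (lt_pow_aux hp3 ha) ⟨v, hv⟩
    have h4 := key (q ^ a)
    rw [h3, hu, cyc_pow, zero_add] at h4
    have h5 : m ∣ q ^ a := (ZMod.natCast_eq_zero_iff _ _).mp h4
    have h6 := Nat.le_of_dvd (pow_pos hp.out.pos a) h5
    have h7 : q ^ a < q ^ (a + 1) := Nat.pow_lt_pow_right hp.out.one_lt (by omega)
    omega

theorem exists_sigma {X ι : Type*} [Fintype X] [DecidableEq X] [Finite ι] (s t : ι → X)
    (hs : Function.Injective s) (ht : Function.Injective t) {b c : X} (hbc : b ≠ c)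
    (hb : ∀ i, t i ≠ b) (hc : ∀ i, t i ≠ c) (ε : ℤˣ) :
    ∃ σ : Perm X, Perm.sign σ = ε ∧ ∀ i, σ (s i) = t i := by
  obtain ⟨σ, hσ⟩ := Perm.exists_extending_pair s t hs ht
  by_cases h : Perm.sign σ = ε
  · exact ⟨σ, h, hσ⟩
  · refine ⟨swap b c * σ, ?_, fun i => ?_⟩
    · rw [map_mul, Perm.sign_swap hbc]
      rcases Int.units_eq_one_or (Perm.sign σ) with h1 | h1 <;>
        rcases Int.units_eq_one_or ε with h2 | h2 <;> simp_all
    · rw [Perm.mul_apply, hσ, swap_apply_of_ne_of_ne (hb i) (hc i)]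

theorem ne_one_of_swap {X : Type*} {p : ℕ} (hp : Odd p) {t : Perm X} {x y : X} (hx : t x = y)
    (hy : t y = x) (hxy : x ≠ y) (k : ℕ) : t ^ p ^ k ≠ 1 := by
  intro h
  obtain ⟨j, hj⟩ := hp.pow (n := k)
  have key : ∀ j : ℕ, (t ^ (2 * j + 1)) x = y := by
    intro j
    induction j with
    | zero => simpa using hx
    | succ j ih =>
      rw [show 2 * (j + 1) + 1 = (2 * j + 1) + 1 + 1 by ring, pow_succ', pow_succ',
        Perm.mul_apply, Perm.mul_apply, ih, hy, hx]
  have := key j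
  rw [← hj, h] at this
  exact hxy this

theorem ne_one_of_fix {X : Type*} [Finite X] {p : ℕ} [hp : Fact p.Prime] (hX : Nat.card X = p)
    {t : Perm X} {x y : X} (hx : t x = x) (hy : t y ≠ y) (k : ℕ) : t ^ p ^ k ≠ 1 := by
  intro h
  have hP : IsPGroup p (Subgroup.zpowers t) := by
    obtain ⟨i, -, hi⟩ := (Nat.dvd_prime_pow hp.out).mp (orderOf_dvd_of_pow_eq_one h)
    exact IsPGroup.of_card (by rw [Nat.card_zpowers, hi])
  have h1 := hP.card_modEq_card_fixedPoints X
  have hxm : x ∈ MulAction.fixedPoints (Subgroup.zpowers t) X := by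
    rintro ⟨_, ⟨i, rfl⟩⟩
    exact Perm.zpow_apply_eq_self_of_apply_eq_self hx i
  have hym : y ∉ MulAction.fixedPoints (Subgroup.zpowers t) X := fun h =>
    hy (h ⟨t, Subgroup.mem_zpowers t⟩)
  have h2 : 0 < Nat.card (MulAction.fixedPoints (Subgroup.zpowers t) X) :=
    Nat.card_pos_iff.mpr ⟨⟨⟨x, hxm⟩⟩, inferInstance⟩
  have h3 : Nat.card (MulAction.fixedPoints (Subgroup.zpowers t) X) < Nat.card X :=
    Finite.card_subtype_lt hym
  rw [hX] at h1 h3
  have h4 : p ∣ Nat.card (MulAction.fixedPoints (Subgroup.zpowers t) X) :=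
    (Nat.modEq_zero_iff_dvd.mp (h1.symm.trans (Nat.modEq_zero_iff_dvd.mpr dvd_rfl)))
  have := Nat.le_of_dvd h2 h4
  omega

theorem cast_inj {m i j : ℕ} (hi : i < m) (hj : j < m) (h : (i : ZMod m) = j) : i = j := by
  have := (ZMod.natCast_eq_natCast_iff' i j m).mp h
  rwa [Nat.mod_eq_of_lt hi, Nat.mod_eq_of_lt hj] at this

theorem not_dvd_cast {p m c d : ℕ} (hpm : p ∣ m) (hd : p ∣ d) (hc : ¬ p ∣ c) :
    ¬ (p : ZMod m) ∣ (c : ZMod m) - d := by
  intro h
  have := map_dvd (ZMod.castHom hpm (ZMod p)) h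
  rw [map_natCast, map_sub, map_natCast, map_natCast, ZMod.natCast_self, zero_dvd_iff,
    (ZMod.natCast_eq_zero_iff d p).mpr hd, sub_zero, ZMod.natCast_eq_zero_iff] at this
  exact hc this

theorem exists_sigma' {m k : ℕ} [NeZero m] (s : Fin k → ZMod m) (t : Fin k → ℕ)
    (hs : Function.Injective s) (ht : Function.Injective t) (htm : ∀ i, t i < m) {b c : ℕ}
    (hbc : b ≠ c) (hbm : b < m) (hcm : c < m)
    (hb : ∀ i, t i ≠ b) (hc : ∀ i, t i ≠ c) (ε : ℤˣ) (w : Perm (ZMod m)) :
    ∃ σ : Perm (ZMod m), Perm.sign σ = ε ∧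
      ∀ i j, w (s i) = s j → (σ * w * σ⁻¹) (t i) = t j := by
  obtain ⟨σ, h1, h2⟩ := exists_sigma s (fun i => (t i : ZMod m)) hs
    (fun i j h => ht (cast_inj (htm i) (htm j) h)) (b := b) (c := c)
    (fun h => hbc (cast_inj hbm hcm h)) (fun i h => hb i (cast_inj (htm i) hbm h))
    (fun i h => hc i (cast_inj (htm i) hcm h)) ε
  refine ⟨σ, h1, fun i j hij => ?_⟩
  rw [← h2 i, ← h2 j, ← hij]; simp

theorem core_cyc {p a m : ℕ} [hp : Fact p.Prime] (hp3 : 3 ≤ p) (hm : m = p ^ (a + 1)) [NeZero m]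
    (h5 : 5 ≤ m) (w : Perm (ZMod m)) (hw1 : w ≠ 1) {e : ℕ} (hw : w ^ p ^ e = 1) :
    Core p (cyc m) w := by
  intro ε
  have hodd : Odd p := hp.out.odd_of_ne_two (by omega)
  have hwc : ∀ σ : Perm (ZMod m), (σ * w * σ⁻¹) ^ p ^ e = 1 := fun σ => by
    rw [conj_pow, hw]; simp
  obtain ⟨x, hx⟩ : ∃ x, w x ≠ x := by
    by_contra hcon
    push Not at hcon
    exact hw1 (Equiv.ext hcon)
  have hx2 : w (w x) ≠ x := fun h => ne_one_of_swap hodd rfl h hx.symm e hw
  have hx3 : w (w x) ≠ w x := fun h => hx (w.injective h)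
  by_cases ha : a = 0
  · obtain ⟨σ, h1, h2⟩ := exists_sigma' (m := m) ![x, w x, w (w x)] ![1, 0, 2]
      (by
        intro i j h
        fin_cases i <;> fin_cases j <;> simp_all [eq_comm])
      (by decide) (by intro i; fin_cases i <;> simp <;> omega) (b := 3) (c := 4) (by omega)
      (by omega) (by omega) (by decide) (by decide) ε w
    refine ⟨σ, h1, not_solvable hp3 hm _ (hwc σ) (fun h => absurd ha h) ?_⟩
    have e1 := h2 0 1 rfl
    have e2 := h2 1 2 rfl
    simp only [Matrix.cons_val_zero, Matrix.cons_val_one, Matrix.cons_val] at e1 e2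
    refine ne_one_of_fix (x := ((1 : ℕ) : ZMod m)) (y := ((0 : ℕ) : ZMod m))
      (by rw [Nat.card_zmod, hm, ha, zero_add, pow_one]) ?_ ?_
    · rw [Perm.mul_apply, e1, cyc_apply]; simp
    · rw [Perm.mul_apply, e2, cyc_apply]
      intro h
      have : ((3 : ℕ) : ZMod m) = (0 : ℕ) := by rw [← h]; push_cast; ring
      have := cast_inj (by omega) (by omega) this
      omega
  set d := p ^ a with hd
  have hd3 : 3 ≤ d := le_trans hp3 (Nat.le_self_pow ha p)
  have hmd : 3 * d ≤ m := by rw [hm, pow_succ]; nlinarith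
  have hpm : p ∣ m := by rw [hm]; exact dvd_pow_self p (by omega)
  have hpd : p ∣ d := dvd_pow_self p ha
  have hneg : ((m - 1 : ℕ) : ZMod m) + 1 = ((0 : ℕ) : ZMod m) := by
    have : ((m - 1 + 1 : ℕ) : ZMod m) = 0 := by
      rw [Nat.sub_add_cancel (by omega)]; exact ZMod.natCast_self m
    simpa using this
  have hp1 : ¬ p ∣ 1 := hp.out.not_dvd_one
  have hp2 : ¬ p ∣ 2 := fun h => by have := Nat.le_of_dvd (by omega) h; omega
  by_cases hx4 : w (w (w x)) = x
  · obtain ⟨y, hy⟩ : ∃ y : ZMod m, y ∉ ({x, w x, w (w x)} : Finset (ZMod m)) := by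
      by_contra hcon
      push Not at hcon
      have h1 : (Finset.univ : Finset (ZMod m)) ⊆ {x, w x, w (w x)} := fun y _ => hcon y
      have h2 := Finset.card_le_card h1
      rw [Finset.card_univ, ZMod.card] at h2
      have := Finset.card_le_three (a := x) (b := w x) (c := w (w x))
      omega
    simp only [Finset.mem_insert, Finset.mem_singleton, not_or] at hy
    obtain ⟨hy1, hy2, hy3⟩ := hy
    by_cases hyy : w y = y
    · obtain ⟨σ, h1, h2⟩ := exists_sigma' (m := m) ![x, w x, w (w x), y] ![0, d, 2, 1]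
        (by
          clear hx4 hyy
          intro i j h
          fin_cases i <;> fin_cases j <;> simp_all [eq_comm])
        (by
          intro i j h
          fin_cases i <;> fin_cases j <;> simp at h ⊢ <;> omega)
        (by intro i; fin_cases i <;> simp <;> omega) (b := d + 2) (c := d + 3) (by omega)
        (by omega) (by omega) (by intro i; fin_cases i <;> simp <;> omega)
        (by intro i; fin_cases i <;> simp <;> omega) ε w
      have e1 := h2 0 1 rfl
      have e2 := h2 1 2 rfl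
      have e3 := h2 2 0 hx4
      have e4 := h2 3 3 hyy
      simp only [Matrix.cons_val_zero, Matrix.cons_val_one, Matrix.cons_val] at e1 e2 e3 e4
      refine ⟨σ, h1, not_solvable hp3 hm _ (hwc σ) (fun _ => ?_) ?_⟩
      · rw [Nat.cast_zero] at e1
        rw [← hd, e1, e2]
        exact not_dvd_cast hpm hpd hp2
      · refine ne_one_of_swap hodd (x := ((1 : ℕ) : ZMod m)) (y := ((2 : ℕ) : ZMod m)) ?_ ?_
          (fun h => by have := cast_inj (by omega) (by omega) h; omega)
        · rw [Perm.mul_apply, e4, cyc_apply]; push_cast; ring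
        · rw [Perm.mul_apply, e3, cyc_apply]; push_cast; ring
    · have hz1 : w y ≠ x := fun h => hy3 (w.injective (h.trans hx4.symm))
      have hz2 : w y ≠ w x := fun h => hy1 (w.injective h)
      have hz3 : w y ≠ w (w x) := fun h => hy2 (w.injective h)
      obtain ⟨σ, h1, h2⟩ := exists_sigma' (m := m) ![x, w x, w (w x), y, w y]
        ![0, d, 1, d + 1, m - 1]
        (by
          clear hx4
          intro i j h
          fin_cases i <;> fin_cases j <;> simp_all [eq_comm])
        (by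
          intro i j h
          fin_cases i <;> fin_cases j <;> simp at h ⊢ <;> omega)
        (by intro i; fin_cases i <;> simp <;> omega) (b := d + 2) (c := d + 3) (by omega)
        (by omega) (by omega) (by intro i; fin_cases i <;> simp <;> omega)
        (by intro i; fin_cases i <;> simp <;> omega) ε w
      have e1 := h2 0 1 rfl
      have e2 := h2 1 2 rfl
      have e3 := h2 3 4 rfl
      simp only [Matrix.cons_val_zero, Matrix.cons_val_one, Matrix.cons_val] at e1 e2 e3
      refine ⟨σ, h1, not_solvable hp3 hm _ (hwc σ) (fun _ => ?_) ?_⟩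
      · rw [Nat.cast_zero] at e1
        rw [← hd, e1, e2]
        exact not_dvd_cast hpm hpd hp1
      · refine ne_one_of_swap hodd (x := ((0 : ℕ) : ZMod m)) (y := ((d + 1 : ℕ) : ZMod m)) ?_ ?_
          (fun h => by have := cast_inj (by omega) (by omega) h; omega)
        · rw [Perm.mul_apply, e1, cyc_apply]; push_cast; ring
        · rw [Perm.mul_apply, e3, cyc_apply, hneg]
  · have hz2 : w (w (w x)) ≠ w x := fun h => hx2 (w.injective h)
    have hz3 : w (w (w x)) ≠ w (w x) := fun h => hx3 (w.injective h)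
    obtain ⟨σ, h1, h2⟩ := exists_sigma' (m := m) ![x, w x, w (w x), w (w (w x))]
      ![0, d, d + 1, m - 1]
      (by
        intro i j h
        fin_cases i <;> fin_cases j <;> simp_all [eq_comm])
      (by
        intro i j h
        fin_cases i <;> fin_cases j <;> simp at h ⊢ <;> omega)
      (by intro i; fin_cases i <;> simp <;> omega) (b := d + 2) (c := d + 3) (by omega)
      (by omega) (by omega) (by intro i; fin_cases i <;> simp <;> omega)
      (by intro i; fin_cases i <;> simp <;> omega) ε w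
    have e1 := h2 0 1 rfl
    have e2 := h2 1 2 rfl
    have e3 := h2 2 3 rfl
    simp only [Matrix.cons_val_zero, Matrix.cons_val_one, Matrix.cons_val] at e1 e2 e3
    refine ⟨σ, h1, not_solvable hp3 hm _ (hwc σ) (fun _ => ?_) ?_⟩
    · rw [Nat.cast_zero] at e1
      rw [← hd, e1, e2]
      have := not_dvd_cast (c := 1) (d := 0) hpm (dvd_zero p) hp1
      simpa using this
    · refine ne_one_of_swap hodd (x := ((0 : ℕ) : ZMod m)) (y := ((d + 1 : ℕ) : ZMod m)) ?_ ?_
        (fun h => by have := cast_inj (by omega) (by omega) h; omega)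
      · rw [Perm.mul_apply, e1, cyc_apply]; push_cast; ring
      · rw [Perm.mul_apply, e3, cyc_apply, hneg]

/-- An invariant subset of prescribed prime power size. -/
theorem exists_invariant {Ω : Type*} [Fintype Ω] [DecidableEq Ω] {p a : ℕ} [hp : Fact p.Prime]
    (w : Perm Ω) (hw : w ^ p ^ a = 1) (hc : p ^ a ≤ Fintype.card Ω) (hw1 : w ≠ 1) :
    ∃ W : Finset Ω, W.card = p ^ a ∧ (∀ x, x ∈ W ↔ w x ∈ W) ∧ ∃ x ∈ W, w x ≠ x := by
  classical
  let O : Ω → Finset Ω := fun x =>
    Finset.univ.filter (· ∈ MulAction.orbit (Subgroup.zpowers w) x)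
  have hO : ∀ x y, y ∈ O x ↔ y ∈ MulAction.orbit (Subgroup.zpowers w) x := by simp [O]
  have hOc : ∀ x, (O x).card = Nat.card (MulAction.orbit (Subgroup.zpowers w) x) := by
    intro x
    rw [Nat.card_eq_fintype_card, Fintype.card_subtype]
  obtain ⟨b, hba, hb⟩ := (Nat.dvd_prime_pow hp.out).mp (orderOf_dvd_of_pow_eq_one hw)
  have hP : IsPGroup p (Subgroup.zpowers w) := IsPGroup.of_card (by rw [Nat.card_zpowers, hb])
  have hOp : ∀ x, ∃ j, (O x).card = p ^ j := fun x => by
    rw [hOc]; exact hP.card_orbit x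
  have hOa : ∀ x, (O x).card ∣ p ^ a := fun x => by
    rw [hOc, Nat.card_coe_set_eq, ← MulAction.index_stabilizer]
    refine (Subgroup.index_dvd_card _).trans ?_
    rw [Nat.card_zpowers]; exact orderOf_dvd_of_pow_eq_one hw
  have hOd : ∀ x y, (O x).card ≤ (O y).card → (O x).card ∣ (O y).card := by
    intro x y h
    obtain ⟨i, hi⟩ := hOp x
    obtain ⟨j, hj⟩ := hOp y
    rw [hi, hj] at h ⊢
    exact pow_dvd_pow p ((Nat.pow_le_pow_iff_right hp.out.one_lt).mp h)
  have hOx : ∀ x, x ∈ O x := fun x => (hO x x).mpr (MulAction.mem_orbit_self x)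
  have hOw : ∀ x y, y ∈ O x ↔ w y ∈ O x := by
    intro x y
    rw [hO, hO, ← MulAction.orbit_eq_iff, ← MulAction.orbit_eq_iff]
    have : MulAction.orbit (Subgroup.zpowers w) (w y) = MulAction.orbit (Subgroup.zpowers w) y :=
      MulAction.orbit_smul (⟨w, Subgroup.mem_zpowers w⟩ : Subgroup.zpowers w) y
    rw [this]
  have hinv : ∀ W : Finset Ω, (∀ x, x ∈ W ↔ w x ∈ W) → ∀ x y, y ∈ O x → y ∈ W → x ∈ W := by
    intro W hW x y hy hyW
    obtain ⟨⟨_, i, rfl⟩, rfl⟩ := (hO x y).mp hy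
    have key : ∀ (i : ℤ) (x : Ω), x ∈ W ↔ (w ^ i) x ∈ W := by
      intro i
      induction i using Int.induction_on with
      | zero => simp
      | succ i ih =>
        intro x
        rw [zpow_add_one, Perm.mul_apply, ← ih, ← hW]
      | pred i ih =>
        intro x
        rw [zpow_sub_one, Perm.mul_apply, ← ih, hW (w⁻¹ x)]; simp
    exact (key i x).mpr hyW
  obtain ⟨x1, hx1⟩ : ∃ x, w x ≠ x := by
    by_contra hcon
    push Not at hcon
    exact hw1 (Equiv.ext hcon)
  obtain ⟨x0, -, hx0⟩ := Finset.exists_max_image Finset.univ (fun x => (O x).card)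
    ⟨x1, Finset.mem_univ _⟩
  have hx0w : w x0 ≠ x0 := by
    intro h
    have h1 : O x0 ⊆ {x0} := by
      intro y hy
      obtain ⟨⟨_, i, rfl⟩, rfl⟩ := (hO x0 y).mp hy
      exact Finset.mem_singleton.mpr (Perm.zpow_apply_eq_self_of_apply_eq_self h i)
    have h2 := Finset.card_le_card h1
    have h3 : 1 < (O x1).card :=
      Finset.one_lt_card.mpr ⟨w x1, (hOw x1 x1).mp (hOx x1), x1, hOx x1, hx1⟩
    have := hx0 x1 (Finset.mem_univ _)
    simp only [Finset.card_singleton] at h2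
    omega
  let Q : Finset Ω → Prop := fun W => (∀ x, x ∈ W ↔ w x ∈ W) ∧ x0 ∈ W ∧ W.card ≤ p ^ a ∧
    ∀ x, x ∉ W → (O x).card ∣ W.card
  obtain ⟨W, hW, hmax⟩ := Finset.exists_max_image (Finset.univ.filter Q) Finset.card
    ⟨O x0, Finset.mem_filter.mpr ⟨Finset.mem_univ _, hOw x0, hOx x0,
      Nat.le_of_dvd (pow_pos hp.out.pos a) (hOa x0),
      fun x _ => hOd x x0 (hx0 x (Finset.mem_univ _))⟩⟩
  obtain ⟨hW1, hW2, hW3, hW4⟩ := (Finset.mem_filter.mp hW).2
  refine ⟨W, ?_, hW1, x0, hW2, hx0w⟩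
  by_contra hne
  have hlt : W.card < p ^ a := lt_of_le_of_ne hW3 hne
  have hne' : (Wᶜ).Nonempty := by
    rw [← Finset.card_pos, Finset.card_compl]; omega
  obtain ⟨x, hx, hxm⟩ := Finset.exists_max_image Wᶜ (fun x => (O x).card) hne'
  rw [Finset.mem_compl] at hx
  have hdisj : Disjoint W (O x) :=
    Finset.disjoint_left.mpr fun y hy hy' => hx (hinv W hW1 x y hy' hy)
  have hcard : (W ∪ O x).card = W.card + (O x).card := Finset.card_union_of_disjoint hdisj
  have hpos : 0 < (O x).card := Finset.card_pos.mpr ⟨x, hOx x⟩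
  have hQ : Q (W ∪ O x) := by
    refine ⟨fun y => by rw [Finset.mem_union, Finset.mem_union, ← hW1, ← hOw],
      Finset.mem_union_left _ hW2, ?_, fun y hy => ?_⟩
    · rw [hcard]
      have h1 : (O x).card ∣ p ^ a - W.card := Nat.dvd_sub (hOa x) (hW4 x hx)
      have := Nat.le_of_dvd (by omega) h1
      omega
    · rw [Finset.mem_union, not_or] at hy
      rw [hcard]
      exact Nat.dvd_add (hW4 y hy.1) (hOd y x (hxm y (Finset.mem_compl.mpr hy.1)))
  have := hmax _ (Finset.mem_filter.mpr ⟨Finset.mem_univ _, hQ⟩)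
  omega

theorem core_big {Ω : Type*} [Fintype Ω] [DecidableEq Ω] {p a : ℕ} [hp : Fact p.Prime]
    (hp3 : 3 ≤ p) {u w : Perm Ω} (hu : orderOf u = p ^ (a + 1)) (h5 : 5 ≤ p ^ (a + 1))
    (hw : w ^ p ^ (a + 1) = 1) (hw1 : w ≠ 1) : Core p u w := by
  obtain ⟨m, hm⟩ : ∃ m, m = p ^ (a + 1) := ⟨_, rfl⟩
  haveI : NeZero m := ⟨by omega⟩
  obtain ⟨x0, hx0⟩ : ∃ x, (u ^ p ^ a) x ≠ x := by
    by_contra hcon
    push Not at hcon
    have h1 := orderOf_dvd_of_pow_eq_one (show u ^ p ^ a = 1 from Equiv.ext hcon)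
    rw [hu] at h1
    have h6 := Nat.le_of_dvd (pow_pos hp.out.pos a) h1
    have h7 : p ^ a < p ^ (a + 1) := Nat.pow_lt_pow_right hp.out.one_lt (by omega)
    omega
  have hper : MulAction.period u x0 = m := by
    have h1 : MulAction.period u x0 ∣ p ^ (a + 1) := hu ▸ MulAction.period_dvd_orderOf u x0
    obtain ⟨j, hj, h2⟩ := (Nat.dvd_prime_pow hp.out).mp h1
    rcases Nat.lt_or_eq_of_le hj with h | h
    · exfalso
      apply hx0
      have : u ^ p ^ a • x0 = x0 := by
        rw [MulAction.pow_smul_eq_iff_period_dvd, h2]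
        exact pow_dvd_pow p (by omega)
      exact this
    · rw [h2, h, hm]
  let f₁ : ZMod m → Ω := fun i => (u ^ i.val) x0
  have hf₁ : Function.Injective f₁ := by
    have key : ∀ i j : ZMod m, i.val ≤ j.val → f₁ i = f₁ j → i = j := by
      intro i j hij h
      obtain ⟨c, hc⟩ := Nat.exists_eq_add_of_le hij
      have h1 : (u ^ i.val) x0 = (u ^ i.val) ((u ^ c) x0) := by
        rw [← Perm.mul_apply, ← pow_add, ← hc]; exact h
      have h2 : u ^ c • x0 = x0 := ((u ^ i.val).injective h1).symm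
      rw [MulAction.pow_smul_eq_iff_period_dvd, hper] at h2
      have h3 := ZMod.val_lt j
      have h4 : c = 0 := Nat.eq_zero_of_dvd_of_lt h2 (by omega)
      exact ZMod.val_injective m (by omega)
    intro i j h
    rcases le_total i.val j.val with h1 | h1
    exacts [key i j h1 h, (key j i h1 h.symm).symm]
  have hu₁ : ∀ i, u (f₁ i) = f₁ (cyc m i) := by
    intro i
    haveI : Fact (1 < m) := ⟨by omega⟩
    show u ((u ^ i.val) x0) = (u ^ (i + 1).val) x0
    have : ∀ n, u ^ (n % m) = u ^ n := fun n => by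
      have := pow_mod_orderOf u n
      rwa [hu, ← hm] at this
    rw [ZMod.val_add, ZMod.val_one, ← Perm.mul_apply, ← pow_succ', this]
  have hcard : p ^ (a + 1) ≤ Fintype.card Ω := by
    have := Fintype.card_le_of_injective f₁ hf₁
    rwa [ZMod.card, hm] at this
  obtain ⟨W, hW1, hW2, x, hx, hxw⟩ := exists_invariant w hw hcard hw1
  let e : ZMod m ≃ W := Fintype.equivOfCardEq (by rw [ZMod.card, Fintype.card_coe, hW1, hm])
  let w₁ : Perm (ZMod m) := e.symm.permCongr (w.subtypePerm fun x => (hW2 x).symm)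
  have hw₁ : ∀ i, w (e i) = e (w₁ i) := by
    intro i; simp [w₁]
  have hw₂ : ∀ (k : ℕ) i, (w ^ k) (e i) = e ((w₁ ^ k) i) := by
    intro k i
    induction k with
    | zero => simp
    | succ k ih => rw [pow_succ', pow_succ', Perm.mul_apply, Perm.mul_apply, ih, hw₁]
  refine Core.transfer f₁ (fun i => (e i : Ω)) hf₁ (Subtype.val_injective.comp e.injective) hu₁ hw₁
    (core_cyc hp3 hm (by omega) w₁ (fun h => hxw ?_) (e := a + 1) ?_)
  · have := hw₁ (e.symm ⟨x, hx⟩)
    rw [h] at this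
    simpa using this
  · ext i
    have := hw₂ (p ^ (a + 1)) i
    rw [hw] at this
    exact (e.injective (Subtype.ext this)).symm

theorem good_A {G : Type*} [Group G] {u w : G} (h1 : (u * w) ^ 5 = 1) (h2 : u * w ≠ 1)
    (h3 : u ≠ 1) (h : ⁅w * u * w⁻¹, (u * w * w * u * w) * u * (u * w * w * u * w)⁻¹⁆ = u) : Good 3 u w :=
  have hu : u ∈ Subgroup.closure ({u, w} : Set G) := Subgroup.subset_closure (by simp)
  have hw : w ∈ Subgroup.closure ({u, w} : Set G) := Subgroup.subset_closure (by simp)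
  good_of_words (by norm_num) h1 h2 h3 hw (mul_mem (mul_mem (mul_mem (mul_mem hu hw) hw) hu) hw) h

theorem good_B {G : Type*} [Group G] {u w : G} (h1 : (u * w) ^ 5 = 1) (h2 : u * w ≠ 1)
    (h3 : u ≠ 1) (h : ⁅(w * u * w * w) * u * (w * u * w * w)⁻¹, (w * u * w) * u * (w * u * w)⁻¹⁆ = u) : Good 3 u w :=
  have hu : u ∈ Subgroup.closure ({u, w} : Set G) := Subgroup.subset_closure (by simp)
  have hw : w ∈ Subgroup.closure ({u, w} : Set G) := Subgroup.subset_closure (by simp)
  good_of_words (by norm_num) h1 h2 h3 (mul_mem (mul_mem (mul_mem hw hu) hw) hw) (mul_mem (mul_mem hw hu) hw) h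

/-- A three-cycle on five points. -/
def c5 : Perm (Fin 5) := ⟨![1, 2, 0, 3, 4], ![2, 0, 1, 3, 4], by decide, by decide⟩
/-- A three-cycle on six points. -/
def c31 : Perm (Fin 6) := ⟨![1, 2, 0, 3, 4, 5], ![2, 0, 1, 3, 4, 5], by decide, by decide⟩
/-- Two three-cycles on six points. -/
def c33 : Perm (Fin 6) := ⟨![1, 2, 0, 4, 5, 3], ![2, 0, 1, 5, 3, 4], by decide, by decide⟩

theorem core55 : Core 3 c5 c5 := by
  intro s
  rcases Int.units_eq_one_or s with rfl | rfl
  · exact ⟨⟨![0, 3, 4, 1, 2], ![0, 3, 4, 1, 2], by decide, by decide⟩, by decide,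
      good_A (by decide) (by decide) (by decide) (by decide +kernel)⟩
  · exact ⟨⟨![0, 3, 4, 2, 1], ![0, 4, 3, 1, 2], by decide, by decide⟩, by decide,
      good_A (by decide) (by decide) (by decide) (by decide +kernel)⟩

theorem core3333 : Core 3 c33 c33 := by
  intro s
  rcases Int.units_eq_one_or s with rfl | rfl
  · exact ⟨⟨![0, 1, 3, 2, 5, 4], ![0, 1, 3, 2, 5, 4], by decide, by decide⟩, by decide,
      good_A (by decide) (by decide) (by decide) (by decide +kernel)⟩
  · exact ⟨⟨![0, 3, 4, 1, 5, 2], ![0, 3, 5, 1, 2, 4], by decide, by decide⟩, by decide,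
      good_A (by decide) (by decide) (by decide) (by decide +kernel)⟩

theorem core3133 : Core 3 c31 c33 := by
  intro s
  rcases Int.units_eq_one_or s with rfl | rfl
  · exact ⟨⟨![0, 2, 3, 1, 4, 5], ![0, 3, 1, 2, 4, 5], by decide, by decide⟩, by decide,
      good_B (by decide) (by decide) (by decide) (by decide +kernel)⟩
  · exact ⟨⟨![0, 2, 3, 1, 5, 4], ![0, 3, 1, 2, 5, 4], by decide, by decide⟩, by decide,
      good_B (by decide) (by decide) (by decide) (by decide +kernel)⟩

theorem shape {Ω : Type*} [Fintype Ω] [DecidableEq Ω] (h5 : 5 ≤ Fintype.card Ω) {u : Perm Ω}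
    (hu : u ^ 3 = 1) (hu1 : u ≠ 1) :
    ((∃ f : Fin 5 → Ω, Function.Injective f ∧ ∀ i, u (f i) = f (c5 i)) ∧
      (6 ≤ Fintype.card Ω → ∃ f : Fin 6 → Ω, Function.Injective f ∧ ∀ i, u (f i) = f (c31 i))) ∨
    ∃ f : Fin 6 → Ω, Function.Injective f ∧ ∀ i, u (f i) = f (c33 i) := by
  have h3 : ∀ x, u (u (u x)) = x := fun x => by
    have := congrArg (fun g : Perm Ω => g x) hu
    simpa [pow_succ] using this
  have h2 : ∀ x, u x ≠ x → u (u x) ≠ x := fun x hx h => hx (by
    have := h3 x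
    rwa [h] at this)
  obtain ⟨x, hx⟩ : ∃ x, u x ≠ x := by
    by_contra hcon
    push Not at hcon
    exact hu1 (Equiv.ext hcon)
  have hx2 := h2 x hx
  have hx3 : u (u x) ≠ u x := fun h => hx (u.injective h)
  by_cases hy : ∃ y, u y ≠ y ∧ y ≠ x ∧ y ≠ u x ∧ y ≠ u (u x)
  · obtain ⟨y, hy, hy1, hy2, hy3⟩ := hy
    have hy4 := h2 y hy
    have hy5 : u (u y) ≠ u y := fun h => hy (u.injective h)
    have e1 : u y ≠ x := fun h => hy3 (u.injective (h.trans (h3 x).symm))
    have e2 : u y ≠ u x := fun h => hy1 (u.injective h)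
    have e3 : u y ≠ u (u x) := fun h => hy2 (u.injective h)
    have e4 : u (u y) ≠ x := fun h => e3 (u.injective (h.trans (h3 x).symm))
    have e5 : u (u y) ≠ u x := fun h => e1 (u.injective h)
    have e6 : u (u y) ≠ u (u x) := fun h => e2 (u.injective h)
    refine Or.inr ⟨![x, u x, u (u x), y, u y, u (u y)], ?_, ?_⟩
    · clear h3 h2 hu
      intro i j h
      fin_cases i <;> fin_cases j <;> simp_all [eq_comm]
    · intro i
      fin_cases i <;> simp [c33, h3]
  · push Not at hy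
    have hfix : ∀ y, y ∉ ({x, u x, u (u x)} : Finset Ω) → u y = y := by
      intro y h
      simp only [Finset.mem_insert, Finset.mem_singleton, not_or] at h
      by_contra hne
      exact h.2.2 (hy y hne h.1 h.2.1)
    have hc : Fintype.card Ω ≤ 3 + ({x, u x, u (u x)} : Finset Ω)ᶜ.card := by
      rw [Finset.card_compl]
      have := Finset.card_le_three (a := x) (b := u x) (c := u (u x))
      omega
    left
    constructor
    · obtain ⟨a, ha, b, hb, hab⟩ := Finset.one_lt_card.mp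
        (show 1 < ({x, u x, u (u x)} : Finset Ω)ᶜ.card by omega)
      rw [Finset.mem_compl] at ha hb
      have ea := hfix a ha
      have eb := hfix b hb
      simp only [Finset.mem_insert, Finset.mem_singleton, not_or] at ha hb
      refine ⟨![x, u x, u (u x), a, b], ?_, ?_⟩
      · clear h3 h2 hu hfix hy ea eb hc
        intro i j h
        fin_cases i <;> fin_cases j <;> simp_all [eq_comm]
      · intro i
        fin_cases i <;> simp [c5, h3, ea, eb]
    · intro h6
      obtain ⟨a, ha, b, hb, c, hc', hab, hac, hbc⟩ := Finset.two_lt_card.mp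
        (show 2 < ({x, u x, u (u x)} : Finset Ω)ᶜ.card by omega)
      rw [Finset.mem_compl] at ha hb hc'
      have ea := hfix a ha
      have eb := hfix b hb
      have ec := hfix c hc'
      simp only [Finset.mem_insert, Finset.mem_singleton, not_or] at ha hb hc'
      refine ⟨![x, u x, u (u x), a, b, c], ?_, ?_⟩
      · clear h3 h2 hu hfix hy ea eb ec hc
        intro i j h
        fin_cases i <;> fin_cases j <;> simp_all [eq_comm]
      · intro i
        fin_cases i <;> simp [c31, h3, ea, eb, ec]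

theorem core_three {Ω : Type*} [Fintype Ω] [DecidableEq Ω] (h5 : 5 ≤ Fintype.card Ω)
    {u w : Perm Ω} (hu : u ^ 3 = 1) (hu1 : u ≠ 1) (hw : w ^ 3 = 1) (hw1 : w ≠ 1) :
    Core 3 u w := by
  have h6 : ∀ f : Fin 6 → Ω, Function.Injective f → 6 ≤ Fintype.card Ω := fun f hf => by
    simpa using Fintype.card_le_of_injective f hf
  rcases shape h5 hu hu1 with ⟨⟨f, hf, hf'⟩, h⟩ | ⟨f, hf, hf'⟩ <;>
    rcases shape h5 hw hw1 with ⟨⟨g, hg, hg'⟩, h'⟩ | ⟨g, hg, hg'⟩
  · exact core55.transfer f g hf hg hf' hg'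
  · obtain ⟨f, hf, hf'⟩ := h (h6 g hg)
    exact core3133.transfer f g hf hg hf' hg'
  · obtain ⟨g, hg, hg'⟩ := h' (h6 f hf)
    exact core3133.symm.transfer f g hf hg hf' hg'
  · exact core3333.transfer f g hf hg hf' hg'

theorem core {Ω : Type*} [Fintype Ω] [DecidableEq Ω] (h5 : 5 ≤ Fintype.card Ω) {p : ℕ}
    [hp : Fact p.Prime] (hp3 : 3 ≤ p) {u w : Perm Ω} (hu1 : u ≠ 1) (hw1 : w ≠ 1) {a b : ℕ}
    (hu : orderOf u = p ^ a) (hw : orderOf w = p ^ b) : Core p u w := by
  wlog hab : b ≤ a generalizing u w a b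
  · exact (this hw1 hu1 hw hu (by omega)).symm
  have ha : a ≠ 0 := by
    rintro rfl
    exact hu1 (orderOf_eq_one_iff.mp (by simpa using hu))
  obtain ⟨a, rfl⟩ := Nat.exists_eq_succ_of_ne_zero ha
  have hwa : w ^ p ^ (a + 1) = 1 := orderOf_dvd_iff_pow_eq_one.mp (hw ▸ pow_dvd_pow p hab)
  by_cases h : 5 ≤ p ^ (a + 1)
  · exact core_big hp3 hu h hwa hw1
  have h1 : p ≤ p ^ (a + 1) := Nat.le_self_pow (by omega) p
  have h3 : p = 3 := by
    have : p ≠ 4 := by rintro rfl; exact absurd hp.out (by norm_num)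
    omega
  subst h3
  have ha0 : a = 0 := by
    by_contra hne
    have := Nat.pow_le_pow_right (show 0 < 3 by norm_num) (show 2 ≤ a + 1 by omega)
    omega
  subst ha0
  exact core_three h5 (by rw [← orderOf_dvd_iff_pow_eq_one, hu]; norm_num) hu1
    (by simpa using hwa) hw1

end CL.AltPair
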