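import Mathlib

/-!
# Burnside-Schur: cyclic groups of composite prime power order are `B`-groups
-/

set_option linter.style.haveILetI false
set_option autoImplicit false

namespace CL.BG

open Subgroup MulAction
open scoped Pointwise

theorem sum_pow_char_of_commute {R ι : Type*} [Ring R] (p : ℕ) [Fact p.Prime] [CharP R p]
    (s : Finset ι) (f : ι → R) (h : ∀ i j, Commute (f i) (f j)) :
    (∑ i ∈ s, f i) ^ p = ∑ i ∈ s, f i ^ p := by
  classical
  induction s using Finset.induction_on with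
  | empty => simp [(Fact.out : p.Prime).ne_zero]
  | insert a s ha ih =>
    rw [Finset.sum_insert ha, Finset.sum_insert ha,
      add_pow_char_of_commute p (Commute.sum_right _ _ _ fun j _ => h a j), ih]

variable {A Ω C : Type*} [Group A] [MulAction A Ω] [CommGroup C]

/-- A regular abelian group `C` inside the permutation group `A`. -/
structure Reg (ι : C →* A) (ω : Ω) (ε : C ≃ Ω) : Prop where
  eq : ∀ u, ε u = ι u • ω

/-- `u` and `v` lie in the same basic set. -/
def Rel (A : Type*) [Group A] [MulAction A Ω] (ω : Ω) (ε : C ≃ Ω) (u v : C) : Prop :=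
  ∃ h : A, h • ω = ω ∧ h • ε u = ε v

/-- The permutation of `C` induced by `h`. -/
def tr (ε : C ≃ Ω) (h : A) : C ≃ C := (ε.trans (MulAction.toPerm h)).trans ε.symm

omit [CommGroup C] in
theorem tr_spec (ε : C ≃ Ω) (h : A) (u : C) : ε (tr ε h u) = h • ε u := by simp [tr]

omit [CommGroup C] in
theorem Rel.refl {ω : Ω} {ε : C ≃ Ω} (u : C) : Rel A ω ε u u := ⟨1, one_smul _ _, one_smul _ _⟩

omit [CommGroup C] in
theorem Rel.symm {ω : Ω} {ε : C ≃ Ω} {u v : C} (h : Rel A ω ε u v) : Rel A ω ε v u := by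
  obtain ⟨g, h1, h2⟩ := h
  exact ⟨g⁻¹, by rw [inv_smul_eq_iff, h1], by rw [inv_smul_eq_iff, h2]⟩

omit [CommGroup C] in
theorem Rel.trans {ω : Ω} {ε : C ≃ Ω} {u v w : C} (h : Rel A ω ε u v) (h' : Rel A ω ε v w) :
    Rel A ω ε u w := by
  obtain ⟨g, h1, h2⟩ := h
  obtain ⟨g', h3, h4⟩ := h'
  exact ⟨g' * g, by rw [mul_smul, h1, h3], by rw [mul_smul, h2, h4]⟩

omit [CommGroup C] in
theorem rel_tr {ω : Ω} (ε : C ≃ Ω) {h : A} (hh : h • ω = ω) (u : C) : Rel A ω ε u (tr ε h u) :=
  ⟨h, hh, (tr_spec ε h u).symm⟩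

omit [CommGroup C] in
theorem rel_tr_iff {ω : Ω} (ε : C ≃ Ω) {h : A} (hh : h • ω = ω) (t u : C) :
    Rel A ω ε t u ↔ Rel A ω ε t (tr ε h u) :=
  ⟨fun h1 => h1.trans (rel_tr ε hh u), fun h1 => h1.trans (rel_tr ε hh u).symm⟩

namespace Reg

variable {ι : C →* A} {ω : Ω} {ε : C ≃ Ω} (hR : Reg ι ω ε)
include hR

theorem one : ε 1 = ω := by rw [hR.eq, map_one, one_smul]

theorem mul (u v : C) : ε (u * v) = ι u • ε v := by rw [hR.eq, hR.eq, map_mul, mul_smul]

theorem stab {g : A} {u v : C} (h : g • ε u = ε v) : ((ι v)⁻¹ * g * ι u) • ω = ω := by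
  rw [mul_smul, mul_smul, ← hR.eq, h, hR.eq, inv_smul_smul]

theorem smul_mul {g : A} {u v : C} (w : C) :
    g • ε (u * w) = ε (v * tr ε ((ι v)⁻¹ * g * ι u) w) := by
  rw [hR.mul, hR.mul, tr_spec, mul_smul, mul_smul, smul_inv_smul]

theorem eq_one_of_rel {u : C} (h : Rel A ω ε 1 u) : u = 1 := by
  obtain ⟨g, h1, h2⟩ := h
  rw [hR.one, h1, ← hR.one] at h2
  exact (ε.injective h2).symm

variable [Finite C] {z : C}

/-- A union of basic sets containing a nonidentity element generates `C`. -/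
theorem eq_top_of_closed (hz : ∀ u : C, u ≠ 1 → z ∈ zpowers u)
    (hgen : ∀ J : Subgroup A, stabilizer A ω ≤ J → ι z ∈ J → J = ⊤) {S : Set C}
    (hS : ∀ u ∈ S, ∀ v, Rel A ω ε u v → v ∈ S) {s : C} (hs : s ∈ S) (hs1 : s ≠ 1)
    {L : Subgroup C} (hL : S ⊆ L) : L = ⊤ := by
  have hmul : ∀ a b : C, (∀ v, Rel A ω ε a v → v ∈ closure S) →
      (∀ v, Rel A ω ε b v → v ∈ closure S) → ∀ v, Rel A ω ε (a * b) v → v ∈ closure S := by
    rintro a b ha hb v ⟨g, h1, h2⟩
    rw [hR.smul_mul (v := tr ε g a)] at h2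
    rw [← ε.injective h2]
    exact mul_mem (ha _ (rel_tr ε h1 a)) (hb _ (rel_tr ε (hR.stab (tr_spec ε g a).symm) b))
  have hone : ∀ v, Rel A ω ε 1 v → v ∈ closure S := fun v hv => hR.eq_one_of_rel hv ▸ one_mem _
  have hcl : ∀ a ∈ closure S, ∀ v, Rel A ω ε a v → v ∈ closure S := by
    intro a ha
    induction ha using closure_induction with
    | mem x hx => exact fun v hv => subset_closure (hS x hx v hv)
    | one => exact hone
    | mul a b _ _ ha hb => exact hmul a b ha hb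
    | inv a _ ha =>
      have hpow : ∀ n : ℕ, ∀ v, Rel A ω ε (a ^ n) v → v ∈ closure S := by
        intro n
        induction n with
        | zero => rw [pow_zero]; exact hone
        | succ n ih => rw [pow_succ]; exact hmul _ _ ih ha
      have e : a⁻¹ = a ^ (orderOf a - 1) := by
        rw [inv_eq_iff_mul_eq_one, ← pow_succ', Nat.sub_add_cancel (orderOf_pos a),
          pow_orderOf_eq_one]
      rw [e]; exact hpow _
  have hfin : (ε '' (closure S : Set C)).Finite := (Set.toFinite _).image _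
  have hJ := hgen (stabilizer A (ε '' (closure S : Set C))) ?_ ?_
  · rw [eq_top_iff]
    intro u _
    have h1 : ι u ∈ stabilizer A (ε '' (closure S : Set C)) := hJ ▸ mem_top _
    have h2 : ι u • ε 1 ∈ ε '' (closure S : Set C) := by
      rw [← mem_stabilizer_iff.1 h1]
      exact Set.smul_mem_smul_set ⟨1, one_mem _, rfl⟩
    rw [← hR.mul, mul_one] at h2
    obtain ⟨v, hv, e⟩ := h2
    exact (closure_le L).2 hL (ε.injective e ▸ hv)
  · intro g hg
    rw [mem_stabilizer_set_iff_smul_set_subset hfin]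
    rintro _ ⟨_, ⟨a, ha, rfl⟩, rfl⟩
    exact ⟨_, hcl a ha _ (rel_tr ε hg a), tr_spec ε g a⟩
  · rw [mem_stabilizer_set_iff_smul_set_subset hfin]
    rintro _ ⟨_, ⟨a, ha, rfl⟩, rfl⟩
    exact ⟨z * a, mul_mem (zpowers_le.2 (subset_closure hs) (hz s hs1)) ha, hR.mul z a⟩

/-- A nontrivial basic set is not invariant under `z`. -/
theorem exists_not_rel (hgen : ∀ J : Subgroup A, stabilizer A ω ≤ J → ι z ∈ J → J = ⊤) {t : C}
    (ht : t ≠ 1) : ∃ u, Rel A ω ε t u ∧ ¬ Rel A ω ε t (z * u) := by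
  by_contra hc
  push Not at hc
  have hfin : (ε '' {u | Rel A ω ε t u}).Finite := (Set.toFinite _).image _
  have hJ := hgen (stabilizer A (ε '' {u | Rel A ω ε t u})) ?_ ?_
  · have h1 : ι t⁻¹ ∈ stabilizer A (ε '' {u | Rel A ω ε t u}) := hJ ▸ mem_top _
    have h2 : ι t⁻¹ • ε t ∈ ε '' {u | Rel A ω ε t u} := by
      rw [← mem_stabilizer_iff.1 h1]
      exact Set.smul_mem_smul_set ⟨t, Rel.refl t, rfl⟩
    rw [← hR.mul, inv_mul_cancel] at h2
    obtain ⟨v, hv, e⟩ := h2
    rw [ε.injective e] at hv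
    exact ht (hR.eq_one_of_rel (Rel.symm hv))
  · intro g hg
    rw [mem_stabilizer_set_iff_smul_set_subset hfin]
    rintro _ ⟨_, ⟨a, ha, rfl⟩, rfl⟩
    exact ⟨_, Rel.trans ha (rel_tr ε hg a), tr_spec ε g a⟩
  · rw [mem_stabilizer_set_iff_smul_set_subset hfin]
    rintro _ ⟨_, ⟨a, ha, rfl⟩, rfl⟩
    exact ⟨z * a, hc a ha, hR.mul z a⟩

omit [Finite C] in
/-- The number of `p`-th roots inside a union of basic sets is invariant modulo `p`. -/
theorem card_root_eq (p : ℕ) [Fact p.Prime] [DecidableEq C] (T : Finset C)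
    (hT : ∀ h : A, h • ω = ω → ∀ u, u ∈ T ↔ tr ε h u ∈ T) {u v : C} (huv : Rel A ω ε u v) :
    ((T.filter fun t => t ^ p = u).card : ZMod p) = (T.filter fun t => t ^ p = v).card := by
  classical
  let σ : A → Module.End (ZMod p) (Ω → ZMod p) := fun a => LinearMap.funLeft _ _ (a • ·)
  have hσ : ∀ a f y, σ a f y = f (a • y) := fun _ _ _ => rfl
  have hmul : ∀ a b, σ a * σ b = σ (b * a) := fun a b => by
    ext f y; simp only [σ, mul_smul, Module.End.mul_apply, LinearMap.coe_comp, Function.comp_apply,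
      LinearMap.funLeft_apply]
  have hpow : ∀ a (n : ℕ), σ a ^ n = σ (a ^ n) := fun a n => by
    induction n with
    | zero => ext f y; simp [σ]
    | succ n ih => rw [pow_succ, ih, hmul, pow_succ']
  haveI : Nonempty Ω := ⟨ω⟩
  haveI : CharP (Module.End (ZMod p) (Ω → ZMod p)) p :=
    charP_of_injective_algebraMap (algebraMap (ZMod p) _).injective p
  have hcomm : ∀ g, Commute (σ g) (∑ t ∈ T, σ (ι t)) := by
    intro g
    refine LinearMap.ext fun f => funext fun y => ?_
    obtain ⟨w, rfl⟩ := ε.surjective y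
    simp only [Module.End.mul_apply, LinearMap.sum_apply, Finset.sum_apply, hσ]
    symm
    refine Finset.sum_equiv (tr ε ((ι (tr ε g w))⁻¹ * g * ι w))
      (hT _ (hR.stab (tr_spec ε g w).symm)) fun t _ => ?_
    rw [← hR.mul, mul_comm t w, hR.smul_mul (v := tr ε g w), ← tr_spec ε g w, ← hR.mul, mul_comm]
  obtain ⟨g, h1, h2⟩ := huv
  have h3 := (hcomm g).pow_right p
  rw [sum_pow_char_of_commute p T _ fun i j => by
    show _ * _ = _ * _
    rw [hmul, hmul, ← map_mul, ← map_mul, mul_comm]] at h3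
  have h4 := congrFun (LinearMap.congr_fun h3.eq (Pi.single (ε v) 1)) ω
  simp only [Module.End.mul_apply, LinearMap.sum_apply, Finset.sum_apply, hσ, hpow, h1,
    ← map_pow, ← hR.eq, Pi.single_apply] at h4
  rw [Finset.card_filter, Finset.card_filter]
  push_cast
  rw [← h2] at h4
  simp only [smul_left_cancel_iff, EmbeddingLike.apply_eq_iff_eq] at h4
  rw [← h4, h2]
  simp only [EmbeddingLike.apply_eq_iff_eq]

omit [Finite C] in
theorem card_inter_eq [DecidableEq C] (T : Finset C)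
    (hT : ∀ h : A, h • ω = ω → ∀ u, u ∈ T ↔ tr ε h u ∈ T) {u v : C} (huv : Rel A ω ε u v) :
    (T.filter fun t => u * t ∈ T).card = (T.filter fun t => v * t ∈ T).card := by
  obtain ⟨g, h1, h2⟩ := huv
  refine Finset.card_equiv (tr ε ((ι v)⁻¹ * g * ι u)) fun t => ?_
  rw [Finset.mem_filter, Finset.mem_filter, ← hT _ (hR.stab h2), hT g h1 (u * t)]
  have : tr ε g (u * t) = v * tr ε ((ι v)⁻¹ * g * ι u) t :=
    ε.injective (by rw [tr_spec, hR.smul_mul])
  rw [this]

theorem rel_of_ne {p : ℕ} [hp : Fact p.Prime] (hzo : orderOf z = p)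
    (hz : ∀ u : C, u ≠ 1 → z ∈ zpowers u) (hE : ∀ u : C, u ^ p = 1 → u ∈ zpowers z)
    (hne : zpowers z ≠ ⊤) (hgen : ∀ J : Subgroup A, stabilizer A ω ≤ J → ι z ∈ J → J = ⊤)
    {x y : C} (hx : x ≠ 1) (hy : y ≠ 1) : Rel A ω ε x y := by
  classical
  haveI := Fintype.ofFinite C
  let T : C → Finset C := fun t => Finset.univ.filter (Rel A ω ε t)
  have hmem : ∀ t u, u ∈ T t ↔ Rel A ω ε t u := fun t u => by simp [T]
  have hT : ∀ t, ∀ h : A, h • ω = ω → ∀ u, u ∈ T t ↔ tr ε h u ∈ T t := fun t h hh u => by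
    rw [hmem, hmem]; exact rel_tr_iff ε hh t u
  have hzp : ∀ e ∈ zpowers z, e ^ p = 1 := by
    intro e he
    obtain ⟨k, rfl⟩ := mem_zpowers_iff.1 he
    rw [← zpow_natCast, ← zpow_mul, mul_comm, zpow_mul, zpow_natCast, ← hzo, pow_orderOf_eq_one,
      one_zpow]
  have hEc : (Finset.univ.filter (· ∈ zpowers z)).card = p := by
    rw [← hzo, ← Nat.card_zpowers, Nat.card_eq_fintype_card, Fintype.card_subtype]
  have hz1 : z ≠ 1 := by
    rintro rfl
    exact hp.out.one_lt.ne' (hzo.symm.trans orderOf_one)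
  have hpr : (powMonoidHom p : C →* C).range ≠ ⊤ := by
    intro e
    have hinj := Finite.injective_iff_surjective.2 (MonoidHom.range_eq_top.1 e)
    exact hz1 (hinj (by simpa using hzp z (mem_zpowers z)))
  -- (1) outside `E`, a basic set is a union of cosets of `E`
  have h1 : ∀ t u, u ∈ T t → u ∉ zpowers z → ∀ e ∈ zpowers z, e * u ∈ T t := by
    intro t u hu huE e he
    have hup : u ^ p ≠ 1 := fun h => huE (hE u h)
    have h0 : (((T t).filter fun s => s ^ p = u ^ p).card : ZMod p) = 0 := by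
      by_contra hc
      refine hpr (hR.eq_top_of_closed hz hgen
        (S := {w | (((T t).filter fun s => s ^ p = w).card : ZMod p) ≠ 0}) ?_ hc hup ?_)
      · intro a ha b hab
        show _ ≠ _
        rw [← hR.card_root_eq p (T t) (hT t) hab]
        exact ha
      · intro w hw
        obtain ⟨s, hs⟩ : ((T t).filter fun s => s ^ p = w).Nonempty := by
          rw [← Finset.card_pos, Nat.pos_iff_ne_zero]
          intro e
          exact hw (by rw [e, Nat.cast_zero])
        exact ⟨s, (Finset.mem_filter.1 hs).2⟩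
    have hd := (ZMod.natCast_eq_zero_iff _ _).1 h0
    have hsub : ((T t).filter fun s => s ^ p = u ^ p) ⊆
        (Finset.univ.filter (· ∈ zpowers z)).image (· * u) := by
      intro s hs
      refine Finset.mem_image.2 ⟨s * u⁻¹, Finset.mem_filter.2 ⟨Finset.mem_univ _, hE _ ?_⟩, by simp⟩
      rw [mul_pow, (Finset.mem_filter.1 hs).2, inv_pow, mul_inv_cancel]
    have heq := Finset.eq_of_subset_of_card_le hsub (by
      rw [Finset.card_image_of_injective _ (mul_left_injective u), hEc]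
      exact Nat.le_of_dvd (Finset.card_pos.2 ⟨u, Finset.mem_filter.2 ⟨hu, rfl⟩⟩) hd)
    have : e * u ∈ (T t).filter fun s => s ^ p = u ^ p := by
      rw [heq]
      exact Finset.mem_image.2 ⟨e, Finset.mem_filter.2 ⟨Finset.mem_univ _, he⟩, rfl⟩
    exact (Finset.mem_filter.1 this).1
  -- (2) every nontrivial basic set meets `E`
  have h2 : ∀ t, t ≠ 1 → ∃ e ∈ zpowers z, Rel A ω ε t e := by
    intro t ht
    obtain ⟨u, hu, hu'⟩ := hR.exists_not_rel hgen ht
    refine ⟨u, ?_, hu⟩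
    by_contra huE
    exact hu' ((hmem _ _).1 (h1 t u ((hmem _ _).2 hu) huE z (mem_zpowers z)))
  -- (3) the counting argument
  have h3 : ∀ t, t ≠ 1 → Fintype.card C - 1 < 2 * (T t).card := by
    intro t ht
    set U := (T t).filter (· ∉ zpowers z) with hU
    obtain ⟨u, hu⟩ : U.Nonempty := by
      by_contra hc
      refine hne (hR.eq_top_of_closed hz hgen (S := {w | Rel A ω ε t w})
        (fun a ha b hab => Rel.trans ha hab) (Rel.refl t) ht fun w hw => ?_)
      by_contra hwE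
      exact hc ⟨w, Finset.mem_filter.2 ⟨(hmem _ _).2 hw, hwE⟩⟩
    have hUp : p ≤ U.card := by
      rw [← hEc, ← Finset.card_image_of_injective _ (mul_left_injective u)]
      refine Finset.card_le_card fun s hs => ?_
      obtain ⟨e, he, rfl⟩ := Finset.mem_image.1 hs
      have he' := (Finset.mem_filter.1 he).2
      have hu' := Finset.mem_filter.1 hu
      exact Finset.mem_filter.2 ⟨h1 t u hu'.1 hu'.2 e he',
        fun h => hu'.2 ((mul_mem_cancel_left he').1 h)⟩
    have hk : (T t).card < U.card + p := by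
      have e1 := Finset.card_filter_add_card_filter_not (s := T t) (· ∈ zpowers z)
      have e2 : ((T t).filter (· ∈ zpowers z)).card < p := by
        rw [← hEc]
        refine Finset.card_lt_card ⟨Finset.filter_subset_filter _ (Finset.subset_univ _), fun h => ?_⟩
        have := h (Finset.mem_filter.2 ⟨Finset.mem_univ _, one_mem (zpowers z)⟩)
        exact ht (hR.eq_one_of_rel ((hmem _ _).1 (Finset.mem_filter.1 this).1).symm)
      rw [← hU] at e1
      omega
    have hsum : ∑ g : C, ((T t).filter fun s => g * s ∈ T t).card = (T t).card * (T t).card := by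
      simp only [Finset.card_filter]
      rw [Finset.sum_comm, Finset.sum_congr rfl (g := fun _ => (T t).card), Finset.sum_const,
        smul_eq_mul]
      intro s _
      rw [← Finset.card_filter]
      exact Finset.card_equiv (Equiv.mulRight s) fun g => by simp
    have hlow : ∀ g ∈ Finset.univ.erase (1 : C),
        U.card ≤ ((T t).filter fun s => g * s ∈ T t).card := by
      intro g hg
      obtain ⟨e, he, hge⟩ := h2 g (Finset.ne_of_mem_erase hg)
      rw [hR.card_inter_eq (T t) (hT t) hge]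
      refine Finset.card_le_card fun s hs => ?_
      have hs' := Finset.mem_filter.1 hs
      exact Finset.mem_filter.2 ⟨hs'.1, h1 t s hs'.1 hs'.2 e he⟩
    have h4 := Finset.card_nsmul_le_sum _ _ _ hlow
    rw [Finset.card_erase_of_mem (Finset.mem_univ _), Finset.card_univ, smul_eq_mul] at h4
    have h5 := Finset.add_sum_erase Finset.univ
      (fun g : C => ((T t).filter fun s => g * s ∈ T t).card) (Finset.mem_univ (1 : C))
    rw [hsum] at h5
    by_contra hc
    have h6 : 2 * (T t).card * U.card ≤ (Fintype.card C - 1) * U.card :=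
      Nat.mul_le_mul_right _ (not_lt.1 hc)
    have h7 : 0 < (T t).card := Finset.card_pos.2 ⟨t, (hmem _ _).2 (Rel.refl t)⟩
    have h8 : (T t).card * (2 * U.card) ≤ (T t).card * (T t).card := by nlinarith
    have h9 := Nat.le_of_mul_le_mul_left h8 h7
    omega
  by_contra hxy
  have hdisj : Disjoint (T x) (T y) := by
    rw [Finset.disjoint_left]
    intro u hu hu'
    exact hxy (((hmem _ _).1 hu).trans ((hmem _ _).1 hu').symm)
  have hsub : T x ∪ T y ⊆ Finset.univ.erase 1 := by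
    intro u hu
    refine Finset.mem_erase.2 ⟨?_, Finset.mem_univ _⟩
    rintro rfl
    rcases Finset.mem_union.1 hu with h | h
    · exact hx (hR.eq_one_of_rel ((hmem _ _).1 h).symm)
    · exact hy (hR.eq_one_of_rel ((hmem _ _).1 h).symm)
  have h4 := Finset.card_le_card hsub
  rw [Finset.card_union_of_disjoint hdisj, Finset.card_erase_of_mem (Finset.mem_univ _),
    Finset.card_univ] at h4
  have := h3 x hx
  have := h3 y hy
  omega

end Reg

section Cyclic

variable {p m : ℕ} [hp : Fact p.Prime] {c : A}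

theorem orderOf_pow_pred (hm : 1 ≤ m) (hc : orderOf c = p ^ m) :
    orderOf (c ^ p ^ (m - 1)) = p := by
  obtain ⟨k, rfl⟩ : ∃ k, m = k + 1 := ⟨m - 1, by omega⟩
  rw [orderOf_pow' _ (pow_pos hp.out.pos _).ne', hc, Nat.add_sub_cancel,
    Nat.gcd_eq_right (pow_dvd_pow p (Nat.le_succ k)), pow_succ,
    Nat.mul_div_cancel_left _ (pow_pos hp.out.pos _)]

theorem mem_zpowers_of_pow_eq_one (hm : 1 ≤ m) (hc : orderOf c = p ^ m) {u : A}
    (hu : u ∈ zpowers c) (hup : u ^ p = 1) : u ∈ zpowers (c ^ p ^ (m - 1)) := by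
  obtain ⟨k, rfl⟩ : ∃ k, m = k + 1 := ⟨m - 1, by omega⟩
  obtain ⟨i, rfl⟩ := mem_zpowers_iff.1 hu
  rw [← zpow_natCast, ← zpow_mul, ← orderOf_dvd_iff_zpow_eq_one, hc] at hup
  push_cast at hup
  rw [pow_succ] at hup
  obtain ⟨j, hj⟩ := Int.dvd_of_mul_dvd_mul_right (by exact_mod_cast hp.out.ne_zero) hup
  refine mem_zpowers_iff.2 ⟨j, ?_⟩
  rw [hj, zpow_mul, Nat.add_sub_cancel, ← zpow_natCast c]
  push_cast
  rfl

theorem pow_pred_mem_zpowers (hm : 1 ≤ m) (hc : orderOf c = p ^ m) {u : A}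
    (hu : u ∈ zpowers c) (hu1 : u ≠ 1) : c ^ p ^ (m - 1) ∈ zpowers u := by
  obtain ⟨j, -, hj⟩ := (Nat.dvd_prime_pow hp.out).1 (hc ▸ orderOf_dvd_of_mem_zpowers hu)
  have hj1 : 1 ≤ j := by
    rcases j with _ | j
    · exact absurd (orderOf_eq_one_iff.1 hj) hu1
    · omega
  have h1 := orderOf_pow_pred hj1 hj
  have h2 : u ^ p ^ (j - 1) ∈ zpowers (c ^ p ^ (m - 1)) :=
    mem_zpowers_of_pow_eq_one hm hc (pow_mem hu _) (orderOf_dvd_iff_pow_eq_one.1 h1.dvd)
  have h3 : Nat.card (zpowers (c ^ p ^ (m - 1))) = p := by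
    rw [Nat.card_zpowers, orderOf_pow_pred hm hc]
  have h4 := mem_zpowers_of_prime_card h3 (g := ⟨_, h2⟩) (g' := ⟨_, mem_zpowers _⟩) (by
    intro e
    have : u ^ p ^ (j - 1) = 1 := congrArg Subtype.val e
    rw [this, orderOf_one] at h1
    exact hp.out.one_lt.ne h1)
  obtain ⟨i, hi⟩ := mem_zpowers_iff.1 h4
  rw [← show (u ^ p ^ (j - 1)) ^ i = c ^ p ^ (m - 1) from congrArg Subtype.val hi]
  exact zpow_mem (pow_mem (mem_zpowers u) _) _

theorem bijective_of_cyclic [Finite Ω] (hm : 1 ≤ m) (hc : orderOf c = p ^ m)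
    (hΩ : Nat.card Ω = p ^ m) {ω : Ω} (hω : c ^ p ^ (m - 1) • ω ≠ ω) :
    Function.Bijective fun u : zpowers c => (u : A) • ω := by
  refine (Nat.bijective_iff_injective_and_card _).2 ⟨?_, by rw [Nat.card_zpowers, hc, hΩ]⟩
  intro u v huv
  by_contra hne
  have h1 : ((v⁻¹ * u : zpowers c) : A) ≠ 1 := fun e =>
    hne (inv_mul_eq_one.1 (Subtype.ext e)).symm
  have h2 : ((v⁻¹ * u : zpowers c) : A) ∈ stabilizer A ω := by
    have huv' : (u : A) • ω = (v : A) • ω := huv
    rw [mem_stabilizer_iff, coe_mul, mul_smul, huv', coe_inv, inv_smul_smul]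
  exact hω (zpowers_le.2 h2 (pow_pred_mem_zpowers hm hc (v⁻¹ * u).2 h1))

/-- **Burnside-Schur**: if a cyclic group of order `p ^ m`, `m ≥ 2`, is regular and the normal
closure of its subgroup of order `p` is transitive, then the action is doubly transitive. -/
theorem two_trans_of_cyclic [Finite Ω] (hm : 2 ≤ m) (hc : orderOf c = p ^ m)
    (hΩ : Nat.card Ω = p ^ m) {ω : Ω} (hω : c ^ p ^ (m - 1) • ω ≠ ω)
    (hN : ∀ x : Ω, ∃ n ∈ normalClosure ({c ^ p ^ (m - 1)} : Set A), n • ω = x)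
    {x y : Ω} (hx : x ≠ ω) (hy : y ≠ ω) : ∃ h : A, h • ω = ω ∧ h • x = y := by
  have hm1 : 1 ≤ m := by omega
  have hb := bijective_of_cyclic hm1 hc hΩ hω
  haveI : Finite (zpowers c) := Finite.of_injective _ hb.1
  letI : CommGroup (zpowers c) := IsCyclic.commGroup
  let ε : zpowers c ≃ Ω := Equiv.ofBijective _ hb
  have hR : Reg (zpowers c).subtype ω ε := ⟨fun _ => rfl⟩
  let z : zpowers c := ⟨c ^ p ^ (m - 1), pow_mem (mem_zpowers c) _⟩
  have hmem : ∀ u v : zpowers c, (u : A) ∈ zpowers (v : A) → u ∈ zpowers v := by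
    intro u v h
    obtain ⟨i, hi⟩ := mem_zpowers_iff.1 h
    exact mem_zpowers_iff.2 ⟨i, Subtype.ext hi⟩
  have hzo : orderOf z = p := by rw [← Subgroup.orderOf_coe]; exact orderOf_pow_pred hm1 hc
  have h1 := hR.rel_of_ne (z := z) hzo
    (fun u hu => hmem _ _ (pow_pred_mem_zpowers hm1 hc u.2 fun e => hu (Subtype.ext e)))
    (fun u hu => hmem _ _ (mem_zpowers_of_pow_eq_one hm1 hc u.2 (congrArg Subtype.val hu)))
    ?_ ?_ (x := ε.symm x) (y := ε.symm y) ?_ ?_
  · obtain ⟨h, h2, h3⟩ := h1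
    exact ⟨h, h2, by simpa using h3⟩
  · intro e
    have h2 := congrArg (fun H : Subgroup (zpowers c) => Nat.card H) e
    simp only [Nat.card_zpowers, card_top, hzo, hc] at h2
    have := Nat.pow_lt_pow_right hp.out.one_lt (show 1 < m by omega)
    rw [pow_one] at this
    omega
  · intro J hJ hzJ
    have hle : normalClosure ({c ^ p ^ (m - 1)} : Set A) ≤ J := by
      refine (closure_le J).2 fun w hw => ?_
      obtain ⟨_, rfl, hw⟩ := Group.mem_conjugatesOfSet_iff.1 hw
      obtain ⟨g, rfl⟩ := isConj_iff.1 hw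
      obtain ⟨u, hu⟩ := hb.2 (g⁻¹ • ω)
      have hu' : (u : A) • ω = g⁻¹ • ω := hu
      have h2 : g * u ∈ J := hJ (by rw [mem_stabilizer_iff, mul_smul, hu', smul_inv_smul])
      have h3 : (u : A) * c ^ p ^ (m - 1) = c ^ p ^ (m - 1) * u :=
        congrArg Subtype.val (mul_comm u z)
      have e : g * c ^ p ^ (m - 1) * g⁻¹ = g * u * c ^ p ^ (m - 1) * (g * u)⁻¹ := by
        rw [mul_assoc g u, h3]; group
      rw [SetLike.mem_coe, e]
      exact mul_mem (mul_mem h2 hzJ) (inv_mem h2)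
    rw [eq_top_iff]
    intro g _
    obtain ⟨n, hn, e⟩ := hN (g • ω)
    have h2 : n⁻¹ * g ∈ J := hJ (by rw [mem_stabilizer_iff, mul_smul, ← e, inv_smul_smul])
    simpa using mul_mem (hle hn) h2
  · intro e
    exact hx (by rw [← ε.apply_symm_apply x, e, hR.one])
  · intro e
    exact hy (by rw [← ε.apply_symm_apply y, e, hR.one])

end Cyclic

end CL.BG
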