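/-
Groups in which normalizers of `{p, q}`-subgroups are maximal: abstract reductions.
-/
import Mathlib
import Cfsg.Agent.FGS.SolvRad
import Cfsg.Agent.SOLV.Hall
import Cfsg.Agent.SOLV.MinNormal
import Cfsg.Agent.CHAR.Burnside
import Cfsg.Prelude.Def_CaseTheorems

set_option autoImplicit false

namespace CL.MaxN

open Subgroup Cfsg
open scoped Pointwise

variable {G : Type*} [Group G]

/-- at most two primes divide the order of `H`. -/
def PQ (H : Subgroup G) : Prop :=
  ∃ p q : ℕ, p.Prime ∧ q.Prime ∧ ∀ r : ℕ, r.Prime → r ∣ Nat.card H → r = p ∨ r = q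

theorem PQ.of_dvd {H : Subgroup G} {p q a b : ℕ} (hp : p.Prime) (hq : q.Prime)
    (h : Nat.card H ∣ p ^ a * q ^ b) : PQ H :=
  ⟨p, q, hp, hq, fun r hr hd => ((Nat.Prime.dvd_mul hr).1 (hd.trans h)).imp
    (fun e => (Nat.prime_dvd_prime_iff_eq hr hp).1 (hr.dvd_of_dvd_pow e))
    (fun e => (Nat.prime_dvd_prime_iff_eq hr hq).1 (hr.dvd_of_dvd_pow e))⟩

theorem PQ.solv [Finite G] {H : Subgroup G} (h : PQ H) : Group.IsSolvable H := by
  obtain ⟨p, q, hp, hq, h⟩ := h
  exact CL.Char.isSolvable_of_primes_subset_pair hp hq h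

theorem PQ.of_card_dvd {G' : Type*} [Group G'] {H : Subgroup G} (h : PQ H) {K : Subgroup G'}
    (hK : Nat.card K ∣ Nat.card H) : PQ K := by
  obtain ⟨p, q, hp, hq, h⟩ := h
  exact ⟨p, q, hp, hq, fun r hr hd => h r hr (hd.trans hK)⟩

theorem pq_zpowers {x : G} {p q a b : ℕ} (hp : p.Prime) (hq : q.Prime)
    (h : x ^ (p ^ a * q ^ b) = 1) : PQ (zpowers x) :=
  PQ.of_dvd hp hq (by rw [Nat.card_zpowers]; exact orderOf_dvd_of_pow_eq_one h)

theorem pq_of_isPGroup [Finite G] {p : ℕ} (hp : p.Prime) {H : Subgroup G} (h : IsPGroup p H) :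
    PQ H := by
  have := Fact.mk hp
  obtain ⟨n, hn⟩ := IsPGroup.iff_card.1 h
  exact PQ.of_dvd (a := n) (b := 0) hp hp (by simp [hn])

theorem pq_sup [Finite G] {p q : ℕ} (hp : p.Prime) (hq : q.Prime) {Q R : Subgroup G}
    (hQ : IsPGroup p Q) (hR : IsPGroup q R) (h : R ≤ normalizer (Q : Set G)) : PQ (Q ⊔ R) := by
  have := Fact.mk hp
  have := Fact.mk hq
  obtain ⟨n, hn⟩ := IsPGroup.iff_card.1 hQ
  obtain ⟨m, hm⟩ := IsPGroup.iff_card.1 hR
  refine PQ.of_dvd (a := m) (b := n) hq hp ?_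
  rw [sup_comm, ← hn, ← hm]
  exact card_sup_dvd_mul_of_le_normalizer h

theorem mem_norm_closure [Finite G] {s : Set G} {g : G} (h : ∀ x ∈ s, g * x * g⁻¹ ∈ closure s) :
    g ∈ normalizer (closure s : Set G) := by
  refine mem_normalizer_fintype fun n hn => ?_
  have : closure s ≤ (closure s).comap (MulAut.conj g).toMonoidHom := (closure_le _).2 h
  exact this hn

theorem mem_norm_zpowers [Finite G] {a g : G} (h : g * a * g⁻¹ ∈ zpowers a) :
    g ∈ normalizer (zpowers a : Set G) := by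
  rw [zpowers_eq_closure] at h ⊢
  exact mem_norm_closure (by simpa using h)

theorem mem_of_sup [Finite G] {Q R : Subgroup G} (h : R ≤ normalizer (Q : Set G)) {x : G}
    (hx : x ∈ Q ⊔ R) (hc : (orderOf x).Coprime (Nat.card R)) : x ∈ Q := by
  have := normal_subgroupOf_of_le_normalizer (sup_le le_normalizer h : Q ⊔ R ≤ _)
  have h1 := card_mul_relIndex_of_le (le_sup_left : Q ≤ Q ⊔ R)
  have h2 := card_sup_dvd_mul_of_le_normalizer h
  rw [sup_comm, ← h1, mul_comm (Nat.card R)] at h2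
  have h3 := Nat.dvd_of_mul_dvd_mul_left Nat.card_pos h2
  exact mem_of_coprime_index (N := Q.subgroupOf (Q ⊔ R)) (g := ⟨x, hx⟩)
    (by rw [← Subgroup.orderOf_coe]; exact hc.coprime_dvd_right h3)

/-- the hypothesis. -/
def Hyp (G : Type*) [Group G] : Prop :=
  ∀ H : Subgroup G, ¬ H.IsSubnormal → PQ H → IsCoatom (normalizer (H : Set G))

/-- the hypothesis when there are no solvable normal subgroups. -/
def HQ (G : Type*) [Group G] : Prop :=
  ∀ H : Subgroup G, H ≠ ⊥ → PQ H → IsCoatom (normalizer (H : Set G))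

theorem Hyp.norm_eq (h : Hyp G) {X : Type*} [Group X] {π : G →* X} (hπ : Function.Surjective π)
    {H : Subgroup G} (hH : PQ H) (hn : ¬ (H.map π).IsSubnormal) :
    normalizer (H : Set G) = (normalizer (H.map π : Set X)).comap π := by
  have h1 := h H (fun k => hn (k.map hπ)) hH
  refine ((h1.le_iff.1 (map_le_iff_le_comap.1 (le_normalizer_map π))).resolve_left fun e => hn ?_).symm
  have := congrArg (map π) e
  rw [map_comap_eq_self_of_surjective hπ, map_top_of_surjective _ hπ] at this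
  exact (normalizer_eq_top_iff.1 this).isSubnormal

theorem Hyp.hq [Finite G] (h : Hyp G) : HQ (G ⧸ solvableRadical G) := by
  intro K hK hp
  set π := QuotientGroup.mk' (solvableRadical G)
  have hπ : Function.Surjective π := QuotientGroup.mk'_surjective _
  have hn : ¬ K.IsSubnormal := fun k => hK (eq_bot_iff.2
    ((SR.le_solvableRadical_of_isSubnormal k hp.solv).trans (SR.solvableRadical_quotient G).le))
  obtain ⟨p, q, hp', hq, hpq⟩ := id hp
  obtain ⟨H, hH⟩ := exists_isPiHallOf {p, q} (K.comap π) (isSolvable_comap π K hp.solv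
    (by rw [QuotientGroup.ker_mk']; exact SR.isSolvable_solvableRadical G))
  have h1 := IsPiHallOf.map hH π
  rw [map_comap_eq_self_of_surjective hπ] at h1
  have h2 : H.map π = K := IsPiHallOf.eq_of_le h1 (IsPiHallOf.le h1) le_rfl fun r hr hd => hpq r hr hd
  have h3 : PQ H := ⟨p, q, hp', hq, fun r hr hd => IsPiHallOf.isPiNum hH r hr hd⟩
  have h4 := h H (fun k => hn (h2 ▸ k.map hπ)) h3
  rw [h.norm_eq hπ h3 (h2 ▸ hn), h2] at h4
  refine ⟨fun e => h4.1 (by rw [e, comap_top]), fun L hL => ?_⟩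
  have h5 := h4.2 (L.comap π) ((comap_lt_comap_of_surjective hπ).2 hL)
  rw [← map_comap_eq_self_of_surjective hπ L, h5, map_top_of_surjective _ hπ]

theorem HQ.eq_of_le (h : HQ G) {A B : Subgroup G} (hA : A ≠ ⊥) (hB : B ≠ ⊥) (pA : PQ A) (pB : PQ B)
    (hl : normalizer (A : Set G) ≤ normalizer (B : Set G)) :
    normalizer (B : Set G) = normalizer (A : Set G) :=
  ((h A hA pA).le_iff.1 hl).resolve_left (h B hB pB).1

/-- `QR` is normal in `N(Q)`. -/
def PA (G : Type*) [Group G] : Prop :=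
  ∀ (p q : ℕ) (Q R : Subgroup G), p.Prime → q.Prime → p ≠ q → IsPGroup p Q → IsPGroup q R →
    Q ≠ ⊥ → R ≤ normalizer (Q : Set G) → normalizer (Q : Set G) ≤ normalizer (↑(Q ⊔ R) : Set G)

theorem HQ.pa [Finite G] (h : HQ G) : PA G := by
  intro p q Q R hp hq hpq hQ hR h0 hl
  have := Fact.mk hp
  have := Fact.mk hq
  refine (h.eq_of_le (fun e => h0 (eq_bot_iff.2 (le_sup_left.trans e.le))) h0
    (pq_sup hp hq hQ hR hl) (pq_of_isPGroup hp hQ) fun g hg => ?_).le
  refine mem_normalizer_fintype fun x hx => mem_of_sup hl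
    ((mem_normalizer_iff.1 hg x).1 (mem_sup_left hx)) ?_
  obtain ⟨m, hm⟩ := IsPGroup.iff_card.1 hR
  obtain ⟨k, hk⟩ := IsPGroup.iff_orderOf.1 hQ ⟨x, hx⟩
  rw [← Subgroup.orderOf_coe] at hk
  have : orderOf (g * x * g⁻¹) = orderOf x :=
    (MulAut.conj g).orderOf_eq x
  rw [this, hk, hm]
  exact Nat.Coprime.pow _ _ ((Nat.coprime_primes hp hq).2 hpq)

theorem PA.of_inj (h : PA G) {X : Type*} [Group X] {f : X →* G} (hf : Function.Injective f) :
    PA X := by
  intro p q Q R hp hq hpq hQ hR h0 hl g hg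
  have h1 := h p q (Q.map f) (R.map f) hp hq hpq (hQ.map f) (hR.map f)
    (fun e => h0 ((map_eq_bot_iff_of_injective _ hf).1 e)) (map_le_normalizer_map f hl)
    (le_normalizer_map f (mem_map_of_mem f hg))
  rw [← Subgroup.map_sup] at h1
  have h2 := le_normalizer_comap f (H := (Q ⊔ R).map f) h1
  rwa [comap_map_eq_self_of_injective hf] at h2

theorem PA.isNGroup [Finite G] (h : PA G) : IsNGroup G := by
  rintro _ ⟨p, Q, hp, hQ, h0, rfl⟩
  set N := normalizer (Q : Set G)
  have := Fact.mk hp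
  have hs : Group.IsSolvable (N ⧸ solvableRadical N) := by
    refine CL.Char.isSolvable_of_primes_subset_pair hp hp fun q hq hd => Or.inl ?_
    by_contra hne
    have := Fact.mk hq
    obtain ⟨R⟩ : Nonempty (Sylow q N) := inferInstance
    have hR : IsPGroup q ((R : Subgroup N).map N.subtype) := R.2.map _
    have hl : (R : Subgroup N).map N.subtype ≤ N := map_subtype_le _
    have h1 := h p q Q _ hp hq (Ne.symm hne) hQ hR h0 hl
    have h2 := normal_subgroupOf_of_le_normalizer h1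
    have h3 := SR.le_solvableRadical (isSolvable_subgroupOf (pq_sup hp hq hQ hR hl).solv N)
    have h4 : (R : Subgroup N) ≤ solvableRadical N := fun x hx =>
      h3 (mem_sup_right (mem_map_of_mem N.subtype hx))
    exact R.not_dvd_index (hd.trans (index_dvd_of_le h4))
  have := SR.isSolvable_solvableRadical N
  exact Group.isSolvable_of_ker_le_range (solvableRadical N).subtype
    (QuotientGroup.mk' (solvableRadical N)) (by simp)

theorem PA.mem [Finite G] (h : PA G) {p q : ℕ} (hp : p.Prime) (hq : q.Prime) (hpq : p ≠ q)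
    {a b g : G} (ha : a ^ p = 1) (ha1 : a ≠ 1) (hb : b ^ q = 1) (hba : b * a * b⁻¹ ∈ zpowers a)
    (hga : g * a * g⁻¹ ∈ zpowers a) : ∃ i < p, ∃ j < q, g * b * g⁻¹ = a ^ i * b ^ j := by
  have key : ∀ {r : ℕ} {x : G}, r.Prime → x ^ r = 1 → IsPGroup r (zpowers x) := fun hr hx => by
    rintro ⟨_, n, rfl⟩
    exact ⟨1, Subtype.ext (by
      simp only [pow_one, coe_pow, coe_one]
      rw [← zpow_natCast, ← zpow_mul, mul_comm, zpow_mul, zpow_natCast, hx, one_zpow])⟩
  have fin : ∀ {r : ℕ} {x y : G}, r.Prime → x ^ r = 1 → y ∈ zpowers x → ∃ i < r, y = x ^ i :=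
    fun hr hx hy => by
      obtain ⟨n, rfl⟩ := (Submonoid.mem_powers_iff _ _).1 (mem_powers_iff_mem_zpowers.2 hy)
      exact ⟨_, Nat.mod_lt n hr.pos, pow_eq_pow_mod n hx⟩
  have hl := (zpowers_le (G := G)).2 (mem_norm_zpowers hba)
  have h1 := h p q _ _ hp hq hpq (key hp ha) (key hq hb) (by simpa using ha1) hl
    (mem_norm_zpowers hga)
  obtain ⟨y, hy, z, hz, e⟩ := (mem_sup_of_le_normalizer' hl).1
    ((mem_normalizer_iff.1 h1 b).1 (mem_sup_right (mem_zpowers b)))
  obtain ⟨i, hi, rfl⟩ := fin hp ha hy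
  obtain ⟨j, hj, rfl⟩ := fin hq hb hz
  exact ⟨i, hi, j, hj, e.symm⟩

theorem PA.comm [Finite G] (h : PA G) {p q : ℕ} (hp : p.Prime) (hq : q.Prime) (hpq : p ≠ q)
    {a b g : G} (ha : a ^ p = 1) (ha1 : a ≠ 1) (hb : b ^ q = 1) (hba : b * a = a * b)
    (hga : g * a = a * g) : g * b * g⁻¹ * b = b * (g * b * g⁻¹) := by
  obtain ⟨i, -, j, -, e⟩ := h.mem hp hq hpq ha ha1 hb (g := g) (by simp [hba]) (by simp [hga])
  rw [e]
  exact ((Commute.pow_left hba.symm i).mul_left (Commute.pow_self b j)).eq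

/-- the structure when the solvable radical is trivial. -/
theorem exists_socle [Finite G] [Nontrivial G] (h : IsNGroup G) (hR : solvableRadical G = ⊥) :
    ∃ T : Subgroup G, T.Normal ∧ IsSimpleGroup T ∧ ¬ Group.IsSolvable T ∧
      centralizer (T : Set G) = ⊥ := by
  obtain ⟨M, hM⟩ := exists_isMinNormal G
  have := hM.normal
  have := hM.nontrivial
  obtain ⟨T, hT⟩ := exists_isMinNormal M
  have := hT.normal
  have hns : ¬ Group.IsSolvable (T.map M.subtype) := fun k => hT.ne_bot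
    ((map_eq_bot_iff_of_injective _ M.subtype_injective).1 (eq_bot_iff.2
      ((SR.le_solvableRadical_of_isSubnormal (IsSubnormal.trans' (Normal.isSubnormal this)
        (Normal.isSubnormal inferInstance)) k).trans hR.le)))
  have hC : centralizer (T.map M.subtype : Set G) = ⊥ := by
    by_contra hc
    obtain ⟨p, hp, hd⟩ := Nat.exists_prime_and_dvd (mt card_eq_one.1 hc)
    have := Fact.mk hp
    obtain ⟨y, hy⟩ := exists_prime_orderOf_dvd_card' p hd
    rw [← Subgroup.orderOf_coe] at hy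
    refine hns (isSolvable_of_le ?_ (h _ ⟨p, zpowers (y : G), hp,
      IsPGroup.of_card (n := 1) (by rw [Nat.card_zpowers, hy, pow_one]),
      fun e => hp.one_lt.ne' (by rw [← hy, zpowers_eq_bot.1 e, orderOf_one]), rfl⟩))
    exact fun t ht => mem_norm_zpowers (by rw [y.2 t ht]; simp)
  have hN : (T.map M.subtype).Normal := ⟨fun x hx g => by
    let e : M ≃* M := MulAut.conjNormal g
    have h1 := hT.map_equiv e
    by_cases k : T.map (e : M →* M) = T
    · obtain ⟨t, ht, rfl⟩ := hx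
      exact ⟨e t, k ▸ mem_map_of_mem (e : M →* M) ht, rfl⟩
    · refine absurd (eq_bot_iff.2 fun y hy => ?_) h1.ne_bot
      have : (y : G) ∈ centralizer (T.map M.subtype : Set G) := by
        rintro _ ⟨t, ht, rfl⟩
        exact congrArg Subtype.val (h1.le_centralizer_of_ne hT k hy t ht)
      rw [hC] at this
      exact Subtype.ext this⟩
  have hTM : T.map M.subtype = M := hM.eq_of_le (map_subtype_le _) fun e => hns (by
    rw [e]; infer_instance)
  have hT' : T = ⊤ := map_injective M.subtype_injective (by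
    rw [hTM, ← MonoidHom.range_eq_map, range_subtype])
  rw [hTM] at hns hC
  exact ⟨M, inferInstance, ⟨fun K hK => hT' ▸ hT.eq_bot_or_eq K hK (hT' ▸ le_top)⟩, hns, hC⟩

theorem HQ.sup_eq (h : HQ G) [Finite G] {T : Subgroup G} [T.Normal] [IsSimpleGroup T]
    (hT : ¬ Group.IsSolvable T) {H : Subgroup G} (hl : H ≤ T) (h0 : H ≠ ⊥) (hH : PQ H) (g : G) :
    ∃ n ∈ normalizer (H : Set G), ∃ x ∈ T, n * x = g := by
  have h1 := h H h0 hH
  have h2 : ¬ T ≤ normalizer (H : Set G) := fun k => by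
    rcases (normal_subgroupOf_of_le_normalizer k).eq_bot_or_eq_top with e | e
    · exact h0 (by rwa [subgroupOf_eq_bot, disjoint_iff, inf_eq_left.2 hl] at e)
    · exact hT (isSolvable_of_le (subgroupOf_eq_top.1 e) hH.solv)
  have h3 : normalizer (H : Set G) ⊔ T = ⊤ :=
    h1.2 _ (left_lt_sup.2 h2)
  exact (mem_sup_of_le_normalizer le_normalizer_of_normal).1 (h3.ge (mem_top g))

/-- a fusion property of the socle. -/
def PD (T : Type*) [Group T] : Prop :=
  ∀ (a : T) (H : Subgroup T), a ≠ 1 → a ∈ H → PQ H →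
    (∀ x, x * a * x⁻¹ ∈ H → x ∈ normalizer (H : Set T)) →
      ∀ x ∈ normalizer (H : Set T), x * a * x⁻¹ ∈ zpowers a

theorem HQ.pd (h : HQ G) [Finite G] {T : Subgroup G} [T.Normal] [IsSimpleGroup T]
    (hT : ¬ Group.IsSolvable T) : PD T := by
  intro a H ha haH hH hx x hn
  have ha' : (a : G) ≠ 1 := fun e => ha (Subtype.ext e)
  have hm : (a : G) ∈ H.map T.subtype := mem_map_of_mem T.subtype haH
  have h0 : H.map T.subtype ≠ ⊥ := fun e => ha' (mem_bot.1 (e ▸ hm))
  have hH' : PQ (H.map T.subtype) := hH.of_card_dvd (card_map_dvd _ _)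
  have h1 := h.eq_of_le (A := zpowers (a : G)) (by simpa using ha) h0
    (hH'.of_card_dvd (card_dvd_of_le ((zpowers_le (G := G)).2 hm))) hH' fun g hg => by
      obtain ⟨n, hn, y, hy, rfl⟩ := h.sup_eq hT (map_subtype_le H) h0 hH' g
      have h2 := (zpowers_le (G := G)).2 hm ((mem_normalizer_iff.1 hg _).1 (mem_zpowers (a : G)))
      have h3 : y * a * y⁻¹ ∈ H.map T.subtype :=
        (mem_normalizer_iff.1 hn _).2 (by simpa [mul_assoc] using h2)
      obtain ⟨z, hz, e⟩ := h3
      have h4 := hx ⟨y, hy⟩ (by rwa [show (⟨y, hy⟩ : T) * a * (⟨y, hy⟩ : T)⁻¹ = z from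
        Subtype.ext e.symm])
      exact mul_mem hn (le_normalizer_map T.subtype (mem_map_of_mem _ h4))
  have h2 := h1.le (le_normalizer_map T.subtype (mem_map_of_mem _ hn))
  obtain ⟨k, hk⟩ := (mem_normalizer_iff.1 h2 _).1 (mem_zpowers (a : G))
  exact ⟨k, Subtype.ext (by simpa using hk)⟩

end CL.MaxN
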