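/-
Witnesses in `PSL₂(q)`, `PSL₃(3)` and `Sz(q)`: a non-nilpotent subgroup of order prime to `p > 3`
(`NN`), and an involution and an element of odd prime order generating a nonsolvable group (`IP`).
-/
import Mathlib
import Cfsg.Agent.FGS.MinTriple
import Cfsg.Agent.SOLV.PiSep
import Cfsg.Agent.SOLV.MinNormal
import Cfsg.Agent.SOLV.Fitting
import Cfsg.Agent.CLAS.SLBasic

set_option autoImplicit false
set_option linter.style.haveILetI false

open Subgroup Cfsg CL.GL2 CL.MinTr Matrix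
open scoped MatrixGroups

namespace CL.MinW

variable {G : Type*} [Group G]

/-- a subgroup of order prime to `p` that is not nilpotent. -/
def NN (p : ℕ) (G : Type*) [Group G] : Prop :=
  ∃ K : Subgroup G, (Nat.card K).Coprime p ∧ ¬ Group.IsNilpotent K

theorem NN.of_comm [Finite G] {p : ℕ} {K : Subgroup G} (hK : (Nat.card K).Coprime p) {a b : G}
    (ha : a ∈ K) (hb : b ∈ K) (h : (orderOf a).Coprime (orderOf b)) (hab : a * b ≠ b * a) :
    NN p G := by
  refine ⟨K, hK, fun hn => hab ?_⟩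
  exact congrArg Subtype.val (commute_of_coprime_of_isNilpotent (G := K) (x := ⟨a, ha⟩)
    (y := ⟨b, hb⟩) (by simpa using h)).eq

theorem NN.of_dih [Finite G] {p : ℕ} (hp : p.Prime) (hp2 : p ≠ 2) {t y : G} {n : ℕ} (ht : t * t = 1)
    (hy : y ^ n = 1) (hn : Odd n) (hnp : n.Coprime p) (hty : t * y * t = y⁻¹) (hy1 : y ≠ 1) :
    NN p G := by
  have hti : t⁻¹ = t := inv_eq_of_mul_eq_one_right ht
  have h2 : orderOf t ∣ 2 := orderOf_dvd_of_pow_eq_one (by rw [pow_two, ht])
  have h3 : orderOf y ∣ n := orderOf_dvd_of_pow_eq_one hy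
  have hc : ∀ x ∈ zpowers y, t * x * t⁻¹ ∈ zpowers y := by
    rintro _ ⟨k, rfl⟩
    refine ⟨-k, ?_⟩
    simp only
    rw [← conj_zpow, hti, hty, _root_.zpow_neg, _root_.inv_zpow]
  have h1 : zpowers t ≤ normalizer (zpowers y : Set G) := by
    rw [zpowers_le, mem_normalizer_iff]
    refine fun x => ⟨hc x, fun hx => ?_⟩
    have := hc _ hx
    rwa [hti, show t * (t * x * t) * t = (t * t) * x * (t * t) by group, ht, one_mul, mul_one] at this
  have h4 := card_sup_dvd_mul_of_le_normalizer h1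
  rw [Nat.card_zpowers, Nat.card_zpowers] at h4
  have h5 : (2 : ℕ).Coprime n := (Nat.coprime_two_left).2 hn
  refine NN.of_comm (K := zpowers t ⊔ zpowers y) (Nat.Coprime.coprime_dvd_left
    (h4.trans (mul_dvd_mul h2 h3)) (Nat.Coprime.mul_left ((Nat.coprime_primes Nat.prime_two hp).2
    hp2.symm) hnp)) (mem_sup_left (mem_zpowers t)) (mem_sup_right (mem_zpowers y))
    ((h5.coprime_dvd_left h2).coprime_dvd_right h3) fun e => hy1 ?_
  rw [e, mul_assoc, ht, mul_one] at hty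
  have h6 : orderOf y ∣ 2 := orderOf_dvd_of_pow_eq_one (by
    rw [pow_two]; nth_rewrite 1 [hty]; exact inv_mul_cancel y)
  exact orderOf_eq_one_iff.1 (Nat.eq_one_of_dvd_coprimes h5 h6 h3)

theorem NN.lift [Finite G] {X : Type*} [Group X] {p : ℕ} (hp : p.Prime) (h : NN p X) (f : G →* X)
    (hf : Function.Surjective f) (hk : Group.IsSolvable f.ker) : NN p G := by
  obtain ⟨K, hK, hn⟩ := h
  have : Finite X := Finite.of_surjective f hf
  let φ : K.comap f →* K := f.subgroupComap K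
  have hφ : Function.Surjective φ := f.subgroupComap_surjective_of_surjective K hf
  have hk' : Group.IsSolvable φ.ker := by
    let ι : φ.ker →* f.ker := ((K.comap f).subtype.comp φ.ker.subtype).codRestrict f.ker
      fun x => congrArg Subtype.val (MonoidHom.mem_ker.1 x.2)
    exact Group.isSolvable_of_isSolvable_injective (f := ι) fun a b e =>
      Subtype.ext (Subtype.ext (congrArg (fun z : f.ker => (z : G)) e))
  have hi : φ.ker.index = Nat.card K := by
    rw [Subgroup.index_ker, MonoidHom.range_eq_top.2 hφ, card_top]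
  have hπ : IsPiNum {p}ᶜ (Nat.card K) := fun r hr h1 e => by
    obtain rfl : r = p := e
    exact hr.one_lt.ne' (Nat.eq_one_of_dvd_coprimes hK h1 dvd_rfl)
  obtain ⟨L, hL, -⟩ := exists_isPiHall_ge_of_isSolvable_of_index (π := {p}ᶜ) φ.ker hk' (hi ▸ hπ)
    (K := ⊥) (by simpa using IsPiNum.one _)
  have h1 := CL.IsPiHall.map hL hφ
  have h2 : L.map φ = ⊤ := by
    rw [← index_eq_one]
    by_contra e
    obtain ⟨r, hr, h3⟩ := Nat.exists_prime_and_dvd e
    exact h1.2 r hr (hπ r hr (h3.trans (index_dvd_card _))) h3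
  refine ⟨L.map (K.comap f).subtype, ?_, fun h3 => hn ?_⟩
  · rw [card_map_of_injective (subtype_injective _)]
    exact ((Nat.Prime.coprime_iff_not_dvd hp).2 fun h3 => hL.1 p hp h3 rfl).symm
  · have h4 : Group.IsNilpotent L :=
      Group.nilpotent_of_mulEquiv (equivMapOfInjective L _ (subtype_injective _)).symm
    refine Group.nilpotent_of_surjective (φ.comp L.subtype) fun y => ?_
    obtain ⟨x, hx, e⟩ : y ∈ L.map φ := h2 ▸ mem_top y
    exact ⟨⟨x, hx⟩, e⟩

theorem NN.of_equiv [Finite G] {X : Type*} [Group X] {p : ℕ} (hp : p.Prime) (h : NN p X)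
    (e : G ≃* X) : NN p G :=
  h.lift hp e.toMonoidHom e.surjective (by
    rw [(MonoidHom.ker_eq_bot_iff _).2 e.injective]; infer_instance)

theorem NN.of_subgroup {p : ℕ} {H : Subgroup G} (h : NN p H) : NN p G := by
  obtain ⟨K, hK, hn⟩ := h
  exact ⟨K.map H.subtype, by rwa [card_map_of_injective (subtype_injective _)], fun _ =>
    hn (Group.nilpotent_of_mulEquiv (equivMapOfInjective K _ (subtype_injective _)).symm)⟩

/-- an involution and an element of odd prime order that generate a nonsolvable group. -/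
def IP (G : Type*) [Group G] : Prop :=
  ∃ (y x : G) (r : ℕ), r.Prime ∧ r ≠ 2 ∧ orderOf x = r ∧ y * y = 1 ∧
    ¬ Group.IsSolvable (closure ({y, x} : Set G))

theorem not_solvable_map {X : Type*} [Group X] (f : G →* X) {a b : G}
    (h : ¬ Group.IsSolvable (closure ({f a, f b} : Set X))) :
    ¬ Group.IsSolvable (closure ({a, b} : Set G)) := fun hs => h (by
  have e : closure ({f a, f b} : Set X) = (closure ({a, b} : Set G)).map f := by
    rw [MonoidHom.map_closure, Set.image_pair]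
  rw [e]
  exact Group.isSolvable_of_surjective (f.subgroupMap_surjective _))

theorem IP.of_equiv {X : Type*} [Group X] (h : IP X) (e : G ≃* X) : IP G := by
  obtain ⟨y, x, r, hr, h2, hx, hy, hn⟩ := h
  refine ⟨e.symm y, e.symm x, r, hr, h2, by rw [← hx]; exact e.symm.orderOf_eq x,
    by rw [← map_mul, hy, map_one], not_solvable_map e.toMonoidHom (by
      rwa [MulEquiv.coe_toMonoidHom, e.apply_symm_apply, e.apply_symm_apply])⟩

theorem solvable_of_conj {y x : G} (hy : y * y = 1)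
    (h : Group.IsSolvable (closure ({x, y * x * y⁻¹} : Set G))) :
    Group.IsSolvable (closure ({y, x} : Set G)) := by
  obtain ⟨K, hK⟩ : ∃ K, K = closure ({x, y * x * y⁻¹} : Set G) := ⟨_, rfl⟩
  have hyi : y⁻¹ = y := inv_eq_of_mul_eq_one_right hy
  have hcc : ∀ z : G, y * (y * z * y⁻¹) * y⁻¹ = z := fun z => by
    rw [hyi, show y * (y * z * y) * y = (y * y) * z * (y * y) by group, hy, one_mul, mul_one]
  have hx : x ∈ K := hK ▸ subset_closure (by simp)
  have hx' : y * x * y⁻¹ ∈ K := hK ▸ subset_closure (by simp)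
  have hc : ∀ z ∈ K, y * z * y⁻¹ ∈ K := by
    have : K ≤ K.comap (MulAut.conj y).toMonoidHom := by
      nth_rewrite 1 [hK]
      rw [closure_le]
      rintro z (rfl | rfl)
      · exact hx'
      · change y * (y * x * y⁻¹) * y⁻¹ ∈ K
        rwa [hcc]
    exact fun z hz => this hz
  have h1 : zpowers y ≤ normalizer (K : Set G) := by
    rw [zpowers_le, mem_normalizer_iff]
    exact fun z => ⟨hc z, fun hz => hcc z ▸ hc _ hz⟩
  have h2 : Group.IsSolvable (zpowers y) := by
    exact Group.isSolvable_of_comm fun ⟨_, a, rfl⟩ ⟨_, b, rfl⟩ => Subtype.ext (zpow_mul_comm y a b)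
  have h3 := isSolvable_sup_of_le_normalizer h1 h2 (hK ▸ h)
  have h4 : closure ({y, x} : Set G) ≤ zpowers y ⊔ K := by
    rw [closure_le]
    rintro z (rfl | rfl)
    · exact mem_sup_left (mem_zpowers _)
    · exact mem_sup_right hx
  exact Group.isSolvable_of_isSolvable_injective (inclusion_injective h4)

section PSL2
variable {F : Type*} [Field F] [Fintype F] [DecidableEq F]

theorem odd_card (h2 : (2 : F) ≠ 0) : Fintype.card F % 2 = 1 := by
  by_contra h
  exact h2 (two_eq_zero_of_even (by omega))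

theorem exists_quad (h2 : (2 : F) ≠ 0) {c : F} (hc : c ≠ 0) (a b d : F) :
    ∃ x y : F, x ^ 2 + a * x + b + (c * y ^ 2 + d * y) = 0 := by
  obtain ⟨x, y, h⟩ := FiniteField.exists_root_sum_quadratic
    (f := Polynomial.C 1 * Polynomial.X ^ 2 + Polynomial.C a * Polynomial.X + Polynomial.C b)
    (g := Polynomial.C c * Polynomial.X ^ 2 + Polynomial.C d * Polynomial.X + Polynomial.C 0)
    (Polynomial.degree_quadratic one_ne_zero) (Polynomial.degree_quadratic hc) (odd_card h2)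
  exact ⟨x, y, by simpa using h⟩

omit [Fintype F] [DecidableEq F] in
theorem exists_sl2 {R : Type*} [CommRing R] (a b c d : R) (h : a * d - b * c = 1) :
    ∃ g : SL(2, R), (g : Matrix (Fin 2) (Fin 2) R) = !![a, b; c, d] :=
  ⟨⟨_, by rw [det_fin_two_of, h]⟩, rfl⟩

theorem exists_sl23 : ∃ a b : SL(2, ZMod 3), a ^ 3 = 1 ∧ b ^ 4 = 1 ∧ (a * b).1 0 0 = -1 ∧
    (b * a).1 0 0 = 0 :=
  ⟨⟨!![1, 1; 0, 1], by decide +kernel⟩, ⟨!![0, 1; -1, 0], by decide +kernel⟩, by decide +kernel,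
    by decide +kernel, by decide +kernel, by decide +kernel⟩

theorem nn_psl2 {p : ℕ} (hp : p.Prime) (hp3 : 3 < p) : NN p PSL(2, F) := by
  have hp2 : p ≠ 2 := by omega
  have h3p : (3 : ℕ).Coprime p := (Nat.coprime_primes Nat.prime_three hp).2 (by omega)
  have h2p : (2 : ℕ).Coprime p := (Nat.coprime_primes Nat.prime_two hp).2 (by omega)
  by_cases h3 : (3 : F) = 0
  · obtain ⟨a, b, ha, hb, e1, e2⟩ := exists_sl23
    have : Fact (Nat.Prime 3) := ⟨Nat.prime_three⟩
    have : CharP F 3 := (CharP.charP_iff_prime_eq_zero Nat.prime_three).2 (by simpa using h3)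
    obtain ⟨χ⟩ : Nonempty (ZMod 3 →+* F) := ⟨ZMod.castHom (dvd_refl 3) F⟩
    let ψ : SL(2, ZMod 3) →* PSL(2, F) := (pslMk F).comp (Matrix.SpecialLinearGroup.map χ)
    have h1 : Nat.card ψ.range ∣ 2 ^ 3 * 3 := by
      have := card_range_dvd ψ
      rwa [CL.SL.card_SL_two, Nat.card_zmod] at this
    have ha : orderOf (ψ a) ∣ 3 := (orderOf_map_dvd _ _).trans (orderOf_dvd_of_pow_eq_one ha)
    have hb : orderOf (ψ b) ∣ 4 := (orderOf_map_dvd _ _).trans (orderOf_dvd_of_pow_eq_one hb)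
    refine NN.of_comm (K := ψ.range) (Nat.Coprime.coprime_dvd_left h1 ((h2p.pow_left 3).mul_left h3p))
      ⟨a, rfl⟩ ⟨b, rfl⟩ (((by norm_num : Nat.Coprime 3 4).coprime_dvd_left ha).coprime_dvd_right hb)
      fun e => ?_
    rw [← map_mul, ← map_mul] at e
    rcases pslMk_eq_iff.1 e with h | h
    · have : χ ((a * b).1 0 0) = χ ((b * a).1 0 0) := congrArg (fun g : SL(2, F) => g.1 0 0) h
      rw [e1, e2] at this
      simp at this
    · have : χ ((a * b).1 0 0) = -χ ((b * a).1 0 0) := congrArg (fun g : SL(2, F) => g.1 0 0) h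
      rw [e1, e2] at this
      simp at this
  · obtain ⟨a, b, hab⟩ : ∃ a b : F, a ^ 2 + a * b + b ^ 2 = -1 := by
      by_cases h2 : (2 : F) = 0
      · exact ⟨1, 0, by linear_combination h2⟩
      · obtain ⟨x, y, h⟩ := exists_quad h2 h3 0 4 0
        refine ⟨(x - y) / 2, y, ?_⟩
        field_simp
        linear_combination h
    obtain ⟨t, et⟩ := exists_sl2 a b (a + b) (-a) (by linear_combination -hab)
    obtain ⟨y, ey⟩ := exists_sl2 (0 : F) (-1) 1 (-1) (by ring)
    have ht : t * t = -1 := Subtype.ext (by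
      rw [Matrix.SpecialLinearGroup.coe_mul, Matrix.SpecialLinearGroup.coe_neg, et]
      ext i j
      fin_cases i <;> fin_cases j <;> simp <;> first | linear_combination hab | ring)
    have hy : y * y * y = 1 := Subtype.ext (by
      rw [Matrix.SpecialLinearGroup.coe_mul, Matrix.SpecialLinearGroup.coe_mul, ey]
      ext i j
      fin_cases i <;> fin_cases j <;> simp)
    have hty : y * t * y = t := Subtype.ext (by
      rw [Matrix.SpecialLinearGroup.coe_mul, Matrix.SpecialLinearGroup.coe_mul, ey, et]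
      ext i j
      fin_cases i <;> fin_cases j <;> simp [add_comm])
    have ht' : pslMk F t * pslMk F t = 1 := by rw [← map_mul, ht, pslMk_neg, map_one]
    refine NN.of_dih hp hp2 (n := 3) (y := pslMk F y) ht' (by rw [← map_pow, pow_three', hy, map_one])
      (by decide) h3p ?_ fun e => ?_
    · rw [eq_inv_iff_mul_eq_one]
      have : pslMk F y * pslMk F t * pslMk F y = pslMk F t := by rw [← map_mul, ← map_mul, hty]
      rw [mul_assoc, mul_assoc, ← mul_assoc (pslMk F y), this, ht']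
    · have := pslMk_eq_one_iff.1 e
      simp [IsScal, ey] at this

theorem exists_two_primes [Finite G] (hG : ¬ Group.IsSolvable G) :
    ∃ r s : ℕ, r.Prime ∧ s.Prime ∧ r ∣ Nat.card G ∧ s ∣ Nat.card G ∧ 2 ≠ r ∧ 2 ≠ s ∧ r ≠ s := by
  obtain ⟨r, hr, h1, h2, -⟩ := exists_third hG Nat.prime_two Nat.prime_two
  obtain ⟨s, hs, h3, h4, h5⟩ := exists_third hG Nat.prime_two hr
  exact ⟨r, s, hr, hs, h1, h3, h2, h4, h5⟩

theorem ip_psl2 (hG : ¬ Group.IsSolvable PSL(2, F)) : IP PSL(2, F) := by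
  obtain ⟨r, s, hr, hs, hrd, hsd, h2r, h2s, hrs⟩ := exists_two_primes hG
  have := Fact.mk hr
  have := Fact.mk hs
  obtain ⟨c, hc⟩ := exists_prime_orderOf_dvd_card' r hrd
  obtain ⟨d, hd⟩ := exists_prime_orderOf_dvd_card' s hsd
  obtain ⟨c, rfl⟩ := pslMk_surjective c
  obtain ⟨d, rfl⟩ := pslMk_surjective d
  have hc1 : pslMk F c ≠ 1 := fun e => hr.one_lt.ne (by simpa [e] using hc)
  have hd1 : pslMk F d ≠ 1 := fun e => hs.one_lt.ne (by simpa [e] using hd)
  obtain ⟨β, hβ⟩ : ∃ β, β = c.1.trace := ⟨_, rfl⟩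
  obtain ⟨γ, hγ⟩ : ∃ γ, γ = d.1.trace := ⟨_, rfl⟩
  suffices h : ∃ A B : SL(2, F), pslMk F A * pslMk F A = 1 ∧ ¬ IsScal B.1 ∧ B.1.trace = β ∧
      (A * B).1.trace = γ by
    obtain ⟨A, B, hA, hB, h1, h2⟩ := h
    have h3 := orderOf_dvd_of_trace hc1 (h1.trans hβ)
    have h4 := orderOf_dvd_of_trace hd1 (h2.trans hγ)
    rw [hc] at h3
    rw [hd, map_mul] at h4
    have h5 : orderOf (pslMk F B) = r := ((Nat.dvd_prime hr).1 h3).resolve_left fun e =>
      hB (pslMk_eq_one_iff.1 (orderOf_eq_one_iff.1 e))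
    have h6 : orderOf (pslMk F A) = 2 := orderOf_eq_prime (by rw [pow_two, hA]) fun e => by
      rw [e, one_mul, h5] at h4
      exact hrs ((Nat.prime_dvd_prime_iff_eq hr hs).1 h4)
    exact ⟨_, _, r, hr, h2r.symm, h5, hA,
      (Tr.of_prime Nat.prime_two hr hs h2r h2s hrs h6 h5 h4).not_solvable h2r⟩
  by_cases h2 : (2 : F) = 0
  · obtain ⟨A, hA⟩ := exists_sl2 1 (γ - β) 0 1 (by ring)
    obtain ⟨B, hB⟩ := exists_sl2 0 (-1) 1 β (by ring)
    refine ⟨A, B, ?_, by simp [IsScal, hB], by simp [trace_fin_two, hB], ?_⟩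
    · rw [← map_mul, pslMk_eq_one_iff, Matrix.SpecialLinearGroup.coe_mul, hA]
      simp only [IsScal]
      simp
      linear_combination (γ - β) * h2
    · rw [Matrix.SpecialLinearGroup.coe_mul, hA, hB]
      simp [trace_fin_two]
  · obtain ⟨a, b, h⟩ := exists_quad h2 one_ne_zero (-β) 1 γ
    obtain ⟨A, hA⟩ := exists_sl2 (0 : F) 1 (-1) 0 (by ring)
    obtain ⟨B, hB⟩ := exists_sl2 a b (b + γ) (β - a) (by linear_combination -h)
    refine ⟨A, B, ?_, fun e => ?_, by simp [trace_fin_two, hB], ?_⟩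
    · rw [← map_mul, pslMk_eq_one_iff, Matrix.SpecialLinearGroup.coe_mul, hA]
      simp [IsScal]
    · have e' : b = 0 ∧ b + γ = 0 ∧ a = β - a := by simpa [IsScal, hB] using e
      have : γ = 0 := by rw [← e'.2.1, e'.1, zero_add]
      rw [(orderOf_pslMk_eq_two_iff h2).2 (hγ ▸ this)] at hd
      exact h2s hd
    · rw [Matrix.SpecialLinearGroup.coe_mul, hA, hB]
      simp [trace_fin_two]

end PSL2

theorem nonempty_psl33 {F : Type*} [Field F] [Fintype F] (hF : Fintype.card F = 3) :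
    Nonempty (PSL(3, F) ≃* SL(3, ZMod 3)) := by
  have h : center SL(3, ZMod 3) = ⊥ := eq_bot_iff.2 fun A hA => by
    obtain ⟨r, hr, e⟩ := Matrix.SpecialLinearGroup.mem_center_iff.1 hA
    obtain rfl : r = 1 := (by decide : ∀ r : ZMod 3, r ^ Fintype.card (Fin 3) = 1 → r = 1) r hr
    exact Subtype.ext (by simpa using e.symm)
  exact ⟨(Graph.pslCongr (ZMod.ringEquivOfPrime F Nat.prime_three hF).symm).trans
    ((QuotientGroup.quotientMulEquivOfEq h).trans QuotientGroup.quotientBot)⟩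

theorem nn_sl33 {p : ℕ} (hp : p.Prime) (hp3 : 3 < p) : NN p SL(3, ZMod 3) := by
  let t : SL(3, ZMod 3) := ⟨!![0, 2, 0; 2, 0, 0; 0, 0, 2], by decide +kernel⟩
  let y : SL(3, ZMod 3) := ⟨!![0, 1, 0; 0, 0, 1; 1, 0, 0], by decide +kernel⟩
  exact NN.of_dih hp (by omega) (t := t) (y := y) (n := 3) (by decide +kernel) (by decide +kernel)
    (by decide) ((Nat.coprime_primes Nat.prime_three hp).2 (by omega))
    (by rw [eq_inv_iff_mul_eq_one]; decide +kernel)
    fun e => absurd (congrArg Subtype.val e) (by decide +kernel)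

theorem ip_sl33 : IP SL(3, ZMod 3) := by
  let a : SL(3, ZMod 3) := ⟨!![1, 0, 0; 0, 2, 0; 0, 0, 2], by decide +kernel⟩
  let b : SL(3, ZMod 3) := ⟨!![1, 1, 0; 2, 1, 1; 0, 1, 1], by decide +kernel⟩
  have : Fact (Nat.Prime 3) := ⟨Nat.prime_three⟩
  have hb : orderOf b = 3 :=
    orderOf_eq_prime (by decide +kernel) fun e => absurd (congrArg Subtype.val e) (by decide +kernel)
  exact ⟨a, b, 3, Nat.prime_three, by norm_num, hb, by decide +kernel,
    (Tr.of_prime (a := a) (b := b) (s := 13) Nat.prime_two Nat.prime_three (by norm_num) (by norm_num) (by norm_num)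
      (by norm_num) (orderOf_eq_prime (by decide +kernel)
        fun e => absurd (congrArg Subtype.val e) (by decide +kernel)) hb
      (orderOf_dvd_of_pow_eq_one (by decide +kernel))).not_solvable (by norm_num)⟩

theorem nn_tor [Finite G] {p : ℕ} (hp : p.Prime) (hp2 : p ≠ 2) {P N : Subgroup G} {s : ℕ}
    (T : Sz.Tor P N s) (hP : (Nat.card P).Coprime p) : NN p G := by
  have h2 : 2 ∣ Nat.card N := by
    rw [T.card]
    rcases T.s_eq with rfl | rfl
    · exact dvd_mul_right _ _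
    · exact Dvd.dvd.mul_right (by norm_num) _
  obtain ⟨t, ht⟩ := exists_prime_orderOf_dvd_card' 2 h2
  rw [← Subgroup.orderOf_coe] at ht
  obtain ⟨c, hc, hc1⟩ := T.exists_ne_one
  refine NN.of_dih hp hp2 (t := t) (n := Nat.card P) (by rw [← pow_two, ← ht, pow_orderOf_eq_one])
    ?_ T.odd hP (T.conj_eq_inv t.2 ht hc) hc1
  exact congrArg Subtype.val (pow_card_eq_one' (x := (⟨c, hc⟩ : P)))

theorem nn_sz [Finite G] {p : ℕ} (hp : p.Prime) (hp2 : p ≠ 2) (h : Lie.IsoSuzuki G) : NN p G := by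
  obtain ⟨F, _, _, _, m, hm, hF, ⟨M⟩⟩ := S4F.exists_model h
  obtain ⟨t, ht0, ht1⟩ := Sz.exists_ne_zero_one hm hF
  by_cases hq : p ∣ Nat.card F - 1
  · obtain ⟨g, hg1, hg⟩ := M.exists_pow_eq_one (k := Nat.card F ^ 2 + 1) dvd_rfl (by
      have := Sz.Model.one_lt_card (F := F)
      nlinarith)
    have hf : M.FPF g := M.FPF_iff.2 ⟨hg1, hg⟩
    exact nn_tor hp hp2 (hf.tor hm hF) (Nat.Coprime.coprime_dvd_left hf.card_centralizer_dvd
      ((Sz.Model.coprime_sub_one_sq_add_one (F := F)).coprime_dvd_left hq).symm)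
  · exact nn_tor hp hp2 (M.tor_H ht0 ht1)
      (by rw [M.card_H]; exact ((Nat.Prime.coprime_iff_not_dvd hp).2 hq).symm)

theorem ip_sz [Finite G] (h : Lie.IsoSuzuki G) : IP G := by
  obtain ⟨F, _, _, _, m, hm, hF, ⟨M⟩⟩ := S4F.exists_model h
  obtain ⟨t, ht0, ht1⟩ := Sz.exists_ne_zero_one hm hF
  obtain ⟨r, hr, hrd⟩ := Nat.exists_prime_and_dvd (mt orderOf_eq_one_iff.1 (M.h_ne_one ht0 ht1))
  obtain ⟨z, hz, hzr⟩ : ∃ z ∈ M.H, orderOf z = r :=
    ⟨_, M.H.pow_mem (M.h_mem_H _) _, orderOf_pow_orderOf_div (orderOf_pos _).ne' hrd⟩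
  have hz1 : z ≠ 1 := fun e => hr.one_lt.ne (by simpa [e] using hzr)
  have hrq : r ∣ Nat.card F - 1 := hzr ▸ orderOf_dvd_of_pow_eq_one (M.pow_of_mem_H hz)
  have h2r : r ≠ 2 := by
    rintro rfl
    exact absurd (Nat.eq_one_of_dvd_coprimes (Sz.Model.coprime_four_sub_one (F := F)) (by norm_num) hrq)
      (by norm_num)
  obtain ⟨g, hg1, hg2⟩ := M.exists_smul_eq_pair' (a := M.inf) (b := M.pt 0 0) (c := M.pt 0 0)
    (d := M.pt 1 0) (M.pt_ne_inf _ _).symm fun e => zero_ne_one (M.pt_inj e).1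
  obtain ⟨x, hx⟩ : ∃ x, x = g * z * g⁻¹ := ⟨_, rfl⟩
  have hxo : orderOf x = r := by rw [hx, ← hzr]; exact (MulAut.conj g).orderOf_eq _
  have hfix : ∀ ω : M.Ω, x • ω = ω → ω = M.pt 0 0 ∨ ω = M.pt 1 0 := fun ω e => by
    have : z • g⁻¹ • ω = g⁻¹ • ω := by
      rw [hx, mul_smul, mul_smul, smul_eq_iff_eq_inv_smul] at e
      exact e
    rcases M.fix_of_mem_H hz hz1 this with h | h
    · exact Or.inl (by rw [← hg1, ← h, smul_inv_smul])
    · exact Or.inr (by rw [← hg2, ← h, smul_inv_smul])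
  have hx0 : x • M.pt 0 0 = M.pt 0 0 := by
    rw [← hg1, hx, mul_smul, mul_smul, inv_smul_smul, M.smul_inf_eq_inf.2 (M.H_le_B hz)]
  obtain ⟨y, hy⟩ : ∃ y, y = M.u 0 1 := ⟨_, rfl⟩
  have hy2 : orderOf y = 2 := hy ▸ M.orderOf_u_zero one_ne_zero
  have hyy : y * y = 1 := hy ▸ M.u_zero_sq 1
  have hy0 : y • M.pt 0 0 = M.pt 0 1 := hy ▸ M.u_smul_pt_zero 0 1
  have hx1 : x • M.pt 0 1 ≠ M.pt 0 1 := fun e => by
    rcases hfix _ e with h | h
    · exact one_ne_zero (M.pt_inj h).2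
    · exact one_ne_zero (M.pt_inj h).2
  have hmx : x ∈ closure ({y, x} : Set G) := subset_closure (by simp)
  have hmy : y ∈ closure ({y, x} : Set G) := subset_closure (by simp)
  have htor : ∀ {P N : Subgroup G} {s : ℕ}, Sz.Tor P N s → ¬ closure ({y, x} : Set G) ≤ N :=
    fun T hle => hx1 (by
      have h1 := T.conj_eq_inv (hle hmy) hy2 (T.mem_of_odd (hle hmx) (hxo ▸ hr.odd_of_ne_two h2r))
      have h2 : x⁻¹ • M.pt 0 1 = M.pt 0 1 := by
        rw [← h1, ← hy0, mul_smul, mul_smul, ← mul_smul y y, hyy, one_smul, hx0]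
      exact (inv_smul_eq_iff.1 h2).symm)
  refine ⟨y, x, r, hr, h2r, hxo, hyy, fun hs => ?_⟩
  rcases M.sub_cases hm hF (closure ({y, x} : Set G)) with ⟨k, h⟩ | ⟨k, h⟩ | ⟨w, hw, h⟩ | ⟨k, S, hS, h⟩
  · have h1 := (M.mem_conj_B_iff_smul k y).1 (h hmy)
    have h2 := (M.mem_conj_B_iff_smul k x).1 (h hmx)
    have h3 := M.eq_inf_of_mem_U (hy ▸ M.u_mem_U 0 1) (fun e => by simp [e] at hy2) h1
    rcases hfix _ h2 with e | e
    · exact M.pt_ne_inf _ _ (e.symm.trans h3)
    · exact M.pt_ne_inf _ _ (e.symm.trans h3)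
  · exact htor ((M.conj k).tor_H ht0 ht1) h
  · exact htor (hw.tor hm hF) h
  · have h1 : IsSimpleGroup (closure ({y, x} : Set G)) := h ▸ (M.conj k).isSimpleGroup_sub hF hS
    have h2 := congrArg Subtype.val (IsSimpleGroup.comm_iff_isSolvable.2 hs ⟨x, hmx⟩ ⟨y, hmy⟩)
    refine hx1 ?_
    rw [← hy0, ← mul_smul, show x * y = y * x from h2, mul_smul, hx0]

end CL.MinW
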