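/-
The witnesses of `MinWit` in the groups of Thompson's list.
-/
import Mathlib
import Cfsg.Agent.FGS.MinWit
import Cfsg.Agent.TECH.S2L.Minimal

set_option autoImplicit false

open Subgroup Cfsg

namespace CL.MinW

variable {G : Type*} [Group G] [Finite G]

theorem nn_minList {p : ℕ} (hp : p.Prime) (hp3 : 3 < p) (h : S2L.MinList G) : NN p G := by
  classical
  rcases h with ⟨F, _, _, -, ⟨e⟩⟩ | ⟨F, _, _, hF, ⟨e⟩⟩ | ⟨F, _, _, m, hm, -, hF, e⟩
  · exact (nn_psl2 hp hp3).of_equiv hp e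
  · obtain ⟨e'⟩ := nonempty_psl33 hF
    exact (nn_sl33 hp hp3).of_equiv hp (e.trans e')
  · exact nn_sz hp (by omega) ⟨F, _, _, m, hm, hF, e⟩

theorem ip_minList (hG : ¬ Group.IsSolvable G) (h : S2L.MinList G) : IP G := by
  classical
  rcases h with ⟨F, _, _, -, ⟨e⟩⟩ | ⟨F, _, _, hF, ⟨e⟩⟩ | ⟨F, _, _, m, hm, -, hF, e⟩
  · exact (ip_psl2 fun _ => hG (Group.isSolvable_of_isSolvable_injective (f := e.toMonoidHom)
      e.injective)).of_equiv e
  · obtain ⟨e'⟩ := nonempty_psl33 hF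
    exact ip_sl33.of_equiv (e.trans e')
  · exact ip_sz ⟨F, _, _, m, hm, hF, e⟩

omit [Finite G] in
theorem not_solvable_of_isMinimalSimple (h : IsMinimalSimple G) : ¬ Group.IsSolvable G := fun hs => by
  have := h.1
  exact h.2.1 ⟨⟨IsSimpleGroup.comm_iff_isSolvable.2 hs⟩⟩

end CL.MinW
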