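/-
More witnesses in the groups of Thompson's list: a solvable subgroup of order divisible by `2` and
by a second prime (`EV`), and an elementary abelian `2`-subgroup with a nontrivial automorphism
induced by an element of odd order (`EA`).
-/
import Mathlib
import Cfsg.Agent.FGS.MinWit2
import Cfsg.Agent.FGS.MaxNorm1

set_option autoImplicit false
set_option linter.style.haveILetI false

open Subgroup Cfsg CL.GL2 CL.MinTr Matrix
open scoped MatrixGroups

namespace CL.MinW

variable {G : Type*} [Group G]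

/-- a solvable subgroup of order divisible by `2` and by `s`. -/
def EV (s : ℕ) (G : Type*) [Group G] : Prop :=
  ∃ K : Subgroup G, Group.IsSolvable K ∧ 2 ∣ Nat.card K ∧ s ∣ Nat.card K

theorem solv_zpowers (y : G) : Group.IsSolvable (zpowers y) :=
  Group.isSolvable_of_comm fun ⟨_, a, rfl⟩ ⟨_, b, rfl⟩ => Subtype.ext (zpow_mul_comm y a b)

theorem EV.of_dih [Finite G] {s : ℕ} {t y : G} (ht : t * t = 1) (hty : t * y * t = y⁻¹)
    (hy : s ∣ orderOf y) (hy2 : y * y ≠ 1) : EV s G := by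
  have hti : t⁻¹ = t := inv_eq_of_mul_eq_one_right ht
  have h1 : zpowers t ≤ normalizer (zpowers y : Set G) := by
    rw [zpowers_le]
    exact MaxN.mem_norm_zpowers (by rw [hti, hty]; exact inv_mem (mem_zpowers y))
  have h2 : orderOf t = 2 := orderOf_eq_prime (by rw [pow_two, ht]) fun e => hy2 (by
    rw [e, one_mul, mul_one] at hty
    nth_rewrite 1 [hty]
    exact inv_mul_cancel y)
  refine ⟨zpowers t ⊔ zpowers y, isSolvable_sup_of_le_normalizer h1 (solv_zpowers t) (solv_zpowers y),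
    ?_, hy.trans ?_⟩
  · rw [← h2]; exact Subgroup.orderOf_dvd_natCard _ (mem_sup_left (mem_zpowers t))
  · exact Subgroup.orderOf_dvd_natCard _ (mem_sup_right (mem_zpowers y))

theorem EV.lift [Finite G] {X : Type*} [Group X] {s : ℕ} (h : EV s X) (f : G →* X)
    (hf : Function.Surjective f) (hk : Group.IsSolvable f.ker) : EV s G := by
  obtain ⟨K, hK, h2, hs⟩ := h
  let φ : K.comap f →* K := f.subgroupComap K
  have hφ : Function.Surjective φ := f.subgroupComap_surjective_of_surjective K hf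
  have hk' : Group.IsSolvable φ.ker := by
    let ι : φ.ker →* f.ker := ((K.comap f).subtype.comp φ.ker.subtype).codRestrict f.ker
      fun x => congrArg Subtype.val (MonoidHom.mem_ker.1 x.2)
    exact Group.isSolvable_of_isSolvable_injective (f := ι) fun a b e =>
      Subtype.ext (Subtype.ext (congrArg (fun z : f.ker => (z : G)) e))
  have hd := card_dvd_of_surjective φ hφ
  exact ⟨K.comap f, Group.isSolvable_of_ker_le_range φ.ker.subtype φ (by simp), h2.trans hd, hs.trans hd⟩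

theorem EV.of_equiv [Finite G] {X : Type*} [Group X] {s : ℕ} (h : EV s X) (e : G ≃* X) : EV s G :=
  h.lift e.toMonoidHom e.surjective (by
    rw [(MonoidHom.ker_eq_bot_iff _).2 e.injective]; infer_instance)

theorem EV.of_subgroup {s : ℕ} {H : Subgroup G} (h : EV s H) : EV s G := by
  obtain ⟨K, hK, h2, hs⟩ := h
  refine ⟨K.map H.subtype, ?_, by rwa [card_map_of_injective (subtype_injective _)],
    by rwa [card_map_of_injective (subtype_injective _)]⟩
  exact Group.isSolvable_of_surjective (H.subtype.subgroupMap_surjective K)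

/-- an elementary abelian `2`-subgroup normalised, not centralised, by an element of odd order. -/
def EA (G : Type*) [Group G] : Prop :=
  ∃ (V : Subgroup G) (g c : G), (∀ a ∈ V, a * a = 1) ∧ g ∈ normalizer (V : Set G) ∧
    Odd (orderOf g) ∧ c ∈ V ∧ g * c ≠ c * g

theorem ev_of_sq [Finite G] {V : Subgroup G} {g c : G} (h1 : ∀ a ∈ V, a * a = 1)
    (h2 : g ∈ normalizer (V : Set G)) (h4 : c ∈ V) (h5 : c ≠ 1) : EV (orderOf g) G := by
  have hV : Group.IsSolvable V := Group.isSolvable_of_comm fun a b => Subtype.ext (by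
    have i1 : (a : G)⁻¹ = a := inv_eq_of_mul_eq_one_right (h1 _ a.2)
    have i2 : (b : G)⁻¹ = b := inv_eq_of_mul_eq_one_right (h1 _ b.2)
    have i3 : ((a : G) * b)⁻¹ = a * b := inv_eq_of_mul_eq_one_right (h1 _ (a * b).2)
    show (a : G) * b = b * a
    rw [← i3, _root_.mul_inv_rev, i1, i2])
  refine ⟨zpowers g ⊔ V, isSolvable_sup_of_le_normalizer (zpowers_le.2 h2) (solv_zpowers g) hV, ?_,
    Subgroup.orderOf_dvd_natCard _ (mem_sup_left (mem_zpowers g))⟩
  rw [← orderOf_eq_prime (p := 2) (by rw [pow_two, h1 c h4]) h5]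
  exact Subgroup.orderOf_dvd_natCard _ (mem_sup_right h4)

theorem of_four [Finite G] {a b g : G} (ha : a * a = 1) (hb : b * b = 1) (hab : a * b = b * a)
    (h1 : g * a = b * g) (h2 : g * b = a * b * g) (h3 : g ^ 3 = 1) (hne : a ≠ b) :
    EA G ∧ EV 3 G := by
  have ma : a ∈ closure ({a, b} : Set G) := subset_closure (by simp)
  have mb : b ∈ closure ({a, b} : Set G) := subset_closure (by simp)
  have hc : ∀ x ∈ closure ({a, b} : Set G), x * x = 1 ∧ x * a = a * x ∧ x * b = b * x := by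
    intro x hx
    have hcomm : ∀ x ∈ closure ({a, b} : Set G), x * a = a * x ∧ x * b = b * x := by
      intro x hx
      have : closure ({a, b} : Set G) ≤ centralizer {a, b} := by
        rw [closure_le]
        rintro z (rfl | rfl) w (rfl | rfl) <;> simp_all
      exact ⟨(this hx a (by simp)).symm, (this hx b (by simp)).symm⟩
    refine ⟨?_, hcomm x hx⟩
    have hcc : ∀ x ∈ closure ({a, b} : Set G), ∀ y ∈ closure ({a, b} : Set G), y * x = x * y := by
      intro x hx y hy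
      have : closure ({a, b} : Set G) ≤ centralizer {x} := by
        rw [closure_le]
        rintro z (rfl | rfl) w rfl
        · exact (hcomm _ hx).1
        · exact (hcomm _ hx).2
      exact (this hy x rfl).symm
    induction hx using closure_induction with
    | mem z hz => rcases hz with rfl | rfl <;> assumption
    | one => simp
    | mul x y hx hy ihx ihy =>
      calc x * y * (x * y) = x * (y * x) * y := by group
        _ = (x * x) * (y * y) := by rw [hcc x hx y hy]; group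
        _ = 1 := by rw [ihx, ihy, one_mul]
    | inv x hx ih => rw [← _root_.mul_inv_rev, ih, inv_one]
  have hn : g ∈ normalizer (closure ({a, b} : Set G) : Set G) := by
    refine MaxN.mem_norm_closure ?_
    rintro z (rfl | rfl)
    · rw [h1, mul_inv_cancel_right]; exact mb
    · rw [h2, mul_inv_cancel_right]; exact mul_mem ma mb
  have hga : g * a ≠ a * g := fun e => hne (by rw [h1] at e; exact (mul_right_cancel e).symm)
  refine ⟨⟨closure {a, b}, g, a, fun x hx => (hc x hx).1, hn,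
    Odd.of_dvd_nat (by decide) (orderOf_dvd_of_pow_eq_one h3), ma, hga⟩, ?_⟩
  have : Fact (Nat.Prime 3) := ⟨Nat.prime_three⟩
  rw [← orderOf_eq_prime h3 fun e => hga (by simp [e])]
  exact ev_of_sq (fun x hx => (hc x hx).1) hn ma fun e => hga (by simp [e])

theorem EA.of_equiv {X : Type*} [Group X] (h : EA X) (e : G ≃* X) : EA G := by
  obtain ⟨V, g, c, h1, h2, h3, h4, h5⟩ := h
  refine ⟨V.comap e.toMonoidHom, e.symm g, e.symm c, fun a ha => e.injective ?_, ?_,
    by rwa [e.symm.orderOf_eq], by simpa using h4, fun h => h5 (by simpa using congrArg e h)⟩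
  · rw [map_mul, map_one]; exact h1 _ ha
  · rw [mem_normalizer_iff] at h2 ⊢
    intro x
    simpa using h2 (e x)

section PSL2
variable {F : Type*} [Field F] [Fintype F] [DecidableEq F]

theorem ev_psl2 {s : ℕ} (hs : s.Prime) (hs2 : s ≠ 2) (hsF : (s : F) ≠ 0)
    (hd : s ∣ Nat.card PSL(2, F)) : EV s PSL(2, F) := by
  have := Fact.mk hs
  obtain ⟨c, hc⟩ := exists_prime_orderOf_dvd_card' s hd
  obtain ⟨c, rfl⟩ := pslMk_surjective c
  have hc1 : pslMk F c ≠ 1 := fun e => hs.one_lt.ne (by simpa [e] using hc)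
  obtain ⟨β, hβ⟩ : ∃ β, β = c.1.trace := ⟨_, rfl⟩
  have hreg : β ^ 2 ≠ 4 := by
    intro e
    obtain ⟨l, hl⟩ := CharP.exists F
    have : Fact l.Prime := ⟨CharP.char_is_prime F l⟩
    have h1 := orderOf_pslMk_dvd_char l (g := c) (fun h => h (hβ ▸ e))
    rw [hc] at h1
    exact hsF ((CharP.cast_eq_zero_iff F l s).2 (by
      rw [(Nat.prime_dvd_prime_iff_eq hs this.out).1 h1]))
  suffices h : ∃ A B : SL(2, F), pslMk F A * pslMk F A = 1 ∧ pslMk F B * pslMk F B = 1 ∧
      (A * B).1.trace = β by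
    obtain ⟨A, B, hA, hB, h1⟩ := h
    have h3 := orderOf_dvd_of_trace hc1 (h1.trans hβ)
    rw [hc] at h3
    have h5 : orderOf (pslMk F (A * B)) = s := ((Nat.dvd_prime hs).1 h3).resolve_left fun e => by
      rcases pslMk_eq_one_iff'.1 (orderOf_eq_one_iff.1 e) with h | h
      · rw [h] at h1; apply hreg; rw [← h1]; simp; norm_num
      · rw [h] at h1; apply hreg; rw [← h1]; simp; norm_num
    refine EV.of_dih (t := pslMk F A) (y := pslMk F (A * B)) hA ?_ (h5 ▸ dvd_rfl) fun e => ?_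
    · rw [map_mul, ← mul_assoc, hA, one_mul, eq_inv_iff_mul_eq_one, mul_assoc,
        ← mul_assoc (pslMk F A), hA, one_mul, hB]
    · have := orderOf_dvd_of_pow_eq_one (by rw [pow_two]; exact e : pslMk F (A * B) ^ 2 = 1)
      rw [h5] at this
      exact hs2 ((Nat.prime_dvd_prime_iff_eq hs Nat.prime_two).1 this)
  by_cases h2 : (2 : F) = 0
  · obtain ⟨A, hA⟩ := exists_sl2 (0 : F) 1 (-1) 0 (by ring)
    obtain ⟨B, hB⟩ := exists_sl2 1 (-β) 0 1 (by ring)
    refine ⟨A, B, ?_, ?_, ?_⟩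
    · rw [← map_mul, pslMk_eq_one_iff, Matrix.SpecialLinearGroup.coe_mul, hA]
      simp [IsScal]
    · rw [← map_mul, pslMk_eq_one_iff, Matrix.SpecialLinearGroup.coe_mul, hB]
      simp only [IsScal]
      simp
      linear_combination (-β) * h2
    · rw [Matrix.SpecialLinearGroup.coe_mul, hA, hB]
      simp [trace_fin_two]
  · obtain ⟨a, b, h⟩ := exists_quad h2 one_ne_zero 0 1 β
    obtain ⟨A, hA⟩ := exists_sl2 (0 : F) 1 (-1) 0 (by ring)
    obtain ⟨B, hB⟩ := exists_sl2 a b (b + β) (-a) (by linear_combination -h)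
    refine ⟨A, B, ?_, ?_, ?_⟩
    · rw [← map_mul, pslMk_eq_one_iff, Matrix.SpecialLinearGroup.coe_mul, hA]
      simp [IsScal]
    · rw [← map_mul, pslMk_eq_one_iff, Matrix.SpecialLinearGroup.coe_mul, hB]
      simp only [IsScal]
      simp
      refine ⟨by ring, by ring, by ring⟩
    · rw [Matrix.SpecialLinearGroup.coe_mul, hA, hB]
      simp [trace_fin_two]

theorem exists_a4 (h2 : (2 : F) ≠ 0) : ∃ a b g : PSL(2, F), a * a = 1 ∧ b * b = 1 ∧ a * b = b * a ∧
    g * a = b * g ∧ g * b = a * b * g ∧ g ^ 3 = 1 ∧ a ≠ b := by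
  obtain ⟨x, y, h⟩ := exists_quad h2 one_ne_zero 0 1 0
  have hxy : x ^ 2 + y ^ 2 = -1 := by linear_combination h
  obtain ⟨u, hu⟩ : ∃ u : F, 2 * u = 1 := ⟨2⁻¹, mul_inv_cancel₀ h2⟩
  obtain ⟨A, hA⟩ := exists_sl2 (0 : F) 1 (-1) 0 (by ring)
  obtain ⟨B, hB⟩ := exists_sl2 x y y (-x) (by linear_combination -hxy)
  obtain ⟨W, hW⟩ := exists_sl2 (u * (1 + x + y)) (u * (1 + y - x)) (u * (y - x - 1)) (u * (1 - x - y))
    (by linear_combination (-2 * u ^ 2) * hxy + (2 * u + 1) * hu)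
  refine ⟨pslMk F A, pslMk F B, pslMk F W, ?_, ?_, ?_, ?_, ?_, ?_, fun e => ?_⟩
  · rw [← map_mul, pslMk_eq_one_iff, Matrix.SpecialLinearGroup.coe_mul, hA]
    simp [IsScal]
  · rw [← map_mul, pslMk_eq_one_iff, Matrix.SpecialLinearGroup.coe_mul, hB]
    simp only [IsScal]
    simp
    refine ⟨by ring, by ring, by ring⟩
  · rw [← map_mul, ← map_mul, pslMk_eq_iff]
    refine Or.inr (Subtype.ext ?_)
    rw [Matrix.SpecialLinearGroup.coe_neg, Matrix.SpecialLinearGroup.coe_mul,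
      Matrix.SpecialLinearGroup.coe_mul, hA, hB]
    ext i j
    fin_cases i <;> fin_cases j <;> simp
  · rw [← map_mul, ← map_mul]
    refine congrArg _ (Subtype.ext ?_)
    rw [Matrix.SpecialLinearGroup.coe_mul, Matrix.SpecialLinearGroup.coe_mul, hA, hB, hW]
    ext i j
    fin_cases i <;> fin_cases j <;> simp <;>
      first | linear_combination u * hxy | linear_combination (-u) * hxy
  · rw [← map_mul, ← map_mul, ← map_mul]
    refine congrArg _ (Subtype.ext ?_)
    rw [Matrix.SpecialLinearGroup.coe_mul, Matrix.SpecialLinearGroup.coe_mul,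
      Matrix.SpecialLinearGroup.coe_mul, hA, hB, hW]
    ext i j
    fin_cases i <;> fin_cases j <;> simp <;>
      first | linear_combination u * hxy | linear_combination (-u) * hxy | ring
  · rw [← map_pow, pslMk_eq_one_iff, pow_three', Matrix.SpecialLinearGroup.coe_mul,
      Matrix.SpecialLinearGroup.coe_mul, hW]
    simp only [IsScal]
    simp
    refine ⟨?_, ?_, ?_⟩
    · linear_combination (2 * u ^ 3 * (1 + y - x)) * hxy
    · linear_combination (2 * u ^ 3 * (y - x - 1)) * hxy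
    · linear_combination (4 * u ^ 3 * (x + y)) * hxy
  · rcases pslMk_eq_iff.1 e with h | h
    · have e1 := congrArg (fun g : SL(2, F) => g.1 0 1) h
      have e2 := congrArg (fun g : SL(2, F) => g.1 1 0) h
      simp only [hA, hB] at e1 e2
      simp at e1 e2
      exact h2 (by linear_combination e1 - e2)
    · have e1 := congrArg (fun g : SL(2, F) => g.1 0 1) h
      have e2 := congrArg (fun g : SL(2, F) => g.1 1 0) h
      simp only [Matrix.SpecialLinearGroup.coe_neg, hA, hB] at e1 e2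
      simp at e1 e2
      exact h2 (by linear_combination e1 + e2)

theorem ea_psl2 (hF : 3 < Fintype.card F) : EA PSL(2, F) := by
  by_cases h2 : (2 : F) = 0
  · obtain ⟨t, ht0, ht1⟩ : ∃ t : F, t ≠ 0 ∧ t ≠ 1 := by
      by_contra h
      push Not at h
      have : (Finset.univ : Finset F) ⊆ {0, 1} := fun x _ => by
        by_cases hx : x = 0
        · simp [hx]
        · simp [h x hx]
      have h1 := Finset.card_le_card this
      have h2 := Finset.card_le_two (a := (0 : F)) (b := 1)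
      rw [Finset.card_univ] at h1
      omega
    let l : Fˣ := Units.mk0 t ht0
    have hconj : ∀ b : F, diag F l * upSL 1 b = upSL 1 (t ^ 2 * b) * diag F l := fun b =>
      Subtype.ext (by
        rw [Matrix.SpecialLinearGroup.coe_mul, Matrix.SpecialLinearGroup.coe_mul, coe_diag,
          coe_upSL_one, coe_upSL_one]
        ext i j
        fin_cases i <;> fin_cases j <;> simp [l]
        field_simp)
    refine EA.of_equiv ⟨unipSL F, diag F l, upSL 1 1, ?_, ?_, ?_, mem_unipSL.2 ⟨1, rfl⟩, fun e => ?_⟩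
      (pslEquivEven h2).symm
    · intro a ha
      obtain ⟨b, rfl⟩ := mem_unipSL.1 ha
      rw [upSL_one_mul, ← two_mul, h2, zero_mul, upSL_one_zero]
    · rw [normalizer_unipSL]
      refine mem_borelSL.2 ?_
      rw [coe_diag]; simp
    · have h3 : diag F l ^ (Fintype.card F - 1) = 1 := by
        rw [← map_pow, ← Fintype.card_units, pow_card_eq_one, map_one]
      refine Odd.of_dvd_nat ?_ (orderOf_dvd_of_pow_eq_one h3)
      have := two_dvd_card_of_two_eq_zero h2
      exact Nat.odd_iff.2 (by omega)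
    · rw [hconj] at e
      have := (upSL_inj.1 (mul_right_cancel e)).2
      have h4 : (t - 1) ^ 2 = 0 := by linear_combination this + (1 - t) * h2
      exact ht1 (sub_eq_zero.1 (pow_eq_zero_iff two_ne_zero |>.1 h4))
  · obtain ⟨a, b, g, h1, h2, h3, h4, h5, h6, h7⟩ := exists_a4 h2
    exact (of_four h1 h2 h3 h4 h5 h6 h7).1

theorem ev_psl2_three : EV 3 PSL(2, F) := by
  by_cases h2 : (2 : F) = 0
  · refine ev_psl2 Nat.prime_three (by norm_num) ?_ ?_
    · have : ((3 : ℕ) : F) = 1 := by push_cast; linear_combination h2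
      rw [this]; exact one_ne_zero
    · have hc := gcd_mul_card_PSL2 (F := F)
      rw [gcd_even h2, one_mul] at hc
      rw [hc]
      obtain ⟨q, hq⟩ : ∃ q, q = Fintype.card F := ⟨_, rfl⟩
      have : 0 < q := hq ▸ Fintype.card_pos
      rw [← hq]
      rcases (by omega : 3 ∣ q ∨ 3 ∣ q + 1 ∨ 3 ∣ q - 1) with h | h | h
      · exact (h.mul_right _).mul_right _
      · exact (h.mul_left _).mul_right _
      · exact h.mul_left _
  · obtain ⟨a, b, g, h1, h2, h3, h4, h5, h6, h7⟩ := exists_a4 h2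
    exact (of_four h1 h2 h3 h4 h5 h6 h7).2

theorem ev_psl2_five (h5 : (5 : F) = 0) : EV 5 PSL(2, F) := by
  have h2 : (2 : F) ≠ 0 := fun e => one_ne_zero (by linear_combination h5 - 2 * e : (1 : F) = 0)
  obtain ⟨A, hA⟩ := exists_sl2 (2 : F) 0 0 (-2) (by linear_combination -h5)
  have : Fact (Nat.Prime 5) := ⟨Nat.prime_five⟩
  have : CharP F 5 := (CharP.charP_iff_prime_eq_zero Nat.prime_five).2 (by simpa using h5)
  have ho := orderOf_pslMk_eq_char 5 (not_reg_upSL_one (1 : F)) (not_isScal_upSL_one one_ne_zero)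
  refine EV.of_dih (t := pslMk F A) (y := pslMk F (upSL 1 1)) ?_ ?_ (ho ▸ dvd_rfl) fun e => ?_
  · rw [← map_mul, pslMk_eq_one_iff, Matrix.SpecialLinearGroup.coe_mul, hA]
    simp [IsScal]
  · rw [eq_inv_iff_mul_eq_one, ← map_mul, ← map_mul, ← map_mul, pslMk_eq_one_iff,
      Matrix.SpecialLinearGroup.coe_mul, Matrix.SpecialLinearGroup.coe_mul,
      Matrix.SpecialLinearGroup.coe_mul, hA, coe_upSL_one]
    simp [IsScal]
  · have := orderOf_dvd_of_pow_eq_one (by rw [pow_two]; exact e : pslMk F (upSL 1 1) ^ 2 = 1)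
    rw [ho] at this
    norm_num at this

theorem ev_psl2_other (hG : ¬ Group.IsSolvable PSL(2, F)) (h8 : ¬ 8 ∣ Nat.card PSL(2, F)) :
    ∃ s : ℕ, s.Prime ∧ s ≠ 2 ∧ s ≠ 3 ∧ EV s PSL(2, F) := by
  obtain ⟨s, hs, hd, hs2, hs3⟩ := exists_third hG Nat.prime_two Nat.prime_three
  by_cases hsF : (s : F) = 0
  swap
  · exact ⟨s, hs, hs2.symm, hs3.symm, ev_psl2 hs hs2.symm hsF hd⟩
  by_cases h5 : s = 5
  · subst h5
    exact ⟨5, hs, by norm_num, by norm_num, ev_psl2_five (by simpa using hsF)⟩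
  have := Fact.mk hs
  have : CharP F s := (CharP.charP_iff_prime_eq_zero hs).2 hsF
  obtain ⟨n, -, hn⟩ := FiniteField.card F s
  have h2 : (2 : F) ≠ 0 := two_ne_zero_of_char_ne s hs2.symm
  have hc := gcd_mul_card_PSL2 (F := F)
  rw [gcd_odd h2] at hc
  obtain ⟨q, hq⟩ : ∃ q, q = Fintype.card F := ⟨_, rfl⟩
  rw [← hq] at hc hn
  have hs7 : 7 ≤ s := by
    have := hs.two_le
    by_contra h
    have : s < 7 := by omega
    interval_cases s <;> simp_all (config := {decide := true})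
  have hq7 : 7 ≤ q := by
    rw [hn]; exact hs7.trans (Nat.le_self_pow n.ne_zero s)
  have hq2 : q % 2 = 1 := hq ▸ odd_card h2
  obtain ⟨m, hm6, hm3, hmd, hms, hm16⟩ : ∃ m, 6 ≤ m ∧ ¬ 3 ∣ m ∧ m ∣ q * (q + 1) * (q - 1) ∧ ¬ s ∣ m ∧
      (8 ∣ m → 16 ∣ q * (q + 1) * (q - 1)) := by
    by_cases h3 : 3 ∣ q + 1
    · refine ⟨q - 1, by omega, by omega, dvd_mul_left _ _, hq ▸ not_char_dvd_pred s, fun h => ?_⟩
      rw [mul_assoc]
      exact Dvd.dvd.mul_left (mul_dvd_mul (show 2 ∣ q + 1 by omega) h) q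
    · refine ⟨q + 1, by omega, h3, (dvd_mul_left _ _).mul_right _, hq ▸ not_char_dvd_succ s, fun h => ?_⟩
      rw [mul_assoc]
      exact Dvd.dvd.mul_left (mul_dvd_mul h (show 2 ∣ q - 1 by omega)) q
  obtain ⟨r, hr, hrm, hr2⟩ : ∃ r, r.Prime ∧ r ∣ m ∧ r ≠ 2 := by
    by_contra h
    push Not at h
    have e := Nat.eq_prime_pow_of_unique_prime_dvd (p := 2) (by omega) fun {d} hd hdm => h d hd hdm
    obtain ⟨k, hk⟩ : ∃ k, m = 2 ^ k := ⟨_, e⟩
    have hk3 : 3 ≤ k := by
      by_contra h'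
      have : k < 3 := by omega
      interval_cases k <;> omega
    have := hm16 (hk ▸ pow_dvd_pow 2 hk3)
    rw [← hc] at this
    exact h8 (Nat.dvd_of_mul_dvd_mul_left two_pos this)
  refine ⟨r, hr, hr2, fun e => hm3 (e ▸ hrm), ev_psl2 hr hr2 (fun e => hms ?_) ?_⟩
  · rwa [(Nat.prime_dvd_prime_iff_eq hs hr).1 ((CharP.cast_eq_zero_iff F s r).1 e)]
  · have := hrm.trans hmd
    rw [← hc] at this
    exact ((Nat.coprime_primes hr Nat.prime_two).2 hr2).dvd_of_dvd_mul_left this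

end PSL2

theorem four_sl33 : EA SL(3, ZMod 3) ∧ EV 3 SL(3, ZMod 3) := by
  let a : SL(3, ZMod 3) := ⟨!![1, 0, 0; 0, 2, 0; 0, 0, 2], by decide +kernel⟩
  let b : SL(3, ZMod 3) := ⟨!![2, 0, 0; 0, 1, 0; 0, 0, 2], by decide +kernel⟩
  let g : SL(3, ZMod 3) := ⟨!![0, 0, 1; 1, 0, 0; 0, 1, 0], by decide +kernel⟩
  exact of_four (a := a) (b := b) (g := g) (by decide +kernel) (by decide +kernel) (by decide +kernel)
    (by decide +kernel) (by decide +kernel) (by decide +kernel)
    fun e => absurd (congrArg Subtype.val e) (by decide +kernel)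

theorem eight_dvd_sl33 : 8 ∣ Nat.card SL(3, ZMod 3) := by
  let g : SL(3, ZMod 3) := ⟨!![0, 1, 0; 1, 1, 0; 0, 0, 2], by decide +kernel⟩
  have : orderOf g = 2 ^ (2 + 1) := orderOf_eq_prime_pow
    (fun e => absurd (congrArg Subtype.val e) (by decide +kernel)) (by decide +kernel)
  exact (show 8 = orderOf g from this.symm) ▸ orderOf_dvd_natCard g

theorem ev_tor [Finite G] {P N : Subgroup G} {s : ℕ} (T : Sz.Tor P N s) :
    ∃ r : ℕ, r.Prime ∧ r ≠ 2 ∧ r ∣ Nat.card P ∧ EV r G := by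
  have h2 : 2 ∣ Nat.card N := by
    rw [T.card]
    rcases T.s_eq with rfl | rfl
    · exact dvd_mul_right _ _
    · exact Dvd.dvd.mul_right (by norm_num) _
  obtain ⟨t, ht⟩ := exists_prime_orderOf_dvd_card' 2 h2
  rw [← Subgroup.orderOf_coe] at ht
  obtain ⟨c, hc, hc1⟩ := T.exists_ne_one
  obtain ⟨r, hr, hrd⟩ := Nat.exists_prime_and_dvd (mt orderOf_eq_one_iff.1 hc1)
  have ho := Sz.odd_orderOf_of_mem T.odd hc
  refine ⟨r, hr, fun e => ?_, hrd.trans (Subgroup.orderOf_dvd_natCard _ hc),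
    EV.of_dih (t := t) (by rw [← pow_two, ← ht, pow_orderOf_eq_one]) (T.conj_eq_inv t.2 ht hc) hrd
      fun e => hc1 ?_⟩
  · subst e
    exact (Nat.not_even_iff_odd.2 ho) (even_iff_two_dvd.2 hrd)
  · exact orderOf_eq_one_iff.1 (Nat.eq_one_of_dvd_coprimes (Nat.coprime_two_left.2 ho)
      (orderOf_dvd_of_pow_eq_one (by rw [pow_two, e])) dvd_rfl)

theorem ev_sz [Finite G] (p : ℕ) (h : Lie.IsoSuzuki G) :
    ∃ s : ℕ, s.Prime ∧ s ≠ 2 ∧ s ≠ p ∧ EV s G := by
  obtain ⟨F, _, _, _, m, hm, hF, ⟨M⟩⟩ := S4F.exists_model h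
  obtain ⟨t, ht0, ht1⟩ := Sz.exists_ne_zero_one hm hF
  obtain ⟨g, hg1, hg⟩ := M.exists_pow_eq_one (k := Nat.card F ^ 2 + 1) dvd_rfl (by
    have := Sz.Model.one_lt_card (F := F)
    nlinarith)
  have hf : M.FPF g := M.FPF_iff.2 ⟨hg1, hg⟩
  obtain ⟨r, hr, hr2, hrd, he⟩ := ev_tor (hf.tor hm hF)
  obtain ⟨s, hs, hs2, hsd, he'⟩ := ev_tor (M.tor_H ht0 ht1)
  rw [M.card_H] at hsd
  by_cases e : r = p
  · refine ⟨s, hs, hs2, fun e' => hs.one_lt.ne' ?_, he'⟩
    exact Nat.eq_one_of_dvd_coprimes (Sz.Model.coprime_sub_one_sq_add_one (F := F)) hsd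
      (e' ▸ e ▸ hrd.trans hf.card_centralizer_dvd)
  · exact ⟨r, hr, hr2, e, he⟩

theorem ea_sz [Finite G] (h : Lie.IsoSuzuki G) : EA G := by
  obtain ⟨F, _, _, _, m, hm, hF, ⟨M⟩⟩ := S4F.exists_model h
  obtain ⟨t, ht0, ht1⟩ := Sz.exists_ne_zero_one hm hF
  have T := M.tor_H ht0 ht1
  refine ⟨M.Z, M.h (Units.mk0 t ht0), M.u 0 1, fun a ha => M.sq_eq_one_of_mem_Z ha, ?_,
    Sz.odd_orderOf_of_mem T.odd (M.h_mem_H _), M.u_mem_Z 1, fun e => ?_⟩
  · rw [mem_normalizer_iff]
    exact fun x => ⟨M.conj_mem_Z (M.h_mem_B _), fun hx => by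
      simpa [mul_assoc] using M.conj_mem_Z (M.B.inv_mem (M.h_mem_B (Units.mk0 t ht0))) hx⟩
  · have h1 : M.u 0 1 ∈ M.H := by
      rw [← T.cent _ (M.h_mem_H _) (M.h_ne_one ht0 ht1)]
      rintro _ rfl
      exact e
    have h2 := Sz.odd_orderOf_of_mem T.odd h1
    rw [M.orderOf_u_zero one_ne_zero] at h2
    exact absurd h2 (by decide)

theorem three_lt_card {F : Type*} [Field F] [Fintype F]
    (h : (∃ r : ℕ, r.Prime ∧ Fintype.card F = 2 ^ r) ∨
      (∃ r : ℕ, r.Prime ∧ r ≠ 2 ∧ Fintype.card F = 3 ^ r) ∨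
      ((Fintype.card F).Prime ∧ 5 < Fintype.card F ∧
        (Fintype.card F % 5 = 2 ∨ Fintype.card F % 5 = 3)) ∨ Fintype.card F = 5) :
    3 < Fintype.card F := by
  rcases h with ⟨r, hr, e⟩ | ⟨r, hr, -, e⟩ | ⟨-, h, -⟩ | h
  · rw [e]; exact lt_of_lt_of_le (by norm_num) (Nat.pow_le_pow_right two_pos hr.two_le)
  · rw [e]; exact lt_of_lt_of_le (by norm_num) (Nat.pow_le_pow_right three_pos hr.two_le)
  · omega
  · omega

theorem ea_minList [Finite G] (h : S2L.MinList G) : EA G := by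
  classical
  rcases h with ⟨F, _, _, hF, ⟨e⟩⟩ | ⟨F, _, _, hF, ⟨e⟩⟩ | ⟨F, _, _, m, hm, -, hF, e⟩
  · exact (ea_psl2 (three_lt_card hF)).of_equiv e
  · obtain ⟨e'⟩ := nonempty_psl33 hF
    exact four_sl33.1.of_equiv (e.trans e')
  · exact ea_sz ⟨F, _, _, m, hm, hF, e⟩

theorem ev_minList [Finite G] (hG : ¬ Group.IsSolvable G) (h : S2L.MinList G) {p : ℕ}
    (h8 : p = 3 → ¬ 8 ∣ Nat.card G) : ∃ s : ℕ, s.Prime ∧ s ≠ 2 ∧ s ≠ p ∧ EV s G := by
  classical
  rcases h with ⟨F, _, _, hF, ⟨e⟩⟩ | ⟨F, _, _, hF, ⟨e⟩⟩ | ⟨F, _, _, m, hm, -, hF, e⟩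
  · by_cases h3 : p = 3
    · obtain ⟨s, h1, h2, h4, h5⟩ := ev_psl2_other (F := F) (fun _ => hG
        (Group.isSolvable_of_isSolvable_injective (f := e.toMonoidHom) e.injective))
        (Nat.card_congr e.toEquiv ▸ h8 h3)
      exact ⟨s, h1, h2, h3 ▸ h4, h5.of_equiv e⟩
    · exact ⟨3, Nat.prime_three, by norm_num, Ne.symm h3, ev_psl2_three.of_equiv e⟩
  · obtain ⟨e'⟩ := nonempty_psl33 hF
    by_cases h3 : p = 3
    · refine absurd ?_ (h8 h3)
      rw [Nat.card_congr (e.trans e').toEquiv]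
      exact eight_dvd_sl33
    · exact ⟨3, Nat.prime_three, by norm_num, Ne.symm h3, four_sl33.2.of_equiv (e.trans e')⟩
  · exact ev_sz p ⟨F, _, _, m, hm, hF, e⟩

end CL.MinW
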