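/-
Left-normed commutator values and the condition that each of them centralises the invariant
subgroups of coprime order (Baumslag–Wiegold type criteria).
-/
import Mathlib
import Cfsg.Agent.FGS.MinEv
import Cfsg.Agent.FGS.Kazarin
import Cfsg.Agent.SOLV.Frattini
import Cfsg.Agent.S0200

set_option autoImplicit false
set_option linter.style.haveILetI false

open Subgroup Cfsg
open scoped commutatorElement Pointwise

namespace CL.BW

variable {G : Type*} [Group G]

/-- left-normed commutator values of length `k + 1` with entries in `S`. -/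
def Val (S : Set G) (k : ℕ) (x : G) : Prop :=
  ∃ (a : G) (l : List G), a ∈ S ∧ (∀ b ∈ l, b ∈ S) ∧ l.length = k ∧
    x = l.foldl (fun a b => a * b * a⁻¹ * b⁻¹) a

theorem Val.zero {S : Set G} {x : G} (hx : x ∈ S) : Val S 0 x := ⟨x, [], hx, by simp, rfl, rfl⟩

theorem Val.step {S : Set G} {k : ℕ} {x y : G} (h : Val S k x) (hy : y ∈ S) :
    Val S (k + 1) (x * y * x⁻¹ * y⁻¹) := by
  obtain ⟨a, l, ha, hl, hk, rfl⟩ := h
  refine ⟨a, l ++ [y], ha, fun b hb => ?_, by simp [hk], by simp⟩
  rcases List.mem_append.1 hb with h | h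
  · exact hl b h
  · rwa [List.mem_singleton.1 h]

theorem Val.induction {S : Set G} {P : ℕ → G → Prop} (h0 : ∀ x ∈ S, P 0 x)
    (h1 : ∀ k x y, P k x → y ∈ S → P (k + 1) (x * y * x⁻¹ * y⁻¹)) {k : ℕ} {x : G}
    (h : Val S k x) : P k x := by
  obtain ⟨a, l, ha, hl, rfl, rfl⟩ := h
  induction l using List.reverseRecOn with
  | nil => exact h0 a ha
  | append_singleton l b ih =>
    rw [List.foldl_append, List.length_append]
    exact h1 _ _ _ (ih fun c hc => hl c (List.mem_append_left _ hc)) (hl b (by simp))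

theorem Val.down {k : ℕ} {x : G} (h : Val Set.univ (k + 1) x) : Val Set.univ k x := by
  obtain ⟨a, l, -, -, hk, rfl⟩ := h
  cases l with
  | nil => simp at hk
  | cons b l => exact ⟨_, l, trivial, fun _ _ => trivial, by simpa using hk, rfl⟩

theorem Val.map {X : Type*} [Group X] (f : G →* X) {S : Set G} {T : Set X} (hS : ∀ a ∈ S, f a ∈ T)
    {k : ℕ} {x : G} (h : Val S k x) : Val T k (f x) :=
  Val.induction (P := fun k x => Val T k (f x)) (fun x hx => Val.zero (hS x hx))
    (fun k x y hx hy => by simpa using hx.step (hS y hy)) h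

theorem Val.lift {X : Type*} [Group X] (f : G →* X) {S : Set G} {T : Set X}
    (hS : ∀ b ∈ T, ∃ a ∈ S, f a = b) {k : ℕ} {x : X} (h : Val T k x) : ∃ y, Val S k y ∧ f y = x :=
  Val.induction (P := fun k x => ∃ y, Val S k y ∧ f y = x)
    (fun x hx => by obtain ⟨a, ha, e⟩ := hS x hx; exact ⟨a, Val.zero ha, e⟩)
    (fun k x y ⟨z, hz, e⟩ hy => by
      obtain ⟨a, ha, e'⟩ := hS y hy
      exact ⟨_, hz.step ha, by simp [e, e']⟩) h

theorem Val.mem {H : Subgroup G} {k : ℕ} {x : G} (h : Val (H : Set G) k x) : x ∈ H :=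
  Val.induction (P := fun _ x => x ∈ H) (fun _ hx => hx)
    (fun _ _ _ hx hy => mul_mem (mul_mem (mul_mem hx hy) (inv_mem hx)) (inv_mem hy)) h

theorem Val.univ {S : Set G} {k : ℕ} {x : G} (h : Val S k x) : Val Set.univ k x :=
  h.map (MonoidHom.id G) (T := Set.univ) fun _ _ => trivial

theorem Val.mem_lcs {k : ℕ} {x : G} (h : Val Set.univ k x) :
    x ∈ (⊤ : Subgroup G).lowerCentralSeries k :=
  Val.induction (P := fun k x => x ∈ (⊤ : Subgroup G).lowerCentralSeries k) (fun _ _ => mem_top _)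
    (fun _ _ y hx _ => commutator_mem_commutator hx (mem_top y)) h

theorem val_iff {k : ℕ} {x : G} : Val Set.univ k x ↔ ∃ f : Fin (k + 1) → G,
    x = ((List.ofFn f).tail).foldl (fun a b => a * b * a⁻¹ * b⁻¹) (f 0) := by
  constructor
  · rintro ⟨a, l, -, -, rfl, rfl⟩
    refine ⟨(a :: l).get, ?_⟩
    rw [List.ofFn_get]
    rfl
  · rintro ⟨f, rfl⟩
    exact ⟨_, _, trivial, fun _ _ => trivial, by simp, rfl⟩

/-- the iterated commutator `[c, g, …, g]`. -/
def it (c g : G) : ℕ → G
  | 0 => c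
  | k + 1 => it c g k * g * (it c g k)⁻¹ * g⁻¹

theorem val_it (c g : G) (k : ℕ) : Val Set.univ k (it c g k) := by
  induction k with
  | zero => exact Val.zero trivial
  | succ k ih => exact ih.step trivial

theorem map_it {X : Type*} [Group X] (f : G →* X) (c g : G) (k : ℕ) :
    f (it c g k) = it (f c) (f g) k := by
  induction k with
  | zero => rfl
  | succ k ih => simp [it, ih]

theorem it_mem {V : Subgroup G} {c g : G} (hc : c ∈ V) (hg : g ∈ normalizer (V : Set G)) (k : ℕ) :
    it c g k ∈ V := by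
  induction k with
  | zero => exact hc
  | succ k ih =>
    have := mul_mem ih ((mem_normalizer_iff.1 hg _).1 (inv_mem ih))
    simpa [it, mul_assoc] using this

theorem eq_one_of_mul_eq_conj [Finite G] {d g c : G} (hc : (orderOf d).Coprime (orderOf g))
    (hdg : Commute d g) (e : d * g = c * g * c⁻¹) : d = 1 := by
  have h1 := hdg.orderOf_mul_eq_mul_orderOf_of_coprime hc
  have h2 : orderOf (c * g * c⁻¹) = orderOf g := (MulAut.conj c).orderOf_eq g
  rw [e, h2] at h1
  have := orderOf_pos g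
  exact orderOf_eq_one_iff.1 (by nlinarith [orderOf_pos d])

theorem it_not_comm [Finite G] {V : Subgroup G} {c g : G} (hc : c ∈ V)
    (hg : g ∈ normalizer (V : Set G)) (hcop : (Nat.card V).Coprime (orderOf g))
    (hne : g * c ≠ c * g) (k : ℕ) : g * it c g k ≠ it c g k * g := by
  induction k with
  | zero => exact hne
  | succ k ih =>
    intro e
    have h1 := eq_one_of_mul_eq_conj (c := it c g k) (hcop.coprime_dvd_left
      (Subgroup.orderOf_dvd_natCard V (it_mem hc hg (k + 1)))) e.symm (by simp [it])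
    rw [it, mul_inv_eq_one, mul_inv_eq_iff_eq_mul] at h1
    exact ih h1.symm

/-- Frattini lifting of a `p`-subgroup and an element normalising it. -/
theorem exists_lift [Finite G] {X : Type*} [Group X] {f : G →* X} (hf : Function.Surjective f)
    {p : ℕ} [Fact p.Prime] {V : Subgroup X} (hV : IsPGroup p V) {g : X}
    (hg : g ∈ normalizer (V : Set X)) : ∃ W : Subgroup G, IsPGroup p W ∧ W.map f = V ∧
      ∃ n ∈ normalizer (W : Set G), f n = g := by
  obtain ⟨P⟩ : Nonempty (Sylow p (V.comap f)) := inferInstance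
  obtain ⟨g, rfl⟩ := hf g
  have hg' : g ∈ normalizer (V.comap f : Set G) := by
    rw [mem_normalizer_iff] at hg ⊢
    intro x
    simpa using hg (f x)
  have hmap : ((P : Subgroup (V.comap f)).map (V.comap f).subtype).map f = V := by
    have hφ := f.subgroupComap_surjective_of_surjective V hf
    have h1 : (P.mapSurjective hφ : Subgroup V) = ⊤ :=
      ((P.mapSurjective hφ).is_maximal' (hV.to_subgroup ⊤) le_top).symm
    apply le_antisymm
    · rintro _ ⟨_, ⟨y, -, rfl⟩, rfl⟩
      exact y.2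
    · intro v hv
      have : (⟨v, hv⟩ : V) ∈ (P.mapSurjective hφ : Subgroup V) := h1 ▸ mem_top _
      obtain ⟨y, hy, e⟩ := this
      exact ⟨y, ⟨y, hy, rfl⟩, congrArg Subtype.val e⟩
  let φ : MulAut (V.comap f) := (V.comap f).normalizerMonoidHom ⟨g, hg'⟩
  obtain ⟨m, hm⟩ := MulAction.exists_smul_eq (V.comap f) (φ • P) P
  have hn : (m : G) * g ∈ normalizer (((P : Subgroup (V.comap f)).map (V.comap f).subtype : Subgroup G) : Set G) := by
    rw [← closure_eq ((P : Subgroup (V.comap f)).map (V.comap f).subtype)]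
    refine MaxN.mem_norm_closure ?_
    rintro _ ⟨y, hy, rfl⟩
    rw [closure_eq]
    have h1 : φ y ∈ ((φ • P : Sylow p (V.comap f)) : Subgroup (V.comap f)) :=
      smul_mem_pointwise_smul y φ _ hy
    have h2 : m * φ y * m⁻¹ ∈ ((m • φ • P : Sylow p (V.comap f)) : Subgroup (V.comap f)) :=
      smul_mem_pointwise_smul (φ y) (MulAut.conj m) _ h1
    rw [hm] at h2
    refine ⟨_, h2, ?_⟩
    show (m : G) * (g * y * g⁻¹) * (m : G)⁻¹ = m * g * y * (m * g)⁻¹
    group
  obtain ⟨v, hv, e⟩ : f (m : G)⁻¹ ∈ ((P : Subgroup (V.comap f)).map (V.comap f).subtype).map f := by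
    rw [hmap]; exact (m⁻¹).2
  exact ⟨_, P.isPGroup'.map _, hmap, v * (m * g), mul_mem (le_normalizer hv) hn, by simp [e]⟩

theorem cop_of_isPGroup [Finite G] {p : ℕ} [Fact p.Prime] {W : Subgroup G} (hW : IsPGroup p W)
    {x : G} (hx : x ∈ W) {n : ℕ} (hn : n.Coprime p) : (orderOf x).Coprime n := by
  obtain ⟨j, hj⟩ := IsPGroup.iff_card.1 hW
  exact ((hn.symm.pow_left j).coprime_dvd_left (hj ▸ Subgroup.orderOf_dvd_natCard W hx))

/-- a `p`-element that is a value and whose image is a given iterated commutator. -/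
theorem exists_val [Finite G] {X : Type*} [Group X] {f : G →* X} (hf : Function.Surjective f)
    {p : ℕ} [Fact p.Prime] {V : Subgroup X} (hV : IsPGroup p V) {g c : X}
    (hg : g ∈ normalizer (V : Set X)) (hc : c ∈ V) (k : ℕ) : ∃ x : G, Val Set.univ k x ∧
      (∀ n : ℕ, n.Coprime p → (orderOf x).Coprime n) ∧ f x = it c g k := by
  obtain ⟨W, h1, rfl, n, h3, rfl⟩ := exists_lift hf hV hg
  obtain ⟨c, hc, rfl⟩ := hc
  exact ⟨it c n k, val_it _ _ _, fun _ => cop_of_isPGroup h1 (it_mem hc h3 k), map_it _ _ _ _⟩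

/-- every value centralises the invariant subgroups of coprime order. -/
def L (k : ℕ) (G : Type*) [Group G] : Prop :=
  ∀ x : G, Val Set.univ k x → ∀ N : Subgroup G, x ∈ normalizer (N : Set G) →
    (orderOf x).Coprime (Nat.card N) → ∀ v ∈ N, v * x = x * v

theorem L.subgroup {k : ℕ} (h : L k G) (H : Subgroup G) : L k H := by
  intro x hx N hN hc v hv
  refine Subtype.ext (h x (hx.map H.subtype (T := Set.univ) fun _ _ => trivial) (N.map H.subtype)
    (le_normalizer_map _ ⟨x, hN, rfl⟩) ?_ v ⟨v, hv, rfl⟩)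
  rwa [card_subtype, Subgroup.orderOf_coe]

theorem mem_fitting [Finite G] {q : ℕ} [hq : Fact q.Prime] {x : G}
    (h1 : (x : G ⧸ fittingSubgroup G) ∈ pCore q (G ⧸ fittingSubgroup G))
    (h2 : ∀ y ∈ fittingSubgroup G, (orderOf y).Coprime q → y * x = x * y) :
    x ∈ fittingSubgroup G := by
  let A : Subgroup G := fittingSubgroup G ⊓ pPrimeCore q G
  let D : Subgroup G := (pCore q (G ⧸ fittingSubgroup G)).comap (QuotientGroup.mk' _) ⊓
    centralizer (A : Set G)
  have hx : x ∈ D := ⟨h1, fun y hy => h2 y hy.1 ((coprime_card_pPrimeCore q G).coprime_dvd_left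
    (Subgroup.orderOf_dvd_natCard _ hy.2))⟩
  have hD : IsPGroup q (D ⧸ center D) := by
    intro d
    obtain ⟨d, rfl⟩ := QuotientGroup.mk_surjective d
    obtain ⟨i, hi⟩ := isPGroup_pCore q _ ⟨_, d.2.1⟩
    have h3 : (d : G) ^ q ^ i ∈ fittingSubgroup G := by
      rw [← QuotientGroup.eq_one_iff]
      exact congrArg Subtype.val hi
    obtain ⟨j, m, hm, e⟩ := Nat.exists_eq_pow_mul_and_not_dvd (orderOf_pos ((d : G) ^ q ^ i)).ne' q
      hq.out.ne_one
    have h4 : ((d : G) ^ q ^ i) ^ q ^ j ∈ A := by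
      refine ⟨pow_mem h3 _, le_pPrimeCore_of_le_fittingSubgroup (zpowers_le.2 (pow_mem h3 _)) ?_
        (mem_zpowers _)⟩
      rw [Nat.card_zpowers]
      refine Nat.Coprime.coprime_dvd_left (orderOf_dvd_of_pow_eq_one (n := m) ?_)
        ((Nat.Prime.coprime_iff_not_dvd hq.out).2 hm).symm
      rw [← pow_mul, ← e, pow_orderOf_eq_one]
    refine ⟨i + j, ?_⟩
    rw [← QuotientGroup.mk_pow, QuotientGroup.eq_one_iff, mem_center_iff]
    intro z
    refine Subtype.ext ?_
    have := z.2.2 _ h4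
    simpa [pow_add, pow_mul] using this.symm
  have := hD.isNilpotent
  exact le_fittingSubgroup (N := D) (Group.of_quotient_center_nilpotent this) hx

theorem isNilpotent_of_comm [Finite G] [Group.IsSolvable G]
    (h : ∀ (q : ℕ) [Fact q.Prime], ∀ c ∈ pCore q G, ∀ g : G, (orderOf g).Coprime q → g * c = c * g) :
    Group.IsNilpotent G := by
  rw [← fittingSubgroup_eq_top_iff]
  by_contra hne
  have : Nontrivial (G ⧸ fittingSubgroup G) := QuotientGroup.nontrivial_iff.2 hne
  obtain ⟨r, hr, h1⟩ : ∃ r : ℕ, r.Prime ∧ pCore r (G ⧸ fittingSubgroup G) ≠ ⊥ := by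
    by_contra h1
    push Not at h1
    exact fittingSubgroup_ne_bot _ (fittingSubgroup_eq_bot_iff.2 h1)
  have := Fact.mk hr
  obtain ⟨W, hW, e, -⟩ := exists_lift (QuotientGroup.mk'_surjective (fittingSubgroup G))
    (isPGroup_pCore r _) (one_mem _)
  refine h1 (eq_bot_iff.2 fun z hz => ?_)
  obtain ⟨g, hg, rfl⟩ : z ∈ W.map (QuotientGroup.mk' _) := e ▸ hz
  refine (QuotientGroup.eq_one_iff g).2 (mem_fitting hz fun y hy hc => ?_)
  have : y ∈ centralizer ({g} : Set G) := by
    refine CS.mem_of_forall_primePow_mem fun w hw s j hs hws => ?_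
    by_cases hw1 : w = 1
    · rw [hw1]; exact one_mem _
    have := Fact.mk hs
    obtain ⟨i, -, hi⟩ := (Nat.dvd_prime_pow hs).1 (orderOf_dvd_of_pow_eq_one hws)
    have h2 : IsPGroup s (zpowers w) := IsPGroup.of_card (by rw [Nat.card_zpowers, hi])
    have h3 : s ∣ orderOf y := Dvd.dvd.trans (hi ▸ dvd_pow_self s fun e => hw1 (by
      rw [e, pow_zero] at hi; exact orderOf_eq_one_iff.1 hi)) (orderOf_dvd_of_mem_zpowers hw)
    rintro _ rfl
    exact h s w (le_pCore_of_le_fittingSubgroup (zpowers_le.2 (zpowers_le.2 hy hw)) h2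
      (mem_zpowers w)) _ (cop_of_isPGroup hW hg (hc.coprime_dvd_left h3))
  exact (this g rfl).symm

theorem mem_ucs [Finite G] [Group.IsNilpotent G] {q : ℕ} [Fact q.Prime] {k : ℕ}
    (h : ∀ x, Val (pCore q G : Set G) k x → x = 1) :
    ∀ j m, m + j = k → ∀ x, Val (pCore q G : Set G) m x → x ∈ Subgroup.upperCentralSeries G j := by
  intro j
  induction j with
  | zero => rintro m rfl x hx; rw [h x hx]; exact one_mem _
  | succ j ih =>
    intro m hm x hx
    rw [Subgroup.mem_upperCentralSeries_succ_iff]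
    intro y
    have : y ∈ (centralizer ({(x : G ⧸ Subgroup.upperCentralSeries G j)} : Set _)).comap
        (QuotientGroup.mk' (Subgroup.upperCentralSeries G j)) := by
      refine CS.mem_of_forall_primePow_mem fun w _ s i hs hws => ?_
      rintro _ rfl
      have := Fact.mk hs
      obtain ⟨i, -, hi⟩ := (Nat.dvd_prime_pow hs).1 (orderOf_dvd_of_pow_eq_one hws)
      have h2 : IsPGroup s (zpowers w) := IsPGroup.of_card (by rw [Nat.card_zpowers, hi])
      by_cases e : s = q
      · subst e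
        have := (QuotientGroup.eq_one_iff _).2 (ih (m + 1) (by omega) _
          (hx.step (le_pCore_of_isNilpotent h2 (mem_zpowers w))))
        simpa [mul_inv_eq_one, mul_inv_eq_iff_eq_mul] using this
      · have := (commute_of_coprime_of_isNilpotent (x := x) (y := w) (cop_of_isPGroup
          (isPGroup_pCore q G) hx.mem (hi ▸ ((Nat.coprime_primes hs Fact.out).2 e).pow_left i))).eq
        exact congrArg (QuotientGroup.mk' (Subgroup.upperCentralSeries G j)) this
    rw [← QuotientGroup.eq_one_iff]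
    have := this _ rfl
    simpa [commutatorElement_def, mul_inv_eq_one, mul_inv_eq_iff_eq_mul] using this

theorem lcs_eq_bot [Finite G] [Group.IsNilpotent G] {k : ℕ}
    (h : ∀ (q : ℕ) [Fact q.Prime], ∀ x, Val (pCore q G : Set G) k x → x = 1) :
    (⊤ : Subgroup G).lowerCentralSeries k = ⊥ := by
  rw [lowerCentralSeries_eq_bot_iff_upperCentralSeries_eq_top, eq_top_iff,
    ← iSup_pCore_eq_top_of_isNilpotent G]
  refine iSup_le fun p x hx => ?_
  have := factPrime p
  exact mem_ucs (h p) k 0 (by simp) x (Val.zero hx)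

theorem L.mem_fitting [Finite G] {k : ℕ} (h : L k G) {q : ℕ} [Fact q.Prime] {x : G}
    (hx : Val Set.univ k x) (hc : ∀ n : ℕ, n.Coprime q → (orderOf x).Coprime n)
    (h1 : (x : G ⧸ fittingSubgroup G) ∈ pCore q (G ⧸ fittingSubgroup G)) :
    x ∈ fittingSubgroup G :=
  BW.mem_fitting h1 fun y hy hy' => h x hx (pPrimeCore q G) (by rw [normalizer_eq_top]; trivial)
    (hc _ (coprime_card_pPrimeCore q G)) y (le_pPrimeCore_of_le_fittingSubgroup (zpowers_le.2 hy)
      (by rwa [Nat.card_zpowers]) (mem_zpowers y))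

theorem L.isNilpotent_of_isSolvable [Finite G] [Group.IsSolvable G] {k : ℕ} (h : L k G) :
    Group.IsNilpotent ((⊤ : Subgroup G).lowerCentralSeries k) := by
  have hf := QuotientGroup.mk'_surjective (fittingSubgroup G)
  have : Group.IsNilpotent (G ⧸ fittingSubgroup G) := isNilpotent_of_comm fun q _ c hc g hg => by
    by_contra hne
    have hn : g ∈ normalizer (pCore q (G ⧸ fittingSubgroup G) : Set _) := by
      rw [normalizer_eq_top]; trivial
    obtain ⟨x, h1, h2, h3⟩ := exists_val hf (isPGroup_pCore q _) hn hc k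
    have h4 := (QuotientGroup.eq_one_iff x).2 (h.mem_fitting h1 h2 (by
      show QuotientGroup.mk' _ x ∈ _
      rw [h3]; exact it_mem hc hn k))
    obtain ⟨j, hj⟩ := IsPGroup.iff_card.1 (isPGroup_pCore q (G ⧸ fittingSubgroup G))
    refine it_not_comm hc hn (hj ▸ hg.symm.pow_left j) hne k ?_
    rw [← h3, show QuotientGroup.mk' _ x = 1 from h4, mul_one, one_mul]
  have h1 : (⊤ : Subgroup (G ⧸ fittingSubgroup G)).lowerCentralSeries k = ⊥ :=
    lcs_eq_bot fun q _ x hx => by
      obtain ⟨W, hW, e, -⟩ := exists_lift hf (isPGroup_pCore q _) (one_mem _)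
      obtain ⟨y, hy, rfl⟩ := hx.lift (QuotientGroup.mk' _) (S := W) fun b hb => by
        obtain ⟨a, ha, e'⟩ : b ∈ W.map (QuotientGroup.mk' _) := e ▸ hb
        exact ⟨a, ha, e'⟩
      exact (QuotientGroup.eq_one_iff y).2
        (h.mem_fitting hy.univ (fun _ => cop_of_isPGroup hW hy.mem) hx.mem)
  refine isNilpotent_of_le_fittingSubgroup ?_
  rw [← map_top_of_surjective _ hf, ← map_lowerCentralSeries, Subgroup.map_eq_bot_iff,
    QuotientGroup.ker_mk'] at h1
  exact h1

theorem L.isSolvable [Finite G] {k : ℕ} (h : L k G) : Group.IsSolvable G := by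
  by_contra hs
  obtain ⟨H, -, hm, hl⟩ := S2L.exists_section hs
  replace h := h.subgroup H
  have hf := QuotientGroup.mk'_surjective (frattini H)
  have := hm.1
  obtain ⟨V, g, c, h1, h2, h3, h4, h5⟩ := MinW.ea_minList hl
  have hV : IsPGroup 2 V := fun a => ⟨1, Subtype.ext (by simpa [pow_two] using h1 a a.2)⟩
  obtain ⟨t, t1, t2, t3⟩ := exists_val hf hV h2 h4 k
  obtain ⟨j, hj⟩ := IsPGroup.iff_card.1 hV
  have ht1 : it c g k ≠ 1 := fun e => it_not_comm h4 h2
    (hj ▸ (Nat.coprime_two_left.2 h3).pow_left j) h5 k (by rw [e, mul_one, one_mul])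
  have ht2 : orderOf (it c g k) = 2 :=
    orderOf_eq_prime (by rw [pow_two]; exact h1 _ (it_mem h4 h2 k)) ht1
  obtain ⟨w, w1, w2, w3⟩ := Cfsg.Agent.S0200.result _ ht2 fun N hN hp hT => by
    rcases hN.eq_bot_or_eq_top with e | e
    · exact ht1 (by simpa [e] using hT)
    · subst e
      have := (hp.of_equiv topEquiv).isNilpotent
      exact MinW.not_solvable_of_isMinimalSimple hm inferInstance
  have hww : ∀ {y : H ⧸ frattini H}, Odd (orderOf y) → y * y = 1 → y = 1 := fun hy e =>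
    orderOf_eq_one_iff.1 (Nat.eq_one_of_dvd_coprimes (Nat.coprime_two_left.2 hy)
      (orderOf_dvd_of_pow_eq_one (by rw [pow_two, e])) dvd_rfl)
  -- a value of odd prime power order outside the Frattini subgroup
  obtain ⟨r, hr, hrd⟩ := Nat.exists_prime_and_dvd (mt orderOf_eq_one_iff.1 w1)
  have := Fact.mk hr
  have hr2 : r ≠ 2 := by
    rintro rfl
    exact (Nat.not_even_iff_odd.2 w2) (even_iff_two_dvd.2 hrd)
  obtain ⟨u, hu, hur⟩ : ∃ u ∈ zpowers w, orderOf u = r :=
    ⟨_, pow_mem (mem_zpowers w) _, orderOf_pow_orderOf_div (orderOf_pos _).ne' hrd⟩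
  have hu3 : it c g k * u * (it c g k)⁻¹ = u⁻¹ := by
    obtain ⟨n, rfl⟩ := hu
    rw [← conj_zpow, w3, inv_zpow]
  have hun : it c g k ∈ normalizer (zpowers u : Set _) :=
    MaxN.mem_norm_zpowers (hu3 ▸ inv_mem (mem_zpowers u))
  obtain ⟨y, y1, y2, y3⟩ := exists_val hf (p := r) (V := zpowers u)
    (IsPGroup.of_card (n := 1) (by rw [Nat.card_zpowers, hur, pow_one])) hun (mem_zpowers u) k
  have hy1 : it u (it c g k) k ≠ 1 := fun e => it_not_comm (mem_zpowers u) hun
    (by rw [Nat.card_zpowers, hur, ht2]; exact (Nat.coprime_primes hr Nat.prime_two).2 hr2)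
    (fun e' => hr.one_lt.ne' (by
      rw [e', mul_inv_cancel_right] at hu3
      rw [← hur, hww (y := u) (hur ▸ hr.odd_of_ne_two hr2) (by nth_rewrite 1 [hu3]; simp),
        orderOf_one])) k
    (by rw [e, mul_one, one_mul])
  -- the Frattini subgroup is central
  have hcen : ∀ (p : ℕ) [Fact p.Prime] (x : H), Val Set.univ k x → (orderOf x).Coprime p →
      QuotientGroup.mk' (frattini H) x ≠ 1 → pCore p H ≤ center H := by
    intro p _ x hx hc hx1
    have hC : centralizer (pCore p H : Set H) = ⊤ := by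
      refine eq_top_of_sup_eq_top_of_le_frattini le_rfl ?_
      have hN : ((centralizer (pCore p H : Set H)).map (QuotientGroup.mk' (frattini H))).Normal :=
        Normal.map inferInstance _ hf
      obtain ⟨i, hi⟩ := IsPGroup.iff_card.1 (isPGroup_pCore p H)
      have hxC : x ∈ centralizer (pCore p H : Set H) :=
        h x hx _ (by rw [normalizer_eq_top]; trivial) (hi ▸ hc.pow_right i)
      rcases hN.eq_bot_or_eq_top with e | e
      · exact absurd (mem_bot.1 (e ▸ mem_map_of_mem _ hxC)) hx1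
      · rw [sup_comm, ← comap_map_mk', e, comap_top]
    intro z hz
    rw [mem_center_iff]
    intro a
    exact ((hC ▸ mem_top a : a ∈ centralizer (pCore p H : Set H)) z hz).symm
  have hΦ : frattini H ≤ center H := by
    refine frattini_le_fittingSubgroup.trans ?_
    rw [fittingSubgroup_eq_iSup_pCore]
    refine iSup_le fun p => ?_
    have := factPrime p
    by_cases e : (p : ℕ) = 2
    · exact hcen p y y1 (y2 _ (e ▸ (Nat.coprime_primes Nat.prime_two hr).2 hr2.symm)) (y3 ▸ hy1)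
    · exact hcen p t t1 (t2 _ ((Nat.coprime_primes p.2 Nat.prime_two).2 e)) (t3 ▸ ht1)
  obtain ⟨w, rfl⟩ := hf w
  have hz : t * w * t⁻¹ * w ∈ frattini H := by
    rw [← QuotientGroup.eq_one_iff]
    show QuotientGroup.mk' _ _ = 1
    rw [map_mul, map_mul, map_mul, map_inv, t3, w3, inv_mul_cancel]
  obtain ⟨z, hzd⟩ : ∃ z, z = t * w * t⁻¹ * w := ⟨_, rfl⟩
  rw [← hzd] at hz
  have hzc : ∀ a : H, a * z = z * a := mem_center_iff.1 (hΦ hz)
  have e1 : t * w * t⁻¹ = z * w⁻¹ := by rw [hzd]; group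
  have e2 : t * (w * w * z⁻¹) * t⁻¹ = (w * w * z⁻¹)⁻¹ := by
    have e3 : t * z⁻¹ * t⁻¹ = z⁻¹ := by
      rw [mul_inv_eq_iff_eq_mul]; exact ((show Commute t z from hzc t).inv_right).eq
    calc t * (w * w * z⁻¹) * t⁻¹ = (t * w * t⁻¹) * (t * w * t⁻¹) * (t * z⁻¹ * t⁻¹) := by group
      _ = z * (w⁻¹ * z) * w⁻¹ * z⁻¹ := by rw [e1, e3]; group
      _ = z * (z * (w⁻¹ * w⁻¹)) * z⁻¹ := by rw [hzc w⁻¹]; group
      _ = (w * w * z⁻¹)⁻¹ := by rw [← hzc (w⁻¹ * w⁻¹)]; group
  obtain ⟨a, ha⟩ : ∃ a, a = w * w * z⁻¹ := ⟨_, rfl⟩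
  rw [← ha] at e2
  have hfa : QuotientGroup.mk' (frattini H) a = QuotientGroup.mk' (frattini H) w ^ 2 := by
    rw [ha, map_mul, map_mul, map_inv, show QuotientGroup.mk' (frattini H) z = 1 from
      (QuotientGroup.eq_one_iff z).2 hz, inv_one, mul_one, pow_two]
  obtain ⟨i, m, hm, e⟩ := Nat.exists_eq_pow_mul_and_not_dvd (orderOf_pos a).ne' 2 (by norm_num)
  have hb : orderOf (a ^ 2 ^ i) ∣ m :=
    orderOf_dvd_of_pow_eq_one (by rw [← pow_mul, ← e, pow_orderOf_eq_one])
  have hm2 : m.Coprime 2 := ((Nat.Prime.coprime_iff_not_dvd Nat.prime_two).2 hm).symm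
  have e4 : t * a ^ 2 ^ i * t⁻¹ = (a ^ 2 ^ i)⁻¹ := by rw [← conj_pow, e2, inv_pow]
  have e5 := h t t1 (zpowers (a ^ 2 ^ i)) (MaxN.mem_norm_zpowers (e4 ▸ inv_mem (mem_zpowers _)))
    (t2 _ (by rw [Nat.card_zpowers]; exact hm2.coprime_dvd_left hb)) _ (mem_zpowers _)
  rw [← e5, mul_inv_cancel_right] at e4
  have e6 : (a ^ 2 ^ i) ^ 2 = 1 := by rw [pow_two]; nth_rewrite 1 [e4]; simp
  have e7 := congrArg (QuotientGroup.mk' (frattini H)) e6
  rw [map_pow, map_pow, hfa, map_one, ← pow_mul, ← pow_mul, ← pow_succ, ← pow_succ'] at e7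
  exact w1 (orderOf_eq_one_iff.1 (Nat.eq_one_of_dvd_coprimes
    ((Nat.coprime_two_left.2 w2).pow_left _) (orderOf_dvd_of_pow_eq_one e7) dvd_rfl))

end CL.BW
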