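import Mathlib

/-!
# Solvable linear groups I: modules, bases, reduction to the primitive case
-/

open Subgroup
open scoped Pointwise

namespace CL.SolvLin

universe u v

section defs
variable {A : Type*} {V : Type*} [Group A] [AddCommGroup V] [DistribMulAction A V]

/-- `U` is invariant under `H`. -/
def Inv (H : Subgroup A) (U : AddSubgroup V) : Prop := ∀ a ∈ H, ∀ v ∈ U, a • v ∈ U

variable (A V) in
/-- Complete reducibility. -/
def CR : Prop := ∀ U : AddSubgroup V, (∀ a : A, ∀ v ∈ U, a • v ∈ U) →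
  ∃ W : AddSubgroup V, (∀ a : A, ∀ w ∈ W, a • w ∈ W) ∧ U ⊓ W = ⊥ ∧ U ⊔ W = ⊤

variable (A V) in
/-- Irreducibility. -/
def Irr : Prop := ∀ U : AddSubgroup V, (∀ a : A, ∀ v ∈ U, a • v ∈ U) → U = ⊥ ∨ U = ⊤

/-- `x` is a base for `H` on `U`. -/
def IsBase {ι : Type*} (H : Subgroup A) (U : AddSubgroup V) (x : ι → V) : Prop :=
  (∀ i, x i ∈ U) ∧ ∀ a ∈ H, (∀ i, a • x i = x i) → ∀ u ∈ U, a • u = u

variable (A V) in
/-- There is a base indexed by `ι` (modulo the kernel of the action). -/
def HasBase (ι : Type*) : Prop := ∃ x : ι → V, ∀ a : A, (∀ i, a • x i = x i) → ∀ u : V, a • u = u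

theorem Irr.cr (h : Irr A V) : CR A V := fun U hU => by
  rcases h U hU with rfl | rfl
  · exact ⟨⊤, fun _ _ _ => trivial, by simp, by simp⟩
  · exact ⟨⊥, fun a w hw => by rw [AddSubgroup.mem_bot] at hw ⊢; rw [hw, smul_zero], by simp,
      by simp⟩

/-- The action of `H` on an invariant subgroup. -/
@[reducible] def resAct (H : Subgroup A) (U : AddSubgroup V) (h : Inv H U) :
    DistribMulAction H U where
  smul a u := ⟨(a : A) • (u : V), h a a.2 u u.2⟩
  one_smul u := Subtype.ext (one_smul A (u : V))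
  mul_smul a b u := Subtype.ext (mul_smul (a : A) (b : A) (u : V))
  smul_zero a := Subtype.ext (smul_zero (a : A))
  smul_add a u w := Subtype.ext (smul_add (a : A) (u : V) (w : V))

theorem exists_isBase_of_res {ι : Type*} {H : Subgroup A} {U : AddSubgroup V} (h : Inv H U)
    (hb : letI := resAct H U h; HasBase H U ι) : ∃ x : ι → V, IsBase H U x := by
  obtain ⟨x, hx⟩ := hb
  exact ⟨fun i => x i, fun i => (x i).2, fun a ha hf u hu =>
    congrArg Subtype.val (hx ⟨a, ha⟩ (fun i => Subtype.ext (hf i)) ⟨u, hu⟩)⟩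

theorem cr_res_of_irr {H : Subgroup A} {U : AddSubgroup V} (h : Inv H U)
    (hirr : ∀ U' ≤ U, Inv H U' → U' = ⊥ ∨ U' = U) : letI := resAct H U h; CR H U := by
  let := resAct H U h
  refine Irr.cr fun W hW => ?_
  rcases hirr (W.map U.subtype) (AddSubgroup.map_subtype_le W) (by
    rintro a ha _ ⟨w, hw, rfl⟩
    exact ⟨_, hW ⟨a, ha⟩ w hw, rfl⟩) with h1 | h1
  · exact Or.inl ((AddSubgroup.map_eq_bot_iff_of_injective W U.subtype_injective).1 h1)
  · refine Or.inr (AddSubgroup.map_injective U.subtype_injective ?_)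
    rw [h1, ← AddMonoidHom.range_eq_map, AddSubgroup.range_subtype]

theorem cr_res_of_cr (hcr : CR A V) {U : AddSubgroup V} (h : Inv (⊤ : Subgroup A) U) :
    letI := resAct ⊤ U h; CR (⊤ : Subgroup A) U := by
  let := resAct ⊤ U h
  intro W hW
  obtain ⟨W', h1, h2, h3⟩ := hcr (W.map U.subtype) (by
    rintro a _ ⟨w, hw, rfl⟩
    exact ⟨_, hW ⟨a, trivial⟩ w hw, rfl⟩)
  refine ⟨W'.comap U.subtype, fun a w hw => h1 a _ hw, ?_, ?_⟩
  · rw [eq_bot_iff]
    intro w hw
    have : (w : V) ∈ W.map U.subtype ⊓ W' := ⟨⟨w, hw.1, rfl⟩, hw.2⟩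
    rw [h2, AddSubgroup.mem_bot] at this
    exact AddSubgroup.mem_bot.2 (Subtype.ext this)
  · rw [eq_top_iff]
    intro u _
    have : (u : V) ∈ W.map U.subtype ⊔ W' := h3 ▸ trivial
    obtain ⟨_, ⟨w, hw, rfl⟩, w', hw', e⟩ := AddSubgroup.mem_sup.1 this
    refine AddSubgroup.mem_sup.2 ⟨w, hw, u - w, ?_, by abel⟩
    change ((u - w : U) : V) ∈ W'
    have e' : (w : V) + w' = u := e
    rwa [AddSubgroup.coe_sub, ← e', add_sub_cancel_left]

/-- Bases of complementary summands add up. -/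
theorem hasBase_of_compl {ι : Type*} {U W : AddSubgroup V} (hU : Inv (⊤ : Subgroup A) U)
    (hW : Inv (⊤ : Subgroup A) W) (h1 : U ⊓ W = ⊥) (h2 : U ⊔ W = ⊤) {x y : ι → V}
    (hx : IsBase (⊤ : Subgroup A) U x) (hy : IsBase (⊤ : Subgroup A) W y) : HasBase A V ι := by
  refine ⟨x + y, fun a ha v => ?_⟩
  have h3 : ∀ i, a • x i = x i ∧ a • y i = y i := by
    intro i
    have e := ha i
    rw [Pi.add_apply, smul_add] at e
    have h4 : a • x i - x i ∈ U ⊓ W := by
      refine AddSubgroup.mem_inf.2 ⟨sub_mem (hU a trivial _ (hx.1 i)) (hx.1 i), ?_⟩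
      have : a • x i - x i = y i - a • y i := by rw [sub_eq_sub_iff_add_eq_add, e, add_comm]
      rw [this]
      exact sub_mem (hy.1 i) (hW a trivial _ (hy.1 i))
    rw [h1, AddSubgroup.mem_bot, sub_eq_zero] at h4
    exact ⟨h4, by rw [h4] at e; exact add_left_cancel e⟩
  obtain ⟨u, hu, w, hw, rfl⟩ := AddSubgroup.mem_sup.1 (show v ∈ U ⊔ W from h2 ▸ trivial)
  rw [smul_add, hx.2 a trivial (fun i => (h3 i).1) u hu, hy.2 a trivial (fun i => (h3 i).2) w hw]

variable (A V) in
/-- The faithful image. -/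
abbrev Img : Subgroup (V ≃ₗ[ℤ] V) := (DistribMulAction.toModuleAut ℤ V : A →* V ≃ₗ[ℤ] V).range

variable (V) in
/-- The projection onto the faithful image. -/
abbrev toImg : A →* Img A V := (DistribMulAction.toModuleAut ℤ V : A →* V ≃ₗ[ℤ] V).rangeRestrict

theorem toImg_smul (a : A) (v : V) : toImg V a • v = a • v := rfl

theorem toImg_surj : Function.Surjective (toImg V : A → Img A V) :=
  MonoidHom.rangeRestrict_surjective _

theorem img_faithful (g : Img A V) (h : ∀ v : V, g • v = v) : g = 1 :=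
  Subtype.ext (LinearEquiv.ext h)

theorem CR.img (h : CR A V) : CR (Img A V) V := fun U hU => by
  obtain ⟨W, h1, h2⟩ := h U fun a => hU (toImg V a)
  refine ⟨W, fun g => ?_, h2⟩
  obtain ⟨a, rfl⟩ := toImg_surj g
  exact h1 a

theorem HasBase.of_img {ι : Type*} (h : HasBase (Img A V) V ι) : HasBase A V ι := by
  obtain ⟨x, hx⟩ := h
  exact ⟨x, fun a => hx (toImg V a)⟩

theorem card_img_dvd : Nat.card (Img A V) ∣ Nat.card A := Subgroup.card_dvd_of_surjective _ toImg_surj

end defs

section imprim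
variable {A : Type*} {V : Type*} [Group A] [AddCommGroup V] [DistribMulAction A V]

/-- The conjugates of `U` are independent. -/
def Indep (A : Type*) [Group A] [DistribMulAction A V] (U : AddSubgroup V) : Prop :=
  ∀ (s : Finset (MulAction.orbit A U)) (x : MulAction.orbit A U → V), (∀ l, x l ∈ l.1) →
    ∑ l ∈ s, x l = 0 → ∀ l ∈ s, x l = 0

theorem inv_stabilizer (U : AddSubgroup V) : Inv (MulAction.stabilizer A U) U := fun a ha v hv => by
  have := AddSubgroup.smul_mem_pointwise_smul v a U hv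
  rwa [show a • U = U from ha] at this

theorem exists_decomp {U U' : AddSubgroup V}
    [Fintype (MulAction.orbit A U)] (hirr : Irr A V) (hU' : U' ≠ ⊥)
    (hinv : Inv (MulAction.stabilizer A U) U') (g : MulAction.orbit A U → A)
    (hg : ∀ l, g l • U = l.1) (v : V) :
    ∃ x : MulAction.orbit A U → V, (∀ l, x l ∈ g l • U') ∧ ∑ l, x l = v := by
  classical
  have key : ∀ (a : A) (l : MulAction.orbit A U), a • U = l.1 → a • U' = g l • U' := by
    intro a l h
    have h1 : (g l)⁻¹ * a ∈ MulAction.stabilizer A U := by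
      rw [MulAction.mem_stabilizer_iff, mul_smul, h, ← hg l, inv_smul_smul]
    have h2 : ∀ b ∈ MulAction.stabilizer A U, b • U' = U' := fun b hb => by
      refine le_antisymm ?_ fun w hw => ?_
      · rintro _ ⟨w, hw, rfl⟩
        exact hinv b hb w hw
      · rw [AddSubgroup.mem_pointwise_smul_iff_inv_smul_mem]
        exact hinv _ (inv_mem hb) w hw
    rw [← mul_inv_cancel_left (g l) a, mul_smul, h2 _ h1]
  have hT : (⨆ l : MulAction.orbit A U, g l • U') = ⊤ := by
    refine (hirr _ fun a v hv => ?_).resolve_left fun h => hU' ?_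
    · refine AddSubgroup.iSup_induction _ (C := fun v => a • v ∈ ⨆ l, g l • U') hv ?_ ?_ ?_
      · intro l w hw
        refine AddSubgroup.mem_iSup_of_mem (a • l) ?_
        rw [← key (a * g l) (a • l) (by rw [mul_smul, hg]; rfl), mul_smul]
        exact AddSubgroup.smul_mem_pointwise_smul w a _ hw
      · rw [smul_zero]; exact zero_mem _
      · intro x y hx hy
        rw [smul_add]; exact add_mem hx hy
    · rw [iSup_eq_bot] at h
      have := h ⟨U, MulAction.mem_orbit_self U⟩
      rwa [← key 1 _ (one_smul _ _), one_smul] at this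
  refine AddSubgroup.iSup_induction _
    (C := fun v => ∃ x : MulAction.orbit A U → V, (∀ l, x l ∈ g l • U') ∧ ∑ l, x l = v)
    (show v ∈ ⨆ l : MulAction.orbit A U, g l • U' by rw [hT]; trivial) ?_ ?_ ?_
  · intro l w hw
    refine ⟨Pi.single l w, fun l' => ?_, by simp⟩
    by_cases h : l' = l
    · subst h; rwa [Pi.single_eq_same]
    · rw [Pi.single_eq_of_ne h]; exact zero_mem _
  · exact ⟨0, fun _ => zero_mem _, by simp⟩
  · rintro _ _ ⟨x, hx, rfl⟩ ⟨y, hy, rfl⟩
    exact ⟨x + y, fun l => add_mem (hx l) (hy l), by simp [Finset.sum_add_distrib]⟩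

theorem exists_reps (U : AddSubgroup V) :
    ∃ g : MulAction.orbit A U → A, ∀ l, g l • U = l.1 :=
  ⟨fun l => l.2.choose, fun l => l.2.choose_spec⟩

theorem Indep.eq_of_mem {U : AddSubgroup V} (h : Indep A U) {l l' : MulAction.orbit A U} {v : V}
    (hv : v ≠ 0) (h1 : v ∈ l.1) (h2 : v ∈ l'.1) : l = l' := by
  classical
  by_contra hne
  have := h {l, l'} (Pi.single l v - Pi.single l' v) (fun m => by
    refine sub_mem ?_ ?_
    · by_cases e : m = l
      · subst e; rwa [Pi.single_eq_same]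
      · rw [Pi.single_eq_of_ne e]; exact zero_mem _
    · by_cases e : m = l'
      · subst e; rwa [Pi.single_eq_same]
      · rw [Pi.single_eq_of_ne e]; exact zero_mem _) (by
    rw [Finset.sum_pair hne]
    simp [Pi.single_eq_of_ne hne, Pi.single_eq_of_ne' hne]) l (by simp)
  simp [Pi.single_eq_of_ne hne, hv] at this

theorem Indep.card_lt [Finite V] {U : AddSubgroup V} (h : Indep A U) (hU : U ≠ ⊥) :
    Nat.card (MulAction.orbit A U) < Nat.card V := by
  obtain ⟨g, hg⟩ := exists_reps (A := A) U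
  obtain ⟨⟨u, hu⟩, hu0⟩ := (AddSubgroup.ne_bot_iff_exists_ne_zero).1 hU
  have hu0 : u ≠ 0 := fun e => hu0 (Subtype.ext e)
  have hm : ∀ l, g l • u ∈ l.1 := fun l => hg l ▸ AddSubgroup.smul_mem_pointwise_smul u _ U hu
  have hn : ∀ l, g l • u ≠ 0 := fun l e => hu0 ((smul_eq_zero_iff_eq _).1 e)
  have h1 : Nat.card (MulAction.orbit A U) ≤ Nat.card {v : V // v ≠ 0} :=
    Nat.card_le_card_of_injective (fun l => ⟨g l • u, hn l⟩) fun l l' e =>
      h.eq_of_mem (hn l) (hm l) (by rw [show g l • u = g l' • u from congrArg Subtype.val e]; exact hm l')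
  exact h1.trans_lt (Finite.card_subtype_lt (x := 0) (by simp))

theorem Indep.irr [Finite A] {U : AddSubgroup V} (h : Indep A U) (hirr : Irr A V) :
    ∀ U' ≤ U, Inv (MulAction.stabilizer A U) U' → U' = ⊥ ∨ U' = U := by
  classical
  intro U' hle hinv
  refine or_iff_not_imp_left.2 fun hU' => le_antisymm hle fun u hu => ?_
  have : Finite (MulAction.orbit A U) := Finite.finite_mulAction_orbit U
  have := Fintype.ofFinite (MulAction.orbit A U)
  obtain ⟨g, hg⟩ := exists_reps (A := A) U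
  obtain ⟨x, hx, hs⟩ := exists_decomp hirr hU' hinv g hg u
  let l₀ : MulAction.orbit A U := ⟨U, MulAction.mem_orbit_self U⟩
  have h1 := h Finset.univ (x - Pi.single l₀ u) (fun m => by
    refine sub_mem ?_ ?_
    · rw [← hg m]
      exact AddSubgroup.pointwise_smul_le_pointwise_smul_iff.2 hle (hx m)
    · by_cases e : m = l₀
      · subst e; rwa [Pi.single_eq_same]
      · rw [Pi.single_eq_of_ne e]; exact zero_mem _) (by simp [Finset.sum_sub_distrib, hs]) l₀
      (Finset.mem_univ _)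
  rw [Pi.sub_apply, Pi.single_eq_same, sub_eq_zero] at h1
  obtain ⟨w, hw, e⟩ := hx l₀
  rw [← h1, ← e]
  exact hinv _ (hg l₀) w hw

/-- The imprimitive case: colour the blocks and put a base of the right type on each. -/
theorem hasBase_of_indep [Finite A] {ι κ : Type*} {U : AddSubgroup V} (hirr : Irr A V) (hU : U ≠ ⊥)
    (h : Indep A U) (col : MulAction.orbit A U → κ)
    (hcol : ∀ a : A, (∀ l, col (a • l) = col l) → ∀ l : MulAction.orbit A U, a • l = l)
    (x : κ → ι → V) (hx : ∀ k, IsBase (MulAction.stabilizer A U) U (x k))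
    (hne : ∀ k k' (a : A), (∀ i, a • x k i = x k' i) → k = k') : HasBase A V ι := by
  classical
  have : Finite (MulAction.orbit A U) := Finite.finite_mulAction_orbit U
  have := Fintype.ofFinite (MulAction.orbit A U)
  obtain ⟨g, hg⟩ := exists_reps (A := A) U
  have hm : ∀ l i, g l • x (col l) i ∈ l.1 := fun l i =>
    hg l ▸ AddSubgroup.smul_mem_pointwise_smul _ _ U ((hx _).1 i)
  refine ⟨fun i => ∑ l, g l • x (col l) i, fun a ha v => ?_⟩
  have h1 : ∀ l i, a • g l • x (col l) i = g (a • l) • x (col (a • l)) i := by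
    intro l i
    have := h Finset.univ (fun m => a • g (a⁻¹ • m) • x (col (a⁻¹ • m)) i - g m • x (col m) i)
      (fun m => sub_mem (by
        have := AddSubgroup.smul_mem_pointwise_smul _ a _ (hm (a⁻¹ • m) i)
        rwa [show a • (a⁻¹ • m).1 = m.1 from congrArg Subtype.val (smul_inv_smul a m)] at this)
        (hm m i)) (by
        have e := ha i
        simp only at e
        rw [Finset.sum_sub_distrib, ← e, Finset.smul_sum, sub_eq_zero]
        exact Fintype.sum_equiv (MulAction.toPerm a⁻¹) _ _ fun m => rfl) (a • l) (Finset.mem_univ _)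
    simpa only [inv_smul_smul, sub_eq_zero] using this
  have h2 := hcol a fun l => (hne _ _ ((g (a • l))⁻¹ * a * g l) fun i => by
    rw [mul_smul, mul_smul, h1, inv_smul_smul]).symm
  have h3 : ∀ l : MulAction.orbit A U, ∀ w ∈ l.1, a • w = w := by
    intro l w hw
    rw [← hg l] at hw
    obtain ⟨u, hu, rfl⟩ := hw
    have := (hx (col l)).2 ((g l)⁻¹ * a * g l) (by
      rw [MulAction.mem_stabilizer_iff, mul_smul, mul_smul, hg,
        show a • l.1 = l.1 from congrArg Subtype.val (h2 l), ← hg, inv_smul_smul]) (fun i => by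
      rw [mul_smul, mul_smul, h1, h2, inv_smul_smul]) u hu
    rw [mul_smul, mul_smul, inv_smul_eq_iff] at this
    exact this
  obtain ⟨y, hy, rfl⟩ := exists_decomp hirr hU (inv_stabilizer U) g hg v
  rw [Finset.smul_sum]
  exact Finset.sum_congr rfl fun l _ => h3 l _ (hg l ▸ hy l)

variable (A V) in
/-- Nontrivial elements of normal abelian subgroups act without nonzero fixed vectors. -/
def Prim : Prop := ∀ B : Subgroup A, B.Normal → (∀ a ∈ B, ∀ b ∈ B, a * b = b * a) →
  ∀ b ∈ B, ∀ v : V, b • v = v → b = 1 ∨ v = 0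

theorem exists_indep [Finite A] [Finite V] (hf : ∀ a : A, (∀ v : V, a • v = v) → a = 1)
    (h : ¬ Prim A V) : ∃ U : AddSubgroup V, U ≠ ⊥ ∧ U ≠ ⊤ ∧ Indep A U := by
  classical
  simp only [Prim, not_forall, not_or] at h
  obtain ⟨B, hBn, hB, b, hb, v, hbv, hb1, hv⟩ := h
  obtain ⟨v₀, hv₀, hmax⟩ := Set.exists_max_image {w : V | w ≠ 0}
    (fun w => Nat.card (B ⊓ MulAction.stabilizer A w : Subgroup A)) (Set.toFinite _) ⟨v, hv⟩
  set T := B ⊓ MulAction.stabilizer A v₀ with hT
  let U : AddSubgroup V := FixedPoints.addSubgroup T V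
  have hU : ∀ w, w ∈ U ↔ ∀ t ∈ T, t • w = w := fun w =>
    ⟨fun h t ht => h ⟨t, ht⟩, fun h t => h t t.2⟩
  have hv₀U : v₀ ∈ U := (hU _).2 fun t ht => ht.2
  refine ⟨U, fun e => hv₀ (by rw [e] at hv₀U; exact hv₀U), fun e => ?_, ?_⟩
  · have h1 : T = ⊥ := (eq_bot_iff_forall _).2 fun t ht => hf t fun w => (hU w).1 (e ▸ trivial) t ht
    have h2 := hmax v hv
    simp only [h1, card_bot] at h2
    have h3 := (eq_bot_iff_forall _).1 (eq_bot_of_card_le _ h2) b ⟨hb, hbv⟩
    exact hb1 h3
  obtain ⟨g, hg⟩ := exists_reps (A := A) U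
  let K : MulAction.orbit A U → Subgroup A := fun l => T.map (MulAut.conj (g l)).toMonoidHom
  have hKc : ∀ l, Nat.card (K l) = Nat.card T := fun l =>
    card_map_of_injective (MulAut.conj (g l)).injective
  have hKB : ∀ l, K l ≤ B := by
    rintro l _ ⟨t, ht, rfl⟩
    exact hBn.conj_mem t ht.1 _
  have hKl : ∀ (l : MulAction.orbit A U) w, w ∈ l.1 ↔ ∀ t ∈ K l, t • w = w := by
    intro l w
    rw [← hg l, AddSubgroup.mem_pointwise_smul_iff_inv_smul_mem, hU]
    constructor
    · rintro h _ ⟨t, ht, rfl⟩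
      change (g l * t * (g l)⁻¹) • w = w
      rw [mul_smul, mul_smul, h t ht, smul_inv_smul]
    · intro h t ht
      have : (g l * t * (g l)⁻¹) • w = w := h _ ⟨t, ht, rfl⟩
      rwa [mul_smul, mul_smul, smul_eq_iff_eq_inv_smul] at this
  have hK : ∀ (l : MulAction.orbit A U), ∀ w ∈ l.1, w ≠ 0 →
      K l = B ⊓ MulAction.stabilizer A w := fun l w hw hw0 =>
    eq_of_le_of_card_ge (le_inf (hKB l) fun t ht => (hKl l w).1 hw t ht)
      (by rw [hKc]; exact hmax w hw0)
  have hsep : ∀ l l' : MulAction.orbit A U, l ≠ l' → ∃ t ∈ K l, t ∉ K l' := by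
    intro l l' hne
    by_contra hc
    push Not at hc
    have := eq_of_le_of_card_ge (show K l ≤ K l' from hc) (by rw [hKc, hKc])
    exact hne (Subtype.ext (AddSubgroup.ext fun w => by rw [hKl, hKl, this]))
  intro s
  induction s using Finset.induction_on with
  | empty => simp
  | insert l₀ s hl₀ ih =>
    intro x hx hs
    rw [Finset.sum_insert hl₀] at hs
    have h1 : ∀ l ∈ s, x l = 0 := by
      intro l hl
      obtain ⟨t, ht, ht'⟩ := hsep l₀ l fun e => hl₀ (e ▸ hl)
      have := ih (fun m => t • x m - x m) (fun m => sub_mem ((hKl m _).2 fun r hr => by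
        rw [← mul_smul, hB r (hKB m hr) t (hKB l₀ ht), mul_smul, (hKl m _).1 (hx m) r hr]) (hx m))
        (by rw [Finset.sum_sub_distrib, ← Finset.smul_sum, eq_neg_of_add_eq_zero_right hs, smul_neg,
          (hKl l₀ _).1 (hx l₀) t ht, sub_self]) l hl
      by_contra hne
      exact ht' (by rw [hK l _ (hx l) hne]; exact ⟨hKB l₀ ht, sub_eq_zero.1 this⟩)
    intro l hl
    rcases Finset.mem_insert.1 hl with rfl | hl
    · rwa [Finset.sum_eq_zero h1, add_zero] at hs
    · exact h1 l hl

end imprim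

end CL.SolvLin
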