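import Mathlib
import Cfsg.Agent.FGS.SolvLin1

/-!
# Solvable linear groups II: commutator pairings and the field of scalars
-/

open Subgroup
open scoped Pointwise commutatorElement

namespace CL.SolvLin

variable {A : Type*} [Group A]

theorem exists_step [Finite A] [Group.IsSolvable A] {Z D : Subgroup A} [Z.Normal] [D.Normal]
    (h : Z < D) : ∃ E : Subgroup A, E.Normal ∧ Z < E ∧ E ≤ D ∧ (∀ x ∈ E, ∀ y ∈ E, ⁅x, y⁆ ∈ Z) ∧
      ∀ L : Subgroup A, L.Normal → Z ≤ L → L ≤ E → L = Z ∨ L = E := by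
  obtain ⟨E, ⟨hn, h1, h2⟩, hmin⟩ := Set.exists_min_image
    {L : Subgroup A | L.Normal ∧ Z < L ∧ L ≤ D} (fun L => Nat.card L) (Set.toFinite _)
    ⟨D, inferInstance, h, le_rfl⟩
  have h3 : ∀ L : Subgroup A, L.Normal → Z ≤ L → L ≤ E → L = Z ∨ L = E := fun L hL a b =>
    or_iff_not_imp_left.2 fun c => eq_of_le_of_card_ge b
      (hmin L ⟨hL, lt_of_le_of_ne a (Ne.symm c), b.trans h2⟩)
  refine ⟨E, hn, h1, h2, ?_, h3⟩
  rcases h3 (⁅E, E⁆ ⊔ Z) inferInstance le_sup_right
    (sup_le (commutator_le_left E E) h1.le) with h4 | h4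
  · exact fun x hx y hy => h4 ▸ mem_sup_left (commutator_mem_commutator hx hy)
  · exfalso
    have h5 : E.map (QuotientGroup.mk' Z) ≠ ⊥ := fun e => h1.not_ge (by
      rwa [Subgroup.map_eq_bot_iff, QuotientGroup.ker_mk'] at e)
    refine (Group.IsSolvable.commutator_lt_of_ne_bot h5).ne ?_
    conv_rhs => rw [← h4]
    rw [Subgroup.map_sup, map_commutator, (Subgroup.map_eq_bot_iff Z).2 (by rw [QuotientGroup.ker_mk']), sup_bot_eq]

theorem card_hom_le (X L : Type*) [Group X] [Finite X] [Field L] :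
    Finite (X →* L) ∧ Nat.card (X →* L) ≤ Nat.card X := by
  have := Fintype.ofFinite X
  have h := linearIndependent_monoidHom X L
  have h1 : Finite (X →* L) := h.finite
  have := Fintype.ofFinite (X →* L)
  refine ⟨h1, ?_⟩
  have := h.fintype_card_le_finrank
  rwa [Module.finrank_fintype_fun_eq_card, ← Nat.card_eq_fintype_card,
    ← Nat.card_eq_fintype_card] at this

/-- The character `u ↦ j ⁅k, u⁆`. -/
def commHom {L : Type*} [CommMonoid L] {Z U : Subgroup A} (j : Z →* L)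
    (hZU : ∀ z ∈ Z, ∀ u ∈ U, z * u = u * z) {k : A} (hk : ∀ u ∈ U, ⁅k, u⁆ ∈ Z) : U →* L where
  toFun u := j ⟨⁅k, (u : A)⁆, hk u u.2⟩
  map_one' := by simp only [coe_one, commutatorElement_one_right]; exact j.map_one
  map_mul' u w := by
    rw [← map_mul]
    congr 1
    refine Subtype.ext ?_
    change ⁅k, (u : A) * w⁆ = ⁅k, (u : A)⁆ * ⁅k, (w : A)⁆
    have h := hZU _ (hk w w.2) u u.2
    calc ⁅k, (u : A) * w⁆ = ⁅k, (u : A)⁆ * (u * ⁅k, (w : A)⁆) * (u : A)⁻¹ := by
          simp only [commutatorElement_def]; group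
      _ = _ := by rw [← h]; group

theorem commute_of_commutator_eq {k k' u : A} (h : ⁅k, u⁆ = ⁅k', u⁆) :
    u * (k⁻¹ * k') = k⁻¹ * k' * u := by
  simp only [commutatorElement_def] at h
  have := mul_right_cancel h
  calc u * (k⁻¹ * k') = k⁻¹ * (k * u * k⁻¹) * k' := by group
    _ = _ := by rw [this]; group

theorem pair_le [Finite A] {L : Type*} [Field L] {Z K U U₀ : Subgroup A} (j : Z →* L)
    (hj : Function.Injective j) (hZU : ∀ z ∈ Z, ∀ u ∈ U, z * u = u * z)
    (hc : ∀ k ∈ K, ∀ u ∈ U, ⁅k, u⁆ ∈ Z) [(U₀.subgroupOf U).Normal]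
    (h0 : ∀ k ∈ K, ∀ u ∈ U₀, ⁅k, u⁆ = 1) :
    (centralizer (U : Set A)).relIndex K ≤ U₀.relIndex U := by
  obtain ⟨_, h2⟩ := card_hom_le (U ⧸ U₀.subgroupOf U) L
  let f : K → (U ⧸ U₀.subgroupOf U →* L) := fun k =>
    QuotientGroup.lift _ (commHom j hZU (hc k k.2)) fun u hu => by
      change j _ = 1
      rw [← j.map_one]
      exact congrArg j (Subtype.ext (h0 k k.2 u hu))
  refine le_trans (Nat.card_le_card_of_injective
    (fun c : K ⧸ (centralizer (U : Set A)).subgroupOf K => f c.out) fun c c' e => ?_) h2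
  rw [← c.out_eq, ← c'.out_eq]
  refine QuotientGroup.eq.2 fun u hu => ?_
  exact commute_of_commutator_eq
    (congrArg Subtype.val (hj (DFunLike.congr_fun e ((⟨u, hu⟩ : U) : U ⧸ U₀.subgroupOf U))))

variable {V : Type*} [AddCommGroup V] [DistribMulAction A V]

theorem exists_field_aux [Finite A] [Finite V] [Nontrivial V] (hirr : Irr A V) {Z : Subgroup A}
    (hcen : ∀ z ∈ Z, ∀ x : A, z * x = x * z)
    (hfpf : ∀ z ∈ Z, ∀ v : V, z • v = v → z = 1 ∨ v = 0)
    (hcomm : ∀ x y : A, ⁅x, y⁆ ∈ Z) (hnd : ∀ x : A, (∀ y, y * x = x * y) → x ∈ Z) :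
    IsCyclic Z ∧ ∃ q d : ℕ, IsPrimePow q ∧ Nat.card Z ∣ q - 1 ∧ Nat.card V = q ^ d ∧
      Z.index ≤ d ^ 2 := by
  classical
  let ρ : A →* Module.End ℤ V := DistribMulAction.toModuleEnd ℤ V
  let K : Subring (Module.End ℤ V) := Subring.centralizer (Set.range ρ)
  have hK : ∀ (k : K) (a : A) (v : V), a • (k : Module.End ℤ V) v = (k : Module.End ℤ V) (a • v) :=
    fun k a v => LinearMap.congr_fun (k.2 _ ⟨a, rfl⟩) v
  have : Finite (Module.End ℤ V) := Finite.of_injective _ DFunLike.coe_injective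
  have hinj : ∀ k : K, k ≠ 0 → ∀ v, (k : Module.End ℤ V) v = 0 → v = 0 := by
    intro k hk v hv
    rcases hirr (LinearMap.ker (k : Module.End ℤ V)).toAddSubgroup (fun a w hw => by
      change (k : Module.End ℤ V) (a • w) = 0
      rw [← hK, show (k : Module.End ℤ V) w = 0 from hw, smul_zero]) with h | h
    · exact (AddSubgroup.eq_bot_iff_forall _).1 h v hv
    · refine absurd (Subtype.ext (LinearMap.ext fun w => ?_)) hk
      have : w ∈ (LinearMap.ker (k : Module.End ℤ V)).toAddSubgroup := h ▸ trivial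
      exact this
  have : NoZeroDivisors K := ⟨fun {a b} h => or_iff_not_imp_left.2 fun ha =>
    Subtype.ext (LinearMap.ext fun v => hinj a ha _ (LinearMap.congr_fun (congrArg Subtype.val h) v))⟩
  have : IsDomain K := NoZeroDivisors.to_isDomain K
  let := (Finite.isDomain_to_isField K).toField
  have := Fintype.ofFinite K
  let j : Z →* K :=
    { toFun z := ⟨ρ z, by rintro _ ⟨a, rfl⟩; rw [← map_mul, ← map_mul, hcen z z.2]⟩
      map_one' := Subtype.ext ρ.map_one
      map_mul' a b := Subtype.ext (ρ.map_mul _ _) }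
  have hjs : ∀ (z : Z) (v : V), j z • v = (z : A) • v := fun _ _ => rfl
  obtain ⟨v₀, hv₀⟩ := exists_ne (0 : V)
  have hj : Function.Injective j := (injective_iff_map_eq_one j).2 fun z hz =>
    Subtype.ext ((hfpf z z.2 v₀ (by rw [← hjs, hz, one_smul])).resolve_right hv₀)
  refine ⟨isCyclic_of_injective_ringHom j hj, Nat.card K, Module.finrank K V, ?_, ?_,
    Module.natCard_eq_pow_finrank, ?_⟩
  · rw [Nat.card_eq_fintype_card]; exact FiniteField.isPrimePow_card K
  · rw [← Nat.card_units]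
    exact card_dvd_of_injective j.toHomUnits fun a b e => hj (congrArg Units.val e)
  let ρ' : A → V →ₗ[K] V := fun a =>
    { toFun v := a • v
      map_add' := smul_add a
      map_smul' k v := hK k a v }
  let lam : A ⧸ Z → ((⊤ : Subgroup A) →* K) := fun c =>
    commHom j (fun z hz u _ => hcen z hz u) (k := c.out⁻¹) fun u _ => hcomm _ _
  have hlam : Function.Injective lam := by
    intro c c' e
    rw [← c.out_eq, ← c'.out_eq]
    refine QuotientGroup.eq.2 ?_
    have h1 := hnd (c.out⁻¹⁻¹ * c'.out⁻¹) fun y => commute_of_commutator_eq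
      (congrArg Subtype.val (hj (DFunLike.congr_fun e ⟨y, trivial⟩)))
    have h2 := hcen _ h1 c'.out
    rw [inv_inv] at h1 h2
    have h3 : c.out⁻¹ * c'.out = (c.out * c'.out⁻¹)⁻¹ := by
      rw [eq_inv_iff_mul_eq_one, mul_assoc, ← h2]; group
    rw [h3]; exact inv_mem h1
  have := Fintype.ofFinite (A ⧸ Z)
  have hli : LinearIndependent K fun c : A ⧸ Z => ρ' c.out := by
    rw [Fintype.linearIndependent_iff]
    intro g hg c
    have h1 := Fintype.linearIndependent_iff.1 ((linearIndependent_monoidHom (⊤ : Subgroup A) K).comp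
      lam hlam)
    have h2 : g c • c.out • v₀ = 0 := by
      rw [← Module.forall_dual_apply_eq_zero_iff K]
      intro φ
      refine h1 (fun c => φ (g c • c.out • v₀)) (funext fun y => ?_) c
      have h3 := congrArg (fun w => φ ((y : A) • w)) (LinearMap.congr_fun hg ((y : A)⁻¹ • v₀))
      simp only [LinearMap.sum_apply, LinearMap.zero_apply, smul_zero, map_zero, Finset.smul_sum,
        map_sum] at h3
      rw [Finset.sum_apply, Pi.zero_apply, ← h3]
      refine Finset.sum_congr rfl fun c _ => ?_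
      change φ (g c • c.out • v₀) * lam c y = φ ((y : A) • (g c • c.out • (y : A)⁻¹ • v₀))
      rw [mul_comm, ← smul_eq_mul, ← map_smul, smul_comm (lam c y)]
      congr 1
      change _ = (y : A) • (g c : Module.End ℤ V) _
      rw [hK]
      change (g c : Module.End ℤ V) (⁅c.out⁻¹, (y : A)⁆ • c.out • v₀) = _
      rw [← mul_smul, hcen _ (hcomm _ _), ← mul_smul, ← mul_smul]
      congr 2
      simp only [commutatorElement_def]
      have := hcen _ (hcomm c.out⁻¹ (y : A)) c.out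
      simp only [commutatorElement_def] at this
      group
    exact (smul_eq_zero.1 h2).resolve_right fun e => hv₀ ((smul_eq_zero_iff_eq _).1 e)
  have h4 := hli.fintype_card_le_finrank
  rwa [Module.finrank_linearMap, ← sq, ← Nat.card_eq_fintype_card] at h4

theorem exists_min_inv [Finite V] [Nontrivial V] (E : Subgroup A) :
    ∃ U : AddSubgroup V, U ≠ ⊥ ∧ Inv E U ∧ ∀ U' ≤ U, Inv E U' → U' = ⊥ ∨ U' = U := by
  obtain ⟨U, ⟨h1, h2⟩, hmin⟩ := Set.exists_min_image {U : AddSubgroup V | U ≠ ⊥ ∧ Inv E U}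
    (fun U => Nat.card U) (Set.toFinite _) ⟨⊤, top_ne_bot, fun _ _ _ _ => trivial⟩
  exact ⟨U, h1, h2, fun U' hle hinv => or_iff_not_imp_left.2 fun h =>
    AddSubgroup.eq_of_le_of_card_ge hle (hmin U' ⟨h, hinv⟩)⟩

theorem irr_res {H : Subgroup A} {U : AddSubgroup V} (h : Inv H U)
    (hirr : ∀ U' ≤ U, Inv H U' → U' = ⊥ ∨ U' = U) : letI := resAct H U h; Irr H U := by
  let := resAct H U h
  intro W hW
  rcases hirr (W.map U.subtype) (AddSubgroup.map_subtype_le W) (by
    rintro a ha _ ⟨w, hw, rfl⟩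
    exact ⟨_, hW ⟨a, ha⟩ w hw, rfl⟩) with h1 | h1
  · exact Or.inl ((AddSubgroup.map_eq_bot_iff_of_injective W U.subtype_injective).1 h1)
  · refine Or.inr (AddSubgroup.map_injective U.subtype_injective ?_)
    rw [h1, ← AddMonoidHom.range_eq_map, AddSubgroup.range_subtype]

theorem exists_field [Finite A] [Finite V] [Nontrivial V] {Z E : Subgroup A} (hZE : Z ≤ E)
    (hcen : ∀ z ∈ Z, ∀ x ∈ E, z * x = x * z)
    (hfpf : ∀ z ∈ Z, ∀ v : V, z • v = v → z = 1 ∨ v = 0)
    (hcomm : ∀ x ∈ E, ∀ y ∈ E, ⁅x, y⁆ ∈ Z) (hnd : ∀ x ∈ E, (∀ y ∈ E, y * x = x * y) → x ∈ Z) :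
    IsCyclic Z ∧ ∃ q d : ℕ, IsPrimePow q ∧ Nat.card Z ∣ q - 1 ∧ q ^ d ≤ Nat.card V ∧
      Z.relIndex E ≤ d ^ 2 := by
  obtain ⟨U, h1, h2, h3⟩ := exists_min_inv (V := V) E
  let := resAct E U h2
  have : Nontrivial U := (AddSubgroup.nontrivial_iff_ne_bot U).2 h1
  obtain ⟨h4, q, d, h5, h6, h7, h8⟩ := exists_field_aux (irr_res h2 h3) (Z := Z.subgroupOf E)
    (fun z hz x => Subtype.ext (hcen z hz x x.2))
    (fun z hz v hv => (hfpf z hz v (congrArg Subtype.val hv)).imp Subtype.ext Subtype.ext)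
    (fun x y => hcomm x x.2 y y.2)
    (fun x hx => hnd x x.2 fun y hy => congrArg Subtype.val (hx ⟨y, hy⟩))
  refine ⟨(subgroupOfEquivOfLe hZE).isCyclic.1 h4, q, d, h5, ?_, ?_, h8⟩
  · rwa [Nat.card_congr (subgroupOfEquivOfLe hZE).toEquiv] at h6
  · rw [← h7]; exact AddSubgroup.card_le_card_addGroup U

end CL.SolvLin
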