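import Mathlib
import Cfsg.Agent.FGS.SolvLin2

/-!
# Solvable linear groups III: the structure of a primitive group
-/

open Subgroup
open scoped Pointwise commutatorElement

namespace CL.SolvLin

variable {A : Type*} [Group A] {V : Type*} [AddCommGroup V] [DistribMulAction A V]

variable (V) in
/-- `Z` is a maximal normal abelian subgroup, `E / Z` the symplectic section above it. -/
structure Str (Z E : Subgroup A) : Prop where
  Zn : Z.Normal
  En : E.Normal
  le : Z ≤ E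
  cen : ∀ z ∈ Z, ∀ x ∈ E, z * x = x * z
  comm : ∀ x ∈ E, ∀ y ∈ E, ⁅x, y⁆ ∈ Z
  maxab : ∀ B : Subgroup A, B.Normal → (∀ a ∈ B, ∀ b ∈ B, a * b = b * a) → Z ≤ B → B ≤ Z
  selfc : ∀ x : A, (∀ y ∈ E, y * x = x * y) → x ∈ Z
  fpf : ∀ z ∈ Z, ∀ v : V, z • v = v → z = 1 ∨ v = 0

theorem exists_str [Finite A] [Group.IsSolvable A] (h : Prim A V) :
    ∃ Z E : Subgroup A, Str V Z E := by
  obtain ⟨Z, ⟨hZn, hZ⟩, hZmax⟩ := Set.exists_max_image
    {B : Subgroup A | B.Normal ∧ ∀ a ∈ B, ∀ b ∈ B, a * b = b * a} (fun L => Nat.card L)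
    (Set.toFinite _) ⟨⊥, inferInstance, by simp⟩
  have hmax : ∀ B : Subgroup A, B.Normal → (∀ a ∈ B, ∀ b ∈ B, a * b = b * a) → Z ≤ B → B ≤ Z :=
    fun B h1 h2 h3 => (eq_of_le_of_card_ge h3 (hZmax B ⟨h1, h2⟩)).ge
  obtain ⟨E, ⟨hEn, h1, h2, h3⟩, hEmax⟩ := Set.exists_max_image
    {E : Subgroup A | E.Normal ∧ Z ≤ E ∧ E ≤ centralizer (Z : Set A) ∧ ⁅E, E⁆ ≤ Z}
    (fun L => Nat.card L) (Set.toFinite _)
    ⟨Z, hZn, le_rfl, fun x hx z hz => hZ z hz x hx, commutator_le_left Z Z⟩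
  refine ⟨Z, E, hZn, hEn, h1, fun z hz x hx => h2 hx z hz,
    fun x hx y hy => h3 (commutator_mem_commutator hx hy), hmax, ?_, h Z hZn hZ⟩
  have hZD : Z ≤ centralizer (E : Set A) := fun z hz x hx => (h2 hx z hz).symm
  by_contra hc
  have hlt : Z < centralizer (E : Set A) := lt_of_le_of_ne hZD fun e => hc fun x hx => by
    rw [e]; exact hx
  obtain ⟨E', hn', h4, h5, h6, -⟩ := exists_step hlt
  have h7 : E ⊔ E' = E := by
    refine (eq_of_le_of_card_ge le_sup_left (hEmax _ ⟨inferInstance, h1.trans le_sup_left,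
      sup_le h2 (h5.trans (centralizer_le h1)), ?_⟩)).symm
    rw [commutator_le]
    intro x hx y hy
    rw [← SetLike.mem_coe, mul_normal] at hx hy
    obtain ⟨a, ha, a', ha', rfl⟩ := hx
    obtain ⟨b, hb, b', hb', rfl⟩ := hy
    have e1 : Commute a b' := h5 hb' a ha
    have e2 : Commute b a' := h5 ha' b hb
    have e3 : Commute a a' := h5 ha' a ha
    have e4 : Commute b b' := h5 hb' b hb
    have e5 : Commute ⁅a', b'⁆ b⁻¹ := (h2 (inv_mem hb) _ (h6 _ ha' _ hb'))
    have e6 : Commute ⁅a', b'⁆ a⁻¹ := (h2 (inv_mem ha) _ (h6 _ ha' _ hb'))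
    have : ⁅a * a', b * b'⁆ = ⁅a, b⁆ * ⁅a', b'⁆ := by
      calc ⁅a * a', b * b'⁆ = a * (a' * b) * b' * a'⁻¹ * (a⁻¹ * b'⁻¹) * b⁻¹ := by
            simp only [commutatorElement_def]; group
        _ = a * b * (⁅a', b'⁆ * a⁻¹) * b⁻¹ := by
            rw [← e2.eq, e1.inv_inv.eq]; simp only [commutatorElement_def]; group
        _ = a * b * a⁻¹ * (⁅a', b'⁆ * b⁻¹) := by rw [e6.eq]; group
        _ = _ := by rw [e5.eq]; simp only [commutatorElement_def]; group
    change ⁅a * a', b * b'⁆ ∈ Z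
    rw [this]
    exact mul_mem (h3 (commutator_mem_commutator ha hb)) (h6 _ ha' _ hb')
  refine h4.not_ge (hmax E' hn' (fun a ha b hb => ?_) h4.le)
  exact h5 hb a (h7 ▸ mem_sup_right ha)

theorem exists_hom_complex (Z : Type*) [Group Z] [Finite Z] [IsCyclic Z] :
    ∃ j : Z →* ℂ, Function.Injective j := by
  have : NeZero (Nat.card Z) := ⟨Nat.card_pos.ne'⟩
  let e : Z ≃* rootsOfUnity (Nat.card Z) ℂ := mulEquivOfCyclicCardEq (Complex.card_rootsOfUnity _).symm
  exact ⟨(Units.coeHom ℂ).comp ((rootsOfUnity (Nat.card Z) ℂ).subtype.comp e.toMonoidHom),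
    Units.val_injective.comp (Subtype.val_injective.comp e.injective)⟩

theorem index_centralizer_le [Finite A] {N : Subgroup A} [hN : N.Normal] {v : A} (hv : v ∈ N) :
    (centralizer ({v} : Set A)).index ≤ Nat.card N := by
  refine Nat.card_le_card_of_injective
    (fun c : A ⧸ centralizer ({v} : Set A) => (⟨c.out * v * c.out⁻¹, hN.conj_mem v hv _⟩ : N))
    fun c c' e => ?_
  rw [← c.out_eq, ← c'.out_eq]
  refine QuotientGroup.eq.2 (mem_centralizer_singleton_iff.2 ?_)
  have : c.out * v * c.out⁻¹ = c'.out * v * c'.out⁻¹ := congrArg Subtype.val e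
  calc c.out⁻¹ * c'.out * v = c.out⁻¹ * (c'.out * v * c'.out⁻¹) * c'.out := by group
    _ = _ := by rw [← this]; group

/-- The fixed vectors of `g`. -/
def fix (V : Type*) [AddCommGroup V] [DistribMulAction A V] (g : A) : AddSubgroup V where
  carrier := {v | g • v = v}
  add_mem' {a b} ha hb := by
    change g • (a + b) = a + b
    rw [smul_add, show g • a = a from ha, show g • b = b from hb]
  zero_mem' := smul_zero g
  neg_mem' {a} ha := by
    change g • (-a) = -a
    rw [smul_neg, show g • a = a from ha]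

theorem mem_fix {g : A} {v : V} : v ∈ fix V g ↔ g • v = v := Iff.rfl

theorem card_mul_le_inf [Finite V] (U W : AddSubgroup V) :
    Nat.card U * Nat.card W ≤ Nat.card (U ⊓ W : AddSubgroup V) * Nat.card V := by
  have h1 := AddSubgroup.relIndex_le_of_le_right (H := U) (le_top (a := W))
    (by rw [AddSubgroup.relIndex_top_right]; exact U.index_ne_zero_of_finite)
  rw [AddSubgroup.relIndex_top_right, ← AddSubgroup.inf_relIndex_right] at h1
  have h2 : Nat.card (U ⊓ W : AddSubgroup V) * (U ⊓ W).relIndex W = Nat.card W := by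
    rw [← AddSubgroup.relIndex_bot_left, ← AddSubgroup.relIndex_bot_left,
      AddSubgroup.relIndex_mul_relIndex _ _ _ bot_le inf_le_right]
  rw [← h2, ← U.card_mul_index]
  calc _ ≤ Nat.card U * (Nat.card (U ⊓ W : AddSubgroup V) * U.index) := by gcongr
    _ = _ := by ring

theorem card_pow_three_le [Finite V] (U : AddSubgroup V) (y y' : A)
    (h : ∀ a ∈ U, ∀ b ∈ U, ∀ c ∈ U, a + y • b + y' • c = 0 → b = 0 ∧ c = 0) :
    Nat.card U ^ 3 ≤ Nat.card V := by
  have : Nat.card (U × U × U) ≤ Nat.card V := by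
    refine Nat.card_le_card_of_injective (fun t => (t.1 : V) + y • (t.2.1 : V) + y' • (t.2.2 : V)) ?_
    rintro ⟨a, b, c⟩ ⟨a', b', c'⟩ e
    simp only at e
    obtain ⟨h1, h2⟩ := h _ (a - a').2 _ (b - b').2 _ (c - c').2 (by
      simp only [AddSubgroup.coe_sub, smul_sub]
      rw [← sub_eq_zero] at e
      rw [← e]; abel)
    rw [AddSubgroup.coe_sub, sub_eq_zero] at h1 h2
    rw [h1, h2] at e
    exact Prod.ext (Subtype.ext (add_right_cancel (add_right_cancel e)))
      (Prod.ext (Subtype.ext h1) (Subtype.ext h2))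
  rwa [Nat.card_prod, Nat.card_prod, ← mul_assoc, ← sq, ← pow_succ] at this

namespace Str

variable {Z E : Subgroup A} (h : Str V Z E)
include h

theorem ab {a b : A} (ha : a ∈ Z) (hb : b ∈ Z) : a * b = b * a := h.cen a ha b (h.le hb)

theorem smul_inj {a b : A} (ha : a ∈ Z) (hb : b ∈ Z) (hne : a ≠ b) {v : V} (e : a • v = b • v) :
    v = 0 :=
  (h.fpf (b⁻¹ * a) (mul_mem (inv_mem hb) ha) v (by rw [mul_smul, e, inv_smul_smul])).resolve_left
    fun e => hne (inv_mul_eq_one.1 e).symm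

theorem normal_subgroupOf {U₀ U : Subgroup A} (h0 : Z ≤ U₀) (hU : U ≤ E) :
    (U₀.subgroupOf U).Normal := ⟨fun u hu g => by
  have h1 : (u : A) ∈ U₀ := hu
  have h2 := mul_mem (h0 (h.comm _ (hU g.2) _ (hU u.2))) h1
  change (g : A) * u * (g : A)⁻¹ ∈ U₀
  simpa only [commutatorElement_def, inv_mul_cancel_right] using h2⟩

variable [Finite A] [Finite V] [Nontrivial V]

theorem field : IsCyclic Z ∧ ∃ q d : ℕ, IsPrimePow q ∧ Nat.card Z ∣ q - 1 ∧ q ^ d ≤ Nat.card V ∧
    Z.relIndex E ≤ d ^ 2 :=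
  exists_field h.le h.cen h.fpf h.comm fun x _ hx => h.selfc x hx

theorem exists_gen : ∃ z ∈ Z, centralizer ({z} : Set A) = centralizer (Z : Set A) := by
  have := h.field.1
  obtain ⟨z, hz⟩ := IsCyclic.exists_generator (α := Z)
  refine ⟨z, z.2, le_antisymm (fun x hx w hw => ?_)
    (centralizer_le (Set.singleton_subset_iff.2 z.2))⟩
  obtain ⟨n, hn⟩ := hz ⟨w, hw⟩
  rw [show w = (z : A) ^ n from (congrArg Subtype.val hn).symm]
  exact (show Commute x z from mem_centralizer_singleton_iff.1 hx).symm.zpow_left n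

theorem index_le : (centralizer (Z : Set A)).index ≤ Nat.card Z := by
  obtain ⟨z, hz, e⟩ := h.exists_gen
  have := h.Zn
  rw [← e]; exact index_centralizer_le hz

/-- The semilinear case. -/
theorem base_of_eq (e : E = Z) : ∃ v w : V, ∀ a : A, a • v = v → a • w = w → a = 1 := by
  obtain ⟨z, hz, e'⟩ := h.exists_gen
  obtain ⟨v, hv⟩ := exists_ne (0 : V)
  refine ⟨v, z • v, fun a h1 h2 => ?_⟩
  have h3 : a * z * a⁻¹ = z := by
    by_contra hne
    refine hv (h.smul_inj (h.Zn.conj_mem z hz a) hz hne ?_)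
    rw [mul_smul, mul_smul, inv_smul_eq_iff.2 h1.symm, h2]
  have h4 : a ∈ centralizer (Z : Set A) := by
    rw [← e', mem_centralizer_singleton_iff]
    exact mul_inv_eq_iff_eq_mul.1 h3
  exact (h.fpf a (h.selfc a fun y hy => h4 y (e ▸ hy)) v h1).resolve_right hv

theorem pair {K U U₀ : Subgroup A} (hU : U ≤ E) (h0 : Z ≤ U₀) (hc : ∀ k ∈ K, ∀ u ∈ U, ⁅k, u⁆ ∈ Z)
    (h1 : ∀ k ∈ K, ∀ u ∈ U₀, ⁅k, u⁆ = 1) :
    (centralizer (U : Set A)).relIndex K ≤ U₀.relIndex U := by
  have := h.field.1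
  obtain ⟨j, hj⟩ := exists_hom_complex Z
  have := h.normal_subgroupOf h0 hU
  exact pair_le j hj (fun z hz u hu => h.cen z hz u (hU hu)) hc h1

omit [Finite A] [Finite V] [Nontrivial V] in
theorem centralizer_eq : centralizer (E : Set A) = Z :=
  le_antisymm (fun x hx => h.selfc x hx) fun z hz x hx => (h.cen z hz x hx).symm

theorem mem_of_comm {g : A} (hg : g ∈ centralizer (Z : Set A)) (hc : ∀ y ∈ E, ⁅g, y⁆ ∈ Z) :
    g ∈ E := by
  have := h.Zn
  let K : Subgroup A :=
    { carrier := {g | g ∈ centralizer (Z : Set A) ∧ ∀ y ∈ E, ⁅g, y⁆ ∈ Z}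
      one_mem' := ⟨one_mem _, fun y _ => by simp⟩
      mul_mem' := fun {a b} ha hb => ⟨mul_mem ha.1 hb.1, fun y hy => by
        have : ⁅a * b, y⁆ = a * ⁅b, y⁆ * a⁻¹ * ⁅a, y⁆ := by
          simp only [commutatorElement_def]; group
        rw [this]
        exact mul_mem (h.Zn.conj_mem _ (hb.2 y hy) a) (ha.2 y hy)⟩
      inv_mem' := fun {a} ha => ⟨inv_mem ha.1, fun y hy => by
        have : ⁅a⁻¹, y⁆ = a⁻¹ * ⁅a, y⁆⁻¹ * a⁻¹⁻¹ := by
          simp only [commutatorElement_def]; group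
        rw [this]
        exact h.Zn.conj_mem _ (inv_mem (ha.2 y hy)) _⟩ }
  have hEK : E ≤ K := fun x hx => ⟨fun z hz => h.cen z hz x hx, h.comm x hx⟩
  have h1 := h.pair (K := K) le_rfl le_rfl (fun k hk => hk.2) fun k hk u hu =>
    commutatorElement_eq_one_iff_mul_comm.2 (hk.1 u hu).symm
  rw [h.centralizer_eq, ← relIndex_mul_relIndex Z E K h.le hEK] at h1
  have h2 : E.relIndex K = 1 := by
    have h3 : Z.relIndex E ≠ 0 := FiniteIndex.index_ne_zero
    have h4 : E.relIndex K ≠ 0 := FiniteIndex.index_ne_zero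
    have := Nat.le_of_mul_le_mul_left (h1.trans_eq (mul_one _).symm) (Nat.pos_of_ne_zero h3)
    omega
  exact relIndex_eq_one.1 h2 ⟨hg, hc⟩

theorem compl {U : Subgroup A} [U.Normal] (h1 : Z ≤ U) (h2 : U ≤ E) :
    ∃ U' : Subgroup A, U'.Normal ∧ U ⊓ U' = Z ∧ U ⊔ U' = E := by
  have := h.En
  have h3 : U ⊓ (E ⊓ centralizer (U : Set A)) = Z := by
    refine le_antisymm (h.maxab _ inferInstance (fun a ha b hb => hb.2.2 a ha.1) ?_) ?_ <;>
    exact le_inf h1 (le_inf h.le fun z hz u hu => (h.cen z hz u (h2 hu)).symm)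
  refine ⟨E ⊓ centralizer (U : Set A), inferInstance, h3, ?_⟩
  have h4 := h.pair (K := E) h2 le_rfl (fun k hk u hu => h.comm k hk u (h2 hu)) fun k hk u hu =>
    commutatorElement_eq_one_iff_mul_comm.2 (h.cen u hu k hk).symm
  set D := E ⊓ centralizer (U : Set A) with hD
  have h5 : D.relIndex (U ⊔ D) = Z.relIndex U := by
    rw [relIndex_sup_right, ← h3, inf_comm, inf_relIndex_right]
  have h6 : U ⊔ D ≤ E := sup_le h2 inf_le_left
  have h7 := relIndex_mul_relIndex D (U ⊔ D) E le_sup_right h6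
  rw [h5, hD, inf_comm, inf_relIndex_right, inf_comm, ← hD] at h7
  have h8 : Z.relIndex U ≠ 0 := FiniteIndex.index_ne_zero
  have h9 : (U ⊔ D).relIndex E ≠ 0 := FiniteIndex.index_ne_zero
  have := Nat.le_of_mul_le_mul_left (h7.trans_le (h4.trans_eq (mul_one _).symm))
    (Nat.pos_of_ne_zero h8)
  exact le_antisymm h6 (relIndex_eq_one.1 (by omega))

theorem exists_sq : ∃ e : ℕ, Z.relIndex E = e ^ 2 := by
  obtain ⟨M, ⟨h1, h2, h3⟩, hmax⟩ := Set.exists_max_image
    {M : Subgroup A | Z ≤ M ∧ M ≤ E ∧ ∀ a ∈ M, ∀ b ∈ M, a * b = b * a} (fun L => Nat.card L)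
    (Set.toFinite _) ⟨Z, le_rfl, h.le, fun a ha b hb => h.ab ha hb⟩
  have h4 : centralizer (M : Set A) ⊓ E = M := by
    refine le_antisymm (fun x hx => ?_) (le_inf (fun a ha b hb => h3 b hb a ha) h2)
    have h5 : M = closure (insert x (M : Set A)) := by
      refine eq_of_le_of_card_ge (fun a ha => subset_closure (Or.inr ha)) (hmax _ ⟨fun a ha =>
        subset_closure (Or.inr (h1 ha)), (closure_le _).2 (Set.insert_subset hx.2 h2), ?_⟩)
      have := isMulCommutative_closure (k := insert x (M : Set A)) (by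
        rintro a (rfl | ha) b (rfl | hb)
        · rfl
        · exact (hx.1 b hb).symm
        · exact hx.1 a ha
        · exact h3 a ha b hb)
      exact fun a ha b hb => setLike_mul_comm ha hb
    rw [h5]; exact subset_closure (Or.inl rfl)
  have h6 := h.pair (K := E) h2 le_rfl (fun k hk u hu => h.comm k hk u (h2 hu)) fun k hk u hu =>
    commutatorElement_eq_one_iff_mul_comm.2 (h.cen u hu k hk).symm
  have h7 := h.pair (K := M) le_rfl h1 (fun k hk u hu => h.comm k (h2 hk) u hu) fun k hk u hu =>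
    commutatorElement_eq_one_iff_mul_comm.2 (h3 k hk u hu)
  rw [← inf_relIndex_right, h4] at h6
  rw [h.centralizer_eq] at h7
  exact ⟨Z.relIndex M, by
    rw [← relIndex_mul_relIndex Z M E h1 h2, le_antisymm h6 h7, sq]⟩

omit [Finite V] [Nontrivial V] in
theorem prime_dvd {r : ℕ} (hr : r.Prime) (hd : r ∣ Z.relIndex E) : r ∣ Nat.card Z := by
  have := h.normal_subgroupOf le_rfl le_rfl
  have := Fact.mk hr
  obtain ⟨c, hc⟩ := exists_prime_orderOf_dvd_card' (G := E ⧸ Z.subgroupOf E) r hd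
  obtain ⟨x, rfl⟩ := QuotientGroup.mk_surjective c
  have h1 : (x : A) ∉ Z := fun hx => hr.ne_one (by
    rw [← hc, orderOf_eq_one_iff]; exact (QuotientGroup.eq_one_iff _).2 hx)
  have h2 : ((x ^ r : E) : A) ∈ Z := by
    have := pow_orderOf_eq_one (x : E ⧸ Z.subgroupOf E)
    rw [hc, ← QuotientGroup.mk_pow] at this
    exact (QuotientGroup.eq_one_iff (N := Z.subgroupOf E) _).1 this
  obtain ⟨y, hy, hne⟩ : ∃ y ∈ E, y * x ≠ x * y := by
    by_contra hc
    push Not at hc
    exact h1 (h.selfc _ hc)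
  let : CommGroup Z := { (inferInstance : Group Z) with
    mul_comm := fun a b => Subtype.ext (h.ab a.2 b.2) }
  let f := commHom (MonoidHom.id Z) h.cen (h.comm y hy)
  have h3 : f x ^ r = 1 := by
    rw [← map_pow]
    exact Subtype.ext (commutatorElement_eq_one_iff_mul_comm.2 (h.cen _ h2 y hy).symm)
  have h4 : f x ≠ 1 := fun e =>
    hne (commutatorElement_eq_one_iff_mul_comm.1 (congrArg Subtype.val e))
  rw [← orderOf_eq_prime h3 h4]
  exact orderOf_dvd_natCard _

end Str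

end CL.SolvLin
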