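import Mathlib
import Cfsg.Agent.FGS.SolvLin3

/-!
# Solvable linear groups IV: normal abelian subgroups as modules; regular sets for odd order
-/

open Subgroup
open scoped Pointwise commutatorElement

namespace CL.SolvLin

universe u

section abmod
variable {X : Type*} [Group X]

/-- A normal abelian subgroup written additively. -/
def AbMod (N : Subgroup X) (_h : ∀ a ∈ N, ∀ b ∈ N, a * b = b * a) : Type _ := Additive N

namespace AbMod
variable {N : Subgroup X} {h : ∀ a ∈ N, ∀ b ∈ N, a * b = b * a}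

instance : AddCommGroup (AbMod N h) :=
  { (inferInstance : AddGroup (Additive N)) with
    add_comm := fun a b => Subtype.ext (h _ (Additive.toMul a).2 _ (Additive.toMul b).2) }

instance [Finite X] : Finite (AbMod N h) := (inferInstance : Finite N)

/-- The underlying group element. -/
def val (v : AbMod N h) : X := (Additive.toMul v : N)

/-- The vector of a group element. -/
def mk (h : ∀ a ∈ N, ∀ b ∈ N, a * b = b * a) (x : X) (hx : x ∈ N) : AbMod N h :=
  Additive.ofMul ⟨x, hx⟩

theorem val_mem (v : AbMod N h) : v.val ∈ N := (Additive.toMul v).2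
theorem val_mk (x : X) (hx : x ∈ N) : (mk h x hx).val = x := rfl
theorem val_inj : Function.Injective (val : AbMod N h → X) := fun _ _ e => Subtype.ext e
theorem val_add (v w : AbMod N h) : (v + w).val = v.val * w.val := rfl
theorem val_neg (v : AbMod N h) : (-v).val = v.val⁻¹ := rfl
theorem val_zero : (0 : AbMod N h).val = 1 := rfl
theorem card : Nat.card (AbMod N h) = Nat.card N := rfl

instance [N.Normal] : DistribMulAction X (AbMod N h) where
  smul g v := Additive.ofMul (MulAut.conjNormal g (Additive.toMul v))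
  one_smul v := val_inj (by change 1 * v.val * 1⁻¹ = v.val; group)
  mul_smul a b v := val_inj (by
    change a * b * v.val * (a * b)⁻¹ = a * (b * v.val * b⁻¹) * a⁻¹; group)
  smul_zero a := val_inj (by change a * 1 * a⁻¹ = 1; group)
  smul_add a v w := val_inj (by
    change a * (v.val * w.val) * a⁻¹ = a * v.val * a⁻¹ * (a * w.val * a⁻¹); group)

theorem val_smul [N.Normal] (g : X) (v : AbMod N h) : (g • v).val = g * v.val * g⁻¹ := rfl

theorem cr [N.Normal] (hc : ∀ U : Subgroup X, U.Normal → U ≤ N →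
    ∃ U' : Subgroup X, U'.Normal ∧ U ⊓ U' = ⊥ ∧ U ⊔ U' = N) : CR X (AbMod N h) := by
  intro U hU
  let U₁ : Subgroup X :=
    { carrier := val '' (U : Set (AbMod N h))
      one_mem' := ⟨0, zero_mem U, rfl⟩
      mul_mem' := by rintro _ _ ⟨a, ha, rfl⟩ ⟨b, hb, rfl⟩; exact ⟨a + b, add_mem ha hb, rfl⟩
      inv_mem' := by rintro _ ⟨a, ha, rfl⟩; exact ⟨-a, neg_mem ha, rfl⟩ }
  have hn : U₁.Normal := ⟨by rintro _ ⟨a, ha, rfl⟩ g; exact ⟨g • a, hU g a ha, rfl⟩⟩
  obtain ⟨U', h1, h2, h3⟩ := hc U₁ hn (by rintro _ ⟨a, -, rfl⟩; exact a.val_mem)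
  let W : AddSubgroup (AbMod N h) :=
    { carrier := {v | v.val ∈ U'}
      zero_mem' := one_mem U'
      add_mem' := fun {a b} ha hb => U'.mul_mem (x := a.val) (y := b.val) ha hb
      neg_mem' := fun {a} ha => U'.inv_mem (x := a.val) ha }
  refine ⟨W, fun a w hw => h1.conj_mem _ hw a, (AddSubgroup.eq_bot_iff_forall _).2 fun v hv => ?_,
    (AddSubgroup.eq_top_iff' _).2 fun v => ?_⟩
  · have : v.val ∈ U₁ ⊓ U' := ⟨⟨v, hv.1, rfl⟩, hv.2⟩
    rw [h2] at this
    exact val_inj this
  · have := h3.ge v.val_mem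
    rw [← SetLike.mem_coe, mul_normal] at this
    obtain ⟨_, ⟨a, ha, rfl⟩, b, hb, e⟩ := this
    exact AddSubgroup.mem_sup.2 ⟨a, ha, mk h b (h3.le (mem_sup_right hb)), hb, val_inj e⟩

end AbMod

end abmod

theorem smul_eq_of_sq {G Ω : Type*} [Group G] [MulAction G Ω] {g : G} (hg : Odd (orderOf g)) {x : Ω}
    (h : g • g • x = x) : g • x = x := by
  obtain ⟨k, hk⟩ := hg
  have h1 : ∀ n : ℕ, g ^ (2 * n) • x = x := fun n => by
    induction n with
    | zero => simp
    | succ n ih => rw [mul_add, mul_one, pow_add, mul_smul, sq, mul_smul, h, ih]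
  have h2 := pow_orderOf_eq_one g
  rw [hk, pow_succ'] at h2
  conv_lhs => rw [← h1 k, ← mul_smul, h2, one_smul]

theorem odd_orderOf {G : Type*} [Group G] (hG : Odd (Nat.card G)) (g : G) : Odd (orderOf g) :=
  hG.of_dvd_nat (orderOf_dvd_natCard g)

theorem exists_affine_set {W : Type*} [AddCommGroup W] (h2 : ∀ x : W, x + x = 0 → x = 0) (v w : W) :
    ∃ D : Set W, ∀ (τ : W → W) (L : W →+ W), Function.Injective τ → (∀ x, τ x = L x + τ 0) →
      (∀ x, τ (τ x) = x → τ x = x) → (∀ x, τ (τ (τ (τ x))) = x → τ x = x) →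
      (∀ x ∈ D, τ x ∈ D) → τ 0 = 0 ∧ τ v = v ∧ τ w = w := by
  classical
  have key : ∀ u : W, ∀ (τ : W → W), Function.Injective τ → (∀ x, τ (τ x) = x → τ x = x) →
      (∀ x ∈ ({0, u} : Set W), τ x ∈ ({0, u} : Set W)) → τ 0 = 0 ∧ τ u = u := by
    intro u τ hi h1 hD
    have a := hD 0 (by simp)
    have b := hD u (by simp)
    simp only [Set.mem_insert_iff, Set.mem_singleton_iff] at a b
    rcases a with a | a <;> rcases b with b | b
    · exact ⟨a, by rw [b]; exact hi (a.trans b.symm)⟩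
    · exact ⟨a, b⟩
    · exact ⟨h1 0 (by rw [a, b]), h1 u (by rw [b, a])⟩
    · obtain rfl := hi (a.trans b.symm)
      exact ⟨a, b⟩
  by_cases hv : v = 0
  · subst hv
    exact ⟨{0, w}, fun τ L hi _ h1 _ hD => ⟨(key w τ hi h1 hD).1, key w τ hi h1 hD⟩⟩
  by_cases hw : w = 0 ∨ w = v ∨ v + w = 0
  · refine ⟨{0, v}, fun τ L hi hL h1 _ hD => ?_⟩
    obtain ⟨a, b⟩ := key v τ hi h1 hD
    refine ⟨a, b, ?_⟩
    rcases hw with rfl | rfl | hw
    · exact a
    · exact b
    · rw [hL, a, add_zero] at b ⊢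
      rw [eq_neg_of_add_eq_zero_right hw, map_neg, b]
  push Not at hw
  obtain ⟨hw, hwv, hvw⟩ := hw
  refine ⟨{0, v, w, v + w}, fun τ L hi hL h1 h4 hD => ?_⟩
  have hrel : τ 0 + τ (v + w) = τ v + τ w := by
    rw [hL (v + w), hL v, hL w, map_add]; abel
  have n1 : v + w ≠ v := by simpa using hw
  have n2 : v + w ≠ w := by simpa using hv
  have hsum : τ (v + w) = v + w - τ 0 := by
    let s : Finset W := {0, v, w, v + w}
    have hs : s.image τ = s := Finset.eq_of_subset_of_card_le (by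
      intro y hy
      obtain ⟨x, hx, rfl⟩ := Finset.mem_image.1 hy
      simpa [s] using hD x (by simpa [s] using hx)) (Finset.card_image_of_injective s hi).ge
    have h5 : ∑ x ∈ s, τ x = ∑ x ∈ s, x := by
      conv_rhs => rw [← hs, Finset.sum_image hi.injOn]
    have h6 : ∀ f : W → W, ∑ x ∈ s, f x = f 0 + (f v + (f w + f (v + w))) := fun f => by
      rw [Finset.sum_insert (by simp [hw.symm, hvw.symm, Ne.symm hv]),
        Finset.sum_insert (by simp [hwv.symm, hw]), Finset.sum_pair n2.symm]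
    rw [h6, h6] at h5
    rw [eq_sub_iff_add_eq', ← sub_eq_zero]
    refine h2 _ ?_
    calc _ = τ 0 + τ (v + w) + (τ 0 + τ (v + w)) - (0 + (v + (w + (v + w)))) := by abel
      _ = 0 := by rw [← h5]; nth_rewrite 2 [hrel]; abel
  have a := hD 0 (by simp)
  have b := hD v (by simp)
  simp only [Set.mem_insert_iff, Set.mem_singleton_iff] at a b
  rw [hsum, add_sub_cancel] at hrel
  have i1 : τ v ≠ τ 0 := fun e => hv (hi e)
  have i2 : τ v ≠ τ (v + w) := fun e => n1 (hi e).symm
  rcases a with a | a | a | a <;> rw [a] at hsum i1 <;> rw [hsum] at i2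
  · rw [sub_zero] at i2
    rcases b with b | b | b | b
    · exact absurd b i1
    · exact ⟨a, b, by rw [b] at hrel; exact (add_left_cancel hrel).symm⟩
    · rw [b, add_comm] at hrel
      exact absurd ((h1 v (by rw [b, ← add_left_cancel hrel])).symm.trans b) hwv.symm
    · exact absurd b i2
  · rw [add_sub_cancel_left] at i2 hsum
    rcases b with b | b | b | b
    · exact absurd ((h1 0 (by rw [a, b])).symm.trans a).symm hv
    · exact absurd b i1
    · exact absurd b i2
    · rw [b, left_eq_add] at hrel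
      exact absurd ((h4 0 (by rw [a, b, hsum, hrel])).symm.trans a).symm hv
  · rw [add_sub_cancel_right] at i2 hsum
    rcases b with b | b | b | b
    · rw [b, zero_add] at hrel
      exact absurd ((h4 0 (by rw [a, ← hrel, hsum, b])).symm.trans a).symm hw
    · exact absurd b i2
    · exact absurd b i1
    · rw [b, left_eq_add] at hrel
      exact absurd ((h1 0 (by rw [a, hrel])).symm.trans a).symm hw
  · rw [sub_self] at hsum
    exact absurd ((h1 0 (by rw [a, hsum])).symm.trans a).symm hvw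

/-- Blocks given by the orbits of a normal subgroup. -/
def orbs {G : Type*} [Group G] (N : Subgroup G) [N.Normal] (Ω : Type*) [MulAction G Ω] :
    SubMulAction G (Set Ω) where
  carrier := {S | ∃ x, MulAction.orbit N x = S}
  smul_mem' := by
    rintro g _ ⟨x, rfl⟩
    exact ⟨g • x, (MulAction.smul_orbit_eq_orbit_smul N x g).symm⟩

/-- A block as a set acted on by its stabiliser. -/
def blk {G : Type*} [Group G] {Ω : Type*} [MulAction G Ω] (S : Set Ω) :
    SubMulAction (MulAction.stabilizer G S) Ω where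
  carrier := S
  smul_mem' g x hx := by
    have := Set.smul_mem_smul_set (a := (g : G)) hx
    rwa [show (g : G) • S = S from g.2] at this

theorem card_orbs_lt {G : Type*} [Group G] (N : Subgroup G) [N.Normal] {Ω : Type*} [Finite Ω]
    [MulAction G Ω] {n : G} (hn : n ∈ N) {x : Ω} (hx : n • x ≠ x) :
    Nat.card (orbs N Ω) < Nat.card Ω := by
  let f : Ω → orbs N Ω := fun x => ⟨_, x, rfl⟩
  have hf : Function.Surjective f := by rintro ⟨_, x, rfl⟩; exact ⟨x, rfl⟩
  refine lt_of_le_of_ne (Nat.card_le_card_of_surjective f hf) fun e => hx ?_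
  exact ((Nat.bijective_iff_surjective_and_card f).2 ⟨hf, e.symm⟩).1
    (Subtype.ext (MulAction.orbit_smul (⟨n, hn⟩ : N) x))

/-- Identification of the points with a transitive abelian normal subgroup. -/
theorem regular_of_trans {G Ω : Type*} [Group G] [MulAction G Ω] (hf : ∀ g : G, (∀ x : Ω, g • x = x) → g = 1)
    {N : Subgroup G} (h : ∀ a ∈ N, ∀ b ∈ N, a * b = b * a) {ω : Ω}
    (ht : MulAction.orbit N ω = Set.univ) :
    Function.Bijective fun v : AbMod N h => v.val • ω := by
  refine ⟨fun a b e => ?_, fun x => ?_⟩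
  · simp only at e
    refine AbMod.val_inj (inv_mul_eq_one.1 (hf _ fun x => ?_))
    obtain ⟨n, rfl⟩ : x ∈ MulAction.orbit N ω := ht ▸ trivial
    change (a.val⁻¹ * b.val) • (n : G) • ω = (n : G) • ω
    rw [← mul_smul, h _ (mul_mem (inv_mem a.val_mem) b.val_mem) _ n.2, mul_smul, mul_smul, ← e,
      inv_smul_smul]
  · obtain ⟨n, rfl⟩ : x ∈ MulAction.orbit N ω := ht ▸ trivial
    exact ⟨AbMod.mk h n n.2, rfl⟩

/-- The inductive statement for groups of odd order. -/
def POdd (n : ℕ) : Prop := ∀ (A V : Type u) [Group A] [Finite A] [Group.IsSolvable A]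
  [AddCommGroup V] [Finite V] [DistribMulAction A V], Nat.card V < n → Odd (Nat.card A) → CR A V →
    HasBase A V Bool

theorem gluck_affine {n : ℕ} (hP : POdd.{u} n) {G Ω : Type u} [Group G] [Finite G]
    [Group.IsSolvable G] [Finite Ω] [MulAction G Ω] (hn : Nat.card Ω < n) (hG : Odd (Nat.card G))
    (hf : ∀ g : G, (∀ x : Ω, g • x = x) → g = 1) {N : Subgroup G} [N.Normal]
    (h : ∀ a ∈ N, ∀ b ∈ N, a * b = b * a)
    (hmin : ∀ L : Subgroup G, L.Normal → L ≤ N → L = ⊥ ∨ L = N) {ω : Ω}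
    (ht : MulAction.orbit N ω = Set.univ) :
    ∃ D : Set Ω, ∀ g : G, (∀ x, g • x ∈ D ↔ x ∈ D) → ∀ x : Ω, g • x = x := by
  let e := Equiv.ofBijective _ (regular_of_trans hf h ht)
  have he : ∀ v, e v = v.val • ω := fun _ => rfl
  obtain ⟨x, hx⟩ := hP G (AbMod N h) (by rwa [Nat.card_congr e]) hG (AbMod.cr fun U hU hle => by
    rcases hmin U hU hle with rfl | rfl
    · exact ⟨N, inferInstance, by simp, by simp⟩
    · exact ⟨⊥, inferInstance, by simp, by simp⟩)
  obtain ⟨D, hD⟩ := exists_affine_set (W := AbMod N h) (fun y hy => AbMod.val_inj (by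
    have := smul_eq_of_sq (odd_orderOf hG y.val) (x := (1 : G)) (by
      rw [smul_eq_mul, smul_eq_mul, mul_one]; exact congrArg AbMod.val hy)
    rwa [smul_eq_mul, mul_one] at this)) (x true) (x false)
  refine ⟨e '' D, fun g hg => ?_⟩
  have h1 : ∀ v, e.symm (g • e v) = g • v + e.symm (g • e 0) := fun v => by
    rw [Equiv.symm_apply_eq, he (_ + _), AbMod.val_add, mul_smul, ← he, Equiv.apply_symm_apply,
      he, he, AbMod.val_smul, AbMod.val_zero, one_smul, mul_smul, mul_smul, inv_smul_smul]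
  have ho := odd_orderOf hG g
  obtain ⟨a, b, c⟩ := hD (fun v => e.symm (g • e v)) (DistribSMul.toAddMonoidHom _ g)
    (e.symm.injective.comp ((MulAction.injective g).comp e.injective)) h1 (fun y hy => by
      rw [Equiv.apply_symm_apply, Equiv.symm_apply_eq] at hy
      rw [smul_eq_of_sq ho hy, Equiv.symm_apply_apply]) (fun y hy => by
      simp only [Equiv.apply_symm_apply, Equiv.symm_apply_eq] at hy
      rw [smul_eq_of_sq ho (x := e y), Equiv.symm_apply_apply]
      rw [← mul_smul]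
      refine smul_eq_of_sq (odd_orderOf hG _) ?_
      rwa [mul_smul, mul_smul]) (fun y hy => by
      obtain ⟨z, hz, e'⟩ := (hg (e y)).2 ⟨y, hy, rfl⟩
      rwa [← e', Equiv.symm_apply_apply])
  rw [h1, a, add_zero] at b c
  intro y
  obtain ⟨v, rfl⟩ := e.surjective y
  rw [← e.symm_apply_eq, h1, a, add_zero]
  exact hx g (fun i => by cases i <;> assumption) v

/-- Gluck: a permutation group of odd order has a regular orbit on the power set. -/
theorem gluck {n : ℕ} (hP : POdd.{u} n) (m : ℕ) : ∀ (G Ω : Type u) [Group G] [Finite G]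
    [Group.IsSolvable G] [Finite Ω] [MulAction G Ω], Nat.card Ω = m → m < n → Odd (Nat.card G) →
    ∃ D : Set Ω, ∀ g : G, (∀ x, g • x ∈ D ↔ x ∈ D) → ∀ x : Ω, g • x = x := by
  induction m using Nat.strong_induction_on with
  | _ m ih =>
  intro G₀ Ω _ _ _ _ _ hm hn hG₀
  let f := (MulAction.toPermHom G₀ Ω).rangeRestrict
  have hfs : Function.Surjective f := MonoidHom.rangeRestrict_surjective _
  suffices h : ∃ D : Set Ω, ∀ g : (MulAction.toPermHom G₀ Ω).range,
      (∀ x, g • x ∈ D ↔ x ∈ D) → ∀ x : Ω, g • x = x by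
    obtain ⟨D, hD⟩ := h
    exact ⟨D, fun g => hD (f g)⟩
  have hG := hG₀.of_dvd_nat (card_dvd_of_surjective f hfs)
  have hsol := Group.isSolvable_of_surjective hfs
  have hf : ∀ g : (MulAction.toPermHom G₀ Ω).range, (∀ x : Ω, g • x = x) → g = 1 :=
    fun g hg => Subtype.ext (Equiv.ext hg)
  generalize (MulAction.toPermHom G₀ Ω).range = G at hG hsol hf
  clear hfs f hG₀
  by_cases htriv : (⊥ : Subgroup G) = ⊤
  · refine ⟨∅, fun g _ x => ?_⟩
    rw [show g = 1 from mem_bot.1 (htriv ▸ trivial), one_smul]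
  obtain ⟨N, hNn, h1, -, h2, h3⟩ := exists_step (lt_top_iff_ne_top.2 htriv)
  have hab : ∀ a ∈ N, ∀ b ∈ N, a * b = b * a := fun a ha b hb =>
    commutatorElement_eq_one_iff_mul_comm.1 (h2 a ha b hb)
  by_cases ht : ∃ ω : Ω, MulAction.orbit N ω = Set.univ
  · obtain ⟨ω, ht⟩ := ht
    exact gluck_affine hP (hm ▸ hn) hG hf hab (fun L hL => h3 L hL bot_le) ht
  push Not at ht
  obtain ⟨⟨a, ha⟩, ha1⟩ := ne_bot_iff_exists_ne_one.1 h1.ne'
  obtain ⟨x₀, hx₀⟩ := not_forall.1 fun e => ha1 (Subtype.ext (hf a e))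
  have hlt := card_orbs_lt N ha hx₀
  obtain ⟨Γ, hΓ⟩ := ih _ (hm ▸ hlt) G (orbs N Ω) rfl (by omega) hG
  have h4 : ∀ S : orbs N Ω, ∃ D : Set Ω, D ⊆ S.1 ∧ (Odd D.ncard ↔ S ∈ Γ) ∧
      ∀ g : G, g • S = S → (∀ x ∈ S.1, g • x ∈ D ↔ x ∈ D) → ∀ x ∈ S.1, g • x = x := by
    rintro ⟨_, x, rfl⟩
    set S := MulAction.orbit N x with hS
    have h5 : Nat.card (blk (G := G) S) < m := by
      rw [← hm]
      obtain ⟨y, hy⟩ := (Set.ne_univ_iff_exists_notMem _).1 (ht x)
      exact Finite.card_subtype_lt (x := y) hy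
    obtain ⟨D, hD⟩ := ih _ h5 (MulAction.stabilizer G S) (blk (G := G) S) rfl (by omega)
      (hG.of_dvd_nat (card_subgroup_dvd_card _))
    have hodd : Odd S.ncard := by
      rw [hS, ← MulAction.index_stabilizer]
      exact (hG.of_dvd_nat (card_subgroup_dvd_card N)).of_dvd_nat (index_dvd_card _)
    have hsub : Subtype.val '' D ⊆ S := by rintro _ ⟨y, -, rfl⟩; exact y.2
    have h6 : ∀ g : G, g • S = S → (∀ x ∈ S, g • x ∈ Subtype.val '' D ↔ x ∈ Subtype.val '' D) →
        ∀ x ∈ S, g • x = x := fun g hg h7 y hy =>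
      congrArg Subtype.val (hD ⟨g, hg⟩ (fun z => by
        rw [← Subtype.val_injective.mem_set_image, ← Subtype.val_injective.mem_set_image (a := z)]
        exact h7 z z.2) ⟨y, hy⟩)
    by_cases hc : Odd (Subtype.val '' D).ncard ↔ (⟨S, x, rfl⟩ : orbs N Ω) ∈ Γ
    · exact ⟨_, hsub, hc, fun g hg => h6 g (congrArg Subtype.val hg)⟩
    · refine ⟨S \ Subtype.val '' D, Set.sdiff_subset, ?_, fun g hg h7 => h6 g
        (congrArg Subtype.val hg) fun y hy => ?_⟩
      · rw [← Set.ncard_sdiff_add_ncard_of_subset hsub, Nat.odd_add', ← Nat.not_odd_iff_even] at hodd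
        tauto
      · have h8 := h7 y hy
        have h9 : g • y ∈ S := (blk (G := G) S).smul_mem ⟨g, congrArg Subtype.val hg⟩ hy
        simp only [Set.mem_sdiff, h9, hy, true_and] at h8
        tauto
  choose D hD1 hD2 hD3 using h4
  let π : Ω → orbs N Ω := fun x => ⟨_, x, rfl⟩
  have hπ : ∀ (S : orbs N Ω), ∀ x ∈ S.1, π x = S := by
    rintro ⟨_, y, rfl⟩ x hx
    exact Subtype.ext (MulAction.orbit_eq_iff.2 hx)
  have hπs : ∀ (g : G) x, π (g • x) = g • π x := fun g x =>
    Subtype.ext (MulAction.smul_orbit_eq_orbit_smul N x g).symm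
  refine ⟨{x | x ∈ D (π x)}, fun g hg x => ?_⟩
  have h5 := hΓ g fun S => by
    rw [← hD2, ← hD2]
    have : D (g • S) = g • D S := by
      ext y
      obtain ⟨y, rfl⟩ := MulAction.surjective g y
      rw [Set.smul_mem_smul_set_iff]
      constructor
      · intro h
        have e := hπ _ _ (hD1 _ h)
        rw [← e] at h
        rw [hπs, smul_left_cancel_iff] at e
        exact e ▸ (hg y).1 h
      · intro h
        have e := hπ _ _ (hD1 _ h)
        rw [← e] at h ⊢
        exact hπs g y ▸ (hg y).2 h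
    rw [this, Set.ncard_smul_set]
  refine hD3 (π x) g (h5 _) (fun y hy => ?_) x (MulAction.mem_orbit_self x)
  have := hg y
  simp only [Set.mem_ofPred_eq] at this
  rwa [hπs, h5, hπ _ y hy] at this

end CL.SolvLin
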