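import Mathlib
import Cfsg.Agent.FGS.SolvLin4
import Cfsg.Agent.CHAR.Burnside

/-!
# Bases of solvable groups I: rigid colourings of abelian groups
-/

open Subgroup
open scoped Pointwise commutatorElement

namespace CL.SolvLin

universe u

/-- A perfect group commuting with a solvable group produces five inequivalent points. -/
theorem exists_five {G Y L : Type*} [Group G] [Group.IsSolvable G] [MulAction G Y] [Group L]
    [MulAction L Y] (hc : ∀ (g : G) (l : L) (y : Y), g • l • y = l • g • y)
    (hL : commutator L = ⊤) {y : Y} (hy : ∃ l : L, l • y ≠ y) :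
    ∃ f : Fin 5 → L, ∀ i j (g : G), g • f i • y = f j • y → i = j := by
  let H : Subgroup G → Subgroup L := fun K =>
    { carrier := {l | ∃ g ∈ K, l • y = g • y}
      one_mem' := ⟨1, one_mem _, by simp⟩
      mul_mem' := by
        rintro a b ⟨g, hg, e⟩ ⟨g', hg', e'⟩
        exact ⟨g' * g, mul_mem hg' hg, by rw [mul_smul, e', ← hc, e, mul_smul]⟩
      inv_mem' := by
        rintro a ⟨g, hg, e⟩
        exact ⟨g⁻¹, inv_mem hg, by rw [inv_smul_eq_iff, ← hc, e, inv_smul_smul]⟩ }
  have hne : H ⊤ ≠ ⊤ := by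
    intro h0
    have h1 : ∀ n, H (derivedSeries G n) = ⊤ := by
      intro n
      induction n with
      | zero => exact h0
      | succ n ih =>
        rw [eq_top_iff, ← hL, commutator_def, commutator_le]
        intro a _ b _
        obtain ⟨g, hg, e⟩ : a⁻¹ ∈ H (derivedSeries G n) := ih ▸ mem_top _
        obtain ⟨g', hg', e'⟩ : b⁻¹ ∈ H (derivedSeries G n) := ih ▸ mem_top _
        refine ⟨⁅g', g⁆, commutator_mem_commutator hg' hg, ?_⟩
        have e1 : a • y = g⁻¹ • y := by rw [eq_inv_smul_iff, hc, ← e, smul_inv_smul]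
        have e2 : b • y = g'⁻¹ • y := by rw [eq_inv_smul_iff, hc, ← e', smul_inv_smul]
        simp only [commutatorElement_def, mul_smul]
        rw [e', ← hc g' a⁻¹, e, ← hc g' b, ← hc g b, e2, ← hc g' a, ← hc g a, ← hc g'⁻¹ a, e1]
    obtain ⟨n, hn⟩ := Group.IsSolvable.solvable (G := G)
    obtain ⟨l, hl⟩ := hy
    obtain ⟨g, hg, e⟩ : l ∈ H (derivedSeries G n) := h1 n ▸ mem_top _
    rw [hn, mem_bot] at hg
    exact hl (by rw [e, hg, one_smul])
  have h5 : Nonempty (Fin 5 ↪ L ⧸ H ⊤) := by
    rcases finite_or_infinite (L ⧸ H ⊤) with hf | hf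
    · have := Fintype.ofFinite (L ⧸ H ⊤)
      refine Function.Embedding.nonempty_of_card_le ?_
      by_contra hlt
      rw [Fintype.card_fin, ← Nat.card_eq_fintype_card] at hlt
      have hs : Group.IsSolvable (Equiv.Perm (L ⧸ H ⊤)) :=
        CL.Char.isSolvable_of_card_dvd_pow_mul_pow (p := 2) (q := 3) (a := 3) (b := 1) (by norm_num)
          (by norm_num) (by
            rw [Nat.card_perm]
            exact Nat.factorial_dvd_factorial (n := 4) (by omega))
      obtain ⟨n, hn⟩ := hs.solvable
      have h1 : ∀ n, derivedSeries L n = ⊤ := by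
        intro n
        induction n with
        | zero => rfl
        | succ n ih => rw [derivedSeries_succ, ih]; exact hL
      refine hne ((eq_top_iff' _).2 fun l => ?_)
      have h2 : MulAction.toPermHom L (L ⧸ H ⊤) l ∈ derivedSeries _ n :=
        map_derivedSeries_le_derivedSeries _ n ⟨l, h1 n ▸ mem_top l, rfl⟩
      rw [hn, mem_bot] at h2
      have h3 : l • ((1 : L) : L ⧸ H ⊤) = (1 : L) :=
        Equiv.congr_fun h2 ((1 : L) : L ⧸ H ⊤)
      rw [MulAction.Quotient.smul_mk, QuotientGroup.eq] at h3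
      simpa using h3
    · exact ⟨Fin.valEmbedding.trans (Infinite.natEmbedding _)⟩
  obtain ⟨f⟩ := h5
  refine ⟨fun i => (f i).out, fun i j g e => f.injective ?_⟩
  rw [← (f i).out_eq, ← (f j).out_eq]
  exact QuotientGroup.eq.2 ⟨g, mem_top _, by rw [mul_smul, ← e, hc, inv_smul_smul]⟩

section gens
variable {X : Type*} [AddCommGroup X]

/-- Independent generators `e 0, …, e (m-1)`, all of order at least `b`. -/
structure Gens (m b : ℕ) (e : ℕ → X) : Prop where
  span : ∀ φ : X →+ X, (∀ i < m, φ (e i) = e i) → ∀ x, φ x = x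
  coord : ∀ l < m, ∃ (n : ℕ) (π : X →+ ZMod n), b ≤ n ∧
    ∀ i < m, π (e i) = ((if i = l then 1 else 0 : ℕ) : ZMod n)
  card : 2 ≤ m → b ^ 2 ≤ Nat.card X

theorem exists_gens [Finite X] {b : ℕ} (hb : ∀ n, 1 < n → n ∣ Nat.card X → b ≤ n) :
    ∃ (m : ℕ) (e : ℕ → X), Gens m b e := by
  classical
  obtain ⟨ι, hι, n, hn, ⟨f⟩⟩ := AddCommGroup.equiv_directSum_zmod_of_finite' X
  let g : X ≃+ ((i : ι) → ZMod (n i)) := f.trans (DirectSum.addEquivProd _)
  let σ := Fintype.equivFin ι
  have hcard : Nat.card X = ∏ i, n i := by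
    rw [Nat.card_congr g.toEquiv, Nat.card_pi]; simp
  have hbn : ∀ i, b ≤ n i := fun i =>
    hb _ (hn i) (hcard ▸ Finset.dvd_prod_of_mem _ (Finset.mem_univ i))
  let ε : ι → X := fun i => g.symm (Pi.single i 1)
  refine ⟨Fintype.card ι, fun i => if h : i < Fintype.card ι then
    ε (σ.symm ⟨i, h⟩) else 0, fun φ hφ x => ?_, fun l hl => ?_, fun h2 => ?_⟩
  · have h1 : ∀ i, φ (g.symm (Pi.single i 1)) = g.symm (Pi.single i 1) := fun i => by
      have := hφ (σ i) (σ i).2
      simp only [(σ i).2, dif_pos, Fin.eta, Equiv.symm_apply_apply] at this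
      exact this
    obtain ⟨x, rfl⟩ := g.symm.surjective x
    rw [← Finset.univ_sum_single x, map_sum, map_sum]
    refine Finset.sum_congr rfl fun i _ => ?_
    have : NeZero (n i) := ⟨by have := hn i; omega⟩
    have h2 : (Pi.single i (x i) : (i : ι) → ZMod (n i)) = (x i).val • Pi.single i 1 := by
      rw [← Pi.single_smul, nsmul_eq_mul, mul_one, ZMod.natCast_zmod_val]
    rw [h2, map_nsmul, map_nsmul, h1]
  · refine ⟨n (σ.symm ⟨l, hl⟩), (Pi.evalAddMonoidHom _ (σ.symm ⟨l, hl⟩)).comp g.toAddMonoidHom,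
      hbn _, fun i hi => ?_⟩
    simp only [ε, hi, dif_pos, AddMonoidHom.comp_apply, AddEquiv.coe_toAddMonoidHom,
      AddEquiv.apply_symm_apply, Pi.evalAddMonoidHom_apply]
    by_cases e : i = l
    · subst e; simp
    · rw [Pi.single_eq_of_ne (by simpa [Fin.ext_iff] using Ne.symm e)]; simp [e]
  · rw [hcard]
    rcases Nat.eq_zero_or_pos b with rfl | h
    · simp
    · exact (Nat.pow_le_pow_right h h2).trans (Finset.pow_card_le_prod _ _ _ fun i _ => hbn i)

namespace Gens
variable {m b : ℕ} {e : ℕ → X} (h : Gens m b e)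
include h

/-- Comparison of small combinations of the generators. -/
theorem cmp {l : ℕ} (hl : l < m) (s t : List ℕ) (hs : ∀ i ∈ s, i < m) (ht : ∀ i ∈ t, i < m)
    (e0 : (s.map e).sum = (t.map e).sum) (h1 : s.count l < b) (h2 : t.count l < b) :
    s.count l = t.count l := by
  obtain ⟨n, π, hn, hπ⟩ := h.coord l hl
  have key : ∀ s : List ℕ, (∀ i ∈ s, i < m) → π (s.map e).sum = (s.count l : ZMod n) := by
    intro s hs
    induction s with
    | nil => simp
    | cons a s ih =>
      rw [List.map_cons, List.sum_cons, map_add, ih fun i hi => hs i (List.mem_cons_of_mem _ hi),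
        hπ a (hs a List.mem_cons_self), List.count_cons]
      simp [add_comm]
  have := congrArg π e0
  rw [key s hs, key t ht, ZMod.natCast_eq_natCast_iff'] at this
  rwa [Nat.mod_eq_of_lt (by omega), Nat.mod_eq_of_lt (by omega)] at this

theorem perm (s t : List ℕ) (hs : ∀ i ∈ s, i < m) (ht : ∀ i ∈ t, i < m)
    (e0 : (s.map e).sum = (t.map e).sum) (h1 : ∀ l, s.count l < b) (h2 : ∀ l, t.count l < b) :
    s.Perm t := by
  rw [List.perm_iff_count]
  intro l
  by_cases hl : l < m
  · exact h.cmp hl s t hs ht e0 (h1 l) (h2 l)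
  · rw [List.count_eq_zero.2 fun h' => hl (hs l h'), List.count_eq_zero.2 fun h' => hl (ht l h')]

theorem inj {i j : ℕ} (hb : 2 ≤ b) (hi : i < m) (hj : j < m) (e0 : e i = e j) : i = j := by
  have := h.perm [i] [j] (by simpa) (by simpa) (by simpa)
    (fun l => (List.count_le_length).trans_lt (by simp; omega))
    (fun l => (List.count_le_length).trans_lt (by simp; omega))
  simpa using this

theorem ne_zero {i : ℕ} (hb : 2 ≤ b) (hi : i < m) : e i ≠ 0 := fun e0 => by
  have := h.cmp hi [i] [] (by simpa) (by simp) (by simpa) (by simp; omega) (by simp; omega)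
  simp at this

theorem add_ne_zero {i : ℕ} (hb : 2 ≤ b) (hi : i + 1 < m) : e i + e (i + 1) ≠ 0 := fun e0 => by
  have := h.cmp (l := i) (by omega) [i, i + 1] [] (by simp; omega) (by simp) (by simpa)
    (by simp; omega) (by simp; omega)
  simp at this

theorem ne_add {i j k : ℕ} (hb : 2 ≤ b) (hi : i < m) (hj : j < m) (hk : k < m) (hjk : j ≠ k) :
    e i ≠ e j + e k := fun e0 => by
  have h1 := h.cmp hj [i] [j, k] (by simpa) (by simp; omega) (by simpa)
    ((List.count_le_length).trans_lt (by simp; omega)) (by simp [hjk.symm]; omega)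
  have h2 := h.cmp hk [i] [j, k] (by simpa) (by simp; omega) (by simpa)
    ((List.count_le_length).trans_lt (by simp; omega)) (by simp [hjk]; omega)
  simp [List.count_cons, hjk, hjk.symm] at h1 h2
  omega

theorem add_eq_add {i j k : ℕ} (hb : 2 ≤ b) (hi : i < m) (hj : j < m) (hk : k + 1 < m)
    (hij : i ≠ j) (e0 : e i + e j = e k + e (k + 1)) : j = i + 1 ∨ i = j + 1 := by
  have h1 := h.cmp hi [i, j] [k, k + 1] (by simp; omega) (by simp; omega) (by simpa)
    (by simp [hij.symm]; omega) (by simp only [List.count_cons, beq_iff_eq, List.count_nil]; split_ifs <;> omega)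
  have h2 := h.cmp hj [i, j] [k, k + 1] (by simp; omega) (by simp; omega) (by simpa)
    (by simp [hij]; omega) (by simp only [List.count_cons, beq_iff_eq, List.count_nil]; split_ifs <;> omega)
  simp only [List.count_cons, beq_iff_eq, List.count_nil] at h1 h2
  split_ifs at h1 h2 <;> omega

/-- Rigidity of a path with separately coloured vertices and edges. -/
theorem rigid_two (hb : 2 ≤ b) (φ : X →+ X) (hφ : Function.Injective φ) (h0 : φ (e 0) = e 0)
    (h1 : ∀ i < m, ∃ j < m, φ (e i) = e j)
    (h2 : ∀ i, i + 1 < m → ∃ j, j + 1 < m ∧ φ (e i + e (i + 1)) = e j + e (j + 1)) (x : X) :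
    φ x = x := by
  refine h.span φ (fun i => ?_) x
  induction i using Nat.strong_induction_on with
  | _ i ih =>
  intro hi
  rcases i with _ | i
  · exact h0
  obtain ⟨j, hj, ej⟩ := h1 _ hi
  obtain ⟨k, hk, ek⟩ := h2 _ hi
  have hlt : i < j := by
    by_contra hc
    have := h.inj hb hi hj (hφ (ej.trans (ih j (by omega) hj).symm))
    omega
  rw [map_add, ih i (by omega) (by omega), ej] at ek
  have := h.add_eq_add hb (by omega) hj hk hlt.ne ek
  rw [ej, show j = i + 1 by omega]

/-- Rigidity of a path when all generators have order at least three. -/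
theorem rigid_three (hb : 3 ≤ b) (φ : X →+ X) (hφ : Function.Injective φ) (h0 : φ (e 0) = e 0)
    (P : Set X) (hP : ∀ x ∈ P, (∃ j < m, x = e j) ∨ ∃ j, j + 1 < m ∧ x = e j + e (j + 1))
    (h1 : ∀ i, i + 1 < m → φ (e (i + 1)) ∈ P ∧ φ (e i + e (i + 1)) ∈ P) (x : X) :
    φ x = x := by
  refine h.span φ (fun i => ?_) x
  induction i using Nat.strong_induction_on with
  | _ i ih =>
  intro hi
  rcases i with _ | i
  · exact h0
  obtain ⟨a, c⟩ := h1 i hi
  rw [map_add, ih i (by omega) (by omega)] at c
  rcases hP _ a with ⟨j, hj, ej⟩ | ⟨j, hj, ej⟩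
  · have hlt : i < j := by
      by_contra hc
      have := h.inj (by omega) hi hj (hφ (ej.trans (ih j (by omega) hj).symm))
      omega
    rw [ej] at c
    rcases hP _ c with ⟨k, hk, ek⟩ | ⟨k, hk, ek⟩
    · exact absurd ek.symm (h.ne_add (by omega) hk (by omega) hj hlt.ne)
    · have := h.add_eq_add (by omega) (by omega) hj hk hlt.ne ek
      rw [ej, show j = i + 1 by omega]
  · exfalso
    rw [ej] at c
    have hc : ∀ l, [i, j, j + 1].count l < b := fun l => by
      simp only [List.count_cons, beq_iff_eq, List.count_nil]; split_ifs <;> omega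
    rcases hP _ c with ⟨k, hk, ek⟩ | ⟨k, hk, ek⟩
    · simpa using (h.perm [i, j, j + 1] [k] (by simp; omega) (by simpa) (by simpa) hc
        fun l => (List.count_le_length).trans_lt (by simp; omega)).length_eq
    · simpa using (h.perm [i, j, j + 1] [k, k + 1] (by simp; omega) (by simp; omega) (by simpa) hc
        fun l => (List.count_le_length).trans_lt (by simp; omega)).length_eq

end Gens

/-- A rigid colouring of a finite abelian group with four colours. -/
theorem exists_col_four (X : Type*) [AddCommGroup X] [Finite X] : ∃ c : X → Fin 4,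
    (∀ φ : X →+ X, Function.Injective φ → (∀ x ≠ 0, c (φ x) = c x) → ∀ x, φ x = x) ∧
    ∀ x y, c x = 0 → c y = 0 → x = y := by
  classical
  obtain ⟨m, e, h⟩ := exists_gens (X := X) (b := 2) fun n hn _ => hn
  refine ⟨fun x => if x = e 0 then 0 else if ∃ i < m, x = e i then 1 else
    if ∃ i, i + 1 < m ∧ x = e i + e (i + 1) then 2 else 3, fun φ hφ hc => ?_, fun x y hx hy => ?_⟩
  · rcases Nat.eq_zero_or_pos m with rfl | hm
    · exact h.span φ (by simp)
    have h0 : φ (e 0) = e 0 := by
      have := hc _ (h.ne_zero le_rfl hm)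
      simp only [if_true] at this
      split_ifs at this <;> first | assumption | simp at this
    refine h.rigid_two le_rfl φ hφ h0 (fun i hi => ?_) fun i hi => ?_
    · by_cases e0 : e i = e 0
      · exact ⟨0, hm, by rw [e0, h0]⟩
      have := hc _ (h.ne_zero le_rfl hi)
      beta_reduce at this
      rw [if_neg e0, if_pos (show ∃ j < m, e i = e j from ⟨i, hi, rfl⟩)] at this
      split_ifs at this <;> first | assumption | simp at this
    · have := hc _ (h.add_ne_zero le_rfl hi)
      have h1 : ∀ j < m, e i + e (i + 1) ≠ e j := fun j hj =>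
        (h.ne_add le_rfl hj (by omega) hi (by omega)).symm
      beta_reduce at this
      rw [if_neg (h1 0 hm), if_neg (show ¬ ∃ j < m, e i + e (i + 1) = e j from
        fun ⟨j, hj, e'⟩ => h1 j hj e'), if_pos (show ∃ j, j + 1 < m ∧ e i + e (i + 1) =
        e j + e (j + 1) from ⟨i, hi, rfl⟩)] at this
      split_ifs at this <;> first | assumption | simp at this
  · simp only at hx hy
    split_ifs at hx hy <;> simp_all

/-- A rigid colouring of a finite abelian group of odd order with three colours. -/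
theorem exists_col_odd (X : Type*) [AddCommGroup X] [Finite X] (hX : Odd (Nat.card X)) :
    ∃ c : X → Fin 3,
    (∀ φ : X →+ X, Function.Injective φ → (∀ x ≠ 0, c (φ x) = c x) → ∀ x, φ x = x) ∧
    (∀ x y, c x = 0 → c y = 0 → x = y) ∧ ∀ x, c x = 0 → 9 ≤ Nat.card X := by
  classical
  obtain ⟨m, e, h⟩ := exists_gens (X := X) (b := 3) fun n hn hd => by
    have := hX.of_dvd_nat hd
    rw [Nat.odd_iff] at this
    omega
  by_cases hm : 2 ≤ m
  swap
  · refine ⟨fun x => if x = e 0 then 1 else 2, fun φ hφ hc => h.span φ fun i hi => ?_,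
      fun x y hx => ?_, fun x hx => ?_⟩
    · obtain rfl : i = 0 := by omega
      have := hc _ (h.ne_zero (by norm_num) hi)
      simp only [if_true] at this
      split_ifs at this <;> first | assumption | simp at this
    · simp only at hx; split_ifs at hx <;> simp at hx
    · simp only at hx; split_ifs at hx <;> simp at hx
  let P : Set X := {x | (∃ j < m, x = e j) ∨ ∃ j, j + 1 < m ∧ x = e j + e (j + 1)}
  refine ⟨fun x => if x = e 0 then 0 else if x ∈ P then 1 else 2, fun φ hφ hc => ?_,
    fun x y hx hy => ?_, fun _ _ => h.card hm⟩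
  · have h0 : φ (e 0) = e 0 := by
      have := hc _ (h.ne_zero (by norm_num) (show 0 < m by omega))
      simp only [if_true] at this
      split_ifs at this <;> first | assumption | simp at this
    have key : ∀ x ∈ P, x ≠ 0 → φ x ∈ P := by
      intro x hx hx0
      by_cases e0 : x = e 0
      · rw [e0, h0]; exact e0 ▸ hx
      have := hc _ hx0
      beta_reduce at this
      rw [if_neg e0, if_pos hx] at this
      split_ifs at this <;> first | assumption | simp at this
    exact h.rigid_three le_rfl φ hφ h0 P (fun _ hx => hx) fun i hi =>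
      ⟨key _ (Or.inl ⟨_, hi, rfl⟩) (h.ne_zero (by norm_num) hi),
        key _ (Or.inr ⟨_, hi, rfl⟩) (h.add_ne_zero (by norm_num) hi)⟩
  · simp only at hx hy
    split_ifs at hx hy <;> simp_all

/-- A rigid subset of a finite abelian group of order prime to six. -/
theorem exists_col_two (X : Type*) [AddCommGroup X] [Finite X] (h2 : ¬ 2 ∣ Nat.card X)
    (h3 : ¬ 3 ∣ Nat.card X) : ∃ M : Set X,
    ∀ φ : X →+ X, Function.Injective φ → (∀ x ∈ M, x ≠ 0 → φ x ∈ M) → ∀ x, φ x = x := by
  obtain ⟨m, e, h⟩ := exists_gens (X := X) (b := 5) fun n hn hd => by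
    by_contra hlt
    have : n = 2 ∨ n = 3 ∨ n = 4 := by omega
    rcases this with rfl | rfl | rfl
    · exact h2 hd
    · exact h3 hd
    · exact h2 (Dvd.dvd.trans (by norm_num) hd)
  rcases Nat.eq_zero_or_pos m with rfl | hm
  · exact ⟨∅, fun φ _ _ => h.span φ (by simp)⟩
  let P : Set X := {x | (∃ j < m, x = e j) ∨ ∃ j, j + 1 < m ∧ x = e j + e (j + 1)}
  refine ⟨insert (e 0 + e 0) P, fun φ hφ hc => ?_⟩
  have hne : e 0 + e 0 ≠ 0 := fun e0 => by
    simpa using h.cmp hm [0, 0] [] (by simpa) (by simp) (by simpa) (by simp) (by simp)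
  have hlen : ∀ s : List ℕ, s.length < 5 → ∀ l, s.count l < 5 := fun s hs l =>
    (List.count_le_length).trans_lt hs
  have h0 : φ (e 0) = e 0 := by
    have a := hc _ (Or.inr (Or.inl ⟨0, hm, rfl⟩)) (h.ne_zero (by norm_num) hm)
    have c := hc _ (Or.inl rfl) hne
    rw [map_add] at c
    rcases a with a | ⟨j, hj, a⟩ | ⟨j, hj, a⟩ <;> rw [a] at c ⊢ <;>
      rcases c with c | ⟨k, hk, c⟩ | ⟨k, hk, c⟩
    · simpa using (h.perm [0, 0, 0, 0] [0, 0] (by simpa) (by simpa) (by simpa [add_assoc] using c)
        (hlen _ (by simp)) (hlen _ (by simp))).length_eq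
    · simpa using (h.perm [0, 0, 0, 0] [k] (by simpa) (by simpa) (by simpa [add_assoc] using c)
        (hlen _ (by simp)) (hlen _ (by simp))).length_eq
    · simpa using (h.perm [0, 0, 0, 0] [k, k + 1] (by simpa) (by simp; omega)
        (by simpa [add_assoc] using c) (hlen _ (by simp)) (hlen _ (by simp))).length_eq
    · have := (h.perm [j, j] [0, 0] (by simpa) (by simpa) (by simpa using c)
        (hlen _ (by simp)) (hlen _ (by simp))).mem_iff (a := j)
      simp at this
      rw [this]
    · simpa using (h.perm [j, j] [k] (by simpa) (by simpa) (by simpa using c)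
        (hlen _ (by simp)) (hlen _ (by simp))).length_eq
    · have := h.perm [j, j] [k, k + 1] (by simpa) (by simp; omega) (by simpa using c)
        (hlen _ (by simp)) (hlen _ (by simp))
      have h1 := this.mem_iff (a := k)
      have h2 := this.mem_iff (a := k + 1)
      simp at h1 h2
      omega
    · simpa using (h.perm [j, j + 1, j, j + 1] [0, 0] (by simp; omega) (by simpa)
        (by simpa [add_assoc] using c) (hlen _ (by simp)) (hlen _ (by simp))).length_eq
    · simpa using (h.perm [j, j + 1, j, j + 1] [k] (by simp; omega) (by simpa)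
        (by simpa [add_assoc] using c) (hlen _ (by simp)) (hlen _ (by simp))).length_eq
    · simpa using (h.perm [j, j + 1, j, j + 1] [k, k + 1] (by simp; omega) (by simp; omega)
        (by simpa [add_assoc] using c) (hlen _ (by simp)) (hlen _ (by simp))).length_eq
  have key : ∀ x ∈ P, x ≠ 0 → x ≠ e 0 + e 0 → φ x ∈ P := fun x hx hx0 hx1 =>
    (hc x (Or.inr hx) hx0).resolve_left fun e' => hx1 (hφ (by rw [e', map_add, h0]))
  refine h.rigid_three (by norm_num) φ hφ h0 P (fun _ hx => hx) fun i hi =>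
    ⟨key _ (Or.inl ⟨_, hi, rfl⟩) (h.ne_zero (by norm_num) hi) fun c => ?_,
      key _ (Or.inr ⟨_, hi, rfl⟩) (h.add_ne_zero (by norm_num) hi) fun c => ?_⟩
  · simpa using (h.perm [i + 1] [0, 0] (by simpa) (by simpa) (by simpa using c)
      (hlen _ (by simp)) (hlen _ (by simp))).length_eq
  · simpa using (h.perm [i, i + 1] [0, 0] (by simp; omega) (by simpa) (by simpa using c)
      (hlen _ (by simp)) (hlen _ (by simp))).mem_iff (a := i + 1)

end gens

section col

/-- A colouring fixed only by the kernel of the action. -/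
def Rigid (G : Type*) {Ω κ : Type*} [Group G] [MulAction G Ω] (c : Ω → κ) : Prop :=
  ∀ g : G, (∀ x, c (g • x) = c x) → ∀ x : Ω, g • x = x

/-- Reduction of the existence of rigid colourings to affine groups. -/
theorem col_induction (κ : Type*) [Nonempty κ] (P : ℕ → Prop) (hP : ∀ a b, a ∣ b → P b → P a)
    (haff : ∀ (G W : Type u) [Group G] [Finite G] [Group.IsSolvable G] [AddCommGroup W] [Finite W]
      [Nontrivial W] [DistribMulAction G W], P (Nat.card G) → Nat.card W ∣ Nat.card G → Irr G W →
      ∃ c : W → κ, ∀ (g : G) (a : W), (∀ x, c (g • x + a) = c x) → a = 0 ∧ ∀ x : W, g • x = x)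
    (hmul : ∀ (G Ω : Type u) [Group G] [Finite G] [Group.IsSolvable G] [Nonempty Ω]
      [MulAction G Ω], P (Nat.card G) → ∀ c : Ω → κ, Rigid G c → ∃ d : κ → Ω → κ,
      (∀ k, Rigid G (d k)) ∧ ∀ k k' (g : G), (∀ x, d k (g • x) = d k' x) → k = k')
    (m : ℕ) : ∀ (G Ω : Type u) [Group G] [Finite G] [Group.IsSolvable G] [Finite Ω]
      [MulAction G Ω], Nat.card Ω = m → P (Nat.card G) → ∃ c : Ω → κ, Rigid G c := by
  induction m using Nat.strong_induction_on with
  | _ m ih =>
  intro G₀ Ω _ _ _ _ _ hm hG₀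
  let f := (MulAction.toPermHom G₀ Ω).rangeRestrict
  have hfs : Function.Surjective f := MonoidHom.rangeRestrict_surjective _
  suffices h : ∃ c : Ω → κ, Rigid (MulAction.toPermHom G₀ Ω).range c by
    obtain ⟨D, hD⟩ := h
    exact ⟨D, fun g => hD (f g)⟩
  have hG := hP _ _ (card_dvd_of_surjective f hfs) hG₀
  have hsol := Group.isSolvable_of_surjective hfs
  have hf : ∀ g : (MulAction.toPermHom G₀ Ω).range, (∀ x : Ω, g • x = x) → g = 1 :=
    fun g hg => Subtype.ext (Equiv.ext hg)
  generalize (MulAction.toPermHom G₀ Ω).range = G at hG hsol hf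
  clear hfs f hG₀
  by_cases htriv : (⊥ : Subgroup G) = ⊤
  · refine ⟨fun _ => Classical.arbitrary κ, fun g _ x => ?_⟩
    rw [show g = 1 from mem_bot.1 (htriv ▸ trivial), one_smul]
  obtain ⟨N, hNn, h1, -, h2, h3⟩ := exists_step (lt_top_iff_ne_top.2 htriv)
  have hab : ∀ a ∈ N, ∀ b ∈ N, a * b = b * a := fun a ha b hb =>
    commutatorElement_eq_one_iff_mul_comm.1 (h2 a ha b hb)
  obtain ⟨⟨a, ha⟩, ha1⟩ := ne_bot_iff_exists_ne_one.1 h1.ne'
  by_cases ht : ∃ ω : Ω, MulAction.orbit N ω = Set.univ
  · obtain ⟨ω, ht⟩ := ht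
    let e := Equiv.ofBijective _ (regular_of_trans hf hab ht)
    have he : ∀ v, e v = v.val • ω := fun _ => rfl
    have : Nontrivial (AbMod N hab) := ⟨AbMod.mk hab a ha, 0, fun e' =>
      ha1 (Subtype.ext (congrArg AbMod.val e'))⟩
    obtain ⟨c, hc⟩ := haff G (AbMod N hab) hG (by rw [AbMod.card]; exact card_subgroup_dvd_card N) (by
      intro U hU
      let U' : Subgroup G :=
        { carrier := AbMod.val '' (U : Set (AbMod N hab))
          one_mem' := ⟨0, zero_mem _, rfl⟩
          mul_mem' := by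
            rintro _ _ ⟨x, hx, rfl⟩ ⟨y, hy, rfl⟩
            exact ⟨x + y, add_mem hx hy, rfl⟩
          inv_mem' := by
            rintro _ ⟨x, hx, rfl⟩
            exact ⟨-x, neg_mem hx, rfl⟩ }
      rcases h3 U' ⟨by
        rintro _ ⟨x, hx, rfl⟩ g
        exact ⟨g • x, hU g x hx, rfl⟩⟩ bot_le (by
        rintro _ ⟨x, -, rfl⟩
        exact x.val_mem) with e' | e'
      · refine Or.inl ((AddSubgroup.eq_bot_iff_forall _).2 fun x hx => AbMod.val_inj ?_)
        exact mem_bot.1 (e' ▸ (⟨x, hx, rfl⟩ : x.val ∈ U'))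
      · refine Or.inr ((AddSubgroup.eq_top_iff' _).2 fun x => ?_)
        have h4 : x.val ∈ U' := by rw [e']; exact x.val_mem
        obtain ⟨y, hy, e''⟩ := h4
        rwa [← AbMod.val_inj e''])
    refine ⟨fun x => c (e.symm x), fun g hg => ?_⟩
    have h4 : ∀ v, e.symm (g • e v) = g • v + e.symm (g • e 0) := fun v => by
      rw [Equiv.symm_apply_eq, he (_ + _), AbMod.val_add, mul_smul, ← he, Equiv.apply_symm_apply,
        he, he, AbMod.val_smul, AbMod.val_zero, one_smul, mul_smul, mul_smul, inv_smul_smul]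
    obtain ⟨h5, h6⟩ := hc g (e.symm (g • e 0)) fun v => by
      have := hg (e v)
      simp only [Equiv.symm_apply_apply] at this
      rw [← h4, this]
    intro y
    obtain ⟨v, rfl⟩ := e.surjective y
    rw [← e.symm_apply_eq, h4, h5, add_zero, h6]
  push Not at ht
  obtain ⟨x₀, hx₀⟩ := not_forall.1 fun e => ha1 (Subtype.ext (hf a e))
  have hlt := card_orbs_lt N ha hx₀
  obtain ⟨Γ, hΓ⟩ := ih _ (hm ▸ hlt) G (orbs N Ω) rfl hG
  have h4 : ∀ S : orbs N Ω, ∃ d : κ → Ω → κ, ∀ k k' (g : G), g • S = S →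
      (∀ x ∈ S.1, d k (g • x) = d k' x) → k = k' ∧ ∀ x ∈ S.1, g • x = x := by
    classical
    rintro ⟨_, x, rfl⟩
    set S := MulAction.orbit N x with hS
    have h5 : Nat.card (blk (G := G) S) < m := by
      rw [← hm]
      obtain ⟨y, hy⟩ := (Set.ne_univ_iff_exists_notMem _).1 (ht x)
      exact Finite.card_subtype_lt (x := y) hy
    have hGS := hP _ _ (card_subgroup_dvd_card (MulAction.stabilizer G S)) hG
    obtain ⟨c, hc⟩ := ih _ h5 (MulAction.stabilizer G S) (blk (G := G) S) rfl hGS
    have : Nonempty (blk (G := G) S) := ⟨⟨x, MulAction.mem_orbit_self x⟩⟩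
    obtain ⟨d, hd1, hd2⟩ := hmul _ _ hGS c hc
    refine ⟨fun k y => if hy : y ∈ S then d k ⟨y, hy⟩ else k, fun k k' g hg h6 => ?_⟩
    let g' : MulAction.stabilizer G S := ⟨g, congrArg Subtype.val hg⟩
    have h7 : ∀ y : blk (G := G) S, d k (g' • y) = d k' y := fun y => by
      have h8 := h6 y y.2
      have h9 : g • (y : Ω) ∈ S := (g' • y).2
      have h10 : (y : Ω) ∈ S := y.2
      simp only [dif_pos h9, dif_pos h10] at h8
      exact h8
    obtain rfl := hd2 k k' g' h7
    exact ⟨rfl, fun y hy => congrArg Subtype.val (hd1 k g' h7 ⟨y, hy⟩)⟩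
  choose d hd using h4
  let π : Ω → orbs N Ω := fun x => ⟨_, x, rfl⟩
  have hπ : ∀ (S : orbs N Ω), ∀ x ∈ S.1, π x = S := by
    rintro ⟨_, y, rfl⟩ x hx
    exact Subtype.ext (MulAction.orbit_eq_iff.2 hx)
  have hπs : ∀ (g : G) x, π (g • x) = g • π x := fun g x =>
    Subtype.ext (MulAction.smul_orbit_eq_orbit_smul N x g).symm
  let r : orbs N Ω → orbs N Ω := fun S => (Quotient.mk (MulAction.orbitRel G _) S).out
  have hr : ∀ (g : G) S, r (g • S) = r S := fun g S =>
    congrArg Quotient.out (Quotient.sound (MulAction.mem_orbit S g))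
  have ht' : ∀ S, ∃ t : G, t • S = r S := fun S =>
    Quotient.exact (s := MulAction.orbitRel G _) (Quotient.out_eq (Quotient.mk _ S))
  choose t ht using ht'
  refine ⟨fun x => d (r (π x)) (Γ (π x)) (t (π x) • x), fun g hg x => ?_⟩
  have h5 : ∀ S, Γ (g • S) = Γ S ∧ ∀ y ∈ (r S).1, (t (g • S) * g * (t S)⁻¹) • y = y := fun S => by
    refine hd (r S) _ _ _ (by rw [← ht S, mul_smul, inv_smul_smul, mul_smul, ht, hr, ht])
      fun y hy => ?_
    have h6 : π ((t S)⁻¹ • y) = S := by rw [hπs, hπ _ y hy, ← ht S, inv_smul_smul]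
    have h7 := hg ((t S)⁻¹ • y)
    simp only [hπs g, h6, hr, smul_inv_smul] at h7
    rw [mul_smul, mul_smul, h7]
  have h6 := hΓ g fun S => (h5 S).1
  have h7 := (h5 (π x)).2 (t (π x) • x) (by
    rw [← ht, ← hπs]; exact MulAction.mem_orbit_self _)
  rwa [h6, mul_smul, inv_smul_smul, mul_smul, smul_left_cancel_iff] at h7

/-- Every solvable permutation group has a rigid colouring with five colours. -/
theorem exists_col_five (G Ω : Type u) [Group G] [Finite G] [Group.IsSolvable G] [Finite Ω]
    [MulAction G Ω] : ∃ c : Ω → Fin 5, Rigid G c := by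
  refine col_induction (Fin 5) (fun _ => True) (fun _ _ _ _ => trivial) ?_ ?_ _ G Ω rfl trivial
  · intro G W _ _ _ _ _ _ _ _ _ _
    classical
    obtain ⟨c, hc, -⟩ := exists_col_four W
    refine ⟨fun x => if x = 0 then Fin.last 4 else (c x).castSucc, fun g a h => ?_⟩
    have h0 : a = 0 := by
      have := h 0
      simp only [smul_zero, zero_add, if_true] at this
      by_contra ha
      rw [if_neg ha] at this
      exact (Fin.castSucc_lt_last _).ne this
    refine ⟨h0, hc (DistribSMul.toAddMonoidHom W g) (MulAction.injective g) fun x hx => ?_⟩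
    have := h x
    simp only [h0, add_zero, if_neg hx, if_neg (mt (smul_eq_zero_iff_eq g).1 hx)] at this
    exact Fin.castSucc_injective _ this
  · intro G Ω _ _ _ _ _ _ c hc
    let Y := Ω → Fin 5
    let _ : MulAction G Y := arrowAction
    let _ : MulAction (alternatingGroup (Fin 5)) Y := Pi.mulAction _
    obtain ⟨f, hf⟩ := exists_five (G := G) (Y := Y) (L := alternatingGroup (Fin 5))
      (fun _ _ _ => rfl) (commutator_alternatingGroup_eq_top (by simp)) (y := c) (by
        refine ⟨⟨finRotate 5, Equiv.Perm.mem_alternatingGroup.2 (by decide)⟩, fun e => ?_⟩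
        have := congrFun e (Classical.arbitrary Ω)
        revert this
        change finRotate 5 (c _) ≠ c _
        generalize c (Classical.arbitrary Ω) = k
        revert k
        decide)
    refine ⟨fun k => f k • c, fun k g hg => hc g fun x => (f k).1.injective (hg x),
      fun k k' g hg => hf k k' g⁻¹ (funext fun x => ?_)⟩
    change (f k • c) (g⁻¹⁻¹ • x) = _
    rw [inv_inv]
    exact hg x

end col

end CL.SolvLin
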