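import Mathlib
import Cfsg.Agent.FGS.Base1

/-!
# Bases of solvable groups II: positions
-/

open Subgroup
open scoped Pointwise commutatorElement

namespace CL.SolvLin

universe u

variable {A : Type u} [Group A] {V : Type*} [AddCommGroup V] [DistribMulAction A V]

/-- The stabiliser of `x` in `E`. -/
def stab (E : Subgroup A) (x : V) : Subgroup A := E ⊓ MulAction.stabilizer A x

/-- The centraliser in `E` of the stabiliser of `x`. -/
def cstab (E : Subgroup A) (x : V) : Subgroup A := E ⊓ centralizer (stab E x : Set A)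

/-- `w` is fixed by the stabiliser of `x`. -/
def Fx (E : Subgroup A) (x w : V) : Prop := ∀ d ∈ E, d • x = x → d • w = w

theorem mem_stab {E : Subgroup A} {x : V} {d : A} : d ∈ stab E x ↔ d ∈ E ∧ d • x = x := Iff.rfl

theorem mem_cstab {E : Subgroup A} {x : V} {b : A} :
    b ∈ cstab E x ↔ b ∈ E ∧ ∀ d ∈ E, d • x = x → d * b = b * d :=
  ⟨fun h => ⟨h.1, fun d h1 h2 => h.2 d ⟨h1, h2⟩⟩, fun h => ⟨h.1, fun d hd => h.2 d hd.1 hd.2⟩⟩

theorem Fx.self {E : Subgroup A} {x : V} : Fx E x x := fun _ _ h => h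

theorem Fx.zero {E : Subgroup A} {x : V} : Fx E x 0 := fun _ _ _ => smul_zero _

theorem Fx.add {E : Subgroup A} {x w w' : V} (h : Fx E x w) (h' : Fx E x w') : Fx E x (w + w') :=
  fun d h1 h2 => by rw [smul_add, h d h1 h2, h' d h1 h2]

theorem Fx.neg {E : Subgroup A} {x w : V} (h : Fx E x w) : Fx E x (-w) :=
  fun d h1 h2 => by rw [smul_neg, h d h1 h2]

theorem Fx.sub {E : Subgroup A} {x w w' : V} (h : Fx E x w) (h' : Fx E x w') : Fx E x (w - w') :=
  fun d h1 h2 => by rw [smul_sub, h d h1 h2, h' d h1 h2]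

theorem Fx.smul {E : Subgroup A} {x w : V} (h : Fx E x w) {b : A} (hb : b ∈ cstab E x) :
    Fx E x (b • w) := fun d h1 h2 => by
  rw [← mul_smul, (mem_cstab.1 hb).2 d h1 h2, mul_smul, h d h1 h2]

theorem Fx.conj {E : Subgroup A} [hE : E.Normal] {x w : V} (h : Fx E x w) {g : A}
    (hg : g • x = x) : Fx E x (g • w) := fun d h1 h2 => by
  have := h (g⁻¹ * d * g⁻¹⁻¹) (hE.conj_mem d h1 _) (by
    rw [inv_inv, mul_smul, mul_smul, hg, h2, inv_smul_eq_iff, hg])
  rwa [inv_inv, mul_smul, mul_smul, inv_smul_eq_iff] at this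

theorem conj_mem_cstab {E : Subgroup A} [hE : E.Normal] {x : V} {g b : A} (hg : g • x = x)
    (hb : b ∈ cstab E x) : g * b * g⁻¹ ∈ cstab E x := by
  refine mem_cstab.2 ⟨hE.conj_mem b hb.1 g, fun d h1 h2 => ?_⟩
  have := (mem_cstab.1 hb).2 (g⁻¹ * d * g⁻¹⁻¹) (hE.conj_mem d h1 _) (by
    rw [inv_inv, mul_smul, mul_smul, hg, h2, inv_smul_eq_iff, hg])
  calc d * (g * b * g⁻¹) = g * (g⁻¹ * d * g⁻¹⁻¹ * b) * g⁻¹ := by group
    _ = _ := by rw [this]; group

/-- A coordinate system for `E / C_E(E_x)`. -/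
structure Pos (E : Subgroup A) (x : V) {S : Type*} [AddCommGroup S] (π : A → S) : Prop where
  mul : ∀ a ∈ E, ∀ b ∈ E, π (a * b) = π a + π b
  ker : ∀ a ∈ E, π a = 0 ↔ a ∈ cstab E x
  surj : ∀ s, ∃ a ∈ E, π a = s
  conj : ∀ g : A, g • x = x → ∃ φ : S →+ S, Function.Injective φ ∧
    ∀ a ∈ E, π (g * a * g⁻¹) = φ (π a)

namespace Pos
variable {E : Subgroup A} {x : V} {S : Type*} [AddCommGroup S] {π : A → S} (p : Pos E x π)
include p

theorem one : π 1 = 0 := (p.ker 1 (one_mem _)).2 (one_mem _)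

theorem inv {a : A} (ha : a ∈ E) : π a⁻¹ = -π a := by
  rw [eq_neg_iff_add_eq_zero, ← p.mul _ (inv_mem ha) _ ha, inv_mul_cancel, p.one]

theorem pow {a : A} (ha : a ∈ E) (n : ℕ) : π (a ^ n) = n • π a := by
  induction n with
  | zero => simp [p.one]
  | succ n ih => rw [pow_succ, p.mul _ (pow_mem ha n) _ ha, ih, succ_nsmul]

theorem mem {a b : A} (ha : a ∈ E) (hb : b ∈ E) (e : π a = π b) : a⁻¹ * b ∈ cstab E x := by
  rw [← p.ker _ (mul_mem (inv_mem ha) hb), p.mul _ (inv_mem ha) _ hb, p.inv ha, e, neg_add_cancel]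

theorem exists_sec : ∃ t : S → A, t 0 = 1 ∧ ∀ s, t s ∈ E ∧ π (t s) = s := by
  classical
  choose t h1 h2 using p.surj
  refine ⟨fun s => if s = 0 then 1 else t s, by simp, fun s => ?_⟩
  by_cases hs : s = 0
  · simp [hs, p.one]
  · simp [hs, h1, h2]

/-- A subgroup between `C_E(E_x)` and `E` that meets more than half of the positions is `E`. -/
theorem le_of_large [Finite S] {K : Subgroup A} (hK : cstab E x ≤ K) (T : Set S)
    (hT : 2 * T.ncard < Nat.card S) (h : ∀ a ∈ E, π a ∉ T → a ∈ K) : E ≤ K := by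
  let K' : AddSubgroup S :=
    { carrier := {s | ∃ a ∈ E, a ∈ K ∧ π a = s}
      zero_mem' := ⟨1, one_mem _, one_mem _, p.one⟩
      add_mem' := by
        rintro _ _ ⟨a, h1, h2, rfl⟩ ⟨b, h3, h4, rfl⟩
        exact ⟨a * b, mul_mem h1 h3, mul_mem h2 h4, p.mul a h1 b h3⟩
      neg_mem' := by
        rintro _ ⟨a, h1, h2, rfl⟩
        exact ⟨a⁻¹, inv_mem h1, inv_mem h2, p.inv h1⟩ }
  have h1 : Tᶜ ⊆ (K' : Set S) := fun s hs => by
    obtain ⟨a, ha, rfl⟩ := p.surj s
    exact ⟨a, ha, h a ha hs, rfl⟩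
  have h2 : Tᶜ.ncard ≤ Nat.card K' := Set.ncard_le_ncard h1
  have h3 := Set.ncard_add_ncard_compl T
  have h4 := K'.card_mul_index
  have h5 : K'.index = 1 := by
    have : K'.index ≠ 0 := AddSubgroup.FiniteIndex.index_ne_zero
    by_contra hne
    have : Nat.card K' * 2 ≤ Nat.card K' * K'.index := Nat.mul_le_mul_left _ (by omega)
    omega
  intro a ha
  obtain ⟨b, hb, hbK, e⟩ : π a ∈ K' := AddSubgroup.index_eq_one.1 h5 ▸ AddSubgroup.mem_top _
  simpa using mul_mem hbK (hK (p.mem hb ha e))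

end Pos

namespace Str
variable {Z E : Subgroup A} (h : Str V Z E)
include h

theorem eq_one {x : V} (hx : x ≠ 0) {z : A} (hz : z ∈ Z) (e : z • x = x) : z = 1 :=
  (h.fpf z hz x e).resolve_right hx

theorem comm_of_fix {x : V} (hx : x ≠ 0) {a b : A} (ha : a ∈ E) (hb : b ∈ E)
    (e : ⁅a, b⁆ • x = x) : a * b = b * a :=
  commutatorElement_eq_one_iff_mul_comm.1 (h.eq_one hx (h.comm a ha b hb) e)

theorem mem_cstab_of_fix {x : V} (hx : x ≠ 0) {d : A} (hd : d ∈ E) (e : d • x = x) :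
    d ∈ cstab E x :=
  mem_cstab.2 ⟨hd, fun d' h1 h2 => h.comm_of_fix hx h1 hd (by
    simp only [commutatorElement_def, mul_smul, inv_smul_eq_iff.2 e.symm,
      inv_smul_eq_iff.2 h2.symm, e, h2])⟩

theorem le_cstab (x : V) : Z ≤ cstab E x := fun z hz =>
  mem_cstab.2 ⟨h.le hz, fun d h1 _ => (h.cen z hz d h1).symm⟩

theorem exists_pos [Finite A] (x : V) : ∃ (S : Type u) (_ : AddCommGroup S) (_ : Fintype S)
    (π : A → S), Pos E x π ∧ Nat.card S = (cstab E x).relIndex E := by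
  classical
  have hn := h.normal_subgroupOf (h.le_cstab x) (le_refl E)
  have := h.En
  let Q := E ⧸ (cstab E x).subgroupOf E
  let _ : CommGroup Q := { (inferInstance : Group Q) with
    mul_comm := fun a b => by
      obtain ⟨a, rfl⟩ := QuotientGroup.mk_surjective a
      obtain ⟨b, rfl⟩ := QuotientGroup.mk_surjective b
      refine QuotientGroup.eq.2 (h.le_cstab x ?_)
      have := h.comm _ (inv_mem b.2) _ (inv_mem a.2)
      simpa [commutatorElement_def, mul_assoc] using this }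
  have hπ : ∀ a (ha : a ∈ E), (if ha : a ∈ E then Additive.ofMul (QuotientGroup.mk ⟨a, ha⟩ : Q)
      else 0) = Additive.ofMul (QuotientGroup.mk ⟨a, ha⟩ : Q) := fun a ha => dif_pos ha
  refine ⟨Additive Q, inferInstance, Fintype.ofFinite _,
    fun a => if ha : a ∈ E then Additive.ofMul (QuotientGroup.mk ⟨a, ha⟩ : Q) else 0,
    ⟨fun a ha b hb => ?_, fun a ha => ?_, fun s => ?_, fun g hg => ?_⟩, rfl⟩
  · rw [hπ a ha, hπ b hb, hπ _ (mul_mem ha hb)]; rfl
  · rw [hπ a ha]
    exact QuotientGroup.eq_one_iff (N := (cstab E x).subgroupOf E) (⟨a, ha⟩ : E)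
  · obtain ⟨a, ha⟩ := QuotientGroup.mk_surjective (Additive.toMul s)
    exact ⟨a, a.2, by rw [hπ a a.2]; exact congrArg Additive.ofMul ha⟩
  · let φ : Q →* Q := QuotientGroup.map _ _ (MulAut.conjNormal (H := E) g).toMonoidHom
      fun b hb => conj_mem_cstab hg hb
    refine ⟨φ.toAdditive, (injective_iff_map_eq_zero _).2 fun s hs => ?_, fun a ha => ?_⟩
    · obtain ⟨a, ha⟩ := QuotientGroup.mk_surjective (Additive.toMul s)
      obtain rfl : s = Additive.ofMul (a : Q) := (congrArg Additive.ofMul ha).symm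
      have h1 : g * a * g⁻¹ ∈ cstab E x :=
        (QuotientGroup.eq_one_iff (N := (cstab E x).subgroupOf E) (MulAut.conjNormal g a)).1 hs
      have h2 := conj_mem_cstab (inv_smul_eq_iff.2 hg.symm) h1
      exact (QuotientGroup.eq_one_iff (N := (cstab E x).subgroupOf E) a).2 (by
        change (a : A) ∈ cstab E x
        simpa [mul_assoc] using h2)
    · rw [hπ a ha, hπ _ (this.conj_mem a ha g)]; rfl

/-- Eigenvectors for different characters of a commutative family are independent. -/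
theorem indep_of_chars {ι : Type*} (D : Set A) (hD : ∀ d ∈ D, d ∈ E)
    (hc : ∀ d ∈ D, ∀ d' ∈ D, d * d' = d' * d) (χ : ι → A → A) (hχ : ∀ i, ∀ d ∈ D, χ i d ∈ Z)
    (hsep : ∀ i j, i ≠ j → ∃ d ∈ D, χ i d ≠ χ j d) (s : Finset ι) : ∀ v : ι → V,
    (∀ i, ∀ d ∈ D, d • v i = χ i d • v i) → ∑ i ∈ s, v i = 0 → ∀ i ∈ s, v i = 0 := by
  classical
  induction s using Finset.induction_on with
  | empty => simp
  | insert i₀ s hi₀ ih =>
    intro v hv hs
    rw [Finset.sum_insert hi₀] at hs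
    have h1 : ∀ i ∈ s, v i = 0 := by
      intro i hi
      obtain ⟨d, hd, hne⟩ := hsep i i₀ fun e => hi₀ (e ▸ hi)
      have := ih (fun m => d • v m - χ i₀ d • v m) (fun m r hr => by
        rw [smul_sub, smul_sub, ← mul_smul, hc r hr d hd, mul_smul, hv m r hr, ← mul_smul r,
          ← h.cen _ (hχ i₀ d hd) r (hD r hr), mul_smul, hv m r hr, ← mul_smul d,
          ← h.cen _ (hχ m r hr) d (hD d hd), mul_smul, ← mul_smul (χ i₀ d),
          h.ab (hχ i₀ d hd) (hχ m r hr), mul_smul])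
        (by rw [Finset.sum_sub_distrib, ← Finset.smul_sum, ← Finset.smul_sum,
          eq_neg_of_add_eq_zero_right hs, smul_neg, smul_neg, hv i₀ d hd, sub_self]) i hi
      rw [sub_eq_zero, hv i d hd] at this
      exact h.smul_inj (hχ i d hd) (hχ i₀ d hd) hne this
    intro l hl
    rcases Finset.mem_insert.1 hl with rfl | hl
    · rwa [Finset.sum_eq_zero h1, add_zero] at hs
    · exact h1 l hl

variable {x : V} {S : Type*} [AddCommGroup S] {π : A → S}

theorem pos_indep [Fintype S] (hx : x ≠ 0) (p : Pos E x π) (t : S → A)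
    (ht : ∀ s, t s ∈ E ∧ π (t s) = s) (w : S → V) (hw : ∀ s, Fx E x (w s))
    (e : ∑ s, t s • w s = 0) (s : S) : w s = 0 := by
  have := h.indep_of_chars (stab E x) (fun d hd => hd.1) (fun d hd d' hd' =>
    (mem_cstab.1 (h.mem_cstab_of_fix hx hd'.1 hd'.2)).2 d hd.1 hd.2) (fun s d => ⁅d, t s⁆)
    (fun s d hd => h.comm d hd.1 _ (ht s).1) (fun s s' hne => by
      by_contra hc
      push Not at hc
      refine hne ?_
      have h1 : (t s)⁻¹ * t s' ∈ cstab E x := mem_cstab.2 ⟨mul_mem (inv_mem (ht s).1) (ht s').1,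
        fun d h1 h2 => (commute_of_commutator_eq (k := t s) (k' := t s') (u := d) (by
          rw [← commutatorElement_inv, ← commutatorElement_inv d, hc d ⟨h1, h2⟩]))⟩
      rw [← p.ker _ h1.1, p.mul _ (inv_mem (ht s).1) _ (ht s').1, p.inv (ht s).1, (ht s).2,
        (ht s').2, neg_add_eq_zero] at h1
      exact h1) Finset.univ (fun s => t s • w s) (fun s d hd => by
      rw [← mul_smul ⁅d, t s⁆, show ⁅d, t s⁆ * t s = d * t s * d⁻¹ by
        simp [commutatorElement_def], mul_smul, mul_smul,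
        inv_smul_eq_iff.2 (hw s d hd.1 hd.2).symm]) e s (Finset.mem_univ _)
  exact (smul_eq_zero_iff_eq _).1 this

/-- An element fixing `x` and a sum of position vectors permutes the summands. -/
theorem pos_smul [Fintype S] (hx : x ≠ 0) (p : Pos E x π) (t : S → A)
    (ht : ∀ s, t s ∈ E ∧ π (t s) = s) (w : S → V) (hw : ∀ s, Fx E x (w s)) {g : A}
    (hg : g • x = x) {φ : S →+ S} (hφ : Function.Injective φ)
    (hc : ∀ a ∈ E, π (g * a * g⁻¹) = φ (π a)) (e : g • ∑ s, t s • w s = ∑ s, t s • w s) (s : S) :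
    ((t (φ s))⁻¹ * (g * t s * g⁻¹)) • g • w s = w (φ s) := by
  have := h.En
  let ψ := Equiv.ofBijective φ (Finite.injective_iff_bijective.1 hφ)
  have hb : ∀ s, (t (φ s))⁻¹ * (g * t s * g⁻¹) ∈ cstab E x := fun s =>
    p.mem (ht _).1 (this.conj_mem _ (ht s).1 g) (by rw [hc _ (ht s).1, (ht s).2, (ht _).2])
  have h1 := h.pos_indep hx p (fun s => t s) ht
    (fun s => ((t s)⁻¹ * (g * t (ψ.symm s) * g⁻¹)) • g • w (ψ.symm s) - w s) (fun s => by
      refine Fx.sub (Fx.smul ((hw _).conj hg) ?_) (hw s)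
      have := hb (ψ.symm s)
      rwa [show φ (ψ.symm s) = s from ψ.apply_symm_apply s] at this) (by
      simp only [smul_sub, Finset.sum_sub_distrib, mul_smul, smul_inv_smul, inv_smul_smul]
      rw [← e, Finset.smul_sum, sub_eq_zero]
      exact Fintype.sum_equiv ψ.symm _ _ fun _ => rfl) (φ s)
  rwa [sub_eq_zero, show ψ.symm (φ s) = s from ψ.symm_apply_apply s] at h1

omit h in
theorem fix_mul {g t b : A} (hg : g • x = x) [hE : E.Normal] (ht : t ∈ E) (hb : b ∈ cstab E x)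
    (h1 : g • t • x = t • x) (h2 : g • b • x = b • x) : g • (t * b) • x = (t * b) • x := by
  have h3 : (t⁻¹ * (g * t * g⁻¹)) • x = x := by
    rw [mul_smul, mul_smul, mul_smul, inv_smul_eq_iff.2 hg.symm, h1, inv_smul_smul]
  have h4 := (mem_cstab.1 hb).2 _ (mul_mem (inv_mem ht) (hE.conj_mem t ht g)) h3
  calc g • (t * b) • x = t • (t⁻¹ * (g * t * g⁻¹)) • g • b • x := by
        simp only [mul_smul, smul_inv_smul, inv_smul_smul]
    _ = _ := by rw [h2, ← mul_smul _ b, h4, mul_smul, h3, mul_smul]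

/-- An element fixing most of the orbit of `x` is trivial. -/
theorem eq_one_of_fix [Finite S] (hx : x ≠ 0) (p : Pos E x π) (T : Set S) (h0 : 0 ∉ T)
    (hT : 4 * T.ncard < Nat.card S) {g : A} (hg : ∀ a ∈ E, π a ∉ T → g • a • x = a • x) :
    g = 1 := by
  have hE := h.En
  have hgx : g • x = x := by simpa using hg 1 (one_mem _) (by rwa [p.one])
  have h1 : ∀ a ∈ E, π a ∉ T → (a⁻¹ * (g * a * g⁻¹)) • x = x := fun a ha hT => by
    rw [mul_smul, mul_smul, mul_smul, inv_smul_eq_iff.2 hgx.symm, hg a ha hT, inv_smul_smul]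
  have h2 : ∀ a ∈ E, a⁻¹ * (g * a * g⁻¹) ∈ E := fun a ha =>
    mul_mem (inv_mem ha) (hE.conj_mem a ha g)
  have h3 : ∀ a ∈ E, π a ∉ T → a ∈ centralizer ({g} : Set A) := by
    intro a ha haT
    have h4 : E ≤ centralizer ({a⁻¹ * (g * a * g⁻¹)} : Set A) := by
      refine p.le_of_large (fun b hb => mem_centralizer_singleton_iff.2
        ((mem_cstab.1 hb).2 _ (h2 a ha) (h1 a ha haT)).symm) (T ∪ (fun s => -π a + s) '' T) ?_ ?_
      · have := Set.ncard_union_le T ((fun s => -π a + s) '' T)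
        have := Set.ncard_image_le (f := fun s => -π a + s) (s := T)
        omega
      · intro b hb hbT
        rw [Set.mem_union, not_or] at hbT
        have h5 := h1 (a * b) (mul_mem ha hb) fun hc => hbT.2 ⟨_, hc, by
          simp [p.mul a ha b hb]⟩
        have h6 := h1 b hb hbT.1
        have h7 := h1 a ha haT
        refine mem_centralizer_singleton_iff.2 ?_
        have h8 := h.comm_of_fix hx (inv_mem hb) (h2 a ha) (by
          rw [show ⁅b⁻¹, a⁻¹ * (g * a * g⁻¹)⁆ = (a * b)⁻¹ * (g * (a * b) * g⁻¹) *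
            (b⁻¹ * (g * b * g⁻¹))⁻¹ * (a⁻¹ * (g * a * g⁻¹))⁻¹ by
            simp only [commutatorElement_def]; group, mul_smul, mul_smul,
            inv_smul_eq_iff.2 h7.symm, inv_smul_eq_iff.2 h6.symm, h5])
        exact Commute.inv_left_iff.1 h8
    have h5 := h.eq_one hx (h.selfc _ fun y hy => mem_centralizer_singleton_iff.1 (h4 hy))
      (h1 a ha haT)
    rw [inv_mul_eq_one, eq_mul_inv_iff_mul_eq] at h5
    exact mem_centralizer_singleton_iff.2 h5
  have h4 := p.le_of_large (fun b hb => h3 b hb.1 (by rwa [(p.ker b hb.1).2 hb])) T (by omega) h3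
  exact h.eq_one hx (h.selfc g fun y hy => mem_centralizer_singleton_iff.1 (h4 hy)) hgx

end Str

end CL.SolvLin
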