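import Mathlib
import Cfsg.Agent.FGS.Base2
import Cfsg.Agent.PLOC.ClassTwo

/-!
# Bases of solvable groups III: vectors with maximal stabiliser
-/

open Subgroup
open scoped Pointwise commutatorElement

namespace CL.SolvLin

universe u

section classTwo
variable {Y : Type*} [Group Y] [Finite Y]

theorem class_two_gen (hcyc : ∀ M : Subgroup Y, (∀ a ∈ M, ∀ b ∈ M, a * b = b * a) → IsCyclic M)
    (hc : ∀ a b : Y, ⁅a, b⁆ ∈ center Y) : ∃ m b : Y, closure {m, b} = ⊤ ∧
      (m * b = b * m ∨ (⁅m, b⁆ ^ 2 = 1 ∧ ¬ 4 ∣ Nat.card (center Y))) := by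
  have hcm : ∀ a b c : Y, Commute c ⁅a, b⁆ := fun a b c => mem_center_iff.1 (hc a b) c
  have hsup : ∀ (M : Subgroup Y) (x : Y), (∀ a ∈ M, ∀ b ∈ M, a * b = b * a) →
      (∀ a ∈ M, a * x = x * a) → ∀ a ∈ closure (insert x (M : Set Y)),
        ∀ b ∈ closure (insert x (M : Set Y)), a * b = b * a := fun M x h1 h2 => by
    have := isMulCommutative_closure (k := insert x (M : Set Y)) (by
      rintro a (rfl | ha) b (rfl | hb)
      · rfl
      · exact (h2 b hb).symm
      · exact h2 a ha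
      · exact h1 a ha b hb)
    exact fun a ha b hb => setLike_mul_comm ha hb
  obtain ⟨M, hM, hmax⟩ := Set.exists_max_image
    {M : Subgroup Y | ∀ a ∈ M, ∀ b ∈ M, a * b = b * a} (fun L => Nat.card L)
    (Set.toFinite _) ⟨⊥, by simp⟩
  have h4 : ∀ x, (∀ a ∈ M, a * x = x * a) → x ∈ M := fun x hx => by
    rw [show M = closure (insert x (M : Set Y)) from eq_of_le_of_card_ge
      (fun a ha => subset_closure (Or.inr ha)) (hmax _ (hsup M x hM hx))]
    exact subset_closure (Or.inl rfl)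
  obtain ⟨m, hm⟩ := (isCyclic_iff_exists_zpowers_eq_top.1 (hcyc M hM))
  have hm' : ∀ a ∈ M, a ∈ zpowers (m : Y) := fun a ha => by
    obtain ⟨k, hk⟩ : (⟨a, ha⟩ : M) ∈ zpowers m := hm ▸ mem_top _
    exact ⟨k, congrArg Subtype.val hk⟩
  have h5 : ∀ x : Y, Commute x m → x ∈ zpowers (m : Y) := fun x hx => hm' x (h4 x fun a ha => by
    obtain ⟨k, rfl⟩ := hm' a ha
    exact (hx.symm.zpow_left k).eq)
  clear hm hm' h4 hmax hM
  generalize (m : Y) = m at h5
  let f : Y →* Y := MonoidHom.mk' (fun y => ⁅m, y⁆) fun a b =>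
    PG.commutator_mul_right_of_commute (hcm _ _ _)
  have hf : ∀ y, f y = ⁅m, y⁆ := fun _ => rfl
  have hfr := hcyc f.range (by
    rintro _ ⟨a, rfl⟩ b -
    exact (hcm m a b).eq.symm)
  obtain ⟨⟨_, b₀, rfl⟩, hb₀⟩ := isCyclic_iff_exists_zpowers_eq_top.1 hfr
  have hb : ∀ y, ∃ k : ℤ, f y = f b₀ ^ k := fun y => by
    obtain ⟨k, hk⟩ : (⟨f y, y, rfl⟩ : f.range) ∈ zpowers _ := hb₀ ▸ mem_top _
    exact ⟨k, (congrArg Subtype.val hk).symm⟩
  have hker : ∀ y, f y = 1 → y ∈ zpowers m := fun y hy =>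
    h5 y (commutatorElement_eq_one_iff_commute.1 hy).symm
  set n := orderOf (f b₀) with hn
  have hn0 : 0 < n := orderOf_pos _
  have hgen : ∀ b, f b = f b₀ → closure {m, b} = ⊤ := fun b e => (eq_top_iff' _).2 fun y => by
    obtain ⟨k, hk⟩ := hb y
    have h1 := hker ((b ^ k)⁻¹ * y) (by rw [map_mul, map_inv, map_zpow, e, hk, inv_mul_cancel])
    have h2 : zpowers m ≤ closure {m, b} := zpowers_le.2 (subset_closure (by simp))
    simpa using mul_mem (zpow_mem (subset_closure (show b ∈ ({m, b} : Set Y) by simp)) k) (h2 h1)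
  have hcen : ∀ b, f b = f b₀ → ∀ y, Commute y m → Commute y b → y ∈ center Y :=
    fun b e y h1 h2 => mem_center_iff.2 fun g => by
      have : closure {m, b} ≤ centralizer {y} := (closure_le _).2 (by
        rintro _ (rfl | rfl)
        · exact mem_centralizer_singleton_iff.2 h1.eq.symm
        · exact mem_centralizer_singleton_iff.2 h2.eq.symm)
      exact mem_centralizer_singleton_iff.1 (this (hgen b e ▸ mem_top g))
  obtain ⟨l, hl⟩ := hker (b₀ ^ n) (by rw [map_pow, pow_orderOf_eq_one])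
  replace hl : m ^ l = b₀ ^ n := hl
  have hnl : (n : ℤ) ∣ l := by
    rw [hn, orderOf_dvd_iff_zpow_eq_one, hf, ← PG.commutator_zpow_left (hcm _ _ _), hl]
    exact commutatorElement_eq_one_iff_commute.2 (Commute.pow_self _ _)
  obtain ⟨k, rfl⟩ := hnl
  set b := b₀ * m ^ (-k) with hb'
  have hfb : f b = f b₀ := by
    rw [hb', map_mul, map_zpow, hf m, commutatorElement_self, one_zpow, mul_one]
  have hb2 : b ^ (2 * n) = 1 := by
    have h1 : b ^ n = ⁅m ^ (-k), b₀⁆ ^ n.choose 2 := by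
      rw [hb', PG.mul_pow_of_commute_commutator (hcm _ _ _) (hcm _ _ _), ← hl, ← zpow_natCast (m ^ (-k)),
        ← zpow_mul, ← zpow_add]
      simp [mul_comm]
    rw [mul_comm, pow_mul, h1, ← pow_mul, PG.commutator_zpow_left (hcm _ _ _), ← hf,
      Nat.choose_two_right, Nat.div_mul_cancel (Nat.even_mul_pred_self n).two_dvd, pow_mul,
      ← zpow_natCast _ n, ← zpow_mul, mul_comm, zpow_mul, zpow_natCast, hn, pow_orderOf_eq_one]
    simp
  refine ⟨m, b, hgen b hfb, ?_⟩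
  by_cases h1 : n = 1
  · refine Or.inl (commutatorElement_eq_one_iff_mul_comm.1 ?_)
    rw [← hf, hfb]
    exact orderOf_eq_one_iff.1 h1
  right
  set L := closure (insert b (center Y : Set Y)) with hL
  have hLc := hsup (center Y) b (fun a ha c _ => (mem_center_iff.1 ha c).symm)
    fun a ha => (mem_center_iff.1 ha b).symm
  have hcL := hcyc L hLc
  have hCL : center Y ≤ L := fun a ha => subset_closure (Or.inr ha)
  have hbL : b ∈ L := subset_closure (Or.inl rfl)
  set N := Nat.card (center Y) with hN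
  have hN0 : 0 < N := Nat.card_pos
  have h2 : n * N ∣ Nat.card L := by
    rw [← relIndex_bot_left, ← relIndex_mul_relIndex ⊥ (center Y) L bot_le hCL, relIndex_bot_left,
      mul_comm n]
    refine Nat.mul_dvd_mul_left _ ?_
    have h3 := pow_relIndex_mem (center Y) hbL
    rw [hn, ← hfb, orderOf_dvd_iff_pow_eq_one, ← map_pow]
    exact commutatorElement_eq_one_iff_mul_comm.2 (mem_center_iff.1 h3 m)
  have h3 : ∀ e, N ∣ e → 2 * n ∣ e → Nat.card L ∣ e := fun e h1 h2 => by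
    rw [← IsCyclic.exponent_eq_card, Monoid.exponent_dvd_iff_forall_pow_eq_one]
    rintro ⟨g, hg⟩
    refine Subtype.ext ?_
    change g ^ e = 1
    induction hg using closure_induction with
    | mem x hx =>
      rcases hx with rfl | hx
      · obtain ⟨c, rfl⟩ := h2
        rw [pow_mul, hb2, one_pow]
      · obtain ⟨c, rfl⟩ := h1
        have : x ^ N = 1 := congrArg Subtype.val (pow_card_eq_one' (x := (⟨x, hx⟩ : center Y)))
        rw [pow_mul, this, one_pow]
    | one => simp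
    | mul x y hx hy h4 h5 => rw [(show Commute x y from hLc x hx y hy).mul_pow, h4, h5, one_mul]
    | inv x _ h4 => rw [inv_pow, h4, inv_one]
  have hnN : n ∣ N := (center Y).orderOf_dvd_natCard (hc m b₀)
  have h4 : n = 2 := by
    have := h2.trans (h3 (2 * N) (Dvd.intro_left _ rfl) (Nat.mul_dvd_mul_left 2 hnN))
    exact ((Nat.dvd_prime Nat.prime_two).1 (Nat.dvd_of_mul_dvd_mul_right hN0 this)).resolve_left h1
  refine ⟨by rw [← hf, hfb, ← h4, hn, pow_orderOf_eq_one], fun h5 => ?_⟩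
  have := Nat.le_of_dvd hN0 (h2.trans (h3 N dvd_rfl (by rwa [h4])))
  rw [h4] at this
  omega

theorem eq_of_cyclic_two {G : Type*} [Group G] [Finite G] [IsCyclic G] {x y : G}
    (hx : orderOf x = 2) (hy : orderOf y = 2) : x = y := by
  classical
  have := Fintype.ofFinite G
  have h := IsCyclic.card_orderOf_eq_totient (α := G) (d := 2) (hx ▸ orderOf_dvd_card)
  exact Finset.card_le_one.1 (h.trans (by simp)).le x (by simpa) y (by simpa)

theorem class_two_cases (hcyc : ∀ M : Subgroup Y, (∀ a ∈ M, ∀ b ∈ M, a * b = b * a) → IsCyclic M)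
    (hc : ∀ a b : Y, ⁅a, b⁆ ∈ center Y) : (∀ a b : Y, a * b = b * a) ∨ ∃ i j : Y,
      i * i = ⁅i, j⁆ ∧ j * j = ⁅i, j⁆ ∧ ⁅i, j⁆ ≠ 1 ∧ ⁅i, j⁆ ^ 2 = 1 ∧ ¬ 4 ∣ Nat.card (center Y) ∧
      ∀ K : Subgroup Y, center Y ≤ K → i ∈ K → j ∈ K → K = ⊤ := by
  have hcm : ∀ a b c : Y, Commute c ⁅a, b⁆ := fun a b c => mem_center_iff.1 (hc a b) c
  obtain ⟨m, b, h1, h2⟩ := class_two_gen hcyc hc
  have hcen : ∀ y, Commute y m → Commute y b → y ∈ center Y :=
    fun y h3 h4 => mem_center_iff.2 fun g => by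
      have : closure {m, b} ≤ centralizer {y} := (closure_le _).2 (by
        rintro _ (rfl | rfl)
        · exact mem_centralizer_singleton_iff.2 h3.eq.symm
        · exact mem_centralizer_singleton_iff.2 h4.eq.symm)
      exact mem_centralizer_singleton_iff.1 (this (h1 ▸ mem_top g))
  by_cases hmb : m * b = b * m
  · left
    have : center Y = ⊤ := by
      rw [eq_top_iff, ← h1, closure_le]
      rintro _ (rfl | rfl)
      · exact hcen _ (Commute.refl _) hmb
      · exact hcen _ (show Commute _ _ from hmb.symm) (Commute.refl _)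
    exact fun a c => mem_center_iff.1 (this ▸ mem_top c) a
  right
  obtain ⟨h3, h4⟩ := h2.resolve_left hmb
  have h5 : ⁅m, b⁆ ≠ 1 := mt commutatorElement_eq_one_iff_mul_comm.1 hmb
  have h6 : orderOf ⁅m, b⁆ = 2 := orderOf_eq_prime h3 h5
  obtain ⟨N, hN⟩ : 2 ∣ Nat.card (center Y) := h6 ▸ (center Y).orderOf_dvd_natCard (hc m b)
  obtain ⟨r, rfl⟩ : Odd N := by
    rw [← Nat.not_even_iff_odd]
    rintro ⟨r, rfl⟩
    exact h4 ⟨r, by omega⟩
  have hodd : ⁅m, b⁆ ^ (2 * r + 1) = ⁅m, b⁆ := by rw [pow_succ, pow_mul, h3, one_pow, one_mul]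
  have hm2 : m ^ 2 ∈ center Y := hcen _ (Commute.pow_self _ _) (by
    rw [← commutatorElement_eq_one_iff_commute, PG.commutator_pow_left (hcm _ _ _), h3])
  have hb2 : b ^ 2 ∈ center Y := hcen _ (Commute.symm (by
    rw [← commutatorElement_eq_one_iff_commute, PG.commutator_pow_right (hcm _ _ _), h3]))
    (Commute.pow_self _ _)
  have hij : ⁅m ^ (2 * r + 1), b ^ (2 * r + 1)⁆ = ⁅m, b⁆ := by
    rw [PG.commutator_pow_left (hcm _ _ _), PG.commutator_pow_right (hcm _ _ _), hodd, hodd]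
  have key : ∀ y, y ^ 2 ∈ center Y → y ^ (2 * r + 1) ∉ center Y →
      y ^ (2 * r + 1) * y ^ (2 * r + 1) = ⁅m, b⁆ := fun y hy hy' => by
    have huniq : ∀ w, orderOf w = 2 → w = ⁅m, b⁆ := fun w hw => by
      have hL := hcyc (closure {w, ⁅m, b⁆}) (by
        have := isMulCommutative_closure (k := {w, ⁅m, b⁆}) (by
          rintro a (rfl | rfl) c (rfl | rfl)
          · rfl
          · exact (hcm _ _ _).eq
          · exact (hcm _ _ _).eq.symm
          · rfl)
        exact fun a ha b hb => setLike_mul_comm ha hb)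
      have := eq_of_cyclic_two (G := closure {w, ⁅m, b⁆})
        (x := ⟨w, subset_closure (by simp)⟩) (y := ⟨⁅m, b⁆, subset_closure (by simp)⟩)
        (by rw [orderOf_mk, hw]) (by rw [orderOf_mk, h6])
      exact congrArg Subtype.val this
    have h7 : (y ^ 2) ^ (2 * (2 * r + 1)) = 1 := by
      rw [← hN]; exact congrArg Subtype.val (pow_card_eq_one' (x := (⟨_, hy⟩ : center Y)))
    refine huniq _ (orderOf_eq_prime (by rw [← h7, ← pow_add, ← pow_mul, ← pow_mul]; congr 1; ring)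
      fun e => hy' ?_)
    rw [huniq (y ^ (2 * r + 1)) (orderOf_eq_prime (by rw [sq, e]) fun e' =>
      hy' (by rw [e']; exact one_mem _))]
    exact hc _ _
  refine ⟨m ^ (2 * r + 1), b ^ (2 * r + 1), ?_, ?_, hij ▸ h5, hij ▸ h3, h4, fun K h7 h8 h9 => ?_⟩
  · rw [hij]
    exact key m hm2 fun e => h5 (hij ▸ commutatorElement_eq_one_iff_mul_comm.2
      (mem_center_iff.1 e _).symm)
  · rw [hij]
    exact key b hb2 fun e => h5 (hij ▸ commutatorElement_eq_one_iff_mul_comm.2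
      (mem_center_iff.1 e _))
  · rw [eq_top_iff, ← h1, closure_le]
    rintro _ (rfl | rfl)
    · simpa [pow_succ, pow_mul] using mul_mem (inv_mem (pow_mem (h7 hm2) r)) h8
    · simpa [pow_succ, pow_mul] using mul_mem (inv_mem (pow_mem (h7 hb2) r)) h9

end classTwo

variable {A : Type u} [Group A] {V : Type*} [AddCommGroup V] [DistribMulAction A V]

/-- `x` is a nonzero vector whose stabiliser in `E` is as large as possible. -/
def IsMax (E : Subgroup A) (x : V) : Prop :=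
  x ≠ 0 ∧ ∀ w : V, w ≠ 0 → Nat.card (stab E w) ≤ Nat.card (stab E x)

theorem exists_isMax [Finite V] [Nontrivial V] (E : Subgroup A) : ∃ x : V, IsMax E x :=
  Set.exists_max_image {w : V | w ≠ 0} (fun w => Nat.card (stab E w)) (Set.toFinite _)
    (exists_ne 0)

theorem IsMax.stab_eq [Finite A] {E : Subgroup A} {x w : V} (hx : IsMax E x) (hw : Fx E x w)
    (h0 : w ≠ 0) : stab E w = stab E x :=
  (eq_of_le_of_card_ge (show stab E x ≤ stab E w from fun d hd => ⟨hd.1, hw d hd.1 hd.2⟩)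
    (hx.2 w h0)).symm

theorem IsMax.fix [Finite A] {E : Subgroup A} {x w : V} (hx : IsMax E x) (hw : Fx E x w)
    (h0 : w ≠ 0) {a : A} (ha : a ∈ E) (e : a • w = w) : a • x = x :=
  (hx.stab_eq hw h0 ▸ (⟨ha, e⟩ : a ∈ stab E w) : a ∈ stab E x).2

theorem IsMax.of_fx [Finite A] {E : Subgroup A} {x w : V} (hx : IsMax E x) (hw : Fx E x w)
    (h0 : w ≠ 0) : IsMax E w := ⟨h0, fun v hv => hx.stab_eq hw h0 ▸ hx.2 v hv⟩

theorem cstab_eq {E : Subgroup A} {x w : V} (e : stab E w = stab E x) : cstab E w = cstab E x := by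
  rw [cstab, e, cstab]

/-- The vectors fixed by the stabiliser of `x`. -/
def fxs (E : Subgroup A) (x : V) : AddSubgroup V where
  carrier := {w | Fx E x w}
  zero_mem' := Fx.zero
  add_mem' := Fx.add
  neg_mem' := Fx.neg

namespace Str
variable {Z E : Subgroup A} (h : Str V Z E) [Finite A] [Finite V]
include h

/-- The double centraliser property. -/
theorem exists_of_central {x : V} (hx : x ≠ 0) {b : A} (hb : b ∈ E)
    (hc : ∀ c ∈ cstab E x, c * b = b * c) : ∃ z ∈ Z, b • x = z • x := by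
  have : Nontrivial V := nontrivial_of_ne _ _ hx
  have := h.Zn
  have hD : stab E x ⊔ Z ≤ E := sup_le inf_le_left h.le
  have h1 := h.pair (K := E ⊓ centralizer (cstab E x : Set A)) (U₀ := cstab E x) le_rfl
    (h.le_cstab x) (fun k hk u hu => h.comm k hk.1 u hu) fun k hk u hu =>
      commutatorElement_eq_one_iff_mul_comm.2 (hk.2 u hu).symm
  have h2 := h.pair (K := E) hD le_rfl (fun k hk u hu => h.comm k hk u (hD hu)) fun k hk u hu =>
    commutatorElement_eq_one_iff_mul_comm.2 (h.cen u hu k hk).symm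
  have h3 : centralizer ((stab E x ⊔ Z : Subgroup A) : Set A) ⊓ E = cstab E x := by
    refine le_antisymm (fun a ha => ⟨ha.2, centralizer_le (SetLike.coe_subset_coe.2 le_sup_left) ha.1⟩)
      fun a ha => ⟨?_, ha.1⟩
    have : stab E x ⊔ Z ≤ centralizer {a} := sup_le
      (fun d hd => mem_centralizer_singleton_iff.2 (ha.2 d hd))
      fun z hz => mem_centralizer_singleton_iff.2 (h.cen z hz a ha.1)
    exact fun y hy => mem_centralizer_singleton_iff.1 (this hy)
  rw [← inf_relIndex_right, h3] at h2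
  rw [h.centralizer_eq] at h1
  have h4 : stab E x ⊔ Z ≤ E ⊓ centralizer (cstab E x : Set A) := le_inf hD (sup_le
    (fun d hd c hc => (hc.2 d hd).symm) fun z hz c hc => (h.cen z hz c hc.1).symm)
  have h5 := h1.trans h2
  rw [← relIndex_mul_relIndex Z _ _ le_sup_right h4] at h5
  have h6 : Z.relIndex (stab E x ⊔ Z) ≠ 0 := FiniteIndex.index_ne_zero
  have h7 : (stab E x ⊔ Z).relIndex (E ⊓ centralizer (cstab E x : Set A)) ≠ 0 :=
    FiniteIndex.index_ne_zero
  have h8 := Nat.le_of_mul_le_mul_left (h5.trans_eq (mul_one _).symm) (Nat.pos_of_ne_zero h6)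
  have h9 : b ∈ stab E x ⊔ Z := relIndex_eq_one.1 (le_antisymm h8 (Nat.pos_of_ne_zero h7)) ⟨hb, hc⟩
  rw [sup_comm, ← SetLike.mem_coe, normal_mul] at h9
  obtain ⟨z, hz, d, hd, rfl⟩ := h9
  exact ⟨z, hz, by rw [mul_smul, show d • x = x from hd.2]⟩

theorem exists_img {x : V} (hx : IsMax E x) : ∃ (Y : Subgroup (fxs E x ≃ₗ[ℤ] fxs E x))
    (f : cstab E x →* Y), Function.Surjective f ∧ (∀ b, f b = 1 ↔ (b : A) • x = x) ∧
    (∀ M : Subgroup Y, (∀ a ∈ M, ∀ b ∈ M, a * b = b * a) → IsCyclic M) ∧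
    center Y = (Z.subgroupOf (cstab E x)).map f ∧ ∀ a b : Y, ⁅a, b⁆ ∈ center Y := by
  have hinv : Inv (cstab E x) (fxs E x) := fun a ha v hv => Fx.smul hv ha
  let := resAct _ _ hinv
  have : Finite (Img (cstab E x) (fxs E x)) := Finite.of_surjective _ toImg_surj
  have : Nontrivial (fxs E x) := ⟨⟨x, Fx.self⟩, 0, fun e => hx.1 (congrArg Subtype.val e)⟩
  have h1 : ∀ b : cstab E x, toImg (fxs E x) b = 1 ↔ (b : A) • x = x := fun b =>
    ⟨fun e => congrArg Subtype.val (show toImg (fxs E x) b • (⟨x, Fx.self⟩ : fxs E x) =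
      ⟨x, Fx.self⟩ by rw [e, one_smul]), fun e => img_faithful _ fun v => Subtype.ext (v.2 b b.2.1 e)⟩
  have h2 : center (Img (cstab E x) (fxs E x)) =
      (Z.subgroupOf (cstab E x)).map (toImg (fxs E x)) := by
    refine le_antisymm (fun y hy => ?_) ?_
    · obtain ⟨b, rfl⟩ := toImg_surj y
      obtain ⟨z, hz, e⟩ := h.exists_of_central hx.1 b.2.1 fun c hc =>
        h.comm_of_fix hx.1 hc.1 b.2.1 ((h1 ⁅(⟨c, hc⟩ : cstab E x), b⁆).1 (by
          rw [map_commutatorElement, commutatorElement_eq_one_iff_mul_comm]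
          exact mem_center_iff.1 hy _))
      refine ⟨⟨z, h.le_cstab x hz⟩, hz, ?_⟩
      rw [← inv_mul_eq_one, ← map_inv, ← map_mul, h1]
      change (z⁻¹ * (b : A)) • x = x
      rw [mul_smul, e, inv_smul_smul]
    · rintro _ ⟨z, hz, rfl⟩
      refine mem_center_iff.2 fun y => ?_
      obtain ⟨b, rfl⟩ := toImg_surj y
      rw [← map_mul, ← map_mul]
      exact congrArg _ (Subtype.ext (h.cen z hz b b.2.1).symm)
  refine ⟨_, toImg (fxs E x), toImg_surj, h1, fun M hM => ?_, h2, fun a b => ?_⟩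
  · refine (exists_field (V := fxs E x) (le_refl M) hM (fun z _ v hv => ?_) (fun a ha b hb => ?_)
      fun a ha _ => ha).1
    · obtain ⟨b, rfl⟩ := toImg_surj z
      refine or_iff_not_imp_right.2 fun h0 => (h1 b).2 ?_
      exact hx.fix v.2 (fun e => h0 (Subtype.ext e)) b.2.1 (congrArg Subtype.val hv)
    · rw [commutatorElement_eq_one_iff_mul_comm.2 (hM a ha b hb)]; exact one_mem _
  · obtain ⟨a, rfl⟩ := toImg_surj a
    obtain ⟨b, rfl⟩ := toImg_surj b
    rw [h2, ← map_commutatorElement]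
    exact ⟨_, h.comm _ a.2.1 _ b.2.1, rfl⟩

omit h [Finite A] [Finite V] in
theorem le_of_map_eq_top {B K : Subgroup A} {Y : Type*} [Group Y] (f : B →* Y)
    (hk : ∀ b, f b = 1 → (b : A) ∈ K) (e : (K.subgroupOf B).map f = ⊤) : B ≤ K := fun b hb => by
  obtain ⟨c, hc, e'⟩ : f ⟨b, hb⟩ ∈ (K.subgroupOf B).map f := e ▸ mem_top _
  have := hk (c⁻¹ * ⟨b, hb⟩) (by rw [map_mul, map_inv, e', inv_mul_cancel])
  simpa using mul_mem (show (c : A) ∈ K from hc) this

theorem exists_two_gen {x : V} (hx : IsMax E x) : ∃ m ∈ cstab E x, ∃ b ∈ cstab E x,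
    ∀ K : Subgroup A, stab E x ≤ K → m ∈ K → b ∈ K → cstab E x ≤ K := by
  obtain ⟨Y, f, hf, h1, h2, -, h3⟩ := h.exists_img hx
  have : Finite Y := Finite.of_surjective _ hf
  obtain ⟨m, b, h4, -⟩ := class_two_gen h2 h3
  obtain ⟨m, rfl⟩ := hf m
  obtain ⟨b, rfl⟩ := hf b
  refine ⟨m, m.2, b, b.2, fun K h5 h6 h7 => le_of_map_eq_top f
    (fun c hc => h5 ⟨c.2.1, (h1 c).1 hc⟩) ?_⟩
  rw [eq_top_iff, ← h4, closure_le]
  rintro _ (rfl | rfl)
  · exact ⟨m, h6, rfl⟩
  · exact ⟨b, h7, rfl⟩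

theorem cstab_cases {x : V} (hx : IsMax E x) : (∀ b ∈ cstab E x, ∃ z ∈ Z, b • x = z • x) ∨
    ∃ i ∈ cstab E x, ∃ j ∈ cstab E x, (∀ w, Fx E x w → i • i • w = -w ∧ j • j • w = -w) ∧
      (∀ v : V, ⁅i, j⁆ • v = -v) ∧ ⁅i, j⁆ ≠ 1 ∧ ¬ 4 ∣ Nat.card Z ∧
      ∀ K : Subgroup A, stab E x ≤ K → Z ≤ K → i ∈ K → j ∈ K → cstab E x ≤ K := by
  obtain ⟨Y, f, hf, h1, h2, h4, h3⟩ := h.exists_img hx
  have : Finite Y := Finite.of_surjective _ hf
  rcases class_two_cases h2 h3 with h5 | ⟨i, j, e1, e2, e3, e4, e5, e6⟩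
  · refine Or.inl fun b hb => h.exists_of_central hx.1 hb.1 fun c hc =>
      h.comm_of_fix hx.1 hc.1 hb.1 ((h1 ⁅(⟨c, hc⟩ : cstab E x), ⟨b, hb⟩⁆).1 ?_)
    rw [map_commutatorElement, commutatorElement_eq_one_iff_mul_comm]
    exact h5 _ _
  obtain ⟨i, rfl⟩ := hf i
  obtain ⟨j, rfl⟩ := hf j
  have hz := h.comm _ i.2.1 _ j.2.1
  have h6 : ⁅(i : A), (j : A)⁆ ≠ 1 := fun e => e3 (by
    rw [← map_commutatorElement, show ⁅i, j⁆ = 1 from Subtype.ext e, map_one])
  have h7 : ⁅(i : A), (j : A)⁆ ^ 2 = 1 := h.eq_one hx.1 (pow_mem hz 2) ((h1 (⁅i, j⁆ ^ 2)).1 (by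
    rw [map_pow, map_commutatorElement, e4]))
  have h8 : ∀ v : V, ⁅(i : A), (j : A)⁆ • v = -v := fun v => by
    rw [eq_neg_iff_add_eq_zero]
    refine (h.fpf _ hz _ ?_).resolve_left h6
    rw [smul_add, ← mul_smul, ← sq, h7, one_smul, add_comm]
  have h9 : ∀ k : cstab E x, f k * f k = ⁅f i, f j⁆ → ∀ w, Fx E x w →
      (k : A) • (k : A) • w = -w := fun k e w hw => by
    have := hw _ (⁅i, j⁆⁻¹ * (k * k)).2.1 ((h1 _).1 (by
      rw [map_mul, map_inv, map_mul, e, map_commutatorElement, inv_mul_cancel]))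
    change ((⁅(i : A), (j : A)⁆)⁻¹ * (k * k)) • w = w at this
    rwa [mul_smul, inv_smul_eq_iff, mul_smul, h8] at this
  refine Or.inr ⟨i, i.2, j, j.2, fun w hw => ⟨h9 i e1 w hw, h9 j e2 w hw⟩, h8, h6, fun hd => e5 ?_,
    fun K k1 k2 k3 k4 => le_of_map_eq_top f (fun c hc => k1 ⟨c.2.1, (h1 c).1 hc⟩) (e6 _ ?_
      ⟨i, k3, rfl⟩ ⟨j, k4, rfl⟩)⟩
  · let f' : Z →* center Y := (f.comp (inclusion (h.le_cstab x))).codRestrict _ fun z =>
      h4 ▸ ⟨_, z.2, rfl⟩
    exact hd.trans (card_dvd_of_injective f' ((injective_iff_map_eq_one _).2 fun z hz =>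
      Subtype.ext (h.eq_one hx.1 z.2 ((h1 _).1 (congrArg Subtype.val hz)))))
  · rw [h4]
    exact map_mono fun z hz => k2 hz

end Str

end CL.SolvLin
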