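import Mathlib
import Cfsg.Agent.FGS.Base3

/-!
# Bases of solvable groups IV: Seress's theorem
-/

open Subgroup
open scoped Pointwise commutatorElement

namespace CL.SolvLin

universe u v

theorem col_pair {V : Type*} [Zero V] {x y x' y' : V} (hx : x ≠ 0) (hy : y ≠ 0) (hxy : y ≠ x)
    (hx' : x' ≠ 0) (h : x' = x → y' = y) (k k' : Fin 4)
    (a₁ : ![x', 0, x', x'] k = ![x, 0, x, x] k') (a₂ : ![0, x', x', y'] k = ![0, x, x, y] k') :
    k' = k ∧ x' = x := by
  have hx0 := hx.symm
  have hy0 := hy.symm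
  fin_cases k <;> fin_cases k' <;> simp_all

theorem Str.hasBase_three {A : Type u} [Group A] {V : Type*} [AddCommGroup V]
    [DistribMulAction A V] [Finite A] [Finite V] [Nontrivial V] {Z E : Subgroup A}
    (h : Str V Z E) : HasBase A V (Fin 3) := by
  classical
  suffices h' : ∃ x y z : V, ∀ g : A, g • x = x → g • y = y → g • z = z → g = 1 by
    obtain ⟨x, y, z, h'⟩ := h'
    exact ⟨![x, y, z], fun g hg u => by rw [h' g (hg 0) (hg 1) (hg 2), one_smul]⟩
  by_cases hEZ : E = Z
  · obtain ⟨v, w, h1⟩ := h.base_of_eq hEZ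
    exact ⟨v, w, 0, fun g h2 h3 _ => h1 g h2 h3⟩
  obtain ⟨θ, hθ, hθ1⟩ : ∃ θ ∈ Z, θ ≠ 1 := by
    by_contra hc
    push Not at hc
    exact hEZ (le_antisymm (h.maxab E h.En (fun a ha b hb =>
      commutatorElement_eq_one_iff_mul_comm.1 (hc _ (h.comm a ha b hb))) h.le) h.le)
  have hE := h.En
  obtain ⟨x, hx⟩ := exists_isMax (V := V) E
  obtain ⟨S, _, _, π, p, -⟩ := h.exists_pos x
  obtain ⟨t, ht0, ht⟩ := p.exists_sec
  obtain ⟨b₁, hb₁, b₂, hb₂, hgen⟩ := h.exists_two_gen hx
  obtain ⟨c, hc, -⟩ := exists_col_four S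
  have hθx : θ • x ≠ x := fun e => hθ1 (h.eq_one hx.1 hθ e)
  have hθB := h.le_cstab x hθ
  let w₁ : S → V := fun s => if s = 0 then b₁ • x else ![x, 0, x, x] (c s)
  let w₂ : S → V := fun s => if s = 0 then b₂ • x else ![0, x, x, θ • x] (c s)
  have hw₁ : ∀ s, Fx E x (w₁ s) := fun s => by
    simp only [w₁]
    split_ifs
    · exact Fx.self.smul hb₁
    · generalize c s = k
      fin_cases k <;> simp [Fx.self, Fx.zero]
  have hw₂ : ∀ s, Fx E x (w₂ s) := fun s => by
    simp only [w₂]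
    split_ifs
    · exact Fx.self.smul hb₂
    · generalize c s = k
      fin_cases k <;> simp [Fx.self, Fx.zero, Fx.self.smul hθB]
  refine ⟨x, ∑ s, t s • w₁ s, ∑ s, t s • w₂ s, fun g hg h1 h2 => ?_⟩
  obtain ⟨φ, hφ, hφc⟩ := p.conj g hg
  have e₁ := h.pos_smul hx.1 p t ht w₁ hw₁ hg hφ hφc h1
  have e₂ := h.pos_smul hx.1 p t ht w₂ hw₂ hg hφ hφc h2
  have hB : ∀ b ∈ cstab E x, g • b • x = b • x := by
    let K : Subgroup A :=
      { carrier := {b | b ∈ cstab E x ∧ g • b • x = b • x}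
        one_mem' := ⟨one_mem _, by simpa using hg⟩
        mul_mem' := fun ha hb => ⟨mul_mem ha.1 hb.1, Str.fix_mul hg ha.1.1 hb.1 ha.2 hb.2⟩
        inv_mem' := fun {a} ha => ⟨inv_mem ha.1, by
          obtain ⟨n, hn⟩ : ∃ n : ℕ, a⁻¹ = a ^ n := (mem_powers_iff_mem_zpowers.2
            (inv_mem (mem_zpowers a))).imp fun _ e => e.symm
          rw [hn]
          clear hn
          induction n with
          | zero => simpa using hg
          | succ n ih =>
            rw [pow_succ]; exact Str.fix_mul hg (pow_mem ha.1.1 n) ha.1 ih ha.2⟩ }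
    intro b hb
    refine (hgen K (fun d hd => ⟨h.mem_cstab_of_fix hx.1 hd.1 hd.2, by
      rw [show d • x = x from hd.2, hg]⟩) ⟨hb₁, ?_⟩ ⟨hb₂, ?_⟩ hb).2
    · simpa [w₁, ht0] using e₁ 0
    · simpa [w₂, ht0] using e₂ 0
  have key : ∀ s ≠ 0, c (φ s) = c s ∧ ((t (φ s))⁻¹ * (g * t s * g⁻¹)) • x = x := by
    intro s hs
    have hs' : φ s ≠ 0 := fun e => hs (hφ (e.trans (map_zero φ).symm))
    have a₁ := e₁ s
    have a₂ := e₂ s
    have hβ : (t (φ s))⁻¹ * (g * t s * g⁻¹) ∈ E :=
      mul_mem (inv_mem (ht _).1) (hE.conj_mem _ (ht _).1 g)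
    generalize (t (φ s))⁻¹ * (g * t s * g⁻¹) = β at a₁ a₂ hβ
    have hc : β • θ • x = θ • β • x := by rw [← mul_smul, ← h.cen θ hθ β hβ, mul_smul]
    simp only [w₁, w₂, if_neg hs, if_neg hs'] at a₁ a₂
    have hθ0 : θ • x ≠ 0 := fun e => hx.1 ((smul_eq_zero_iff_eq θ).1 e)
    refine col_pair hx.1 hθ0 hθx (fun e => hx.1 ((smul_eq_zero_iff_eq β).1 e))
      (y' := β • θ • x) (fun e => by rw [hc, e]) _ _ (.trans ?_ a₁)
      (.trans ?_ a₂) <;> generalize c s = k <;> fin_cases k <;> simp [hg, hB θ hθB]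
  have hid := hc φ hφ fun s hs => (key s hs).1
  refine h.eq_one_of_fix hx.1 p ∅ (by simp) (by simp [Fintype.card_pos]) fun a ha _ => ?_
  have h3 : g • t (π a) • x = t (π a) • x := by
    by_cases hs : π a = 0
    · rw [hs, ht0, one_smul, hg]
    · have := (key _ hs).2
      rwa [hid, mul_smul, mul_smul, mul_smul, inv_smul_eq_iff.2 hg.symm, inv_smul_eq_iff] at this
  have h4 := p.mem (ht (π a)).1 ha (ht _).2
  simpa using Str.fix_mul hg (ht (π a)).1 h4 h3 (hB _ h4)

/-- The elementary transformations of a triple. -/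
def elemT {V : Type*} [AddCommGroup V] (i j : Fin 3) (h : i ≠ j) : Equiv.Perm (Fin 3 → V) where
  toFun y := fun k => if k = i then y k + y j else y k
  invFun y := fun k => if k = i then y k - y j else y k
  left_inv y := funext fun k => by by_cases e : k = i <;> simp [e, h.symm]
  right_inv y := funext fun k => by by_cases e : k = i <;> simp [e, h.symm]

theorem exists_five_bases {A V : Type*} [Group A] [Group.IsSolvable A] [AddCommGroup V]
    [DistribMulAction A V] {H : Subgroup A} {U : AddSubgroup V} (hU : U ≠ ⊥) {x : Fin 3 → V}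
    (hx : IsBase H U x) : ∃ y : Fin 5 → Fin 3 → V, (∀ k, IsBase H U (y k)) ∧
      ∀ k k' (a : A), (∀ i, a • y k i = y k' i) → k = k' := by
  obtain ⟨x, hx, i₀, hi₀⟩ : ∃ x : Fin 3 → V, IsBase H U x ∧ ∃ i, x i ≠ 0 := by
    by_cases h0 : ∃ i, x i ≠ 0
    · exact ⟨x, hx, h0⟩
    push Not at h0
    obtain ⟨⟨u, hu⟩, hu0⟩ := (AddSubgroup.ne_bot_iff_exists_ne_zero).1 hU
    exact ⟨fun _ => u, ⟨fun _ => hu, fun a ha _ => hx.2 a ha fun i => by rw [h0, smul_zero]⟩, 0,
      fun e => hu0 (Subtype.ext e)⟩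
  let Γ : Set (Equiv.Perm (Fin 3 → V)) := {σ | ∃ i j h, σ = elemT i j h}
  let L := closure Γ
  have hL : ∀ σ ∈ L, (∀ (a : A) y, a • σ y = σ (a • y)) ∧
      ∀ y : Fin 3 → V, (∀ i, y i ∈ U) ↔ ∀ i, σ y i ∈ U := by
    intro σ hσ
    induction hσ using closure_induction with
    | mem σ hσ =>
      obtain ⟨i, j, hij, rfl⟩ := hσ
      refine ⟨fun a y => funext fun k => by by_cases e : k = i <;> simp [elemT, e], fun y =>
        ⟨fun hy k => by by_cases e : k = i <;> simp [elemT, e, hy, add_mem], fun hy k => ?_⟩⟩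
      have h1 : y j ∈ U := by simpa [elemT, hij.symm] using hy j
      have h2 := hy k
      by_cases e : k = i
      · simp only [elemT, e, Equiv.coe_fn_mk, if_true] at h2
        exact e ▸ (AddSubgroup.add_mem_cancel_right U h1).1 h2
      · simpa [elemT, e] using h2
    | one => simp
    | mul σ τ _ _ h1 h2 =>
      exact ⟨fun a y => by rw [Equiv.Perm.mul_apply, h1.1, h2.1]; rfl,
        fun y => (h2.2 y).trans (h1.2 _)⟩
    | inv σ _ h1 =>
      refine ⟨fun a y => σ.injective (by rw [← h1.1]; simp), fun y => ?_⟩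
      rw [h1.2 (σ⁻¹ y)]; simp
  obtain ⟨f, hf⟩ := exists_five (G := A) (Y := Fin 3 → V) (L := L) (fun g l y => (hL l l.2).1 g y)
    (by
      have h1 : L ≤ ⁅L, L⁆ := (closure_le _).2 (by
        rintro _ ⟨i, j, hij, rfl⟩
        obtain ⟨k, h1, h2⟩ : ∃ k, i ≠ k ∧ k ≠ j := by revert i j; decide
        have : (elemT i j hij : Equiv.Perm (Fin 3 → V)) =
            ⁅(elemT i k h1 : Equiv.Perm (Fin 3 → V)), elemT k j h2⁆ := by
          ext y l
          rw [commutatorElement_def]
          simp only [Equiv.Perm.coe_mul, Function.comp_apply, Equiv.Perm.inv_def]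
          by_cases e : l = i
          · simp [elemT, e, h1, h1.symm, h2.symm, hij.symm]
            abel
          · by_cases e' : l = k <;> simp [elemT, e, e', h1.symm, h2.symm, hij.symm]
        rw [this]
        exact commutator_mem_commutator (subset_closure ⟨_, _, _, rfl⟩)
          (subset_closure ⟨_, _, _, rfl⟩))
      refine map_injective L.subtype_injective ?_
      rw [map_subtype_commutator, ← MonoidHom.range_eq_map, range_subtype]
      exact le_antisymm (commutator_le_self L) h1) (y := x) (by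
      obtain ⟨j, hj⟩ := exists_ne i₀
      refine ⟨⟨elemT j i₀ hj, subset_closure ⟨_, _, _, rfl⟩⟩, fun e => hi₀ ?_⟩
      simpa [elemT] using congrFun (show elemT j i₀ hj x = x from e) j)
  refine ⟨fun k => (f k).1 x, fun k => ⟨((hL _ (f k).2).2 x).1 hx.1, fun a ha h1 =>
    hx.2 a ha fun i => congrFun ((f k).1.injective (a₁ := a • x) (a₂ := x) ?_) i⟩, fun k k' a h1 => hf k k' a (funext h1)⟩
  rw [← (hL _ (f k).2).1]
  exact funext h1

theorem hasBase_three_aux (n : ℕ) : ∀ (A V : Type u) [Group A] [Finite A] [Group.IsSolvable A]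
    [AddCommGroup V] [Finite V] [DistribMulAction A V], Nat.card V = n → CR A V →
    HasBase A V (Fin 3) := by
  induction n using Nat.strong_induction_on with
  | _ n ih =>
  rintro A₀ V _ _ _ _ _ _ rfl hcr₀
  refine HasBase.of_img ?_
  have hcr := hcr₀.img
  have hf := img_faithful (A := A₀) (V := V)
  have := Group.isSolvable_of_surjective (toImg_surj (A := A₀) (V := V))
  have : Finite (Img A₀ V) := Finite.of_surjective _ toImg_surj
  generalize Img A₀ V = A at *
  have hlt : ∀ U : AddSubgroup V, U ≠ ⊤ → Nat.card U < Nat.card V := fun U hU =>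
    lt_of_le_of_ne U.card_le_card_addGroup fun e => hU (AddSubgroup.eq_top_of_card_eq _ e)
  have hsub : ∀ (H : Subgroup A) (U : AddSubgroup V) (h : Inv H U), U ≠ ⊤ →
      (letI := resAct H U h; CR H U) → ∃ x : Fin 3 → V, IsBase H U x := fun H U h hU hc =>
    exists_isBase_of_res h (by
      let := resAct H U h
      exact ih _ (hlt U hU) H U rfl hc)
  by_cases hirr : Irr A V
  swap
  · simp only [Irr, not_forall, not_or] at hirr
    obtain ⟨U, hU, h1, h2⟩ := hirr
    obtain ⟨W, hW, h3, h4⟩ := hcr U hU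
    have hU' : Inv (⊤ : Subgroup A) U := fun a _ => hU a
    have hW' : Inv (⊤ : Subgroup A) W := fun a _ => hW a
    obtain ⟨x, hx⟩ := hsub ⊤ U hU' h2 (cr_res_of_cr hcr hU')
    obtain ⟨y, hy⟩ := hsub ⊤ W hW' (fun e => h1 (by rwa [e, inf_top_eq] at h3)) (cr_res_of_cr hcr hW')
    exact hasBase_of_compl hU' hW' h3 h4 hx hy
  rcases subsingleton_or_nontrivial V with hV | hV
  · exact ⟨0, fun _ _ _ => Subsingleton.elim _ _⟩
  by_cases hp : Prim A V
  · obtain ⟨Z, E, h⟩ := exists_str hp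
    exact h.hasBase_three
  obtain ⟨U, h1, h2, h3⟩ := exists_indep hf hp
  have : Finite (MulAction.orbit A U) := Finite.finite_mulAction_orbit U
  obtain ⟨c, hc⟩ := exists_col_five A (MulAction.orbit A U)
  obtain ⟨x, hx⟩ := hsub _ U (inv_stabilizer U) h2 (cr_res_of_irr _ (h3.irr hirr))
  obtain ⟨y, hy1, hy2⟩ := exists_five_bases h1 hx
  exact hasBase_of_indep hirr h1 h3 c hc y hy1 hy2

/-- Seress: a solvable group has a base of size three on a completely reducible module. -/
theorem hasBase_three {A V : Type*} [Group A] [Finite A] [Group.IsSolvable A] [AddCommGroup V]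
    [Finite V] [DistribMulAction A V] (hcr : CR A V) : HasBase A V (Fin 3) := by
  have := Group.isSolvable_of_surjective (toImg_surj (A := A) (V := V))
  have : Finite (Img A V) := Finite.of_surjective _ toImg_surj
  exact (hasBase_three_aux _ (Img A V) V rfl hcr.img).of_img

end CL.SolvLin
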