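import Mathlib
import Cfsg.Agent.FGS.SolvLin4

/-!
# Solvable linear groups V: the symplectic section as a module
-/

open Subgroup
open scoped Pointwise commutatorElement

namespace CL.SolvLin

universe u

section small
variable {Y W : Type*} [Group Y] [Finite Y] [AddCommGroup W] [Finite W] [DistribMulAction Y W]

theorem card_dvd_of_fpf (S : Subgroup Y) (h : ∀ g ∈ S, g ≠ 1 → ∀ w : W, g • w = w → w = 0) :
    Nat.card S ∣ Nat.card W - 1 := by
  classical
  have := Fintype.ofFinite S
  have := Fintype.ofFinite W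
  have := Fintype.ofFinite (MulAction.orbitRel.Quotient S W)
  have h1 := MulAction.sum_card_fixedBy_eq_card_orbits_mul_card_group S W
  have h0 : ∀ g ∈ Finset.univ.erase (1 : S), Fintype.card (MulAction.fixedBy W g) = 1 :=
    fun g hg => Fintype.card_eq_one_iff.2 ⟨⟨0, smul_zero g⟩, fun w => Subtype.ext
      (h g g.2 (fun e => Finset.ne_of_mem_erase hg (Subtype.ext e)) w w.2)⟩
  rw [← Finset.add_sum_erase _ _ (Finset.mem_univ 1), Finset.sum_congr rfl h0] at h1
  simp only [MulAction.fixedBy_one_eq_univ, Finset.sum_const, smul_eq_mul, mul_one,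
    Finset.card_erase_of_mem (Finset.mem_univ _), Finset.card_univ] at h1
  rw [Fintype.card_congr (Equiv.Set.univ W)] at h1
  rw [Nat.card_eq_fintype_card, Nat.card_eq_fintype_card]
  have h2 : 0 < Fintype.card S := Fintype.card_pos
  have h3 : 0 < Fintype.card W := Fintype.card_pos
  refine (Nat.dvd_add_left (dvd_refl (Fintype.card S))).1 ?_
  rw [show Fintype.card W - 1 + Fintype.card S = Fintype.card W + (Fintype.card S - 1) by omega, h1]
  exact dvd_mul_left _ _

omit [Finite Y] in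
theorem CR.eq_bot_of_isPGroup (hcr : CR Y W) (hf : ∀ g : Y, (∀ w : W, g • w = w) → g = 1) {r k : ℕ}
    (hr : r.Prime) (hW : Nat.card W = r ^ k) (R : Subgroup Y) [hRn : R.Normal] (hR : IsPGroup r R) :
    R = ⊥ := by
  have := Fact.mk hr
  obtain ⟨W', h1, h2, h3⟩ := hcr (FixedPoints.addSubgroup R W) fun a v hv g => by
    have : (a⁻¹ * g * a⁻¹⁻¹) • v = v := hv ⟨_, hRn.conj_mem _ g.2 a⁻¹⟩
    rw [inv_inv, mul_smul, mul_smul, inv_smul_eq_iff] at this
    exact this
  let := resAct R W' fun a _ => h1 a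
  have h4 := hR.card_modEq_card_fixedPoints W'
  rw [show Nat.card (MulAction.fixedPoints R W') = 1 from Nat.card_eq_one_iff_exists.2
    ⟨⟨0, fun g => smul_zero g⟩, fun w => Subtype.ext (Subtype.ext
      ((AddSubgroup.eq_bot_iff_forall _).1 h2 _ ⟨fun g => congrArg Subtype.val (w.2 g), w.1.2⟩))⟩]
    at h4
  obtain ⟨j, -, hj⟩ := (Nat.dvd_prime_pow hr).1 (hW ▸ W'.card_addSubgroup_dvd_card)
  rcases j with _ | j
  · rw [AddSubgroup.eq_bot_of_card_eq _ hj, sup_bot_eq] at h3
    exact (eq_bot_iff_forall _).2 fun g hg => hf g fun w =>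
      (show w ∈ FixedPoints.addSubgroup R W from h3 ▸ trivial) ⟨g, hg⟩
  · rw [hj] at h4
    exact absurd (Nat.modEq_zero_iff_dvd.1 (h4.symm.trans
      (Nat.modEq_zero_iff_dvd.2 (dvd_pow_self r j.succ_ne_zero)))) hr.not_dvd_one

theorem CR.card_dvd_of_small (hcr : CR Y W) (hf : ∀ g : Y, (∀ w : W, g • w = w) → g = 1) {r k : ℕ}
    (hr : r.Prime) (hW : Nat.card W = r ^ k) (H : Subgroup Y) [H.Normal]
    (hfpf : ∀ g ∈ H, (orderOf g).Prime → orderOf g ≠ r → ∀ w : W, g • w = w → w = 0)
    (hn : ∀ t, t ∣ Nat.card W - 1 → t ∣ Nat.card H → t ≡ 1 [MOD r] → t = 1) :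
    Nat.card H ∣ Nat.card W - 1 := by
  have := Fact.mk hr
  obtain ⟨P⟩ : Nonempty (Sylow r H) := inferInstance
  have h1 : (P : Subgroup H).index ∣ Nat.card W - 1 := by
    rw [Nat.dvd_iff_prime_pow_dvd_dvd]
    intro s j hs hd
    have := Fact.mk hs
    obtain ⟨S, hS⟩ := Sylow.exists_subgroup_card_pow_prime s (hd.trans (index_dvd_card _))
    rw [← hS, ← card_map_of_injective H.subtype_injective]
    refine card_dvd_of_fpf _ ?_
    rintro _ ⟨g, hg, rfl⟩ hg1 w hw
    obtain ⟨i, -, hi⟩ := (Nat.dvd_prime_pow hs).1 (hS ▸ orderOf_dvd_natCard (⟨g, hg⟩ : S))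
    rw [orderOf_mk, ← orderOf_coe] at hi
    rcases i with _ | i
    · exact absurd (orderOf_eq_one_iff.1 hi) hg1
    have h2 : orderOf ((g : Y) ^ s ^ i) = s := by
      rw [orderOf_pow' _ (pow_ne_zero _ hs.ne_zero), hi, Nat.gcd_eq_right (pow_dvd_pow s i.le_succ),
        pow_succ', Nat.mul_div_cancel _ (pow_pos hs.pos _)]
    refine hfpf _ (pow_mem g.2 _) (h2.symm ▸ hs) (fun e => ?_) w
      (pow_mem (show (g : Y) ∈ MulAction.stabilizer Y w from hw) _)
    rcases j with _ | j
    · rw [pow_zero, card_eq_one] at hS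
      exact hg1 (by rw [hS] at hg; rw [mem_bot.1 hg]; rfl)
    · exact P.not_dvd_index ((dvd_of_eq (e.symm.trans h2)).trans
        ((dvd_pow_self s j.succ_ne_zero).trans hd))
  have h2 := hn _ (P.card_dvd_index.trans h1) (P.card_dvd_index.trans (index_dvd_card _))
    (card_sylow_modEq_one r H)
  have : Subsingleton (Sylow r H) := (Nat.card_eq_one_iff_unique.1 h2).1
  have := P.characteristic_of_subsingleton
  have h3 := hcr.eq_bot_of_isPGroup hf hr hW ((P : Subgroup H).map H.subtype) (P.isPGroup'.map _)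
  rw [map_eq_bot_iff_of_injective _ H.subtype_injective] at h3
  rwa [h3, index_bot] at h1

omit [Finite Y] in
theorem fix_not_prime (B : W → W → ℂ) (hadd : ∀ x y y', B x (y + y') = B x y * B x y')
    (h0 : ∀ x, B x 0 = 1) (hself : ∀ x, B x x = 1) (hnd : ∀ x, (∀ y, B x y = 1) → x = 0) {g : Y}
    (hinv : ∀ x y, B (g • x) (g • y) = B x y) {s : ℕ} (hs : g ^ s = 1)
    (hcop : s.Coprime (Nat.card W)) : ¬ (Nat.card (fix W g)).Prime := by
  intro hp
  have := Fact.mk hp
  have : Nontrivial (fix W g) := Finite.one_lt_card_iff_nontrivial.1 hp.one_lt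
  obtain ⟨x, hx⟩ := exists_ne (0 : fix W g)
  refine hx (Subtype.ext (hnd x fun y => ?_))
  let β : Multiplicative W →* ℂ :=
    { toFun y := B x y.toAdd
      map_one' := h0 x
      map_mul' a b := hadd _ _ _ }
  have h1 : ∀ w ∈ fix W g, B x w = 1 := by
    intro w hw
    obtain ⟨n, hn⟩ := (AddSubmonoid.mem_multiples_iff _ _).1
      (mem_multiples_of_prime_card rfl hx (g' := ⟨w, hw⟩))
    rw [← show n • (x : W) = w from congrArg Subtype.val hn]
    change β (Multiplicative.ofAdd (x : W) ^ n) = 1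
    rw [map_pow, show β (Multiplicative.ofAdd (x : W)) = 1 from hself x, one_pow]
  have h2 : ∀ i : ℕ, B x (g ^ i • y) = B x y := fun i => by
    induction i with
    | zero => rw [pow_zero, one_smul]
    | succ i ih => rw [pow_succ', mul_smul, ← ih, ← hinv x (g ^ i • y), show g • (x : W) = x from x.2]
  have h3 : B x y ^ s = 1 := by
    have := h1 (∑ i ∈ Finset.range s, g ^ i • y) (by
      rw [mem_fix, Finset.smul_sum]
      have := Finset.sum_range_succ' (fun i => g ^ i • y) s
      rw [Finset.sum_range_succ, hs, pow_zero, add_left_inj] at this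
      rw [this]
      exact Finset.sum_congr rfl fun i _ => by rw [pow_succ', mul_smul])
    change β (Multiplicative.ofAdd (∑ i ∈ Finset.range s, g ^ i • y)) = 1 at this
    rw [ofAdd_sum, map_prod] at this
    rw [← this, ← Finset.card_range s, ← Finset.prod_const, Finset.card_range]
    exact Finset.prod_congr rfl fun i _ => (h2 i).symm
  have h4 : B x y ^ Nat.card W = 1 := by
    change β (Multiplicative.ofAdd y) ^ Nat.card W = 1
    rw [← map_pow, ← ofAdd_nsmul, card_nsmul_eq_zero', ofAdd_zero, map_one]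
  exact (pow_eq_one_iff_of_coprime hcop).1 ⟨h3, h4⟩

omit [Finite Y] in
theorem dvd_card_sub_fix {g : Y} (hg : (orderOf g).Prime) :
    orderOf g ∣ Nat.card W - Nat.card (fix W g) := by
  have := Fact.mk hg
  have h1 : IsPGroup (orderOf g) (zpowers g) := IsPGroup.of_card (n := 1) (by
    rw [Nat.card_zpowers, pow_one])
  have h2 := h1.card_modEq_card_fixedPoints W
  rw [show Nat.card (MulAction.fixedPoints (zpowers g) W) = Nat.card (fix W g) from
    Nat.card_congr (Equiv.subtypeEquivRight fun w => ⟨fun h => h ⟨g, mem_zpowers g⟩, fun h a =>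
      (zpowers_le.2 (show g ∈ MulAction.stabilizer Y w from h) a.2 :)⟩)] at h2
  exact (Nat.modEq_iff_dvd' (fix W g).card_le_card_addGroup).1 h2.symm

omit [Finite Y] in
theorem HasBase.card_le {ι : Type*} [Finite ι] (h : HasBase Y W ι)
    (hf : ∀ g : Y, (∀ w : W, g • w = w) → g = 1) : Nat.card Y ≤ Nat.card W ^ Nat.card ι := by
  obtain ⟨x, hx⟩ := h
  rw [← Nat.card_fun]
  refine Nat.card_le_card_of_injective (fun g i => g • x i) fun a b e => ?_
  exact (inv_mul_eq_one.1 (hf _ (hx _ fun i => by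
    rw [mul_smul, ← show a • x i = b • x i from congrFun e i, inv_smul_smul])))

end small

variable {A : Type u} [Group A] {V : Type*} [AddCommGroup V] [DistribMulAction A V]

theorem Str.section [Finite A] [Finite V] [Nontrivial V] {Z E : Subgroup A} (h : Str V Z E) :
    ∃ (W : Type u) (_ : AddCommGroup W) (_ : Finite W) (Y : Type u) (_ : Group Y)
      (_ : DistribMulAction Y W) (f : A →* Y) (B : W → W → ℂ), Function.Surjective f ∧
      Nat.card W = Z.relIndex E ∧ (∀ g : Y, (∀ w : W, g • w = w) → g = 1) ∧ CR Y W ∧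
      Nat.card ((centralizer (Z : Set A)).map f) = E.relIndex (centralizer (Z : Set A)) ∧
      (∀ x y y', B x (y + y') = B x y * B x y') ∧ (∀ x, B x 0 = 1) ∧ (∀ x, B x x = 1) ∧
      (∀ x, (∀ y, B x y = 1) → x = 0) ∧
      ∀ c ∈ centralizer (Z : Set A), ∀ x y, B (f c • x) (f c • y) = B x y := by
  have := h.Zn
  have := h.En
  let π := QuotientGroup.mk' Z
  have hπ : Function.Surjective π := QuotientGroup.mk'_surjective Z
  have hk : π.ker = Z := QuotientGroup.ker_mk' Z
  have hk' : ∀ a, π a = 1 ↔ a ∈ Z := fun a => QuotientGroup.eq_one_iff a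
  let N := E.map π
  have : N.Normal := h.En.map π hπ
  have hab : ∀ a ∈ N, ∀ b ∈ N, a * b = b * a := by
    rintro _ ⟨a, ha, rfl⟩ _ ⟨b, hb, rfl⟩
    rw [← commutatorElement_eq_one_iff_mul_comm, ← map_commutatorElement, hk']
    exact h.comm a ha b hb
  let W := AbMod N hab
  let mk : E → W := fun x => AbMod.mk hab (π x) ⟨x, x.2, rfl⟩
  have hmk : Function.Surjective mk := fun w => by
    obtain ⟨x, hx, e⟩ := w.val_mem
    exact ⟨⟨x, hx⟩, AbMod.val_inj e⟩
  have hmul : ∀ a b, mk (a * b) = mk a + mk b := fun a b => AbMod.val_inj (π.map_mul _ _)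
  have hone : ∀ a : E, mk a = 0 ↔ (a : A) ∈ Z := fun a =>
    ⟨fun e => (hk' _).1 (congrArg AbMod.val e), fun e => AbMod.val_inj ((hk' _).2 e)⟩
  let f : A →* Img (A ⧸ Z) W := (toImg W).comp π
  have hfs : ∀ (a : A) (x : E), f a • mk x = mk (MulAut.conjNormal a x) := fun a x =>
    AbMod.val_inj (by
      change π a * π x * (π a)⁻¹ = π (a * x * a⁻¹)
      simp only [map_mul, map_inv])
  have := h.field.1
  obtain ⟨j, hj⟩ := exists_hom_complex Z
  choose s hs using hmk
  let b : E → E →* ℂ := fun x => commHom j h.cen (h.comm x x.2)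
  have hb : ∀ x y : E, b (s (mk x)) (s (mk y)) = b x y := by
    intro x y
    have h1 : ∀ x : E, ∃ z ∈ Z, (s (mk x) : A) = x * z := fun x =>
      ⟨(x : A)⁻¹ * s (mk x), QuotientGroup.eq.1 (congrArg AbMod.val (hs (mk x))).symm, by group⟩
    obtain ⟨z, hz, e⟩ := h1 x
    obtain ⟨z', hz', e'⟩ := h1 y
    refine congrArg j (Subtype.ext ?_)
    change ⁅(s (mk x) : A), (s (mk y) : A)⁆ = ⁅(x : A), (y : A)⁆
    have c1 := h.cen z hz _ (mul_mem y.2 (h.le hz'))
    have c2 := h.cen z' hz' _ (inv_mem x.2)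
    rw [e, e']
    simp only [commutatorElement_def]
    calc _ = x * (z * (y * z')) * z⁻¹ * (x : A)⁻¹ * z'⁻¹ * (y : A)⁻¹ := by group
      _ = x * y * (z' * (x : A)⁻¹) * z'⁻¹ * (y : A)⁻¹ := by rw [c1]; group
      _ = _ := by rw [c2]; group
  have hmk : ∀ w, ∃ x, mk x = w := fun w => ⟨s w, hs w⟩
  refine ⟨W, inferInstance, inferInstance, Img (A ⧸ Z) W, inferInstance, inferInstance, f,
    fun v w => b (s v) (s w), toImg_surj.comp hπ, ?_, img_faithful, CR.img (AbMod.cr ?_), ?_, ?_,
    ?_, ?_, ?_, ?_⟩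
  · rw [AbMod.card, ← relIndex_ker, hk]
  · intro U hU hle
    have := hU.comap π
    obtain ⟨U', h1, h2, h3⟩ := h.compl (U := U.comap π) (hk.ge.trans (ker_le_comap π U)) (by
      have := comap_mono (f := π) hle
      rwa [comap_map_eq_self (hk.le.trans h.le)] at this)
    have h4 : Z ≤ U' := h2 ▸ inf_le_right
    refine ⟨U'.map π, h1.map π hπ, comap_injective hπ ?_, ?_⟩
    · rw [comap_inf, comap_map_eq_self (hk.le.trans h4), h2, MonoidHom.comap_bot, hk]
    · rw [← map_comap_eq_self_of_surjective hπ U, ← Subgroup.map_sup, h3]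
  · rw [← relIndex_ker, ← inf_relIndex_right, ← inf_relIndex_right E]
    congr 1
    ext g
    simp only [mem_inf, and_congr_left_iff]
    intro hg
    constructor
    · intro h1
      refine h.mem_of_comm hg fun y hy => ?_
      have h2 := hfs g ⟨y, hy⟩
      rw [show f g = 1 from h1, one_smul] at h2
      have h3 : π y = π (g * y * g⁻¹) := congrArg AbMod.val h2
      rw [← hk', commutatorElement_def, map_mul, ← h3, map_inv, mul_inv_cancel]
    · intro h1
      refine img_faithful _ fun w => ?_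
      obtain ⟨x, rfl⟩ := hmk w
      exact AbMod.val_inj (by
        change π g * π x * (π g)⁻¹ = π x
        rw [hab _ ⟨g, h1, rfl⟩ _ ⟨x, x.2, rfl⟩, mul_inv_cancel_right])
  · intro x y y'
    obtain ⟨x, rfl⟩ := hmk x
    obtain ⟨y, rfl⟩ := hmk y
    obtain ⟨y', rfl⟩ := hmk y'
    simp only [← hmul, hb, map_mul]
  · intro x
    obtain ⟨x, rfl⟩ := hmk x
    simp only [← (hone 1).2 (one_mem Z), hb, map_one]
  · intro x
    change j _ = 1
    rw [← j.map_one]
    exact congrArg j (Subtype.ext (commutatorElement_self _))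
  · intro x hx
    obtain ⟨x, rfl⟩ := hmk x
    refine (hone x).2 (h.selfc x fun y hy => ?_)
    have h1 := hx (mk ⟨y, hy⟩)
    simp only [hb] at h1
    rw [← j.map_one] at h1
    exact (commutatorElement_eq_one_iff_mul_comm.1 (congrArg Subtype.val (hj h1))).symm
  · intro c hc x y
    obtain ⟨x, rfl⟩ := hmk x
    obtain ⟨y, rfl⟩ := hmk y
    simp only [hfs, hb]
    refine congrArg j (Subtype.ext ?_)
    change ⁅c * x * c⁻¹, c * y * c⁻¹⁆ = ⁅(x : A), (y : A)⁆
    have := hc _ (h.comm x x.2 y y.2)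
    calc _ = c * ⁅(x : A), (y : A)⁆ * c⁻¹ := by simp only [commutatorElement_def]; group
      _ = _ := by rw [← this]; group

end CL.SolvLin
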