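import Mathlib
import Cfsg.Agent.FGS.Base4
import Cfsg.Agent.FGS.SolvLin5

/-!
# Bases of solvable groups V: three colours for `3'`-groups
-/

open Subgroup
open scoped Pointwise commutatorElement

namespace CL.SolvLin

universe u

theorem exists_prime_pow {Y : Type*} [Group Y] [Finite Y] {g : Y} (hg : g ≠ 1) :
    ∃ n : ℕ, (orderOf (g ^ n)).Prime := by
  obtain ⟨s, hs, hd⟩ := Nat.exists_prime_and_dvd (mt orderOf_eq_one_iff.1 hg)
  exact ⟨orderOf g / s, by rwa [orderOf_pow_orderOf_div (orderOf_pos g).ne' hd]⟩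

theorem pow_smul_eq {Y W : Type*} [Group Y] [MulAction Y W] {g : Y} {w : W} (h : g • w = w)
    (n : ℕ) : g ^ n • w = w := pow_mem (show g ∈ MulAction.stabilizer Y w from h) n

theorem Irr.exists_prime {A V : Type*} [Group A] [AddCommGroup V] [Finite V] [Nontrivial V]
    [DistribMulAction A V] (h : Irr A V) :
    ∃ p k : ℕ, p.Prime ∧ (∀ v : V, p • v = 0) ∧ Nat.card V = p ^ k := by
  obtain ⟨p, hp, hd⟩ := Nat.exists_prime_and_dvd (Finite.one_lt_card (α := V)).ne'
  have := Fact.mk hp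
  obtain ⟨v, hv⟩ := exists_prime_addOrderOf_dvd_card' p hd
  have h1 : ∀ v : V, p • v = 0 := by
    rcases h (nsmulAddMonoidHom p).ker (fun a v hv => by
      rw [AddMonoidHom.mem_ker, nsmulAddMonoidHom_apply] at hv ⊢
      rw [← smul_comm, hv, smul_zero]) with e | e
    · have : v ∈ (nsmulAddMonoidHom p : V →+ V).ker := by
        rw [AddMonoidHom.mem_ker, nsmulAddMonoidHom_apply, ← hv, addOrderOf_nsmul_eq_zero]
      rw [e, AddSubgroup.mem_bot] at this
      rw [this, addOrderOf_zero] at hv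
      exact absurd hv.symm hp.ne_one
    · exact fun v => (show v ∈ (nsmulAddMonoidHom p : V →+ V).ker from e ▸ trivial)
  let _ : Module (ZMod p) V := AddCommGroup.zmodModule h1
  exact ⟨p, _, hp, h1, by rw [Module.natCard_eq_pow_finrank (K := ZMod p), Nat.card_zmod]⟩

section small
variable {Y W : Type*} [Group Y] [Finite Y] [AddCommGroup W] [Finite W] [DistribMulAction Y W]

omit [Finite Y] in
theorem card_le_fix_sq {t : Y} (ht : t * t = 1) (h2 : ∀ w : W, w + w = 0) :
    Nat.card W ≤ Nat.card (fix W t) * Nat.card (fix W t) := by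
  let f : W →+ W := DistribSMul.toAddMonoidHom W t - AddMonoidHom.id W
  have h1 : f.ker = fix W t := AddSubgroup.ext fun w => sub_eq_zero
  have h3 : f.range ≤ fix W t := by
    rintro _ ⟨w, rfl⟩
    change t • (t • w - w) = t • w - w
    rw [smul_sub, ← mul_smul, ht, one_smul, sub_eq_iff_eq_add, sub_add, eq_sub_iff_add_eq,
      add_sub, h2, zero_sub, neg_eq_iff_add_eq_zero, h2]
  rw [← f.ker.card_mul_index, AddSubgroup.index_ker, h1]
  exact Nat.mul_le_mul_left _ (AddSubgroup.card_le_of_le h3)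

theorem small_two [Group.IsSolvable Y] (hcr : CR Y W) (hf : ∀ g : Y, (∀ w : W, g • w = w) → g = 1)
    (h2 : ∀ w : W, w + w = 0) {k : ℕ} (hW : Nat.card W = 2 ^ k) (hk : k ≤ 3)
    (h3 : ¬ 3 ∣ Nat.card Y) {g : Y} {v : W} (hv : v ≠ 0) (hg : g • v = v) : g = 1 := by
  have hlt : ∀ g : Y, g ≠ 1 → Nat.card (fix W g) < Nat.card W := fun g hg =>
    lt_of_le_of_ne (fix W g).card_le_card_addGroup fun e => hg (hf g fun w =>
      (show w ∈ fix W g from AddSubgroup.eq_top_of_card_eq _ e ▸ trivial))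
  have hp : ∀ g : Y, (orderOf g).Prime → orderOf g ≠ 2 →
      orderOf g = 7 ∧ Nat.card W = 8 ∧ ∀ w : W, g • w = w → w = 0 := by
    intro g hg hg2
    have h4 := dvd_card_sub_fix (W := W) hg
    have h5 := hlt g (fun e => hg.ne_one (orderOf_eq_one_iff.2 e))
    obtain ⟨j, -, hj⟩ := (Nat.dvd_prime_pow Nat.prime_two).1 (hW ▸ (fix W g).card_addSubgroup_dvd_card)
    have h6 : orderOf g ≠ 3 := fun e => h3 (e ▸ orderOf_dvd_natCard g)
    rw [hW, hj] at h4 h5
    have h7 := (Nat.pow_lt_pow_iff_right one_lt_two).1 h5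
    have h8 : orderOf g = 7 ∧ k = 3 ∧ j = 0 := by
      generalize orderOf g = s at *
      have h9 : s ≤ 7 := Nat.le_of_dvd (by omega) h4 |>.trans (by
        interval_cases k <;> interval_cases j <;> simp)
      interval_cases k <;> interval_cases j <;> interval_cases s <;> simp_all (config := {decide := true})
    obtain ⟨e1, rfl, rfl⟩ := h8
    exact ⟨e1, hW, fun w hw => (AddSubgroup.eq_bot_iff_forall _).1
      (AddSubgroup.eq_bot_of_card_eq _ hj) w hw⟩
  by_contra hg1
  obtain ⟨m, hm⟩ := exists_prime_pow hg1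
  have ht := pow_smul_eq hg m
  generalize g ^ m = t at hm ht
  have ht2 : orderOf t = 2 := by
    by_contra e
    exact hv ((hp t hm e).2.2 v ht)
  have htt : t * t = 1 := by rw [← sq, ← ht2, pow_orderOf_eq_one]
  obtain ⟨N, hNn, h4, -, h5, h6⟩ := exists_step (Z := (⊥ : Subgroup Y)) (D := ⊤)
    (lt_top_iff_ne_top.2 fun e => hg1 (mem_bot.1 (e ▸ trivial)))
  have hab : ∀ a ∈ N, ∀ b ∈ N, a * b = b * a := fun a ha b hb =>
    commutatorElement_eq_one_iff_mul_comm.1 (h5 a ha b hb)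
  have hN2 : ∀ a ∈ N, orderOf a ≠ 2 := by
    let L : Subgroup Y :=
      { carrier := {a | a ∈ N ∧ a ^ 2 = 1}
        one_mem' := ⟨one_mem _, one_pow _⟩
        mul_mem' := fun {a b} ha hb => ⟨mul_mem ha.1 hb.1, by
          rw [Commute.mul_pow (hab a ha.1 b hb.1), ha.2, hb.2, one_mul]⟩
        inv_mem' := fun {a} ha => ⟨inv_mem ha.1, by rw [inv_pow, ha.2, inv_one]⟩ }
    have hL : L.Normal := ⟨fun a ha g => ⟨hNn.conj_mem a ha.1 g, by
      rw [conj_pow, ha.2]; simp⟩⟩
    have := hcr.eq_bot_of_isPGroup hf Nat.prime_two hW L fun a => ⟨1, Subtype.ext a.2.2⟩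
    intro a ha e
    have h7 : a ∈ L := ⟨ha, by rw [← e, pow_orderOf_eq_one]⟩
    rw [this, mem_bot] at h7
    simp [h7] at e
  obtain ⟨⟨a, ha⟩, ha1⟩ := ne_bot_iff_exists_ne_one.1 h4.ne'
  obtain ⟨m', hm'⟩ := exists_prime_pow (g := a) fun e => ha1 (Subtype.ext e)
  have hn := pow_mem ha m'
  generalize a ^ m' = n at hm' hn
  obtain ⟨h7, h8, -⟩ := hp n hm' (hN2 n hn)
  have hNf : ∀ b ∈ N, b ≠ 1 → ∀ w : W, b • w = w → w = 0 := fun b hb hb1 w hw => by
    obtain ⟨l, hl⟩ := exists_prime_pow hb1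
    exact (hp _ hl (hN2 _ (pow_mem hb l))).2.2 w (pow_smul_eq hw l)
  have h9 : ∀ t : Y, t * t = 1 → 3 ≤ Nat.card (fix W t) := fun t ht => by
    have := card_le_fix_sq ht h2
    by_contra hc
    have : Nat.card (fix W t) * Nat.card (fix W t) ≤ 2 * 2 :=
      Nat.mul_le_mul (by omega) (by omega)
    omega
  have h10 := card_mul_le_inf (fix W t) (fix W (n * t * n⁻¹))
  have h11 := Nat.mul_le_mul (h9 t htt) (h9 (n * t * n⁻¹) (by
    rw [conj_mul, htt]; simp))
  obtain ⟨⟨w, hw, hw'⟩, hw0⟩ := AddSubgroup.ne_bot_iff_exists_ne_zero.1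
    (show fix W t ⊓ fix W (n * t * n⁻¹) ≠ ⊥ from fun e => by
      rw [e, AddSubgroup.card_bot] at h10; omega)
  have h12 : t * n * t⁻¹ * n⁻¹ = 1 := by
    by_contra e
    refine hw0 (Subtype.ext (hNf _ (mul_mem (hNn.conj_mem n hn t) (inv_mem hn)) e w ?_))
    rw [inv_eq_of_mul_eq_one_right htt, show t * n * t * n⁻¹ = t * (n * t * n⁻¹) by group,
      mul_smul, show (n * t * n⁻¹) • w = w from hw', show t • w = w from hw]
  have h13 : Commute t n := by rwa [mul_inv_eq_one, mul_inv_eq_iff_eq_mul] at h12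
  let := resAct (zpowers n) (fix W t) fun b hb u hu => by
    obtain ⟨i, rfl⟩ := hb
    rw [mem_fix, ← mul_smul, (h13.zpow_right i).eq, mul_smul, show t • u = u from hu]
  have h14 := card_dvd_of_fpf (Y := zpowers n) (W := fix W t) ⊤ fun b _ hb u hu =>
    Subtype.ext (hNf b (zpowers_le.2 hn b.2) (fun e => hb (Subtype.ext e)) u
      (congrArg Subtype.val hu))
  rw [card_top, Nat.card_zpowers, h7] at h14
  have := hlt t fun e => by simp [e] at ht2
  have := h9 t htt
  omega

end small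

/-- A rigid colouring of the four-dimensional affine space over the field of order two. -/
def col4 (x : Fin 4 → ZMod 2) : Fin 3 :=
  [1, 1, 1, 0, 1, 2, 2, 2, 1, 0, 0, 0, 2, 0, 1, 0].getD
    ((x 0).val + 2 * (x 1).val + 4 * (x 2).val + 8 * (x 3).val) 0

set_option synthInstance.maxSize 2000 in
set_option synthInstance.maxHeartbeats 200000 in
theorem col4_rigid : ∀ q d₀ : Fin 4 → ZMod 2, d₀ ≠ 0 →
    (∀ a : ZMod 2, col4 (q + a • d₀) = col4 ![a, 0, 0, 0]) → ∀ d₁ : Fin 4 → ZMod 2,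
    (∀ a b : ZMod 2, col4 (q + (a • d₀ + b • d₁)) = col4 ![a, b, 0, 0]) → ∀ d₂ : Fin 4 → ZMod 2,
    (∀ a b c : ZMod 2, col4 (q + (a • d₀ + b • d₁ + c • d₂)) = col4 ![a, b, c, 0]) →
    ∀ d₃ : Fin 4 → ZMod 2, (∀ a b c d : ZMod 2,
      col4 (q + (a • d₀ + b • d₁ + c • d₂ + d • d₃)) = col4 ![a, b, c, d]) →
    q = 0 ∧ ∀ i, ![d₀, d₁, d₂, d₃] i = Pi.single i 1 := by
  decide +kernel

theorem exists_cons {K W : Type*} [Field K] [AddCommGroup W] [Module K W] {n : ℕ}
    {v : Fin n → W} (hv : LinearIndependent K v) (hn : n < Module.finrank K W) (u : W) :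
    ∃ x, LinearIndependent K (Fin.cons x v : Fin (n + 1) → W) ∧
      u ∈ Submodule.span K (Set.range (Fin.cons x v : Fin (n + 1) → W)) ∧
      Submodule.span K (Set.range v) ≤
        Submodule.span K (Set.range (Fin.cons x v : Fin (n + 1) → W)) := by
  have h : ∀ x, Submodule.span K (Set.range v) ≤
      Submodule.span K (Set.range (Fin.cons x v : Fin (n + 1) → W)) := fun x =>
    Submodule.span_mono (by rintro _ ⟨i, rfl⟩; exact ⟨i.succ, rfl⟩)
  by_cases hu : u ∈ Submodule.span K (Set.range v)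
  · obtain ⟨x, hx⟩ := exists_linearIndependent_cons_of_lt_finrank hv hn
    exact ⟨x, hx, h x hu, h x⟩
  · exact ⟨u, hv.finCons hu, Submodule.subset_span ⟨0, rfl⟩, h u⟩

theorem col_three_aff {G W : Type u} [Group G] [Finite G] [Group.IsSolvable G] [AddCommGroup W]
    [Finite W] [Nontrivial W] [DistribMulAction G W] (h3 : ¬ 3 ∣ Nat.card G)
    (hd : Nat.card W ∣ Nat.card G) (hirr : Irr G W) : ∃ c : W → Fin 3, ∀ (g : G) (a : W),
      (∀ x, c (g • x + a) = c x) → a = 0 ∧ ∀ x : W, g • x = x := by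
  classical
  suffices h : (∃ M : Set W, ∀ g : G, (∀ x ∈ M, x ≠ 0 → g • x ∈ M) → ∀ x : W, g • x = x) ∨
      ∃ c : W → Fin 3, ∀ (g : G) (a : W), (∀ x, c (g • x + a) = c x) →
        a = 0 ∧ ∀ x : W, g • x = x by
    refine h.elim (fun ⟨M, hM⟩ => ?_) id
    refine ⟨fun x => if x = 0 then 0 else if x ∈ M then 1 else 2, fun g a h => ?_⟩
    have h0 : a = 0 := by
      have := h 0
      simp only [smul_zero, zero_add, if_true] at this
      by_contra ha
      rw [if_neg ha] at this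
      split_ifs at this <;> simp at this
    refine ⟨h0, hM g fun x hx hx0 => ?_⟩
    have := h x
    simp only [h0, add_zero, if_neg hx0, if_neg (mt (smul_eq_zero_iff_eq g).1 hx0), if_pos hx]
      at this
    by_contra hc
    simp [hc] at this
  obtain ⟨r, k, hr, hr0, hW⟩ := hirr.exists_prime
  by_cases hr2 : r = 2
  swap
  · obtain ⟨M, hM⟩ := exists_col_two W (fun e => hr2 ((Nat.prime_dvd_prime_iff_eq Nat.prime_two
      hr).1 (Nat.prime_two.dvd_of_dvd_pow (hW ▸ e))).symm) fun e => h3 (e.trans hd)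
    exact Or.inl ⟨M, fun g hg => hM (DistribSMul.toAddMonoidHom W g) (MulAction.injective g) hg⟩
  subst hr2
  by_cases hk : k ≤ 3
  · obtain ⟨v, hv⟩ := exists_ne (0 : W)
    have := Group.isSolvable_of_surjective (toImg_surj (A := G) (V := W))
    have : Finite (Img G W) := Finite.of_surjective _ toImg_surj
    refine Or.inl ⟨{v}, fun g hg x => ?_⟩
    rw [← toImg_smul, small_two hirr.cr.img img_faithful (fun w => by rw [← two_nsmul, hr0]) hW hk
      (fun e => h3 (e.trans card_img_dvd)) hv (g := toImg W g) (hg v rfl hv), one_smul]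
  let _ : Module (ZMod 2) W := AddCommGroup.zmodModule hr0
  have hrk : Module.finrank (ZMod 2) W = k := Nat.pow_right_injective le_rfl (by
    simp only
    rw [← hW, Module.natCard_eq_pow_finrank (K := ZMod 2), Nat.card_zmod])
  obtain ⟨v, hv⟩ := hasBase_three hirr.cr
  obtain ⟨x₀, a₀, b₀, -⟩ := exists_cons (K := ZMod 2) (v := (![] : Fin 0 → W))
    linearIndependent_empty_type (by omega) (v 0)
  obtain ⟨x₁, a₁, b₁, c₁⟩ := exists_cons a₀ (by omega) (v 1)
  obtain ⟨x₂, a₂, b₂, c₂⟩ := exists_cons a₁ (by omega) (v 2)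
  obtain ⟨x₃, a₃, -, c₃⟩ := exists_cons a₂ (by omega) 0
  have hve : ∀ i, v i ∈ _ := fun i => by
    fin_cases i
    exacts [c₃ (c₂ (c₁ b₀)), c₃ (c₂ b₁), c₃ b₂]
  generalize (Fin.cons x₃ _ : Fin 4 → W) = e at a₃ hve
  let j := Fintype.linearCombination (ZMod 2) e
  have hj : Function.Injective j := a₃.fintypeLinearCombination_injective
  have hje : ∀ i, j (Pi.single i 1) = e i := fun i => by simp [j]
  let c : W → Fin 3 := fun w => if h : ∃ x, j x = w then col4 h.choose else 2
  have hc : ∀ x, c (j x) = col4 x := fun x => by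
    have h : ∃ y, j y = j x := ⟨x, rfl⟩
    simp only [c, dif_pos h, hj h.choose_spec]
  refine Or.inr ⟨c, fun g a h => ?_⟩
  have h1 : ∀ x, col4 x ≠ 2 → ∃ y, j y = g • j x + a := fun x hx => by
    by_contra e
    exact hx (by rw [← hc, ← h]; exact dif_neg e)
  obtain ⟨q, hq⟩ := h1 0 (by decide)
  rw [map_zero, smul_zero, zero_add] at hq
  choose d hd using fun i => h1 (Pi.single i 1) (by revert i; decide)
  let γ := (DistribSMul.toAddMonoidHom W g).toZModLinearMap 2
  have h2 : ∀ i, γ (e i) = j (d i - q) := fun i => by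
    rw [map_sub, hd, hq, hje, add_sub_cancel_right]; rfl
  have h4 : ∀ x, g • j x = j (∑ i, x i • (d i - q)) := fun x => by
    change γ (j x) = _
    simp only [j, Fintype.linearCombination_apply (v := e) (f := x), map_sum, map_smul, h2]
  have h5 : ∀ x : Fin 4 → ZMod 2, col4 (q + ∑ i, x i • (d i - q)) = col4 x := fun x => by
    rw [← hc, map_add, hq, ← h4, add_comm, h, hc]
  obtain ⟨h6, h7⟩ := col4_rigid q (d 0 - q) (fun e' => a₃.ne_zero 0 ((smul_eq_zero_iff_eq g).1
      ((h2 0).trans (by rw [e', map_zero]))))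
    (fun a => by simpa [Fin.sum_univ_four] using h5 ![a, 0, 0, 0]) (d 1 - q)
    (fun a b => by simpa [Fin.sum_univ_four] using h5 ![a, b, 0, 0]) (d 2 - q)
    (fun a b c => by simpa [Fin.sum_univ_four] using h5 ![a, b, c, 0]) (d 3 - q)
    (fun a b c d => by simpa [Fin.sum_univ_four] using h5 ![a, b, c, d])
  refine ⟨by rw [← hq, h6, map_zero], hv g fun i => ?_⟩
  refine Submodule.span_induction (p := fun w _ => γ w = w) ?_ (map_zero γ)
    (fun _ _ _ _ h h' => by rw [map_add, h, h']) (fun _ _ _ h => by rw [map_smul, h]) (hve i)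
  rintro _ ⟨l, rfl⟩
  rw [h2, ← hje, ← h7 l]
  fin_cases l <;> rfl

/-- Solvable `3'`-groups have rigid colourings with three colours. -/
theorem exists_col_three (G Ω : Type u) [Group G] [Finite G] [Group.IsSolvable G] [Finite Ω]
    [MulAction G Ω] (h3 : ¬ 3 ∣ Nat.card G) : ∃ c : Ω → Fin 3, Rigid G c := by
  refine col_induction (Fin 3) (fun n => ¬ 3 ∣ n) (fun _ _ h h' e => h' (e.trans h)) ?_ ?_ _ G Ω
    rfl h3
  · intro G W _ _ _ _ _ _ _ h1 h2 h3
    exact col_three_aff h1 h2 h3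
  · intro G Ω _ _ _ _ _ h3 c hc
    refine ⟨fun k x => c x + k, fun k g hg => hc g fun x => add_right_cancel (hg x),
      fun k k' g hg => ?_⟩
    simp only at hg
    have h1 : ∀ n : ℕ, ∀ x, c (g ^ n • x) = c x + n • (k' - k) := fun n => by
      induction n with
      | zero => simp
      | succ n ih =>
        intro x
        rw [pow_succ', mul_smul, eq_sub_of_add_eq (hg _), ih, succ_nsmul]
        abel
    have h2 := h1 (Nat.card G) (Classical.arbitrary Ω)
    rw [pow_card_eq_one', one_smul, left_eq_add, ← Nat.mod_add_div (Nat.card G) 3, add_nsmul,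
      mul_nsmul] at h2
    have h4 : Nat.card G % 3 = 1 ∨ Nat.card G % 3 = 2 := by omega
    have h5 : ∀ z : Fin 3, 3 • z = 0 := by decide
    rw [h5, nsmul_zero, add_zero] at h2
    clear h1 hg
    revert h2
    rcases h4 with e | e <;> rw [e] <;> revert k k' <;> decide

end CL.SolvLin
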