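import Mathlib
import Cfsg.Agent.FGS.Base5

/-!
# Bases of solvable groups VI: pairs in the primitive case, large fields
-/

open Subgroup
open scoped Pointwise commutatorElement

namespace CL.SolvLin

universe u

theorem exists_col_four' (X : Type*) [AddCommGroup X] [Finite X] : ∃ c : X → Fin 4,
    (∀ φ : X →+ X, Function.Injective φ → (∀ x ≠ 0, c (φ x) = c x) → ∀ x, φ x = x) ∧
    (∀ x y, c x = 0 → c y = 0 → x = y) ∧ ∀ x ≠ 0, c x = 0 → 5 ≤ Nat.card X := by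
  by_cases h : 5 ≤ Nat.card X
  · obtain ⟨c, h1, h2⟩ := exists_col_four X
    exact ⟨c, h1, h2, fun _ _ _ => h⟩
  have := Fintype.ofFinite X
  obtain ⟨c⟩ := Function.Embedding.nonempty_of_card_le (α := X) (β := Fin 4) (by
    rw [← Nat.card_eq_fintype_card, Fintype.card_fin]; omega)
  have hc : Function.Injective (Equiv.swap (c 0) 0 ∘ c) := (Equiv.injective _).comp c.injective
  refine ⟨_, fun φ _ h1 x => ?_, fun x y h1 h2 => hc (h1.trans h2.symm), fun x hx h1 =>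
    absurd (hc (h1.trans (by simp))) hx⟩
  by_cases hx : x = 0
  · rw [hx, map_zero]
  · exact hc (h1 x hx)

theorem mem_of_coprime {G : Type*} [Group G] {K : Subgroup G} {g : G} {a b : ℕ}
    (ha : g ^ a ∈ K) (hb : g ^ b ∈ K) (h : a.Coprime b) : g ∈ K := by
  have := mul_mem (zpow_mem ha (a.gcdA b)) (zpow_mem hb (a.gcdB b))
  rwa [← zpow_natCast, ← zpow_natCast, ← zpow_mul, ← zpow_mul, ← zpow_add,
    ← Nat.gcd_eq_gcd_ab, h, Nat.cast_one, zpow_one] at this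

variable {A : Type u} [Group A] {V : Type*} [AddCommGroup V] [DistribMulAction A V]

theorem exists_fixK [Finite A] {E : Subgroup A} [E.Normal] {x : V} {g : A} (hg : g • x = x) :
    ∃ K : Subgroup A, ∀ b, b ∈ K ↔ b ∈ cstab E x ∧ g • b • x = b • x := by
  refine ⟨
    { carrier := {b | b ∈ cstab E x ∧ g • b • x = b • x}
      one_mem' := ⟨one_mem _, by simpa using hg⟩
      mul_mem' := fun ha hb => ⟨mul_mem ha.1 hb.1, Str.fix_mul hg ha.1.1 hb.1 ha.2 hb.2⟩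
      inv_mem' := fun {a} ha => ⟨inv_mem ha.1, ?_⟩ }, fun _ => Iff.rfl⟩
  obtain ⟨n, hn⟩ : ∃ n : ℕ, a⁻¹ = a ^ n := (mem_powers_iff_mem_zpowers.2
    (inv_mem (mem_zpowers a))).imp fun _ e => e.symm
  rw [hn]
  clear hn
  induction n with
  | zero => simpa using hg
  | succ n ih => rw [pow_succ]; exact Str.fix_mul hg (pow_mem ha.1.1 n) ha.1 ih ha.2

namespace Str
variable {Z E : Subgroup A} (h : Str V Z E)
include h

theorem commute {a b c : A} (ha : a ∈ E) (hb : b ∈ E) (hc : c ∈ E) : Commute c ⁅a, b⁆ :=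
  (h.cen _ (h.comm a ha b hb) c hc).symm

theorem mul_sq {a b : A} (ha : a ∈ E) (hb : b ∈ E) : (a * b) ^ 2 = ⁅b, a⁆ * (a ^ 2 * b ^ 2) := by
  rw [PG.mul_pow_of_commute_commutator (h.commute hb ha ha) (h.commute hb ha hb)]; simp

theorem comm_sq {a b : A} (ha : a ∈ E) (hb : b ∈ E) (h2 : a ^ 2 ∈ Z) : ⁅b, a⁆ ^ 2 = 1 := by
  rw [← PG.commutator_pow_right (h.commute hb ha ha)]
  exact commutatorElement_eq_one_iff_mul_comm.2 (h.cen _ h2 b hb).symm

/-- The elements of `E` with square in `Z`. -/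
def sqs : Subgroup A where
  carrier := {a | a ∈ E ∧ a ^ 2 ∈ Z}
  one_mem' := ⟨one_mem _, by simp⟩
  mul_mem' := fun {a b} ha hb => ⟨mul_mem ha.1 hb.1, by
    rw [h.mul_sq ha.1 hb.1]
    exact mul_mem (h.comm _ hb.1 _ ha.1) (mul_mem ha.2 hb.2)⟩
  inv_mem' := fun {a} ha => ⟨inv_mem ha.1, by rw [inv_pow]; exact inv_mem ha.2⟩

theorem sqs_normal : h.sqs.Normal := ⟨fun a ha g => ⟨h.En.conj_mem a ha.1 g, by
  rw [conj_pow]; exact h.Zn.conj_mem _ ha.2 g⟩⟩

theorem le_sqs : Z ≤ h.sqs := fun _ hz => ⟨h.le hz, pow_mem hz 2⟩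

theorem core {x : V} {S : Type*} [AddCommGroup S] {π : A → S} [Finite S] (hx : x ≠ 0)
    (p : Pos E x π) (t : S → A) (ht0 : t 0 = 1) (ht : ∀ s, t s ∈ E ∧ π (t s) = s) (T : Set S)
    (h0 : 0 ∉ T) (hT : 4 * T.ncard < Nat.card S) {g : A} (hg : g • x = x)
    (hB : ∀ b ∈ cstab E x, g • b • x = b • x)
    (hs : ∀ s ∉ T, s ≠ 0 → ((t s)⁻¹ * (g * t s * g⁻¹)) • x = x) : g = 1 := by
  have := h.En
  refine h.eq_one_of_fix hx p T h0 hT fun a ha haT => ?_
  have h3 : g • t (π a) • x = t (π a) • x := by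
    by_cases h1 : π a = 0
    · rw [h1, ht0, one_smul, hg]
    · have := hs _ haT h1
      rwa [mul_smul, mul_smul, mul_smul, inv_smul_eq_iff.2 hg.symm, inv_smul_eq_iff] at this
  have h4 := p.mem (ht (π a)).1 ha (ht _).2
  simpa using Str.fix_mul hg (ht (π a)).1 h4 h3 (hB _ h4)

variable [Finite A] [Finite V] [Nontrivial V]

theorem exists_zpowers : ∃ θ ∈ Z, ∀ z ∈ Z, ∃ n : ℕ, θ ^ n = z := by
  have := h.field.1
  obtain ⟨θ, hθ⟩ := IsCyclic.exists_monoid_generator (α := Z)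
  exact ⟨θ, θ.2, fun z hz => (hθ ⟨z, hz⟩).imp fun n e => congrArg Subtype.val e⟩

theorem eq_of_sq {a b : A} (ha : a ∈ Z) (hb : b ∈ Z) (a2 : a ^ 2 = 1) (b2 : b ^ 2 = 1)
    (a1 : a ≠ 1) (b1 : b ≠ 1) : a = b := by
  have := h.field.1
  exact congrArg Subtype.val (eq_of_cyclic_two (G := Z) (x := ⟨a, ha⟩) (y := ⟨b, hb⟩)
    (orderOf_eq_prime (Subtype.ext a2) fun e => a1 (congrArg Subtype.val e))
    (orderOf_eq_prime (Subtype.ext b2) fun e => b1 (congrArg Subtype.val e)))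

theorem exists_four {u : A} (hu : u ∈ h.sqs) : ∃ z ∈ Z, (u * z) ^ 4 = 1 := by
  by_cases h4 : 4 ∣ Nat.card Z
  swap
  · obtain ⟨m, hm, hd⟩ : ∃ m, Odd m ∧ Nat.card Z ∣ m * 2 := by
      rcases Nat.even_or_odd (Nat.card Z) with ⟨m, e⟩ | e
      · exact ⟨m, Nat.odd_iff.2 (by omega), by rw [e, mul_two]⟩
      · exact ⟨_, e, dvd_mul_right _ _⟩
    obtain ⟨k, rfl⟩ := hm
    refine ⟨(u ^ 2) ^ k, pow_mem hu.2 k, ?_⟩
    have := orderOf_dvd_iff_pow_eq_one.1 ((Z.orderOf_dvd_natCard hu.2).trans hd)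
    rw [← this]; group
  obtain ⟨θ, hθ, hg⟩ := h.exists_zpowers
  obtain ⟨ι, hι, hι1, hι2⟩ : ∃ ι ∈ Z, ι ^ 2 ≠ 1 ∧ (ι ^ 2) ^ 2 = 1 := by
    have := h.field.1
    obtain ⟨g, hg⟩ := IsCyclic.exists_ofOrder_eq_natCard (α := Z)
    have h1 := orderOf_pow_orderOf_div (orderOf_pos g).ne' (hg ▸ h4)
    generalize g ^ (orderOf g / 4) = ι at h1
    rw [← orderOf_coe] at h1
    refine ⟨ι, ι.2, fun e => ?_, by rw [← pow_mul, ← orderOf_dvd_iff_pow_eq_one, h1]⟩
    rw [← orderOf_dvd_iff_pow_eq_one, h1] at e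
    omega
  have hsq : ∀ z ∈ Z, z ^ 2 = 1 → ∃ w ∈ Z, w ^ 2 = z := fun z hz e => by
    by_cases h1 : z = 1
    · exact ⟨1, one_mem _, by simp [h1]⟩
    · exact ⟨ι, hι, h.eq_of_sq (pow_mem hι 2) hz hι2 e hι1 h1⟩
  have hm : ∀ {a z : A}, a ∈ E → z ∈ Z → (a * z) ^ 2 = a ^ 2 * z ^ 2 := fun ha hz =>
    Commute.mul_pow (h.cen _ hz _ ha).symm 2
  let U₀ : Subgroup A :=
    { carrier := {a | a ∈ E ∧ ∃ w ∈ Z, w ^ 2 = a ^ 2}
      one_mem' := ⟨one_mem _, 1, one_mem _, rfl⟩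
      mul_mem' := by
        rintro a b ⟨ha, w, hw, e⟩ ⟨hb, w', hw', e'⟩
        obtain ⟨c, hc, e''⟩ := hsq _ (h.comm _ hb _ ha) (h.comm_sq ha hb (e ▸ pow_mem hw 2))
        exact ⟨mul_mem ha hb, c * (w * w'), mul_mem hc (mul_mem hw hw'), by
          rw [h.mul_sq ha hb, hm (h.le hc) (mul_mem hw hw'), hm (h.le hw) hw', e, e', e'']⟩
      inv_mem' := by
        rintro a ⟨ha, w, hw, e⟩
        exact ⟨inv_mem ha, w⁻¹, inv_mem hw, by rw [inv_pow, inv_pow, e]⟩ }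
  have hn : U₀.Normal := ⟨by
    rintro a ⟨ha, w, hw, e⟩ g
    exact ⟨h.En.conj_mem a ha g, _, h.Zn.conj_mem w hw g, by rw [conj_pow, conj_pow, e]⟩⟩
  have hZ : Z ≤ U₀ := fun z hz => ⟨h.le hz, z, hz, rfl⟩
  have hU : U₀ ≤ h.sqs := by
    rintro a ⟨ha, w, hw, e⟩
    exact ⟨ha, e ▸ pow_mem hw 2⟩
  have := h.sqs_normal
  have h1 : U₀ ⊓ centralizer (U₀ : Set A) ≤ Z :=
    h.maxab _ inferInstance (fun a ha b hb => hb.2 a ha.1)
      (le_inf hZ fun z hz a ha => (h.cen z hz a ha.1).symm)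
  have h2 : ∀ a ∈ h.sqs, a ∉ U₀ → ∃ w ∈ Z, a ^ 2 = w ^ 2 * θ := fun a ha hc => by
    obtain ⟨n, hn⟩ := hg _ ha.2
    rcases Nat.even_or_odd' n with ⟨k, rfl | rfl⟩
    · exact absurd ⟨ha.1, θ ^ k, pow_mem hθ k, by rw [← hn, ← pow_mul, mul_comm]⟩ hc
    · exact ⟨θ ^ k, pow_mem hθ k, by rw [← hn]; group⟩
  have h3 : h.sqs ⊓ centralizer (U₀ : Set A) ≤ Z := by
    refine h.maxab _ inferInstance (fun a ha b hb => ?_)
      (le_inf h.le_sqs fun z hz a ha => (h.cen z hz a ha.1).symm)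
    by_cases a0 : a ∈ U₀
    · exact hb.2 a a0
    by_cases b0 : b ∈ U₀
    · exact (ha.2 b b0).symm
    obtain ⟨w, hw, e⟩ := h2 a ha.1 a0
    obtain ⟨w', hw', e'⟩ := h2 b hb.1 b0
    obtain ⟨c, hc, e''⟩ := hsq _ (h.comm _ hb.1.1 _ ha.1.1) (h.comm_sq ha.1.1 hb.1.1 ha.1.2)
    have h5 := ha.2 (a * b) ⟨mul_mem ha.1.1 hb.1.1, c * (w * θ * w'),
      mul_mem hc (mul_mem (mul_mem hw hθ) hw'), by
        rw [h.mul_sq ha.1.1 hb.1.1, hm (h.le hc) (mul_mem (mul_mem hw hθ) hw'),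
          hm (h.le (mul_mem hw hθ)) hw', hm (h.le hw) hθ, e, e', e'',
          h.ab (pow_mem hw' 2) hθ, sq θ]; simp only [mul_assoc]⟩
    rw [mul_assoc] at h5
    exact (mul_left_cancel h5).symm
  have h5 := h.pair (K := h.sqs) (U := U₀) (fun a ha => ha.1) le_rfl
    (fun k hk u hu => h.comm k hk.1 u hu.1) fun k hk u hu =>
    commutatorElement_eq_one_iff_mul_comm.2 (h.cen u hu k hk.1).symm
  rw [← inf_relIndex_right, inf_comm] at h5
  have h6 := relIndex_le_of_le_left h3 (L := h.sqs) FiniteIndex.index_ne_zero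
  have h7 := relIndex_mul_relIndex Z U₀ h.sqs hZ hU
  have h8 : Z.relIndex U₀ ≠ 0 := FiniteIndex.index_ne_zero
  have h9 : U₀.relIndex h.sqs ≠ 0 := FiniteIndex.index_ne_zero
  have h10 := Nat.le_of_mul_le_mul_left (h7.trans_le ((h6.trans h5).trans_eq (mul_one _).symm))
    (Nat.pos_of_ne_zero h8)
  obtain ⟨-, w, hw, e⟩ := relIndex_eq_one.1 (show U₀.relIndex h.sqs = 1 by omega) hu
  exact ⟨w⁻¹, inv_mem hw, by
    rw [show 4 = 2 * 2 from rfl, pow_mul, hm hu.1 (inv_mem hw), ← e, inv_pow, mul_inv_cancel,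
      one_pow]⟩

theorem decomp {a : A} (ha : a ∈ E) : ∃ u ∈ h.sqs, ∃ u' ∈ E, ∃ m, Odd m ∧ u' ^ m ∈ Z ∧
    a = u * u' := by
  have := h.sqs_normal
  obtain ⟨U', -, h1, h2⟩ := h.compl h.le_sqs fun a ha => ha.1
  have h3 : U' ≤ E := h2 ▸ le_sup_right
  rw [← h2, ← SetLike.mem_coe, normal_mul] at ha
  obtain ⟨u, hu, u', hu', rfl⟩ := ha
  obtain ⟨k, m, hm, e⟩ := Nat.exists_eq_two_pow_mul_odd (orderOf_pos u').ne'
  have h4 : ∀ k : ℕ, ∀ w ∈ U', w ^ 2 ^ k ∈ Z → w ∈ Z := fun k => by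
    induction k with
    | zero => simp
    | succ k ih =>
      intro w hw e
      rw [pow_succ, pow_mul] at e
      exact ih w hw (h1 ▸ ⟨⟨h3 (pow_mem hw _), e⟩, pow_mem hw _⟩)
  exact ⟨u, hu, u', h3 hu', m, hm, h4 k _ (pow_mem hu' m) (by
    rw [← pow_mul, mul_comm, ← e, pow_orderOf_eq_one]; exact one_mem _), rfl⟩

variable {x : V} {S : Type*} [AddCommGroup S] {π : A → S}

theorem pos_decomp (p : Pos E x π) (s : S) : ∃ u ∈ h.sqs, ∃ s', 2 • π u = 0 ∧
    Odd (addOrderOf s') ∧ s = π u + s' := by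
  obtain ⟨a, ha, rfl⟩ := p.surj s
  obtain ⟨u, hu, u', hu', m, hm, h1, rfl⟩ := h.decomp ha
  have h0 : ∀ z ∈ Z, π z = 0 := fun z hz => (p.ker z (h.le hz)).2 (h.le_cstab x hz)
  exact ⟨u, hu, π u', by rw [← p.pow hu.1, h0 _ hu.2], hm.of_dvd_nat
    (addOrderOf_dvd_of_nsmul_eq_zero (by rw [← p.pow hu', h0 _ h1])), p.mul _ hu.1 _ hu'⟩

omit h in
theorem eq_zero_of_odd {s : S} (h1 : 2 • s = 0) (h2 : Odd (addOrderOf s)) : s = 0 := by
  rcases (Nat.dvd_prime Nat.prime_two).1 (addOrderOf_dvd_of_nsmul_eq_zero h1) with e | e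
  · exact AddMonoid.addOrderOf_eq_one_iff.1 e
  · rw [e] at h2; exact absurd h2 (by decide)

theorem exists_sec' (p : Pos E x π) : ∃ t : S → A, t 0 = 1 ∧ (∀ s, t s ∈ E ∧ π (t s) = s) ∧
    (∀ s, 2 • s = 0 → t s ^ 2 ∈ Z ∧ t s ^ 4 = 1) ∧
    ∀ s, Odd (addOrderOf s) → Odd (orderOf (t s)) := by
  have key : ∀ s, ∃ a, (s = 0 → a = 1) ∧ (a ∈ E ∧ π a = s) ∧
      (2 • s = 0 → a ^ 2 ∈ Z ∧ a ^ 4 = 1) ∧ (Odd (addOrderOf s) → Odd (orderOf a)) := by
    intro s
    by_cases h0 : s = 0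
    · exact ⟨1, fun _ => rfl, ⟨one_mem _, by rw [p.one, h0]⟩, fun _ => by simp, fun _ => by simp⟩
    by_cases h2 : 2 • s = 0
    · obtain ⟨u, hu, s', h3, h4, rfl⟩ := h.pos_decomp p s
      rw [nsmul_add, h3, zero_add] at h2
      obtain ⟨z, hz, e⟩ := h.exists_four hu
      refine ⟨u * z, fun e => absurd e h0, ⟨mul_mem hu.1 (h.le hz), ?_⟩,
        fun _ => ⟨(mul_mem hu (h.le_sqs hz)).2, e⟩, fun e => absurd (eq_zero_of_odd
          (by rw [nsmul_add, h3, h2, zero_add]) e) h0⟩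
      rw [p.mul _ hu.1 _ (h.le hz), eq_zero_of_odd h2 h4,
        (p.ker z (h.le hz)).2 (h.le_cstab x hz)]
    obtain ⟨a, ha, rfl⟩ := p.surj s
    by_cases h3 : Odd (addOrderOf (π a))
    swap
    · exact ⟨a, fun e => absurd e h0, ⟨ha, rfl⟩, fun e => absurd e h2, fun e => absurd e h3⟩
    obtain ⟨k, m, hm, e⟩ := Nat.exists_eq_two_pow_mul_odd (orderOf_pos a).ne'
    obtain ⟨i, h4, h5⟩ := Nat.chineseRemainder (Nat.Coprime.pow_left k
      (Nat.coprime_two_left.2 h3)) 0 1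
    refine ⟨a ^ i, fun e => absurd e h0, ⟨pow_mem ha i, ?_⟩, fun e => absurd e h2,
      fun _ => hm.of_dvd_nat (orderOf_dvd_of_pow_eq_one ?_)⟩
    · rw [p.pow ha, ← mod_addOrderOf_nsmul, h5, mod_addOrderOf_nsmul, one_nsmul]
    · rw [← pow_mul, ← orderOf_dvd_iff_pow_eq_one, e]
      exact Nat.mul_dvd_mul_right (Nat.modEq_zero_iff_dvd.1 h4) m
  choose t h1 h2 h3 h4 using key
  exact ⟨t, h1 0 rfl, h2, h3, h4⟩

/-- Three regular colours, or at most two positions. -/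
def Cols (E : Subgroup A) (x : V) : Prop :=
  (∃ w : Fin 3 → V, (∀ k, w k ≠ 0 ∧ Fx E x (w k) ∧
      ∀ g : A, (∀ b ∈ cstab E x, g • b • x = b • x) → g • w k = w k) ∧
    ∀ k k', ∀ β ∈ cstab E x, β ^ 4 = 1 → β • w k = w k' → k = k') ∨
  ∃ b ∈ E, ∀ a ∈ E, a ∈ cstab E x ∨ b⁻¹ * a ∈ cstab E x

omit h [Finite A] [Finite V] [Nontrivial V] in
theorem col_two [Finite S] (hx : x ≠ 0) (p : Pos E x π) (hc : Cols E x) : ∃ w : S → V,
    (∀ s, Fx E x (w s) ∧ ∀ g : A, (∀ b ∈ cstab E x, g • b • x = b • x) → g • w s = w s) ∧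
    (∀ s s', s ≠ 0 → 2 • s = 0 → 2 • s' = 0 → w s = 0 → w s' = 0 → s = s' ∧ 5 ≤ Nat.card S) ∧
    ∀ φ : S →+ S, Function.Injective φ → (∀ s ≠ 0, 2 • s = 0 →
      ∃ β ∈ cstab E x, β ^ 4 = 1 ∧ β • w s = w (φ s)) → ∀ s, 2 • s = 0 → φ s = s := by
  classical
  rcases hc with ⟨w, h1, h2⟩ | ⟨b, hb, h1⟩
  · let X := (nsmulAddMonoidHom 2 : S →+ S).ker
    obtain ⟨c, c1, c2, c3⟩ := exists_col_four' X
    let W : Fin 4 → V := Fin.cons 0 w
    have hW : ∀ k k', ∀ β ∈ cstab E x, β ^ 4 = 1 → β • W k = W k' → k = k' := by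
      intro k k' β hβ e
      refine Fin.cases (Fin.cases (fun _ => rfl) (fun j e' => absurd ?_ (h1 j).1) k') (fun i =>
        Fin.cases (fun e' => absurd ?_ (h1 i).1) (fun j e' => congrArg _ (h2 i j β hβ e e')) k') k
      · simpa [W] using e'.symm
      · exact (smul_eq_zero_iff_eq β).1 e'
    refine ⟨fun s => if hs : s ∈ X then W (c ⟨s, hs⟩) else 0, fun s => ?_,
      fun s s' h0 hs hs' e e' => ?_, fun φ hφ h3 s hs => ?_⟩
    · beta_reduce
      split_ifs with hs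
      · generalize c ⟨s, hs⟩ = k
        exact Fin.cases ⟨Fx.zero, fun g _ => smul_zero g⟩ (fun i => (h1 i).2) k
      · exact ⟨Fx.zero, fun g _ => smul_zero g⟩
    · simp only [dif_pos (show s ∈ X from hs), dif_pos (show s' ∈ X from hs')] at e e'
      have a := hW _ 0 1 (one_mem _) (one_pow _) ((one_smul _ _).trans e)
      have a' := hW _ 0 1 (one_mem _) (one_pow _) ((one_smul _ _).trans e')
      exact ⟨congrArg Subtype.val (c2 _ _ a a'), (c3 _ (fun e => h0 (congrArg Subtype.val e))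
        a).trans X.card_le_card_addGroup⟩
    · have hX : ∀ s : X, φ s ∈ X := fun s => by
        change 2 • φ s = 0
        rw [← map_nsmul, show 2 • (s : S) = 0 from s.2, map_zero]
      refine congrArg Subtype.val (c1 ((φ.comp X.subtype).codRestrict X hX)
        (fun a b e => Subtype.ext (hφ (congrArg Subtype.val e))) (fun a ha => ?_) ⟨s, hs⟩)
      obtain ⟨β, hβ, e, e'⟩ := h3 a (fun e => ha (Subtype.ext e)) a.2
      simp only [dif_pos a.2, dif_pos (hX a)] at e'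
      exact (hW _ _ β hβ e e').symm
  · have h2 : ∀ s ≠ 0, s = π b := fun s hs => by
      obtain ⟨a, ha, rfl⟩ := p.surj s
      have := (h1 a ha).resolve_left fun e => hs ((p.ker a ha).2 e)
      rw [← p.ker _ this.1, p.mul _ (inv_mem hb) _ ha, p.inv hb, neg_add_eq_zero] at this
      exact this.symm
    refine ⟨fun _ => x, fun _ => ⟨Fx.self, fun g hg => by simpa using hg 1 (one_mem _)⟩,
      fun _ _ _ _ _ e => absurd e hx, fun φ hφ _ s _ => ?_⟩
    by_cases hs : s = 0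
    · rw [hs, map_zero]
    · rw [h2 _ fun e => hs (hφ (e.trans (map_zero φ).symm)), ← h2 s hs]

omit h [Finite A] [Finite V] [Nontrivial V] in
theorem col_odd [Finite S] (hx : x + x ≠ 0) : ∃ w : S → V,
    (∀ s, w s = 0 ∨ w s = x ∨ w s = -x) ∧
    (∀ s s', Odd (addOrderOf s) → Odd (addOrderOf s') → w s = 0 → w s' = 0 →
      s = s' ∧ 9 ≤ Nat.card S) ∧
    ∀ φ : S →+ S, Function.Injective φ → (∀ s ≠ 0, Odd (addOrderOf s) →
      ∃ β : A, Odd (orderOf β) ∧ β • w s = w (φ s)) → ∀ s, Odd (addOrderOf s) → φ s = s := by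
  classical
  let X : AddSubgroup S :=
    { carrier := {s | Odd (addOrderOf s)}
      zero_mem' := by simp
      add_mem' := fun {a b} ha hb => (Odd.mul ha hb).of_dvd_nat
        (AddCommute.all a b).addOrderOf_add_dvd_mul_addOrderOf
      neg_mem' := fun {a} ha => by simpa using ha }
  obtain ⟨c, c1, c2, c3⟩ := exists_col_odd X (by
    by_contra e
    obtain ⟨a, ha⟩ := exists_prime_addOrderOf_dvd_card' (G := X) 2 (Nat.not_odd_iff_even.1 e).two_dvd
    have : Odd (addOrderOf (a : S)) := a.2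
    rw [AddSubgroup.addOrderOf_coe, ha] at this
    exact absurd this (by decide))
  have hx0 : x ≠ 0 := fun e => hx (by rw [e, add_zero])
  let W : Fin 3 → V := ![0, x, -x]
  have hW : ∀ k k', ∀ β : A, Odd (orderOf β) → β • W k = W k' → k = k' := by
    intro k k' β hβ
    have h1 : β • x ≠ -x := fun e => hx (by
      have := smul_eq_of_sq hβ (x := x) (by rw [e, smul_neg, e, neg_neg])
      rw [e] at this
      rw [← neg_eq_iff_add_eq_zero, this])
    have h2 : β • x ≠ 0 := mt (smul_eq_zero_iff_eq β).1 hx0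
    have h3 := hx0.symm
    fin_cases k <;> fin_cases k' <;> simp [W, hx0, h1, h2, h3, neg_eq_iff_eq_neg]
  refine ⟨fun s => if hs : s ∈ X then W (c ⟨s, hs⟩) else 0, fun s => ?_,
    fun s s' hs hs' e e' => ?_, fun φ hφ h3 s hs => ?_⟩
  · beta_reduce
    split_ifs with hs
    · generalize c ⟨s, hs⟩ = k
      fin_cases k <;> simp [W]
    · exact Or.inl rfl
  · simp only [dif_pos (show s ∈ X from hs), dif_pos (show s' ∈ X from hs')] at e e'
    have a := hW _ 0 1 (by simp) ((one_smul _ _).trans e)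
    have a' := hW _ 0 1 (by simp) ((one_smul _ _).trans e')
    exact ⟨congrArg Subtype.val (c2 _ _ a a'), (c3 _ a).trans X.card_le_card_addGroup⟩
  · have hX : ∀ s : X, φ s ∈ X := fun s => by
      change Odd (addOrderOf (φ s))
      rw [addOrderOf_injective φ hφ]
      exact s.2
    refine congrArg Subtype.val (c1 ((φ.comp X.subtype).codRestrict X hX)
      (fun a b e => Subtype.ext (hφ (congrArg Subtype.val e))) (fun a ha => ?_) ⟨s, hs⟩)
    obtain ⟨β, hβ, e'⟩ := h3 a (fun e => ha (Subtype.ext e)) a.2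
    simp only [dif_pos a.2, dif_pos (hX a)] at e'
    exact (hW _ _ β hβ e').symm

theorem gen (hx : IsMax E x) (hx2 : x + x ≠ 0) {y₀ : V} (hy₀ : Fx E x y₀)
    (hB : ∀ g : A, g • x = x → g • y₀ = y₀ → ∀ b ∈ cstab E x, g • b • x = b • x)
    (hc : Cols E x) : ∃ y : V, ∀ g : A, g • x = x → g • y = y → g = 1 := by
  classical
  have hE := h.En
  obtain ⟨S, _, _, π, p, -⟩ := h.exists_pos x
  obtain ⟨t, ht0, ht, t2, t1⟩ := h.exists_sec' p
  obtain ⟨w₂, a1, a2, a3⟩ := col_two hx.1 p hc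
  obtain ⟨w₁, b1, b2, b3⟩ := col_odd (A := A) (S := S) hx2
  let w : S → V := fun s => if s = 0 then y₀ else if 2 • s = 0 then w₂ s else
    if Odd (addOrderOf s) then w₁ s else x
  have hw : ∀ s ≠ 0, Fx E x (w s) ∧
      ∀ g : A, (∀ b ∈ cstab E x, g • b • x = b • x) → g • w s = w s := fun s hs => by
    have h1 : ∀ g : A, (∀ b ∈ cstab E x, g • b • x = b • x) → g • x = x := fun g hg => by
      simpa using hg 1 (one_mem _)
    simp only [w, if_neg hs]
    split_ifs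
    · exact a1 s
    · rcases b1 s with e | e | e <;> rw [e]
      · exact ⟨Fx.zero, fun g _ => smul_zero g⟩
      · exact ⟨Fx.self, h1⟩
      · exact ⟨Fx.self.neg, fun g hg => by rw [smul_neg, h1 g hg]⟩
    · exact ⟨Fx.self, h1⟩
  have hw' : ∀ s, Fx E x (w s) := fun s => by
    by_cases hs : s = 0
    · simpa [w, hs] using hy₀
    · exact (hw s hs).1
  refine ⟨∑ s, t s • w s, fun g hg h1 => ?_⟩
  obtain ⟨φ, hφ, hφc⟩ := p.conj g hg
  have e₁ := h.pos_smul hx.1 p t ht w hw' hg hφ hφc h1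
  have hB' := hB g hg (by simpa [w, ht0] using e₁ 0)
  have hβ : ∀ s, (t (φ s))⁻¹ * (g * t s * g⁻¹) ∈ cstab E x := fun s =>
    p.mem (ht _).1 (hE.conj_mem _ (ht s).1 g) (by rw [hφc _ (ht s).1, (ht s).2, (ht _).2])
  have e₂ : ∀ s ≠ 0, ((t (φ s))⁻¹ * (g * t s * g⁻¹)) • w s = w (φ s) := fun s hs => by
    rw [← e₁ s, (hw s hs).2 g hB']
  have h0 : ∀ s ≠ 0, φ s ≠ 0 := fun s hs e => hs (hφ (e.trans (map_zero φ).symm))
  have c2 := a3 φ hφ fun s hs h2 => by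
    have h3 : 2 • φ s = 0 := by rw [← map_nsmul, h2, map_zero]
    refine ⟨_, hβ s, ?_, by
      simpa only [w, if_neg hs, if_neg (h0 s hs), if_pos h2, if_pos h3] using e₂ s hs⟩
    have h4 := inv_mem (ht (φ s)).1
    have h5 := hE.conj_mem _ (ht s).1 g
    rw [PG.mul_pow_of_commute_commutator (h.commute h5 h4 h4) (h.commute h5 h4 h5), inv_pow,
      (t2 _ h3).2, conj_pow, (t2 _ h2).2, show Nat.choose 4 2 = 2 * 3 from rfl, pow_mul,
      h.comm_sq h4 h5 (by rw [inv_pow]; exact inv_mem (t2 _ h3).1)]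
    simp
  have c1 := b3 φ hφ fun s hs h2 => by
    have h3 : Odd (addOrderOf (φ s)) := by rwa [addOrderOf_injective φ hφ]
    refine ⟨_, ?_, by
      simpa only [w, if_neg hs, if_neg (h0 s hs), if_pos h2, if_pos h3,
        if_neg fun e => hs (eq_zero_of_odd e h2), if_neg fun e => h0 s hs (eq_zero_of_odd e h3)]
        using e₂ s hs⟩
    have h4 := inv_mem (ht (φ s)).1
    have h5 := hE.conj_mem _ (ht s).1 g
    have h6 := (t1 _ h3).mul (t1 _ h2)
    refine h6.of_dvd_nat (orderOf_dvd_of_pow_eq_one (PG.mul_pow_eq_one_of_odd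
      (h.commute h5 h4 h4) (h.commute h5 h4 h5) h6 ?_ ?_))
    · rw [inv_pow, pow_mul, pow_orderOf_eq_one, one_pow, inv_one]
    · rw [conj_pow, pow_mul', pow_orderOf_eq_one]; simp
  have hid : ∀ s, φ s = s := fun s => by
    obtain ⟨u, -, s', h2, h3, rfl⟩ := h.pos_decomp p s
    rw [map_add, c2 _ h2, c1 _ h3]
  refine h.core hx.1 p t ht0 ht {s | s ≠ 0 ∧ w s = 0} (by simp) ?_ hg hB' fun s hs hs0 => ?_
  · let T₂ := {s : S | s ≠ 0 ∧ 2 • s = 0 ∧ w₂ s = 0}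
    let T₁ := {s : S | Odd (addOrderOf s) ∧ w₁ s = 0}
    have h2 : {s | s ≠ 0 ∧ w s = 0}.ncard ≤ (T₂ ∪ T₁).ncard := Set.ncard_le_ncard fun s hs => by
      have := hs.2
      simp only [w, if_neg hs.1] at this
      split_ifs at this with h3 h4
      exacts [Or.inl ⟨hs.1, h3, this⟩, Or.inr ⟨h4, this⟩, absurd this hx.1]
    have h3 := Set.ncard_union_le T₂ T₁
    have h4 : T₂.ncard ≤ 1 := (Set.ncard_le_one_iff_subsingleton).2 fun a ha b hb =>
      (a2 a b ha.1 ha.2.1 hb.2.1 ha.2.2 hb.2.2).1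
    have h5 : T₁.ncard ≤ 1 := (Set.ncard_le_one_iff_subsingleton).2 fun a ha b hb =>
      (b2 a b ha.1 hb.1 ha.2 hb.2).1
    have h6 : T₂.ncard ≠ 0 → 5 ≤ Nat.card S := fun e => by
      obtain ⟨a, ha⟩ := Set.nonempty_of_ncard_ne_zero e
      exact (a2 a a ha.1 ha.2.1 ha.2.1 ha.2.2 ha.2.2).2
    have h7 : T₁.ncard ≠ 0 → 9 ≤ Nat.card S := fun e => by
      obtain ⟨a, ha⟩ := Set.nonempty_of_ncard_ne_zero e
      exact (b2 a a ha.1 ha.1 ha.2 ha.2).2
    have h8 : 0 < Nat.card S := Nat.card_pos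
    omega
  · have h2 := e₂ s hs0
    have h3 := hβ s
    rw [hid] at h2 h3
    exact hx.fix (hw' s) (fun e => hs ⟨hs0, e⟩) h3.1 h2

omit [Finite V] [Nontrivial V] in
theorem pair_two {θ i j : A} (hθ : θ ∈ Z) (hg : ∀ z ∈ Z, ∃ n : ℕ, θ ^ n = z) (hx : x ≠ 0)
    (hi : i ∈ cstab E x) (hj : j ∈ cstab E x)
    (h1 : ∀ w, Fx E x w → i • i • w = -w ∧ j • j • w = -w) (h2 : ∀ v : V, ⁅i, j⁆ • v = -v)
    (h3 : ⁅i, j⁆ ≠ 1) (h4 : ¬ 4 ∣ Nat.card Z)
    (h5 : ∀ K : Subgroup A, stab E x ≤ K → Z ≤ K → i ∈ K → j ∈ K → cstab E x ≤ K)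
    {a b : ℕ} (hab : a • i • x + b • j • x = x) {g : A} (hgx : g • x = x)
    (hgy : g • (θ * (i * j)) • x = (θ * (i * j)) • x) : ∀ c ∈ cstab E x, g • c • x = c • x := by
  have := h.En
  obtain ⟨K, hK⟩ := exists_fixK (E := E) hgx
  have hs : stab E x ≤ K := fun d hd => (hK d).2 ⟨h.mem_cstab_of_fix hx hd.1 hd.2, by
    rw [show d • x = x from hd.2, hgx]⟩
  have hij : ∀ v : V, i • j • v = -(j • i • v) := fun v => by
    rw [← mul_smul, PG.mul_eq_commutator_mul_mul, mul_smul, h2, mul_smul]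
  have hκ : ∀ w, Fx E x w → (i * j) ^ 2 • w = -w := fun w hw => by
    rw [sq, mul_smul, mul_smul, mul_smul, hij (i • j • w), (h1 _ (hw.smul hj)).1, smul_neg,
      neg_neg, (h1 w hw).2]
  have hκB := mul_mem hi hj
  have k1 := (hK _).2 ⟨mul_mem (h.le_cstab x hθ) hκB, hgy⟩
  have k2 : (i * j) ^ 4 ∈ K := hs ⟨pow_mem hκB.1 4, by
    change (i * j) ^ (2 + 2) • x = x
    rw [pow_add, mul_smul, hκ x Fx.self, smul_neg, hκ x Fx.self, neg_neg]⟩
  have k3 : θ ^ 4 ∈ K := by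
    have := pow_mem k1 4
    rw [Commute.mul_pow (h.cen θ hθ _ hκB.1)] at this
    exact (mul_mem_cancel_right k2).1 this
  have hζ := h.comm i hi.1 j hj.1
  have k4 := (hK _).2 ⟨h.le_cstab x hζ, by rw [h2, smul_neg, hgx]⟩
  obtain ⟨n, hn⟩ := hg _ hζ
  have k5 : θ ∈ K := by
    refine mem_of_coprime k3 (hn ▸ k4) (Nat.Coprime.pow_left 2 (Nat.coprime_two_left.2 ?_))
    rcases Nat.even_or_odd n with ⟨k, rfl⟩ | e
    swap
    · exact e
    have d1 : orderOf θ ∣ 2 * (k + k) := by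
      rw [orderOf_dvd_iff_pow_eq_one, pow_mul', hn]
      exact h.eq_one hx (pow_mem hζ 2) (by rw [sq, mul_smul, h2, h2, neg_neg])
    have d2 : ¬ 4 ∣ orderOf θ := fun e => h4 (e.trans (Z.orderOf_dvd_natCard hθ))
    refine absurd (hn ▸ orderOf_dvd_iff_pow_eq_one.1 ?_) h3
    rcases Nat.even_or_odd' (orderOf θ) with ⟨m, e | e⟩
    · rw [e] at d1 d2 ⊢
      rw [← two_mul] at d1 ⊢
      exact Nat.mul_dvd_mul_left 2 (Nat.Coprime.dvd_of_dvd_mul_left (Nat.coprime_two_right.2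
        (Nat.odd_iff.2 (by omega))) (Nat.dvd_of_mul_dvd_mul_left two_pos d1))
    · exact Nat.Coprime.dvd_of_dvd_mul_left (Nat.coprime_two_right.2 ⟨m, e⟩) d1
  have k6 := (mul_mem_cancel_left k5).1 k1
  have k7 : i ∈ K := (hK i).2 ⟨hi, by
    have e : i • x = -(a • x) + b • (i * j) • x := by
      conv_lhs => rw [← hab]
      rw [smul_add, smul_comm i a, smul_comm i b, (h1 x Fx.self).1, mul_smul, smul_neg]
    rw [e, smul_add, smul_neg, smul_comm g a, smul_comm g b, hgx, ((hK _).1 k6).2]⟩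
  intro c hc
  exact ((hK c).1 (h5 K hs (fun z hz => by
    obtain ⟨n, rfl⟩ := hg z hz
    exact pow_mem k5 n) k7 ((mul_mem_cancel_left k7).1 k6) hc)).2

theorem exists_pair {p : ℕ} (hp : p.Prime) (h0 : ∀ v : V, p • v = 0) : ∃ x y₀ : V, IsMax E x ∧
    Fx E x y₀ ∧ ∀ g : A, g • x = x → g • y₀ = y₀ → ∀ b ∈ cstab E x, g • b • x = b • x := by
  have := h.En
  obtain ⟨x, hx⟩ := exists_isMax (V := V) E
  obtain ⟨θ, hθ, hg⟩ := h.exists_zpowers
  rcases h.cstab_cases hx with h1 | ⟨i, hi, j, hj, h1, h2, h3, h4, h5⟩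
  · refine ⟨x, θ • x, hx, Fx.self.smul (h.le_cstab x hθ), fun g hgx hgy b hb => ?_⟩
    obtain ⟨K, hK⟩ := exists_fixK (E := E) hgx
    obtain ⟨z, hz, e⟩ := h1 b hb
    obtain ⟨n, rfl⟩ := hg z hz
    rw [e]
    exact ((hK _).1 (pow_mem ((hK θ).2 ⟨h.le_cstab x hθ, hgy⟩) n)).2
  have := Fact.mk hp
  obtain ⟨a', b', hab⟩ := ZMod.sq_add_sq p (-1)
  obtain ⟨a, rfl⟩ := ZMod.natCast_zmod_surjective a'
  obtain ⟨b, rfl⟩ := ZMod.natCast_zmod_surjective b'
  obtain ⟨c, hc⟩ := (ZMod.natCast_eq_zero_iff (a * a + b * b + 1) p).1 (by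
    push_cast; linear_combination hab)
  have hij : ∀ v : V, i • j • v = -(j • i • v) := fun v => by
    rw [← mul_smul, PG.mul_eq_commutator_mul_mul, mul_smul, h2, mul_smul]
  have hF : ∀ w, Fx E x w → ∀ n : ℕ, Fx E x (n • w) := fun w hw n => nsmul_mem (S := fxs E x) hw n
  have hJ : ∀ w, Fx E x w → a • i • (a • i • w + b • j • w) + b • j • (a • i • w + b • j • w) =
      w := fun w hw => by
    have := h0 (c • w)
    rw [← mul_nsmul', ← hc] at this
    simp only [smul_add, smul_comm i a, smul_comm i b, smul_comm j a, smul_comm j b, (h1 w hw).1,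
      (h1 w hw).2, hij w]
    generalize j • i • w = u
    linear_combination (norm := module) (-1 : ℤ) • this
  obtain ⟨x', f1, f2, f3⟩ : ∃ x', Fx E x x' ∧ x' ≠ 0 ∧ a • i • x' + b • j • x' = x' := by
    by_cases e : x + (a • i • x + b • j • x) = 0
    · refine ⟨i • j • x, (Fx.self.smul hj).smul hi, fun e => hx.1
        ((smul_eq_zero_iff_eq j).1 ((smul_eq_zero_iff_eq i).1 e)), ?_⟩
      have := congrArg (fun v => i • j • v) e
      simp only [smul_add, smul_comm i a, smul_comm i b, smul_comm j a, smul_comm j b, smul_zero]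
        at this
      rw [hij (i • x), (h1 x Fx.self).1, (h1 x Fx.self).2] at this
      rw [(h1 _ (Fx.self.smul hj)).1, ← neg_eq_iff_eq_neg.2 (hij (j • x)), (h1 x Fx.self).2]
      simp only [smul_neg] at this ⊢
      generalize i • j • x = u' at this ⊢
      generalize i • x = u₁, j • x = u₂ at this ⊢
      linear_combination (norm := module) (-1 : ℤ) • this
    · refine ⟨_, Fx.self.add ((hF _ (Fx.self.smul hi) a).add (hF _ (Fx.self.smul hj) b)), e, ?_⟩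
      have := hJ x Fx.self
      rw [smul_add i, smul_add j, smul_add a, smul_add b, add_add_add_comm, this, add_comm]
  have e := hx.stab_eq f1 f2
  have e' := cstab_eq e
  rw [← e'] at hi hj h5
  rw [← e] at h5
  refine ⟨x', _, hx.of_fx f1 f2, Fx.self.smul (mul_mem (h.le_cstab x' hθ) (mul_mem hi hj)),
    fun g => h.pair_two hθ hg f2 hi hj (fun w hw => h1 w fun d h6 h7 => hw d h6 (f1 d h6 h7))
      h2 h3 h4 h5 f3⟩

omit h [Finite A] [Finite V] [Nontrivial V] in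
theorem cols_of_prime {p : ℕ} (hp : p.Prime) (h0 : ∀ v : V, p • v = 0) (h7 : 7 ≤ p)
    (hx : x ≠ 0) : Cols E x := by
  have ho : addOrderOf x = p := by have := Fact.mk hp; exact addOrderOf_eq_prime (h0 x) hx
  obtain ⟨n, hn, hn'⟩ : ∃ n : Fin 3 → ℕ, (∀ k, ¬ p ∣ n k) ∧
      ∀ k k', n k ^ 4 ≡ n k' ^ 4 [MOD p] → k = k' := by
    by_cases h13 : p = 13
    · subst h13
      exact ⟨![1, 2, 4], by decide, by decide⟩
    have h1 : ∀ m, m ∣ 1040 * 3 → ¬ p ∣ m := fun m hm e => by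
      have h2 := e.trans hm
      rw [show 1040 * 3 = 2 ^ 4 * 3 * 5 * 13 from rfl, hp.dvd_mul, hp.dvd_mul, hp.dvd_mul] at h2
      rcases h2 with ((h2 | h2) | h2) | h2
      · have := Nat.le_of_dvd two_pos (hp.dvd_of_dvd_pow h2); omega
      · have := Nat.le_of_dvd (by decide) h2; omega
      · have := Nat.le_of_dvd (by decide) h2; omega
      · exact h13 ((Nat.prime_dvd_prime_iff_eq hp (by decide)).1 h2)
    refine ⟨![1, 2, 3], fun k => h1 _ (by revert k; decide), fun k k' e => ?_⟩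
    by_contra hne
    rcases lt_or_gt_of_ne hne with h2 | h2
    · exact h1 _ (by clear e; revert k k'; decide)
        ((Nat.modEq_iff_dvd' (by clear e; revert k k'; decide)).1 e)
    · exact h1 _ (by clear e; revert k k'; decide)
        ((Nat.modEq_iff_dvd' (by clear e; revert k k'; decide)).1 e.symm)
  refine Or.inl ⟨fun k => n k • x, fun k => ⟨fun e => hn k (ho ▸ addOrderOf_dvd_of_nsmul_eq_zero e),
    nsmul_mem (S := fxs E x) Fx.self _, fun g hg => by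
      rw [smul_comm, show g • x = x by simpa using hg 1 (one_mem _)]⟩, fun k k' β _ e e' => hn' _ _ ?_⟩
  have : ∀ m : ℕ, β ^ m • n k ^ m • x = n k' ^ m • x := fun m => by
    induction m with
    | zero => simp
    | succ m ih =>
      rw [pow_succ β, pow_succ', mul_smul, mul_nsmul, smul_comm β, e', smul_comm _ (n k'),
        smul_comm _ (n k'), ih, ← mul_nsmul', pow_succ']
  have := this 4
  rwa [e, one_smul, nsmul_eq_nsmul_iff_modEq, ho] at this

omit [Finite A] [Finite V] [Nontrivial V] in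
theorem cols_of_eight {θ : A} (hθ : θ ∈ Z) (h8 : θ ^ 8 ≠ 1) (hx : x ≠ 0) : Cols E x := by
  refine Or.inl ⟨fun k => θ ^ k.1 • x, fun k => ⟨mt (smul_eq_zero_iff_eq _).1 hx,
    Fx.self.smul (h.le_cstab x (pow_mem hθ _)), fun g hg => hg _ (h.le_cstab x (pow_mem hθ _))⟩,
    fun k k' β hβ e e' => ?_⟩
  have h1 : (((θ ^ k'.1)⁻¹ * θ ^ k.1) * β) • x = x := by
    rw [mul_assoc, h.cen _ (pow_mem hθ _) β hβ.1, mul_smul, mul_smul, e', inv_smul_smul]
  have hz := mul_mem (inv_mem (pow_mem hθ k'.1)) (pow_mem hθ k.1)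
  have h2 := pow_smul_eq h1 4
  rw [Commute.mul_pow (h.cen _ hz β hβ.1), e, mul_one] at h2
  have h3 := h.eq_one hx (pow_mem hz 4) h2
  rw [Commute.mul_pow (Commute.pow_pow_self θ _ _).inv_left, inv_pow, inv_mul_eq_one, ← pow_mul,
    ← pow_mul, pow_eq_pow_iff_modEq] at h3
  rw [Ne, ← orderOf_dvd_iff_pow_eq_one] at h8
  by_contra hne
  refine h8 ?_
  rcases lt_or_gt_of_ne hne with h4 | h4
  · exact ((Nat.modEq_iff_dvd' (by omega)).1 h3.symm).trans (by clear * - h4; revert k k'; decide)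
  · exact ((Nat.modEq_iff_dvd' (by omega)).1 h3).trans (by clear * - h4; revert k k'; decide)

end Str

end CL.SolvLin
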