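import Mathlib
import Cfsg.Agent.FGS.Base6

/-!
# Bases of solvable groups VII: explicit models of small symplectic-type modules
-/

open Subgroup
open scoped Pointwise commutatorElement

namespace CL.SolvLin

universe u

/-- A computable model of a module together with the list of all operators. -/
structure Mdl where
  M : Type
  add : M → M → M
  neg : M → M
  o : M
  enc : M → ℕ
  F : List (M → M)
  bas : List M
  co : M → List ℕ

/-- One deduction step. -/
structure Ins where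
  k : ℕ
  cu : List ℕ
  cs : List (List ℕ × List ℕ)

namespace Mdl
variable (m : Mdl)

/-- The doubled model. -/
def dbl : Mdl where
  M := m.M × m.M
  add a b := (m.add a.1 b.1, m.add a.2 b.2)
  neg a := (m.neg a.1, m.neg a.2)
  o := (m.o, m.o)
  enc a := Nat.pair (m.enc a.1) (m.enc a.2)
  F := m.F.flatMap fun f => [fun c => (f c.1, f c.2), fun c => (f c.1, m.neg (f c.2)),
    fun c => (f c.2, f c.1), fun c => (m.neg (f c.2), f c.1)]
  bas := m.bas.map (·, m.o) ++ m.bas.map (m.o, ·)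
  co a := m.co a.1 ++ m.co a.2

/-- Multiples. -/
def nsm (a : m.M) : ℕ → m.M
  | 0 => m.o
  | 1 => a
  | k + 2 => m.add a (nsm a (k + 1))

/-- Linear combinations. -/
def comb : List ℕ → List m.M → m.M
  | 0 :: ks, _ :: as => comb ks as
  | (k + 1) :: ks, a :: as => m.add (m.nsm a (k + 1)) (comb ks as)
  | _, _ => m.o

/-- The orbit as a list. -/
def orb (u : m.M) : List m.M := m.F.map (· u)

/-- The orbit as a bit mask. -/
def mask (u : m.M) : ℕ := (m.orb u).foldr (fun w r => r ||| 1 <<< m.enc w) 0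

/-- Equality test. -/
def eqv (a b : m.M) : Bool := Nat.beq (m.enc a) (m.enc b)

/-- Equality test for lists. -/
def eql : List m.M → List m.M → Bool
  | a :: as, b :: bs => m.eqv a b && eql as bs
  | [], [] => true
  | _, _ => false

/-- Removal of duplicates. -/
def ded : List m.M → List m.M
  | [] => []
  | a :: as => if as.any (m.eqv a) then ded as else a :: ded as

/-- The orbit conditions. -/
def cond (L : List m.M) (c : List ℕ × List ℕ) (z : m.M) : Bool :=
  (m.mask (m.comb c.2 L)).testBit (m.enc (m.add z (m.comb c.1 L)))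

/-- The new vector. -/
def nxt (L : List m.M) (i : Ins) : m.M := (m.orb (m.comb i.cu L)).getD i.k m.o

/-- The list of known vectors. -/
def lrun : List Ins → List m.M → List m.M
  | [], L => L
  | i :: is, L => lrun is (L ++ [m.nxt L i])

/-- Validity of the program. -/
def lok : List Ins → List m.M → Bool
  | [], _ => true
  | i :: is, L => Nat.blt i.k m.F.length && i.cs.all (fun c => m.cond L c (m.nxt L i)) &&
      lok is (L ++ [m.nxt L i])

/-- The possible images of the known vectors. -/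
def rrun : List Ins → List m.M → List (List m.M)
  | [], R => [R]
  | i :: is, R => (m.ded (i.cs.foldl (fun l c => l.filter (m.cond R c))
      (m.orb (m.comb i.cu R)))).flatMap fun z => rrun is (R ++ [z])

/-- The nontrivial possibilities for the images of the basis. -/
def res (x : m.M) (e : m.M × List Ins × List (List ℕ)) : List (List m.M) :=
  ((m.rrun e.2.1 [x, e.1]).map fun R => e.2.2.map (m.comb · R)).filter fun τ => !m.eql τ m.bas

/-- The linear map with given images of the basis. -/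
def app (τ : List m.M) (v : m.M) : m.M := m.comb (m.co v) τ

/-- Products of maps. -/
def mul (τ τ' : List m.M) : List m.M := τ'.map (m.app τ)

/-- Powers of maps. -/
def pw (τ : List m.M) : ℕ → List m.M
  | 0 => m.bas
  | n + 1 => m.mul τ (pw τ n)

/-- The product of the two maps has order divisible by `p`. -/
def bad (p : ℕ) (τ τ' : List m.M) : Bool :=
  m.eql (m.pw (m.pw (m.pw (m.mul τ τ') 2) p) p) m.bas && !m.eql (m.pw (m.mul τ τ') 2) m.bas

/-- Compatible selections. -/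
def sels (p : ℕ) : List (List (List m.M)) → List (List (List m.M))
  | [] => [[m.bas]]
  | N :: Ns => (sels p Ns).flatMap fun c => (N.filter fun τ => c.all fun τ' => !m.bad p τ τ').map
      (· :: c)

/-- The check of a family of programs. -/
def chk (p : ℕ) (x : m.M) (fam : List (m.M × List Ins × List (List ℕ))) : Bool :=
  fam.all (fun e => m.lok e.2.1 [x, e.1] &&
    m.eql (e.2.2.map (m.comb · (m.lrun e.2.1 [x, e.1]))) m.bas) &&
  (m.sels p (fam.map (m.res x))).isEmpty

/-- The check of regularity and of the colours. -/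
def reg (x : m.M) (w : Fin 4 → m.M) : Bool :=
  m.F.all fun f => (!m.eqv (f x) x || m.eql (m.bas.map f) m.bas) &&
    decide (∀ k k', m.eqv (f (w k)) (w k') → k = k' ∧ m.eqv (f x) x)

end Mdl

/-- One-dimensional models. -/
def mdl1 (p : ℕ) (F : List (Fin (p + 1) → Fin (p + 1))) : Mdl where
  M := Fin (p + 1)
  add := Fin.add
  neg := Fin.sub 0
  o := 0
  enc := Fin.val
  F := F
  bas := [1]
  co a := [a.val]

/-- Two-dimensional models. -/
def mdl2 (p : ℕ) (F : List (Fin (p + 1) × Fin (p + 1) → Fin (p + 1) × Fin (p + 1))) : Mdl :=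
  { (mdl1 p []).dbl with F := F }

variable {A : Type u} [Group A] {V : Type*} [AddCommGroup V] [DistribMulAction A V]

/-- Linear combinations of lists. -/
def lc (cs : List ℕ) (vs : List V) : V := (List.zipWith (fun (k : ℕ) v => k • v) cs vs).sum

/-- `ι` is additive. -/
structure Lin (m : Mdl) (ι : m.M → V) : Prop where
  add : ∀ a b, ι (m.add a b) = ι a + ι b
  neg : ∀ a, ι (m.neg a) = -ι a
  zero : ι m.o = 0
  enc : Function.Injective m.enc
  len : ∀ a, (m.co a).length = m.bas.length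
  span : ∀ a, ι a = lc (m.co a) (m.bas.map ι)

theorem smul_lc (g : A) : ∀ (cs : List ℕ) (vs : List V), g • lc cs vs = lc cs (vs.map (g • ·))
  | [], _ => by simp [lc]
  | _ :: _, [] => by simp [lc]
  | k :: ks, v :: vs => by
    have := smul_lc g ks vs
    simp only [lc, List.zipWith_cons_cons, List.sum_cons, List.map_cons, smul_add] at this ⊢
    rw [this, smul_comm]

/-- `g` maps the first list to the second. -/
def Rel (m : Mdl) (ι : m.M → V) (g : A) (L R : List m.M) : Prop :=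
  (L.map ι).map (g • ·) = R.map ι

namespace Lin
variable {m : Mdl} {ι : m.M → V} (l : Lin m ι)
include l

theorem smul (b : A) : Lin m fun a => b • ι a :=
  ⟨fun _ _ => by rw [l.add, smul_add], fun _ => by rw [l.neg, smul_neg], by rw [l.zero, smul_zero],
    l.enc, l.len, fun a => by rw [l.span, smul_lc, List.map_map]; rfl⟩

theorem dbl {ι' : m.M → V} (l' : Lin m ι') : Lin m.dbl fun a => ι a.1 + ι' a.2 := by
  refine ⟨fun a b => ?_, fun a => ?_, ?_, fun a b e => ?_, fun a => ?_, fun a => ?_⟩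
  · simp only [Mdl.dbl, l.add, l'.add]; abel
  · simp only [Mdl.dbl, l.neg, l'.neg]; abel
  · simp only [Mdl.dbl, l.zero, l'.zero, add_zero]
  · have := Nat.pair_eq_pair.1 e
    exact Prod.ext (l.enc this.1) (l.enc this.2)
  · simp [Mdl.dbl, l.len]
  · simp only [Mdl.dbl, List.map_append, List.map_map, lc]
    rw [List.zipWith_append (by simp [l.len]), List.sum_append, l.span a.1, l'.span a.2]
    simp only [Function.comp_def, l.zero, l'.zero, add_zero, zero_add, lc]

theorem nsm (a : m.M) : ∀ k, ι (m.nsm a k) = k • ι a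
  | 0 => by simp [Mdl.nsm, l.zero]
  | 1 => by simp [Mdl.nsm]
  | k + 2 => by rw [Mdl.nsm, l.add, nsm a (k + 1), succ_nsmul' _ (k + 1)]

theorem comb : ∀ (cs : List ℕ) (L : List m.M), ι (m.comb cs L) = lc cs (L.map ι)
  | [], _ => by simp [Mdl.comb, lc, l.zero]
  | _ :: _, [] => by simp [Mdl.comb, lc, l.zero]
  | 0 :: ks, a :: as => by simpa [Mdl.comb, lc] using comb ks as
  | (k + 1) :: ks, a :: as => by
    rw [Mdl.comb, l.add, l.nsm, comb ks as]; rfl

theorem rel_comb {g : A} {L R : List m.M} (h : Rel m ι g L R) (cs : List ℕ) :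
    g • ι (m.comb cs L) = ι (m.comb cs R) := by rw [l.comb, l.comb, smul_lc, h]

theorem rel_app {g : A} {τ : List m.M} (h : Rel m ι g m.bas τ) (v : m.M) :
    g • ι v = ι (m.app τ v) := by rw [Mdl.app, l.comb, l.span v, smul_lc, h]

theorem rel_mul {g g' : A} {τ τ' : List m.M} (h : Rel m ι g m.bas τ) (h' : Rel m ι g' m.bas τ') :
    Rel m ι (g * g') m.bas (m.mul τ τ') := by
  have : (τ'.map ι).map (g • ·) = (m.mul τ τ').map ι := by
    simp only [Mdl.mul, List.map_map]
    exact List.map_congr_left fun v _ => l.rel_app h v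
  rw [Rel, ← this, ← h']
  simp only [List.map_map, Function.comp_def, mul_smul]

theorem rel_pw {g : A} {τ : List m.M} (h : Rel m ι g m.bas τ) :
    ∀ n, Rel m ι (g ^ n) m.bas (m.pw τ n)
  | 0 => by simp [Rel, Mdl.pw]
  | n + 1 => by rw [pow_succ']; exact l.rel_mul h (rel_pw h n)

theorem fix_of_rel {g : A} (h : Rel m ι g m.bas m.bas) (v : m.M) : g • ι v = ι v := by
  rw [l.span v, smul_lc, h]

theorem eqv (a b : m.M) : m.eqv a b = true ↔ a = b :=
  ⟨fun e => l.enc (Nat.eq_of_beq_eq_true e), fun e => by simp [Mdl.eqv, e]⟩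

theorem eql : ∀ L R : List m.M, m.eql L R = true ↔ L = R
  | [], [] => by simp [Mdl.eql]
  | [], _ :: _ => by simp [Mdl.eql]
  | _ :: _, [] => by simp [Mdl.eql]
  | a :: as, b :: bs => by simp [Mdl.eql, l.eqv, eql as bs]

theorem mem_ded {a : m.M} : ∀ L : List m.M, a ∈ L → a ∈ m.ded L
  | [], h => h
  | b :: bs, h => by
    rw [Mdl.ded]
    split_ifs with hb
    · rcases List.mem_cons.1 h with rfl | h
      · obtain ⟨c, h1, h2⟩ := List.any_eq_true.1 hb
        exact mem_ded bs ((l.eqv _ _).1 h2 ▸ h1)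
      · exact mem_ded bs h
    · exact List.mem_cons.2 ((List.mem_cons.1 h).imp_right (mem_ded bs))

theorem mask (u w : m.M) : (m.mask u).testBit (m.enc w) = true ↔ ∃ f ∈ m.F, f u = w := by
  rw [← List.mem_map, Mdl.mask, ← Mdl.orb]
  induction m.orb u with
  | nil => simp
  | cons a as ih =>
    rw [List.foldr_cons, Nat.testBit_or, Bool.or_eq_true, ih, Nat.one_shiftLeft,
      Nat.testBit_two_pow, decide_eq_true_eq, l.enc.eq_iff, List.mem_cons, or_comm, eq_comm]

theorem not_bad [Finite A] (hι : Function.Injective ι) {p : ℕ} (hp : p.Coprime (Nat.card A))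
    {g g' : A} {τ τ' : List m.M} (h : Rel m ι g m.bas τ) (h' : Rel m ι g' m.bas τ') :
    m.bad p τ τ' = false := by
  have h1 := l.rel_pw (l.rel_mul h h') 2
  rw [Mdl.bad, Bool.and_eq_false_imp, l.eql, Bool.not_eq_false', l.eql]
  intro e
  have h2 := l.rel_pw (l.rel_pw h1 p) p
  rw [e] at h2
  refine List.map_injective_iff.2 hι ?_
  rw [← h1, List.map_map]
  refine List.map_congr_left fun v _ => ?_
  have : ∀ a : A, a ^ p ∈ MulAction.stabilizer A (ι v) → a ∈ MulAction.stabilizer A (ι v) :=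
    fun a ha => mem_of_coprime ha (by rw [pow_card_eq_one']; exact one_mem _) hp
  exact this _ (this _ (l.fix_of_rel h2 v))

theorem sels [Finite A] (hι : Function.Injective ι) {p : ℕ} (hp : p.Coprime (Nat.card A)) :
    ∀ Ns : List (List (List m.M)), (∀ N ∈ Ns, ∃ τ ∈ N, ∃ g : A, Rel m ι g m.bas τ) →
      ∃ c ∈ m.sels p Ns, ∀ τ ∈ c, ∃ g : A, Rel m ι g m.bas τ
  | [], _ => ⟨[m.bas], by simp [Mdl.sels], by simpa using ⟨1, by simp [Rel]⟩⟩
  | N :: Ns, h => by
    obtain ⟨c, h1, h2⟩ := sels hι hp Ns fun N' hN => h N' (List.mem_cons_of_mem _ hN)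
    obtain ⟨τ, h3, g, h4⟩ := h N List.mem_cons_self
    refine ⟨τ :: c, List.mem_flatMap.2 ⟨c, h1, List.mem_map.2 ⟨τ, List.mem_filter.2 ⟨h3,
      List.all_eq_true.2 fun τ' h5 => ?_⟩, rfl⟩⟩, List.forall_mem_cons.2 ⟨⟨g, h4⟩, h2⟩⟩
    obtain ⟨g', h6⟩ := h2 τ' h5
    rw [l.not_bad hι hp h4 h6]; rfl

end Lin

/-- The model is realised inside the fixed space of `D`. -/
structure Real (m : Mdl) (E D : Subgroup A) (ι : m.M → V) : Prop where
  lin : Lin m ι
  inj : Function.Injective ι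
  ne : ∃ a, ι a ≠ 0
  le : D ≤ E
  fix : ∀ d ∈ D, ∀ a, d • ι a = ι a
  act : ∀ c ∈ E ⊓ centralizer (D : Set A), ∃ f ∈ m.F, ∀ a, c • ι a = ι (f a)
  real : ∀ f ∈ m.F, ∃ c ∈ E ⊓ centralizer (D : Set A), ∀ a, c • ι a = ι (f a)

namespace Real
variable {m : Mdl} {E D : Subgroup A} {ι : m.M → V} (r : Real m E D ι) {g : A}
  (hg : ∀ c ∈ E ⊓ centralizer (D : Set A), g * c * g⁻¹ ∈ E ⊓ centralizer (D : Set A))
include r hg

theorem orb {u u' : m.M} (h : g • ι u = ι u') {f : m.M → m.M} (hf : f ∈ m.F) :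
    ∃ f' ∈ m.F, g • ι (f u) = ι (f' u') := by
  obtain ⟨c, hc, e⟩ := r.real f hf
  obtain ⟨f', hf', e'⟩ := r.act _ (hg c hc)
  exact ⟨f', hf', by rw [← e', ← e, ← h, mul_smul, mul_smul, inv_smul_smul]⟩

theorem run : ∀ (is : List Ins) (L R : List m.M), m.lok is L = true → Rel m ι g L R →
    ∃ R' ∈ m.rrun is R, Rel m ι g (m.lrun is L) R'
  | [], L, R, _, h => ⟨R, by simp [Mdl.rrun], h⟩
  | i :: is, L, R, h1, h => by
    simp only [Mdl.lok, Bool.and_eq_true, Nat.blt_eq, List.all_eq_true] at h1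
    obtain ⟨⟨h1, h2⟩, h3⟩ := h1
    obtain ⟨f', hf', e⟩ := r.orb hg (r.lin.rel_comb h i.cu) (List.getElem_mem h1)
    have e' : m.nxt L i = m.F[i.k] (m.comb i.cu L) := by
      simp [Mdl.nxt, Mdl.orb, h1]
    rw [← e'] at e
    obtain ⟨R', h4, h5⟩ := run is (L ++ [m.nxt L i]) (R ++ [f' (m.comb i.cu R)]) h3 (by
      simp only [Rel, List.map_append] at h ⊢
      rw [h]; simp [e])
    refine ⟨R', List.mem_flatMap.2 ⟨_, r.lin.mem_ded _ ?_, h4⟩, h5⟩
    have h6 : f' (m.comb i.cu R) ∈ m.orb (m.comb i.cu R) := List.mem_map.2 ⟨f', hf', rfl⟩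
    generalize m.orb (m.comb i.cu R) = O at h6
    generalize i.cs = cs at h2
    induction cs generalizing O with
    | nil => exact h6
    | cons c cs ih =>
      refine ih _ (List.mem_filter.2 ⟨h6, ?_⟩) fun c' hc' => h2 c' (List.mem_cons_of_mem _ hc')
      obtain ⟨f₁, h7, h8⟩ := (r.lin.mask _ _).1 (h2 c List.mem_cons_self)
      obtain ⟨f₂, h9, h10⟩ := r.orb hg (r.lin.rel_comb h c.2) h7
      refine (r.lin.mask _ _).2 ⟨f₂, h9, r.inj ?_⟩
      rw [← h10, h8, r.lin.add, r.lin.add, smul_add, e, r.lin.rel_comb h]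

theorem res {x : m.M} {e : m.M × List Ins × List (List ℕ)} (h1 : m.lok e.2.1 [x, e.1] = true)
    (h2 : m.eql (e.2.2.map (m.comb · (m.lrun e.2.1 [x, e.1]))) m.bas = true)
    (hx : g • ι x = ι x) (hy : g • ι e.1 = ι e.1) (hn : ¬ ∀ a, g • ι a = ι a) :
    ∃ τ ∈ m.res x e, Rel m ι g m.bas τ := by
  obtain ⟨R, h3, h4⟩ := r.run hg _ _ [x, e.1] h1 (by simp [Rel, hx, hy])
  have h5 : Rel m ι g m.bas (e.2.2.map (m.comb · R)) := by
    rw [← (r.lin.eql _ _).1 h2]
    simp only [Rel, List.map_map]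
    exact List.map_congr_left fun c _ => r.lin.rel_comb h4 c
  refine ⟨_, List.mem_filter.2 ⟨List.mem_map.2 ⟨R, h3, rfl⟩, ?_⟩, h5⟩
  rw [Bool.not_eq_true', Bool.eq_false_iff, Ne, r.lin.eql]
  exact fun e' => hn (r.lin.fix_of_rel (e' ▸ h5))

end Real

namespace Str
variable {Z E : Subgroup A} (h : Str V Z E)
include h

theorem neg_of_sq {z : A} (hz : z ∈ Z) (h2 : z ^ 2 = 1) (h1 : z ≠ 1) (v : V) : z • v = -v :=
  eq_neg_of_add_eq_zero_left ((h.fpf z hz _ (by
    rw [smul_add, ← mul_smul, ← sq, h2, one_smul, add_comm])).resolve_left h1)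

theorem comm_or_anti (hE : ∀ a ∈ E, a ^ 2 ∈ Z) {a b : A} (ha : a ∈ E) (hb : b ∈ E) :
    a * b = b * a ∨ ∀ v : V, a • b • v = -(b • a • v) := by
  by_cases e : ⁅a, b⁆ = 1
  · exact Or.inl (commutatorElement_eq_one_iff_mul_comm.1 e)
  · exact Or.inr fun v => by
      rw [← mul_smul, PG.mul_eq_commutator_mul_mul, mul_smul,
        h.neg_of_sq (h.comm a ha b hb) (h.comm_sq hb ha (hE b hb)) e, mul_smul]

theorem comm_of_smul {a b : A} (ha : a ∈ E) (hb : b ∈ E) {v : V} (hv : v ≠ 0)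
    (e : a • b • v = b • a • v) : a * b = b * a :=
  h.comm_of_fix (x := b • a • v) (fun e' => hv ((smul_eq_zero_iff_eq a).1
    ((smul_eq_zero_iff_eq b).1 e'))) ha hb (by
    rw [← mul_smul b, ← mul_smul, ← PG.mul_eq_commutator_mul_mul, mul_smul, e, mul_smul])

variable [Finite A] [Finite V] [Nontrivial V]

theorem real_dbl (hE : ∀ a ∈ E, a ^ 2 ∈ Z) (h2 : ∀ v : V, v + v = 0 → v = 0) {m : Mdl}
    {D : Subgroup A} {ι : m.M → V} (r : Real m E D ι) (hD : D ≠ ⊥) : ∃ b ∈ E,
    Real m.dbl E (D ⊓ centralizer {b}) (fun a => ι a.1 + b • ι a.2) ∧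
    ∀ c ∈ E ⊓ centralizer ((D ⊓ centralizer {b} : Subgroup A) : Set A),
      c ∈ E ⊓ centralizer (D : Set A) ∨ b⁻¹ * c ∈ E ⊓ centralizer (D : Set A) := by
  obtain ⟨v, hv⟩ := r.ne
  obtain ⟨⟨a, ha⟩, ha1⟩ := ne_bot_iff_exists_ne_one.1 hD
  have haE := r.le ha
  have hDD : ∀ d ∈ D, d ∈ E ⊓ centralizer (D : Set A) := fun d hd => ⟨r.le hd, fun d' hd' =>
    h.comm_of_smul (r.le hd') (r.le hd) hv (by simp only [r.fix _ hd, r.fix _ hd'])⟩
  obtain ⟨b, hb, hb2, hab⟩ : ∃ b ∈ E, b * b = 1 ∧ a * b ≠ b * a := by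
    obtain ⟨b₀, hb₀, h1⟩ : ∃ b₀ ∈ E, b₀ * a ≠ a * b₀ := by
      by_contra hc
      push Not at hc
      exact ha1 (Subtype.ext (h.eq_one hv (h.selfc a hc) (r.fix a ha v)))
    obtain ⟨z, hz, e⟩ := h.exists_four (u := b₀) ⟨hb₀, hE _ hb₀⟩
    have h3 := mul_mem hb₀ (h.le hz)
    have h4 : a * (b₀ * z) ≠ b₀ * z * a := fun e' => h1 (by
      rw [mul_assoc, h.cen z hz a haE, ← mul_assoc, ← mul_assoc] at e'
      exact (mul_right_cancel e').symm)
    generalize b₀ * z = b at e h3 h4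
    by_cases h5 : b ^ 2 = 1
    · exact ⟨b, h3, by rwa [← sq], h4⟩
    refine ⟨a * b, mul_mem haE h3, ?_, fun e' => h4 (by
      rw [mul_assoc] at e'; exact mul_left_cancel e')⟩
    rw [← sq, h.mul_sq haE h3, h.eq_one hv (hE a haE) (pow_smul_eq (r.fix a ha v) 2), one_mul,
      h.eq_of_sq (h.comm _ h3 _ haE) (hE b h3) (h.comm_sq haE h3 (hE a haE))
        (by rw [← pow_mul, e]) (fun e' => h4 (commutatorElement_eq_one_iff_mul_comm.1 e').symm) h5,
      ← pow_add, e]
  have hab' := (h.comm_or_anti hE haE hb).resolve_left hab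
  have hbb : ∀ v : V, b • b • v = v := fun v => by rw [← mul_smul, hb2, one_smul]
  have key : ∀ c ∈ E ⊓ centralizer ((D ⊓ centralizer {b} : Subgroup A) : Set A),
      a * c = c * a → c ∈ E ⊓ centralizer (D : Set A) := fun c hc e => ⟨hc.1, fun d hd => by
    rcases h.comm_or_anti hE (r.le hd) hb with e' | e'
    · exact hc.2 d ⟨hd, mem_centralizer_singleton_iff.2 e'⟩
    · have := hc.2 (a * d) ⟨mul_mem ha hd, mem_centralizer_singleton_iff.2
        (h.comm_of_smul (mul_mem haE (r.le hd)) hb hv (by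
          rw [mul_smul, mul_smul, e', smul_neg, hab', neg_neg]))⟩
      rw [mul_assoc, ← mul_assoc c, ← e, mul_assoc] at this
      exact mul_left_cancel this⟩
  have hbC : b ∈ E ⊓ centralizer ((D ⊓ centralizer {b} : Subgroup A) : Set A) :=
    ⟨hb, fun d hd => mem_centralizer_singleton_iff.1 hd.2⟩
  have key' : ∀ c ∈ E ⊓ centralizer ((D ⊓ centralizer {b} : Subgroup A) : Set A),
      c ∈ E ⊓ centralizer (D : Set A) ∨ b⁻¹ * c ∈ E ⊓ centralizer (D : Set A) := fun c hc => by
    rcases h.comm_or_anti hE haE hc.1 with e | e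
    · exact Or.inl (key c hc e)
    · refine Or.inr (key _ (mul_mem (inv_mem hbC) hc) ?_)
      rw [inv_eq_of_mul_eq_one_right hb2]
      exact h.comm_of_smul haE (mul_mem hb hc.1) hv (by
        rw [mul_smul, mul_smul, hab', e, smul_neg, neg_neg])
  have hle : E ⊓ centralizer (D : Set A) ≤
      E ⊓ centralizer ((D ⊓ centralizer {b} : Subgroup A) : Set A) :=
    fun c hc => ⟨hc.1, fun d hd => hc.2 d hd.1⟩
  have hF : ∀ f ∈ m.F, ∀ c ∈ E, (∀ w, c • ι w = ι (f w)) →
      (∀ w : m.M × m.M, c • (ι w.1 + b • ι w.2) = ι (f w.1) + b • ι (f w.2)) ∨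
      ∀ w : m.M × m.M, c • (ι w.1 + b • ι w.2) = ι (f w.1) + b • ι (m.neg (f w.2)) := by
    intro f _ c hc e
    refine (h.comm_or_anti hE hc hb).imp (fun e' w => ?_) fun e' w => ?_
    · rw [smul_add, ← mul_smul, e', mul_smul, e, e]
    · rw [smul_add, e', e, e, r.lin.neg, smul_neg]
  refine ⟨b, hb, ⟨r.lin.dbl (r.lin.smul b), fun w w' e => ?_, ⟨(v, m.o), by
    simpa [r.lin.zero] using hv⟩, inf_le_left.trans r.le, fun d hd w => ?_, fun c hc => ?_,
    fun f hf => ?_⟩, key'⟩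
  · have e' := congrArg (a • ·) e
    simp only [smul_add, hab', r.fix a ha] at e e'
    have h3 : ι w.1 = ι w'.1 := sub_eq_zero.1 (h2 _ (by
      linear_combination (norm := abel) e + e'))
    rw [h3, add_left_cancel_iff, smul_left_cancel_iff] at e
    exact Prod.ext (r.inj h3) (r.inj e)
  · rw [smul_add, ← mul_smul, mem_centralizer_singleton_iff.1 hd.2, mul_smul, r.fix d hd.1,
      r.fix d hd.1]
  · rcases key' c hc with h3 | h3
    · obtain ⟨f, hf, e⟩ := r.act c h3
      rcases hF f hf c hc.1 e with e' | e'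
      · exact ⟨_, List.mem_flatMap.2 ⟨f, hf, .head _⟩, e'⟩
      · exact ⟨_, List.mem_flatMap.2 ⟨f, hf, .tail _ (.head _)⟩, e'⟩
    · obtain ⟨f, hf, e⟩ := r.act _ h3
      rcases hF f hf _ h3.1 e with e' | e'
      · refine ⟨_, List.mem_flatMap.2 ⟨f, hf, .tail _ (.tail _ (.head _))⟩, fun w => ?_⟩
        rw [← mul_inv_cancel_left b c, mul_smul, e' w, smul_add, hbb, add_comm]
      · refine ⟨_, List.mem_flatMap.2 ⟨f, hf, .tail _ (.tail _ (.tail _ (.head _)))⟩, fun w => ?_⟩
        rw [← mul_inv_cancel_left b c, mul_smul, e' w, smul_add, hbb, add_comm]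
  · obtain ⟨f₀, hf₀, hf⟩ := List.mem_flatMap.1 hf
    obtain ⟨c, hc, e⟩ := r.real f₀ hf₀
    obtain ⟨c₁, k₁, c₂, k₂, e₁, e₂⟩ : ∃ c₁ ∈ E ⊓ centralizer (D : Set A),
        ∃ c₂ ∈ E ⊓ centralizer (D : Set A),
        (∀ w : m.M × m.M, c₁ • (ι w.1 + b • ι w.2) = ι (f₀ w.1) + b • ι (f₀ w.2)) ∧
        ∀ w : m.M × m.M, c₂ • (ι w.1 + b • ι w.2) = ι (f₀ w.1) + b • ι (m.neg (f₀ w.2)) := by
      have h3 : ∀ w : m.M × m.M, (a * c) • (ι w.1 + b • ι w.2) = a • c • (ι w.1 + b • ι w.2) :=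
        fun w => mul_smul _ _ _
      rcases hF f₀ hf₀ c hc.1 e with e' | e'
      · exact ⟨c, hc, _, mul_mem (hDD a ha) hc, e', fun w => by
          rw [h3, e', smul_add, hab', r.fix a ha, r.fix a ha, r.lin.neg, smul_neg]⟩
      · exact ⟨_, mul_mem (hDD a ha) hc, c, hc, fun w => by
          rw [h3, e', smul_add, hab', r.fix a ha, r.fix a ha, r.lin.neg, smul_neg, neg_neg], e'⟩
    rcases hf with _ | ⟨_, _ | ⟨_, _ | ⟨_, _ | ⟨_, _ | _⟩⟩⟩⟩
    · exact ⟨c₁, hle k₁, e₁⟩
    · exact ⟨c₂, hle k₂, e₂⟩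
    · exact ⟨b * c₁, mul_mem hbC (hle k₁), fun w => by
        rw [mul_smul, e₁ w, smul_add, hbb, add_comm]⟩
    · exact ⟨b * c₂, mul_mem hbC (hle k₂), fun w => by
        rw [mul_smul, e₂ w, smul_add, hbb, add_comm]⟩

omit [Finite V] [Nontrivial V] in
theorem base_of_real {m : Mdl} {D : Subgroup A} {ι : m.M → V} (r : Real m E D ι) {p : ℕ}
    (hp : p.Coprime (Nat.card A)) {x : m.M} (hx : ι x ≠ 0)
    {fam : List (m.M × List Ins × List (List ℕ))} (h1 : m.chk p x fam = true) {w : Fin 4 → m.M}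
    (h2 : m.reg x w = true ∨ (D = ⊥ ∧
      m.F.all fun f => !m.eqv (f x) x || m.eql (m.bas.map f) m.bas)) :
    ∃ y : V, ∀ g : A, g • ι x = ι x → g • y = y → g = 1 := by
  classical
  have hE := h.En
  have hreg : ∀ f ∈ m.F, f x = x → m.bas.map f = m.bas := by
    intro f hf e
    have : (!m.eqv (f x) x || m.eql (m.bas.map f) m.bas) = true := h2.elim
      (fun h2 => (Bool.and_eq_true_iff.1 (List.all_eq_true.1 h2 f hf)).1)
      fun h2 => List.all_eq_true.1 h2.2 f hf
    rw [(r.lin.eqv _ _).2 e] at this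
    exact (r.lin.eql _ _).1 (by simpa using this)
  have hFx : ∀ a, Fx E (ι x) (ι a) := fun a d hd e => by
    obtain ⟨f, hf, e'⟩ := r.act d ⟨hd, fun d' hd' => h.comm_of_smul (r.le hd') hd hx (by
      rw [e, r.fix d' hd', e])⟩
    refine r.lin.fix_of_rel ?_ a
    conv_rhs => rw [← hreg f hf (r.inj ((e' x).symm.trans e))]
    simp only [Rel, List.map_map]
    exact List.map_congr_left fun v _ => e' v
  have hC : cstab E (ι x) = E ⊓ centralizer (D : Set A) := by
    refine le_antisymm (fun c hc => ⟨hc.1, fun d hd => hc.2 d ⟨r.le hd, r.fix d hd x⟩⟩)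
      fun c hc => mem_cstab.2 ⟨hc.1, fun d hd e => ?_⟩
    obtain ⟨f, -, e'⟩ := r.act c hc
    exact h.comm_of_smul hd hc.1 hx (by rw [e, e', hFx _ d hd e])
  obtain ⟨S, _, _, π, q, -⟩ := h.exists_pos (ι x)
  obtain ⟨t, ht0, ht⟩ := q.exists_sec
  obtain ⟨c, hc, -⟩ := exists_col_four S
  by_contra hcon
  push Not at hcon
  rw [Mdl.chk, Bool.and_eq_true, List.all_eq_true, List.isEmpty_iff] at h1
  obtain ⟨s, hs, -⟩ := r.lin.sels r.inj hp (fam.map (m.res x)) fun N hN => by
    obtain ⟨e, he, rfl⟩ := List.mem_map.1 hN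
    have h3 := h1.1 e he
    rw [Bool.and_eq_true] at h3
    let w' : S → V := fun s => ι (if s = 0 then e.1 else w (c s))
    obtain ⟨g, hg, hy, hg1⟩ := hcon (∑ s, t s • w' s)
    obtain ⟨φ, hφ, hφc⟩ := q.conj g hg
    have e₁ := h.pos_smul hx q t ht w' (fun s => hFx _) hg hφ hφc hy
    obtain ⟨τ, h4, h5⟩ := r.res (g := g) (fun c hc => by
      rw [← hC] at hc ⊢; exact conj_mem_cstab hg hc) h3.1 h3.2 hg
      (by simpa [w', ht0] using e₁ 0) fun hn => hg1 (by
        have key : ∀ s ≠ 0, c (φ s) = c s ∧ ((t (φ s))⁻¹ * (g * t s * g⁻¹)) • ι x = ι x := by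
          intro s hs
          rcases h2 with h2 | h2
          swap
          · exact absurd ((ht s).2.symm.trans ((q.ker _ (ht s).1).2 (by
              rw [hC, h2.1]; exact ⟨(ht s).1, fun d hd => by simp [mem_bot.1 hd]⟩))) hs
          have hs' : φ s ≠ 0 := fun e => hs (hφ (e.trans (map_zero φ).symm))
          obtain ⟨f, hf, e'⟩ := r.act _ (hC ▸ q.mem (ht (φ s)).1 (hE.conj_mem _ (ht s).1 g)
            (by rw [hφc _ (ht s).1, (ht s).2, (ht _).2]))
          have a₁ := e₁ s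
          simp only [w', if_neg hs, if_neg hs', hn, e'] at a₁
          have := List.all_eq_true.1 h2 f hf
          rw [Bool.and_eq_true, decide_eq_true_eq] at this
          have := this.2 _ _ ((r.lin.eqv _ _).2 (r.inj a₁))
          exact ⟨this.1.symm, by rw [e', (r.lin.eqv _ _).1 this.2]⟩
        have hid := hc φ hφ fun s hs => (key s hs).1
        refine h.core hx q t ht0 ht ∅ (by simp) (by simp [Fintype.card_pos]) hg (fun b hb => ?_)
          fun s _ hs => by simpa only [hid] using (key s hs).2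
        obtain ⟨f, -, e'⟩ := r.act b (hC ▸ hb)
        rw [e', hn])
    exact ⟨τ, h4, g, h5⟩
  rw [h1.2] at hs
  exact List.not_mem_nil hs

end Str

end CL.SolvLin
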