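import Mathlib
import Cfsg.Agent.FGS.Base7

/-!
# Bases of solvable groups VIII: the certificates
-/

namespace CL.SolvLin

/-- Pairs. -/
abbrev Sq (X : Type) : Type := X × X

/-- Two by two matrices. -/
def mat {p : ℕ} (a b c d : Fin (p + 1)) (v : Sq (Fin (p + 1))) : Sq (Fin (p + 1)) :=
  (Fin.add (Fin.mul a v.1) (Fin.mul b v.2), Fin.add (Fin.mul c v.1) (Fin.mul d v.2))

/-- Evaluation of words in two maps. -/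
def ev {M : Type} (f₁ f₂ : M → M) (w : List Bool) (a : M) : M :=
  w.foldr (fun t v => bif t then f₂ v else f₁ v) a

/-- Equality test for maps. -/
def Mdl.fe (m : Mdl) (al : List m.M) (f f' : m.M → m.M) : Bool := al.all fun a => m.eqv (f a) (f' a)

/-- The operators are the group generated by `f₁`, `f₂`, and it is irreducible. -/
def Mdl.bchk (m : Mdl) (al : List m.M) (f₁ f₂ : m.M → m.M) (W : List (List Bool)) (a₀ : m.M) :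
    Bool :=
  (m.F.all fun f => W.any fun w => m.fe al f (ev f₁ f₂ w)) &&
  (m.F.all fun f => m.F.all fun f' => m.F.any (m.fe al (f ∘ f'))) &&
  m.F.any (m.fe al id) && m.F.any (m.fe al f₁) && m.F.any (m.fe al f₂) &&
  al.all fun a => al.all fun b => m.eqv a b || m.F.any fun f => (List.range 5).any fun k =>
    (List.range 5).any fun k' =>
      m.eqv (m.comb [k, k'] [m.add a (m.neg b), f (m.add a (m.neg b))]) a₀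

/-- All checks. -/
def Mdl.full (m : Mdl) (p : ℕ) (x : m.M) (fam : List (m.M × List Ins × List (List ℕ)))
    (w : Fin 4 → m.M) : Prop := m.chk p x fam = true ∧ m.reg x w = true ∧ m.eqv x m.o = false

/-- The model for `{±1}` over the field of order three. -/
def m3 : Mdl := mdl1 2 [id, Fin.sub 0]

/-- The model for `{±1}` over the field of order five. -/
def m5a : Mdl := mdl1 4 [id, Fin.sub 0]

/-- The model for all scalars of the field of order five. -/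
def m5b : Mdl := mdl1 4 [id, Fin.mul 2, Fin.mul 4, Fin.mul 3]

theorem b3 : m3.bchk (List.finRange 3) (Fin.mul 2) (Fin.mul 2) [[], [false]] (1 : Fin 3) = true := by
  decide +kernel

theorem b5a : m5a.bchk (List.finRange 5) (Fin.mul 4) (Fin.mul 4) [[], [false]] (1 : Fin 5) = true := by
  decide +kernel

theorem b5b : m5b.bchk (List.finRange 5) (Fin.mul 2) (Fin.mul 2)
    [[], [false], [false, false], [false, false, false]] (1 : Fin 5) = true := by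
  decide +kernel

/-- A two-dimensional model. -/
def m9a : Mdl := mdl2 2 [id, mat 0 2 1 0,
  mat 2 0 0 2,
  mat 0 1 2 0]

theorem b9a : m9a.bchk (List.finRange 3 ×ˢ List.finRange 3) (mat 0 2 1 0) (mat 0 2 1 0)
    [[], [false], [false, false], [false, false, false]]
    ((1, 0) : Sq (Fin 3)) = true := by
  decide +kernel

/-- A two-dimensional model. -/
def m9b : Mdl := mdl2 2 [id, mat 0 1 1 1,
  mat 1 1 1 2,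
  mat 1 2 2 0,
  mat 2 0 0 2,
  mat 0 2 2 2,
  mat 2 2 2 1,
  mat 2 1 1 0]

theorem b9b : m9b.bchk (List.finRange 3 ×ˢ List.finRange 3) (mat 0 1 1 1) (mat 0 1 1 1)
    [[], [false], [false, false], [false, false, false], [false, false, false, false], [false, false, false, false, false], [false, false, false, false, false, false], [false, false, false, false, false, false, false]]
    ((1, 0) : Sq (Fin 3)) = true := by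
  decide +kernel

/-- A two-dimensional model. -/
def m3q : Mdl := mdl2 2 [id, mat 0 2 1 0,
  mat 1 2 2 2,
  mat 2 0 0 2,
  mat 2 2 2 1,
  mat 1 1 1 2,
  mat 0 1 2 0,
  mat 2 1 1 1]

theorem b3q : m3q.bchk (List.finRange 3 ×ˢ List.finRange 3) (mat 0 2 1 0) (mat 1 2 2 2)
    [[], [false], [true], [false, false], [true, false], [false, true], [false, false, false], [true, false, false]]
    ((1, 0) : Sq (Fin 3)) = true := by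
  decide +kernel

/-- A two-dimensional model. -/
def m5q : Mdl := mdl2 4 [id, mat 2 0 0 3,
  mat 0 4 1 0,
  mat 4 0 0 4,
  mat 0 2 2 0,
  mat 0 3 3 0,
  mat 3 0 0 2,
  mat 0 1 4 0]

theorem b5q : m5q.bchk (List.finRange 5 ×ˢ List.finRange 5) (mat 2 0 0 3) (mat 0 4 1 0)
    [[], [false], [true], [false, false], [true, false], [false, true], [false, false, false], [true, false, false]]
    ((1, 0) : Sq (Fin 5)) = true := by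
  decide +kernel

/-- A two-dimensional model. -/
def m25 : Mdl := mdl2 4 [id, mat 0 2 1 0,
  mat 2 0 0 2,
  mat 0 4 2 0,
  mat 4 0 0 4,
  mat 0 3 4 0,
  mat 3 0 0 3,
  mat 0 1 3 0]

theorem b25 : m25.bchk (List.finRange 5 ×ˢ List.finRange 5) (mat 0 2 1 0) (mat 0 2 1 0)
    [[], [false], [false, false], [false, false, false], [false, false, false, false], [false, false, false, false, false], [false, false, false, false, false, false], [false, false, false, false, false, false, false]]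
    ((1, 0) : Sq (Fin 5)) = true := by
  decide +kernel

theorem c5a : ∃ x fam w, m5a.dbl.dbl.full 5 x fam w :=
  ⟨(((1, 1), (1, 3)) : Sq (Sq (Fin 5))),
   ([
    (((2, 1), (3, 0)),
      [⟨5, [2, 0], [([0, 2], [3, 1])]⟩,
       ⟨17, [2, 1, 1], [([4, 0, 0], [1, 1, 0])]⟩],
      [[2, 3, 2, 1], [4, 0, 1, 1], [4, 0, 0, 4], [2, 4, 4, 3]])] :
    List (Sq (Sq (Fin 5)) × List Ins × List (List ℕ))),
   (![ ((0, 1), (1, 1)), ((0, 1), (1, 2)), ((0, 1), (2, 1)), ((0, 1), (2, 2)) ] : Fin 4 → Sq (Sq (Fin 5))),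
   by decide +kernel, by decide +kernel, by decide +kernel⟩

theorem c5b : ∃ x fam w, m5b.dbl.dbl.full 5 x fam w :=
  ⟨(((0, 1), (1, 1)) : Sq (Sq (Fin 5))),
   ([
    (((3, 0), (4, 1)),
      [⟨8, [1, 1], [([1, 4], [1, 1]), ([0, 1], [1, 2])]⟩,
       ⟨8, [1, 2, 1], [([2, 2, 0], [1, 2, 3])]⟩],
      [[4, 3, 0, 3], [4, 2, 3, 4], [2, 3, 1, 0], [0, 0, 1, 1]])] :
    List (Sq (Sq (Fin 5)) × List Ins × List (List ℕ))),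
   (![ ((0, 1), (1, 1)), ((0, 1), (1, 2)), ((0, 1), (2, 1)), ((0, 1), (2, 2)) ] : Fin 4 → Sq (Sq (Fin 5))),
   by decide +kernel, by decide +kernel, by decide +kernel⟩

theorem c5q : ∃ x fam w, m5q.dbl.full 5 x fam w :=
  ⟨(((0, 1), (2, 3)) : Sq (Sq (Fin 5))),
   ([
    (((2, 0), (3, 0)),
      [⟨7, [2, 0], [([1, 0], [1, 3])]⟩,
       ⟨14, [1, 1, 0], [([0, 0, 2], [0, 2, 1])]⟩],
      [[1, 1, 2, 0], [0, 1, 4, 4], [1, 3, 2, 0], [3, 1, 4, 2]])] :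
    List (Sq (Sq (Fin 5)) × List Ins × List (List ℕ))),
   (![ ((0, 1), (1, 1)), ((0, 1), (1, 2)), ((0, 1), (1, 3)), ((0, 1), (1, 4)) ] : Fin 4 → Sq (Sq (Fin 5))),
   by decide +kernel, by decide +kernel, by decide +kernel⟩

theorem c25 : ∃ x fam w, m25.dbl.full 5 x fam w :=
  ⟨(((0, 1), (1, 2)) : Sq (Sq (Fin 5))),
   ([
    (((4, 3), (1, 2)),
      [⟨2, [2, 1], [([3, 4], [0, 1])]⟩,
       ⟨13, [0, 1, 0], [([2, 4, 1], [1, 3, 1])]⟩],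
      [[1, 2, 4, 3], [0, 4, 2, 4], [3, 0, 3, 3], [4, 3, 0, 4]])] :
    List (Sq (Sq (Fin 5)) × List Ins × List (List ℕ))),
   (![ ((0, 1), (1, 0)), ((0, 1), (1, 1)), ((0, 1), (1, 2)), ((0, 1), (1, 3)) ] : Fin 4 → Sq (Sq (Fin 5))),
   by decide +kernel, by decide +kernel, by decide +kernel⟩

theorem c9a : ∃ x fam w, m9a.dbl.dbl.full 3 x fam w :=
  ⟨((((0, 1), (0, 1)), ((0, 1), (2, 2))) : Sq (Sq (Sq (Fin 3)))),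
   ([
    ((((2, 1), (0, 1)), ((0, 2), (2, 0))),
      [⟨50, [0, 1], [([2, 0], [1, 1]), ([2, 2], [1, 0])]⟩,
       ⟨1, [2, 1, 1], [([0, 1, 1], [1, 1, 0]), ([2, 2, 2], [1, 2, 0])]⟩,
       ⟨11, [1, 2, 0, 0], [([1, 0, 2, 1], [1, 0, 0, 1])]⟩,
       ⟨14, [0, 1, 1, 0, 1], [([2, 0, 0, 1, 2], [0, 1, 1, 1, 2])]⟩,
       ⟨8, [0, 1, 0, 2, 2, 1], [([0, 2, 2, 0, 0, 1], [0, 1, 1, 2, 1, 0])]⟩,
       ⟨57, [0, 1, 0, 1, 1, 0, 1], [([0, 1, 0, 1, 0, 0, 1], [0, 1, 0, 1, 2, 1, 0])]⟩],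
      [[1, 1, 0, 0, 2, 2, 1, 1], [2, 2, 0, 0, 2, 0, 2, 0], [0, 2, 1, 1, 0, 0, 2, 1], [0, 1, 2, 2, 1, 1, 2, 2], [0, 2, 0, 2, 0, 2, 2, 1], [0, 1, 1, 1, 0, 0, 1, 0], [1, 0, 1, 1, 1, 2, 2, 1], [0, 1, 2, 2, 2, 2, 0, 1]])] :
    List (Sq (Sq (Sq (Fin 3))) × List Ins × List (List ℕ))),
   (![ (((0, 0), (0, 1)),
     ((0, 1), (0, 1))),
     (((0, 0), (0, 1)),
     ((0, 1), (1, 0))),
     (((0, 0), (0, 1)),
     ((0, 1), (1, 1))),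
     (((0, 0), (0, 1)),
     ((0, 1), (1, 2))) ] : Fin 4 → Sq (Sq (Sq (Fin 3)))),
   by decide +kernel, by decide +kernel, by decide +kernel⟩

theorem c9b : ∃ x fam w, m9b.dbl.dbl.full 3 x fam w :=
  ⟨((((0, 1), (0, 1)), ((1, 1), (2, 1))) : Sq (Sq (Sq (Fin 3)))),
   ([
    ((((0, 0), (2, 2)), ((1, 0), (2, 1))),
      [⟨5, [0, 1], [([1, 2], [1, 0])]⟩,
       ⟨69, [1, 1, 0], [([2, 0, 1], [0, 1, 2])]⟩,
       ⟨114, [1, 0, 0, 0], [([1, 0, 0, 2], [0, 1, 1, 0])]⟩,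
       ⟨50, [1, 0, 0, 1, 0], [([2, 0, 1, 0, 0], [1, 0, 1, 1, 1])]⟩,
       ⟨113, [0, 1, 1, 1, 0, 1], [([1, 2, 2, 0, 0, 2], [1, 0, 0, 0, 2, 0])]⟩,
       ⟨71, [0, 1, 1, 0, 0, 1, 0], [([1, 2, 2, 1, 2, 0, 1], [0, 1, 1, 0, 0, 0, 2])]⟩],
      [[1, 2, 1, 0, 0, 2, 2, 1], [2, 1, 2, 1, 0, 0, 0, 0], [2, 2, 0, 2, 1, 1, 2, 2], [1, 2, 0, 2, 1, 0, 0, 2], [0, 0, 1, 1, 2, 1, 2, 1], [1, 1, 1, 2, 0, 2, 1, 0], [1, 0, 0, 2, 1, 0, 0, 0], [1, 2, 2, 2, 1, 0, 0, 0]])] :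
    List (Sq (Sq (Sq (Fin 3))) × List Ins × List (List ℕ))),
   (![ (((0, 0), (0, 1)),
     ((0, 1), (0, 1))),
     (((0, 0), (0, 1)),
     ((0, 1), (1, 0))),
     (((0, 0), (0, 1)),
     ((0, 1), (1, 1))),
     (((0, 0), (0, 1)),
     ((0, 1), (1, 2))) ] : Fin 4 → Sq (Sq (Sq (Fin 3)))),
   by decide +kernel, by decide +kernel, by decide +kernel⟩

theorem c3q : ∃ x fam w, m3q.dbl.dbl.full 3 x fam w :=
  ⟨((((0, 0), (0, 1)), ((0, 1), (0, 1))) : Sq (Sq (Sq (Fin 3)))),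
   ([
    ((((1, 0), (2, 0)), ((1, 1), (0, 0))),
      [⟨92, [1, 2], [([1, 1], [1, 0])]⟩,
       ⟨103, [0, 0, 1], [([0, 2, 1], [2, 1, 1])]⟩,
       ⟨2, [1, 1, 0, 1], [([0, 1, 0, 2], [0, 1, 2, 0])]⟩,
       ⟨110, [0, 1, 2, 0, 0], [([2, 0, 0, 2, 0], [1, 0, 0, 2, 1])]⟩,
       ⟨53, [1, 0, 0, 1, 0, 1], [([2, 0, 2, 2, 0, 0], [1, 0, 1, 0, 0, 0])]⟩,
       ⟨127, [0, 1, 0, 0, 0, 2, 0], [([2, 2, 0, 0, 2, 0, 2], [0, 0, 0, 2, 1, 0, 1])]⟩],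
      [[1, 0, 0, 0, 1, 2, 1, 0], [0, 1, 2, 0, 2, 2, 0, 1], [0, 1, 1, 2, 0, 2, 1, 0], [2, 1, 0, 2, 2, 0, 1, 2], [1, 2, 2, 2, 0, 2, 0, 0], [1, 0, 2, 0, 2, 1, 0, 0], [1, 0, 0, 2, 2, 0, 0, 0], [1, 2, 1, 1, 2, 2, 2, 1]]),
     ((((1, 0), (2, 0)), ((2, 1), (2, 2))),
      [⟨57, [1, 0], [([0, 1], [1, 2])]⟩,
       ⟨6, [1, 0, 2], [([0, 2, 0], [1, 0, 1])]⟩,
       ⟨7, [0, 1, 1, 0], [([0, 1, 1, 1], [1, 1, 1, 2])]⟩,
       ⟨17, [0, 0, 0, 1, 1], [([1, 2, 2, 0, 2], [2, 1, 1, 0, 0])]⟩,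
       ⟨85, [1, 0, 1, 2, 0, 2], [([0, 0, 1, 1, 1, 2], [0, 1, 0, 0, 0, 2])]⟩,
       ⟨21, [0, 1, 0, 0, 1, 0, 0], [([1, 1, 2, 0, 1, 0, 0], [0, 2, 0, 1, 1, 0, 0])]⟩],
      [[1, 2, 2, 2, 0, 2, 2, 0], [1, 1, 0, 1, 0, 2, 1, 1], [2, 1, 1, 1, 1, 1, 0, 1], [0, 2, 2, 2, 0, 1, 2, 2], [0, 1, 0, 0, 2, 2, 0, 1], [2, 2, 2, 1, 0, 1, 2, 2], [2, 2, 1, 2, 0, 2, 2, 1], [2, 2, 2, 0, 0, 1, 2, 2]])] :
    List (Sq (Sq (Sq (Fin 3))) × List Ins × List (List ℕ))),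
   (![ (((0, 0), (0, 1)),
     ((0, 1), (0, 1))),
     (((0, 0), (0, 1)),
     ((0, 1), (1, 0))),
     (((0, 0), (0, 1)),
     ((0, 1), (1, 1))),
     (((0, 0), (0, 1)),
     ((0, 1), (1, 2))) ] : Fin 4 → Sq (Sq (Sq (Fin 3)))),
   by decide +kernel, by decide +kernel, by decide +kernel⟩

theorem c3 : ∃ x fam w, m3.dbl.dbl.dbl.full 3 x fam w :=
  ⟨((((0, 0), (0, 1)), ((0, 1), (1, 1))) : Sq (Sq (Sq (Fin 3)))),
   ([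
    ((((1, 0), (0, 0)), ((1, 0), (1, 0))),
      [⟨124, [1, 2], [([1, 2], [1, 1])]⟩,
       ⟨4, [0, 0, 1], [([0, 0, 2], [0, 1, 1])]⟩,
       ⟨33, [0, 2, 1, 1], [([0, 1, 0, 1], [0, 2, 1, 1])]⟩,
       ⟨65, [0, 1, 0, 0, 0], [([2, 2, 1, 0, 0], [0, 2, 1, 1, 1])]⟩,
       ⟨10, [0, 0, 1, 0, 0, 1], [([2, 2, 1, 0, 1, 0], [1, 0, 0, 0, 2, 0])]⟩,
       ⟨3, [0, 0, 1, 2, 1, 0, 0], [([2, 2, 0, 2, 2, 1, 2], [1, 0, 1, 0, 0, 0, 0])]⟩],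
      [[0, 2, 0, 0, 0, 1, 0, 0], [2, 1, 0, 2, 0, 1, 1, 0], [0, 0, 0, 0, 1, 0, 0, 1], [0, 2, 0, 2, 2, 0, 0, 0], [0, 1, 1, 1, 0, 2, 0, 0], [1, 0, 1, 2, 0, 0, 0, 0], [0, 1, 2, 2, 0, 0, 0, 0], [0, 0, 0, 0, 1, 0, 0, 0]]),
     ((((0, 1), (1, 0)), ((1, 0), (2, 0))),
      [⟨10, [1, 0], [([1, 0], [1, 1])]⟩,
       ⟨37, [0, 1, 0], [([0, 2, 2], [1, 1, 1]), ([1, 1, 2], [1, 0, 2])]⟩,
       ⟨96, [1, 0, 0, 1], [([1, 2, 2, 0], [0, 0, 1, 2])]⟩,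
       ⟨43, [0, 0, 0, 0, 1], [([2, 2, 1, 1, 0], [1, 1, 1, 0, 1])]⟩,
       ⟨9, [0, 0, 1, 1, 1, 1], [([2, 2, 1, 2, 0, 1], [0, 0, 1, 0, 0, 0])]⟩,
       ⟨11, [1, 0, 0, 0, 1, 0, 1], [([1, 2, 1, 1, 0, 1, 2], [1, 0, 1, 0, 0, 1, 1])]⟩],
      [[2, 0, 0, 2, 0, 2, 0, 0], [1, 0, 2, 0, 1, 1, 0, 0], [0, 2, 0, 0, 2, 1, 1, 1], [2, 1, 1, 2, 2, 1, 2, 1], [1, 2, 1, 2, 0, 2, 2, 2], [1, 2, 1, 2, 0, 2, 1, 2], [2, 0, 0, 2, 0, 1, 0, 0], [2, 0, 1, 0, 1, 2, 0, 0]]),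
     ((((0, 1), (2, 0)), ((1, 1), (2, 2))),
      [⟨48, [1, 2], [([1, 0], [1, 0])]⟩,
       ⟨24, [0, 1, 0], [([1, 0, 0], [1, 0, 0])]⟩,
       ⟨4, [0, 1, 1, 2], [([1, 0, 0, 2], [0, 1, 1, 1])]⟩,
       ⟨9, [0, 1, 0, 1, 2], [([2, 2, 1, 2, 1], [0, 0, 2, 1, 1])]⟩,
       ⟨115, [1, 0, 0, 0, 2, 0], [([2, 1, 2, 2, 1, 0], [1, 1, 1, 0, 1, 0])]⟩,
       ⟨107, [0, 0, 0, 1, 0, 0, 2], [([2, 2, 0, 1, 2, 2, 0], [0, 0, 0, 1, 0, 1, 1])]⟩],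
      [[1, 2, 0, 2, 1, 2, 1, 0], [2, 1, 1, 0, 0, 0, 2, 1], [1, 2, 0, 1, 0, 0, 1, 0], [2, 2, 1, 1, 2, 2, 2, 1], [1, 0, 0, 0, 2, 1, 2, 1], [0, 0, 2, 0, 1, 0, 2, 0], [0, 1, 1, 0, 2, 0, 1, 2], [2, 0, 2, 2, 1, 1, 1, 0]]),
     ((((0, 1), (1, 0)), ((1, 1), (2, 2))),
      [⟨105, [1, 0], [([1, 0], [0, 1])]⟩,
       ⟨70, [1, 1, 1], [([0, 0, 1], [0, 0, 1])]⟩,
       ⟨22, [2, 1, 0, 1], [([1, 0, 2, 0], [0, 1, 1, 1])]⟩,
       ⟨126, [0, 0, 1, 0, 0], [([0, 1, 2, 2, 1], [1, 0, 1, 0, 1])]⟩,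
       ⟨1, [1, 0, 0, 0, 0, 1], [([2, 1, 1, 2, 1, 2], [0, 0, 0, 1, 0, 2])]⟩,
       ⟨3, [0, 0, 0, 1, 0, 1, 0], [([1, 1, 2, 1, 2, 0, 0], [1, 0, 0, 1, 0, 1, 1])]⟩],
      [[1, 2, 1, 1, 0, 0, 2, 2], [1, 1, 2, 1, 1, 1, 0, 1], [1, 2, 1, 2, 2, 1, 2, 2], [0, 2, 0, 2, 1, 2, 0, 1], [1, 0, 2, 2, 2, 0, 0, 1], [2, 1, 2, 1, 0, 1, 2, 2], [1, 1, 1, 1, 1, 2, 0, 2], [1, 2, 0, 2, 1, 1, 1, 1]])] :
    List (Sq (Sq (Sq (Fin 3))) × List Ins × List (List ℕ))),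
   (![ (((0, 0), (0, 1)),
     ((0, 1), (1, 1))),
     (((0, 0), (0, 1)),
     ((1, 0), (1, 1))),
     (((0, 0), (0, 1)),
     ((1, 1), (0, 1))),
     (((0, 0), (0, 1)),
     ((1, 1), (1, 0))) ] : Fin 4 → Sq (Sq (Sq (Fin 3)))),
   by decide +kernel, by decide +kernel, by decide +kernel⟩

theorem c3b : ∃ x fam, m3.dbl.dbl.chk 3 x fam = true ∧ m3.dbl.dbl.eqv x m3.dbl.dbl.o = false ∧
    (m3.dbl.dbl.F.all fun f => !m3.dbl.dbl.eqv (f x) x ||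
      m3.dbl.dbl.eql (m3.dbl.dbl.bas.map f) m3.dbl.dbl.bas) = true :=
  ⟨(((0, 1), (1, 1)) : Sq (Sq (Fin 3))),
   ([
    (((1, 0), (0, 2)),
      [⟨4, [1, 2], [([0, 1], [0, 1])]⟩,
       ⟨4, [1, 0, 2], [([0, 0, 1], [1, 0, 2])]⟩],
      [[2, 0, 1, 2], [1, 0, 2, 2], [1, 1, 0, 2], [2, 2, 1, 2]]),
     (((1, 0), (2, 2)),
      [⟨7, [1, 2], [([1, 2], [1, 1])]⟩,
       ⟨4, [0, 1, 1], [([1, 2, 2], [1, 1, 0])]⟩],
      [[1, 0, 1, 0], [0, 1, 2, 0], [1, 2, 0, 2], [0, 0, 1, 1]]),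
     (((0, 0), (1, 0)),
      [⟨8, [1, 2], [([0, 1], [1, 2])]⟩,
       ⟨11, [0, 0, 1], [([0, 0, 1], [1, 0, 1])]⟩],
      [[0, 2, 1, 0], [2, 1, 0, 1], [0, 1, 0, 0], [2, 1, 0, 2]])] :
    List (Sq (Sq (Fin 3)) × List Ins × List (List ℕ))),
   by decide +kernel, by decide +kernel, by decide +kernel⟩

end CL.SolvLin
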