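import Mathlib
import Cfsg.Agent.FGS.SolvLin1
import Cfsg.Agent.SOLV.CoprimeAut
import Cfsg.Agent.SOLV.PiSep

/-!
# Bases in coprime actions: reduction to modules
-/

open Subgroup Cfsg
open scoped Pointwise

namespace CL.SolvLin

universe u v

/-- The module theorem: solvable groups have bases indexed by `ι` on coprime modules. -/
def ModBase (ι : Type) : Prop := ∀ (A : Type u) (V : Type v) [Group A] [Finite A]
  [Group.IsSolvable A] [AddCommGroup V] [Finite V] [DistribMulAction A V],
  (Nat.card A).Coprime (Nat.card V) → CR A V → HasBase A V ι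

section marks
variable {A : Type*} [Group A]

theorem card_fix_eq_sum [Fintype (Subgroup A)] [DecidableRel ((· ≤ ·) : Subgroup A → _ → _)]
    (X : Type*) [Finite X] [MulAction A X] (B : Subgroup A) :
    Nat.card {x : X // ∀ b ∈ B, b • x = x} = ∑ C ∈ Finset.univ.filter (B ≤ ·),
      Nat.card {x : X // MulAction.stabilizer A x = C} := by
  classical
  have := Fintype.ofFinite X
  simp only [Nat.card_eq_fintype_card, Fintype.card_subtype]
  rw [Finset.card_eq_sum_card_fiberwise (f := fun x => MulAction.stabilizer A x)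
    (t := Finset.univ.filter (B ≤ ·)) fun x hx => by
      simp only [Finset.coe_filter, Finset.mem_univ, true_and, Set.mem_ofPred_eq] at hx ⊢
      exact hx]
  refine Finset.sum_congr rfl fun C hC => congrArg _ (Finset.ext fun x => ?_)
  simp only [Finset.mem_filter, Finset.mem_univ, true_and] at hC ⊢
  exact ⟨fun h => h.2, fun h => ⟨fun b hb => (h ▸ hC hb : b ∈ MulAction.stabilizer A x), h⟩⟩

/-- Equal marks give equal stabilisers. -/
theorem exists_stab_eq [Finite A] {X Y : Type*} [Finite X] [Finite Y] [MulAction A X]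
    [MulAction A Y] (h : ∀ B : Subgroup A, Nat.card {x : X // ∀ b ∈ B, b • x = x} =
      Nat.card {y : Y // ∀ b ∈ B, b • y = y}) (y : Y) :
    ∃ x : X, MulAction.stabilizer A x = MulAction.stabilizer A y := by
  classical
  have := Fintype.ofFinite (Subgroup A)
  have key : ∀ B : Subgroup A, Nat.card {x : X // MulAction.stabilizer A x = B} =
      Nat.card {y : Y // MulAction.stabilizer A y = B} := by
    intro B
    induction B using WellFoundedGT.induction with
    | ind B ih =>
    have h1 := h B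
    have hB : B ∈ Finset.univ.filter (B ≤ ·) := by simp
    rw [card_fix_eq_sum, card_fix_eq_sum, ← Finset.add_sum_erase _ _ hB,
      ← Finset.add_sum_erase _ _ hB, Finset.sum_congr rfl fun C hC => ih C (by
        simp only [Finset.mem_erase, Finset.mem_filter, Finset.mem_univ, true_and] at hC
        exact lt_of_le_of_ne hC.2 hC.1.symm)] at h1
    exact Nat.add_right_cancel h1
  have : Nonempty {y' : Y // MulAction.stabilizer A y' = MulAction.stabilizer A y} := ⟨⟨y, rfl⟩⟩
  obtain ⟨⟨x, hx⟩⟩ := (Nat.card_pos_iff.1 (key _ ▸ Nat.card_pos :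
    0 < Nat.card {x : X // MulAction.stabilizer A x = MulAction.stabilizer A y})).1
  exact ⟨x, hx⟩

theorem base_of_marks [Finite A] {X Y ι : Type*} [Finite X] [Finite Y] [MulAction A X]
    [MulAction A Y] (h : ∀ B : Subgroup A, Nat.card {x : X // ∀ b ∈ B, b • x = x} =
      Nat.card {y : Y // ∀ b ∈ B, b • y = y}) (y : ι → Y)
    (hy : ∀ a : A, (∀ i, a • y i = y i) → ∀ z : Y, a • z = z) :
    ∃ x : ι → X, ∀ a : A, (∀ i, a • x i = x i) → ∀ z : X, a • z = z := by
  choose f hf using exists_stab_eq h
  refine ⟨fun i => f (y i), fun a ha z => ?_⟩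
  have h1 := hy a fun i => (hf (y i) ▸ ha i : a ∈ MulAction.stabilizer A (y i))
  have h2 : ∀ b ∈ zpowers a, ∀ z : Y, b • z = z := fun b hb z =>
    (zpowers_le.2 (h1 z) : zpowers a ≤ MulAction.stabilizer A z) hb
  have h3 := h (zpowers a)
  rw [Nat.card_congr (Equiv.subtypeUnivEquiv fun z b hb => h2 b hb z),
    ← Nat.card_congr (Equiv.subtypeUnivEquiv (p := fun z : Y => ∀ b ∈ (⊥ : Subgroup A), b • z = z)
      fun z b hb => by rw [mem_bot.1 hb, one_smul]), ← h,
    Nat.card_congr (Equiv.subtypeUnivEquiv (p := fun z : X => ∀ b ∈ (⊥ : Subgroup A), b • z = z)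
      fun z b hb => by rw [mem_bot.1 hb, one_smul])] at h3
  by_contra hz
  exact (Finite.card_subtype_lt (x := z) fun e => hz (e a (mem_zpowers a))).ne h3

end marks

section act
variable {A K : Type*} [Group A] [Group K] [MulDistribMulAction A K]

/-- The action on an invariant subgroup. -/
@[reducible] def subAct (N : Subgroup K) (h : ∀ a : A, ∀ x ∈ N, a • x ∈ N) :
    MulDistribMulAction A N where
  smul a x := ⟨a • x.1, h a _ x.2⟩
  one_smul x := Subtype.ext (one_smul A x.1)
  mul_smul a b x := Subtype.ext (mul_smul a b x.1)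
  smul_mul a x y := Subtype.ext (smul_mul' a x.1 y.1)
  smul_one a := Subtype.ext (smul_one a)

/-- The action on the quotient by an invariant normal subgroup. -/
@[reducible] def quotAct (N : Subgroup K) [N.Normal] (h : ∀ a : A, ∀ x ∈ N, a • x ∈ N) :
    MulDistribMulAction A (K ⧸ N) where
  smul a := QuotientGroup.map N N (MulDistribMulAction.toMonoidHom K a) fun x hx => h a x hx
  one_smul q := QuotientGroup.induction_on q fun x => congrArg QuotientGroup.mk (one_smul A x)
  mul_smul a b q := QuotientGroup.induction_on q fun x =>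
    congrArg QuotientGroup.mk (mul_smul a b x)
  smul_mul a := map_mul (QuotientGroup.map N N (MulDistribMulAction.toMonoidHom K a) _)
  smul_one a := map_one (QuotientGroup.map N N (MulDistribMulAction.toMonoidHom K a) _)

theorem card_sylow_inf_actFix [Finite A] [Finite K] [Group.IsSolvable A]
    (hcop : (Nat.card A).Coprime (Nat.card K)) {p : ℕ} [Fact p.Prime] (P : Sylow p K)
    (hP : ∀ a : A, a • P = P) (B : Subgroup A) :
    Nat.card (P ⊓ actFix K B : Subgroup K) = p ^ (Nat.card (actFix K B)).factorization p := by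
  obtain ⟨Q⟩ : Nonempty (Sylow p (actFix K B)) := inferInstance
  have hc : (Nat.card B).Coprime (Nat.card K) := hcop.coprime_dvd_left (card_subgroup_dvd_card B)
  obtain ⟨P', h1, h2⟩ := act_exists_invariant_sylow_ge (A := B) hc (Or.inl inferInstance) p
    ((Q : Subgroup (actFix K B)).map (actFix K B).subtype) (Q.isPGroup'.map _) (by
      rintro b _ ⟨u, hu, rfl⟩
      exact ⟨u, hu, (u.2 b b.2).symm⟩)
  obtain ⟨c, h3, h4⟩ := act_invariant_sylow_conj (A := B) hc (Or.inl inferInstance) p P' P h2
    fun b => hP b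
  have hcB : c ∈ actFix K B := fun b hb => h3 ⟨b, hb⟩
  refine Nat.dvd_antisymm ?_ ?_
  · obtain ⟨k, hk⟩ := (P.isPGroup'.to_le (inf_le_left (b := actFix K B))).exists_card_eq
    rw [hk]
    exact pow_dvd_pow p ((Nat.Prime.pow_dvd_iff_le_factorization Fact.out Nat.card_pos.ne').1
      (hk ▸ card_dvd_of_le inf_le_right))
  · rw [← Q.card_eq_multiplicity, ← card_map_of_injective (actFix K B).subtype_injective,
      ← card_map_of_injective (MulAut.conj c).injective (f := (MulAut.conj c).toMonoidHom)]
    refine card_dvd_of_le ?_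
    rintro _ ⟨x, hx, rfl⟩
    refine ⟨?_, (actFix K B).mul_mem ((actFix K B).mul_mem hcB (map_subtype_le _ hx))
      ((actFix K B).inv_mem hcB)⟩
    rw [← h4]
    exact smul_mem_pointwise_smul _ (MulAut.conj c) _ (h1 hx)

end act

theorem ModBase.base {ι : Type} (hM : ModBase.{u, v} ι) {A : Type u} [Group A] [Finite A]
    [Group.IsSolvable A] (n : ℕ) : ∀ (K : Type v) [Group K] [Finite K] [MulDistribMulAction A K],
    Nat.card K = n → (Nat.card A).Coprime (Nat.card K) →
    ∃ x : ι → K, ∀ a : A, (∀ i, a • x i = x i) → ∀ y : K, a • y = y := by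
  induction n using Nat.strong_induction_on with
  | _ n ih =>
  intro K _ _ _ hn hcop
  subst hn
  have hsub : ∀ (N : Subgroup K) (h : ∀ a : A, ∀ x ∈ N, a • x ∈ N), N ≠ ⊤ →
      letI := subAct N h
      ∃ x : ι → N, ∀ a : A, (∀ i, a • x i = x i) → ∀ y : N, a • y = y := fun N h hN => by
    let := subAct N h
    exact ih _ (lt_of_le_of_ne N.card_le_card_group fun e => hN (eq_top_of_card_eq _ e)) N rfl
      (hcop.coprime_dvd_right (card_subgroup_dvd_card N))
  by_cases h1 : ∃ N : Subgroup K, N.Normal ∧ (∀ a : A, ∀ x ∈ N, a • x ∈ N) ∧ N ≠ ⊥ ∧ N ≠ ⊤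
  · obtain ⟨N, hN, h, h2, h3⟩ := h1
    obtain ⟨x, hx⟩ := hsub N h h3
    let := quotAct N h
    have hc : ∀ B : Subgroup A, (Nat.card B).Coprime (Nat.card N) := fun B =>
      (hcop.coprime_dvd_left (card_subgroup_dvd_card B)).coprime_dvd_right (card_subgroup_dvd_card N)
    obtain ⟨y, hy⟩ := ih _ (by
      rw [card_eq_card_quotient_mul_card_subgroup N]
      exact lt_mul_of_one_lt_right Nat.card_pos ((one_lt_card_iff_ne_bot N).2 h2)) (K ⧸ N) rfl
      (hcop.coprime_dvd_right (card_quotient_dvd_card N))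
    have h4 : ∀ q : K ⧸ N, ∃ k : K, (k : K ⧸ N) = q ∧ k ∈ actFix K (MulAction.stabilizer A q) := by
      intro q
      obtain ⟨k, rfl⟩ := QuotientGroup.mk_surjective q
      obtain ⟨s, hs, h5⟩ := act_coset_fixed (MulAction.stabilizer A (k : K ⧸ N)) N
        (fun b _ => h b) (hc _) (Or.inl inferInstance) k fun b hb => QuotientGroup.eq.1 (Eq.symm hb)
      exact ⟨k * s, QuotientGroup.mk_mul_of_mem k hs, h5⟩
    choose f hf1 hf2 using h4
    refine ⟨fun i => f (y i) * x i, fun a ha z => ?_⟩
    have h5 : ∀ i, a • y i = y i := fun i => by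
      have e : ((f (y i) * x i : K) : K ⧸ N) = y i := by
        rw [QuotientGroup.mk_mul_of_mem _ (x i).2, hf1]
      rw [← e]
      exact congrArg QuotientGroup.mk (ha i)
    have h6 := hx a fun i => Subtype.ext (by
      have e := ha i
      simp only [smul_mul', hf2 (y i) a (h5 i)] at e
      exact mul_left_cancel e)
    have h7 : ∀ b ∈ zpowers a, ∀ q : K ⧸ N, b • q = q := fun b hb q =>
      (zpowers_le.2 (hy a h5 q) : zpowers a ≤ MulAction.stabilizer A q) hb
    refine act_le_actFix_of_trivial_on_factors (zpowers a) ⊤ N (hc _) (fun m hm b hb => ?_)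
      ((closure_le _).2 ?_) (mem_top z) a (mem_zpowers a)
    · exact (zpowers_le.2 (congrArg Subtype.val (h6 ⟨m, hm⟩)) :
        zpowers a ≤ MulAction.stabilizer A m) hb
    · rintro _ ⟨b, hb, k, -, rfl⟩
      exact QuotientGroup.eq.1 (h7 b hb k).symm
  push Not at h1
  by_cases h2 : ∃ p : ℕ, p.Prime ∧ IsPGroup p K
  · obtain ⟨p, hp, hK⟩ := h2
    have := Fact.mk hp
    have hcomm : ∀ x y : K, x * y = y * x := by
      rcases subsingleton_or_nontrivial K with h | h
      · exact fun _ _ => Subsingleton.elim _ _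
      have h3 := h1 (center K) inferInstance (fun a x => smul_mem_of_characteristic _ a x)
        ((nontrivial_iff_ne_bot _).1 hK.center_nontrivial)
      exact fun x y => mem_center_iff.1 (h3 ▸ mem_top y) x
    let : CommGroup K := { (inferInstance : Group K) with mul_comm := hcomm }
    let : DistribMulAction A (Additive K) :=
      { smul a x := Additive.ofMul (a • x.toMul)
        one_smul x := one_smul A x.toMul
        mul_smul a b x := mul_smul a b x.toMul
        smul_zero a := smul_one (M := A) (N := K) a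
        smul_add a x y := smul_mul' a x.toMul y.toMul }
    refine hM A (Additive K) hcop (Irr.cr fun U hU => ?_)
    refine or_iff_not_imp_left.2 fun h3 => ?_
    exact AddSubgroup.toSubgroup'.injective (by
      rw [map_top]
      exact h1 (AddSubgroup.toSubgroup' U) inferInstance hU fun e => h3
        (AddSubgroup.toSubgroup'.injective (by rw [e, OrderIso.map_bot])))
  push Not at h2
  let I := {p // p ∈ (Nat.card K).primeFactors}
  have hI : ∀ p : I, Fact p.1.Prime := fun p => ⟨Nat.prime_of_mem_primeFactors p.2⟩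
  choose P hP using fun p : I => act_exists_invariant_sylow hcop (Or.inl inferInstance) p.1
  have hP' := fun p => sylow_smul_eq_iff_invariant.1 (hP p)
  let := fun p => subAct (P p : Subgroup K) (hP' p)
  choose y hy using fun p => hsub (P p) (hP' p) fun e => h2 p (hI p).out
    ((e ▸ (P p).isPGroup' : IsPGroup p (⊤ : Subgroup K)).of_equiv topEquiv)
  refine base_of_marks (Y := ∀ p : I, (P p : Subgroup K)) (fun B => ?_) (fun i p => y p i)
    fun a ha z => funext fun p => hy p a (fun i => congrFun (ha i) p) (z p)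
  have e : {y : ∀ p : I, (P p : Subgroup K) // ∀ b ∈ B, b • y = y} ≃
      ∀ p : I, (P p ⊓ actFix K B : Subgroup K) :=
    { toFun y p := ⟨y.1 p, (y.1 p).2, fun b hb => congrArg Subtype.val (congrFun (y.2 b hb) p)⟩
      invFun z := ⟨fun p => ⟨z p, (z p).2.1⟩, fun b hb => funext fun p =>
        Subtype.ext ((z p).2.2 b hb)⟩ }
  rw [Nat.card_congr e, Nat.card_pi, Finset.prod_congr rfl fun p _ =>
    card_sylow_inf_actFix hcop (P p) (hP p) B,
    Finset.prod_coe_sort _ fun p => p ^ (Nat.card (actFix K B)).factorization p,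
    ← Finsupp.prod_of_support_subset _ (Nat.primeFactors_mono (card_subgroup_dvd_card (actFix K B))
      Nat.card_pos.ne') (fun p k => p ^ k) fun _ _ => pow_zero _,
    Nat.prod_factorization_pow_eq_self Nat.card_pos.ne']
  rfl

/-- Two elements with trivial common stabiliser in a coprime action of a solvable group. -/
theorem base_of_modBase (hM : ModBase.{u, v} Bool) {A : Type u} {K : Type v} [Group A] [Finite A]
    [Group K] [Finite K] [MulDistribMulAction A K] [FaithfulSMul A K] (hA : Group.IsSolvable A)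
    (hcop : (Nat.card A).Coprime (Nat.card K)) :
    ∃ x y : K, ∀ a : A, a • x = x → a • y = y → a = 1 := by
  obtain ⟨x, hx⟩ := hM.base _ K rfl hcop
  refine ⟨x true, x false, fun a h1 h2 => eq_of_smul_eq_smul (α := K) fun u => ?_⟩
  rw [one_smul]
  exact hx a (fun i => by cases i <;> assumption) u

theorem isSolvable_of_series {π : Set ℕ} {H : Type*} [Group H] [Finite H]
    (h : HasNormalSeries (fun n => (∃ p ∈ π, p.Prime ∧ ∃ k : ℕ, n = p ^ k) ∨ IsPiNum πᶜ n) H)
    (hH : IsPiNum π (Nat.card H)) : Group.IsSolvable H := by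
  refine Group.isSolvable_iff_commutator_lt.2 fun L hL => ?_
  have := (nontrivial_iff_ne_bot L).2 hL
  obtain ⟨N, hN, h1, h2⟩ := (h.of_injective (fun m n _ hmn hq => hq.imp (fun ⟨p, hp, hp', k, e⟩ =>
    ⟨p, hp, hp', ((Nat.dvd_prime_pow hp').1 (e ▸ hmn)).imp fun _ h => h.2⟩)
      fun h => h.of_dvd hmn) L.subtype_injective).exists_normal_ne_top
  obtain ⟨p, -, hp, k, e⟩ := h2.resolve_right fun h3 => h1 (index_eq_one.1
    ((hH.of_dvd (N.index_dvd_card.trans (card_subgroup_dvd_card L))).eq_one h3))
  have := Fact.mk hp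
  have := (IsPGroup.of_card (G := L ⧸ N) e).isNilpotent
  have : Nontrivial (L ⧸ N) := QuotientGroup.nontrivial_iff.2 h1
  refine lt_of_le_of_ne (commutator_le.2 fun a ha b hb => mul_mem (mul_mem (mul_mem ha hb)
    (inv_mem ha)) (inv_mem hb)) fun e' => ?_
  have h3 : _root_.commutator L = ⊤ := map_injective L.subtype_injective (by
    rw [map_subtype_commutator, e', ← MonoidHom.range_eq_map, range_subtype])
  refine (Group.IsSolvable.commutator_lt_top_of_nontrivial (L ⧸ N)).ne ?_
  rw [_root_.commutator_def, ← map_top_of_surjective _ (QuotientGroup.mk'_surjective N),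
    ← Subgroup.map_commutator, ← _root_.commutator_def, h3]

/-- Three conjugates of a Hall subgroup of a `π`-solvable group. -/
theorem hall_inter_of_modBase (hM : ModBase.{u, u} Bool) {G : Type u} [Group G] [Finite G]
    (π : Set ℕ) (hs : HasNormalSeries (fun n => (∃ p ∈ π, p.Prime ∧ ∃ k : ℕ, n = p ^ k) ∨
      ∀ q : ℕ, q.Prime → q ∣ n → q ∉ π) G) (H : Subgroup G) (hH : IsPiHall π H) :
    ∃ x y : G, H ⊓ MulAut.conj x • H ⊓ MulAut.conj y • H = piCore π G := by
  have hd : ∀ m n : ℕ, n ≠ 0 → m ∣ n → ((∃ p ∈ π, p.Prime ∧ ∃ k : ℕ, n = p ^ k) ∨ IsPiNum πᶜ n) →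
      (∃ p ∈ π, p.Prime ∧ ∃ k : ℕ, m = p ^ k) ∨ IsPiNum πᶜ m := fun m n _ hmn hq =>
    hq.imp (fun ⟨p, hp, hp', k, e⟩ =>
      ⟨p, hp, hp', ((Nat.dvd_prime_pow hp').1 (e ▸ hmn)).imp fun _ h => h.2⟩) fun h => h.of_dvd hmn
  have hsep : IsPiSeparable π G := hs.mono fun n _ h => h.imp_left fun ⟨p, hp, hp', k, e⟩ q hq h =>
    (Nat.prime_dvd_prime_iff_eq hq hp').1 (hq.dvd_of_dvd_pow (e ▸ h)) ▸ hp
  let f := QuotientGroup.mk' (piCore π G)
  have hf : Function.Surjective f := QuotientGroup.mk'_surjective _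
  have hH' := IsPiHall.map hH hf
  have := isSolvable_of_series ((hs.of_surjective hd hf).of_injective hd
    (H.map f).subtype_injective) hH'.1
  let K := piCore πᶜ (G ⧸ piCore π G)
  have hK : centralizer (K : Set _) ≤ K := (hsep.of_surjective hf).compl.centralizer_piCore_le
    (by rw [compl_compl, piCore_quotient_piCore])
  have hc : (Nat.card (H.map f)).Coprime (Nat.card K) :=
    IsPiNum.coprime hH'.1 (isPiNum_card_piCore _ _)
  have hb := disjoint_of_coprime_natCard hc
  let := MulDistribMulAction.compHom K ((MulAut.conjNormal (H := K)).comp (H.map f).subtype)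
  obtain ⟨x, hx⟩ := hM.base _ K rfl hc
  choose z hz using fun i => hf (x i)
  refine ⟨z true, z false, le_antisymm (fun g hg => ?_) (le_inf (le_inf (IsPiHall.piCore_le hH)
    (IsPiHall.piCore_le (IsPiHall.conj_smul hH _))) (IsPiHall.piCore_le (IsPiHall.conj_smul hH _)))⟩
  have h1 : f g ∈ H.map f := mem_map_of_mem f hg.1.1
  have h2 : ∀ i, (z i)⁻¹ * g * z i ∈ H := fun i => by
    cases i
    · simpa using mem_pointwise_smul_iff_inv_smul_mem.1 hg.2
    · simpa using mem_pointwise_smul_iff_inv_smul_mem.1 hg.1.2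
  have h3 := hx ⟨f g, h1⟩ fun i => Subtype.ext (by
    have := disjoint_def.1 hb (x := (x i).1⁻¹ * (f g * (x i).1 * (f g)⁻¹)) (by
      have := mul_mem (mem_map_of_mem f (h2 i)) (inv_mem h1)
      simpa only [map_mul, map_inv, hz, mul_assoc] using this)
      (mul_mem (inv_mem (x i).2) (Normal.conj_mem inferInstance _ (x i).2 _))
    exact (inv_mul_eq_one.1 this).symm)
  exact (QuotientGroup.eq_one_iff g).1 (disjoint_def.1 hb h1 (hK fun k hk =>
    (mul_inv_eq_iff_eq_mul.1 (congrArg Subtype.val (h3 ⟨k, hk⟩))).symm))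

end CL.SolvLin
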