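import Mathlib
import Cfsg.Agent.FGS.SolvLin5

/-!
# Solvable linear groups VI: groups of odd order have a base of size two
-/

open Subgroup
open scoped Pointwise commutatorElement

namespace CL.SolvLin

universe u

section
variable {A : Type*} [Group A] {V : Type*} [AddCommGroup V] [DistribMulAction A V]

theorem card_le_sum_fix [Fintype A] [DecidableEq A] [Finite V] {ι : Type*} [Finite ι]
    (h : ¬ HasBase A V ι) :
    Nat.card V ^ Nat.card ι ≤ ∑ g ∈ Finset.univ.erase (1 : A), Nat.card (fix V g) ^ Nat.card ι := by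
  classical
  have := Fintype.ofFinite V
  have := Fintype.ofFinite ι
  simp only [HasBase, not_exists, not_forall] at h
  rw [← Nat.card_fun, Nat.card_eq_fintype_card, ← Finset.card_univ]
  refine (Finset.card_le_card (t := (Finset.univ.erase (1 : A)).biUnion fun g =>
    Fintype.piFinset fun _ : ι => Finset.univ.filter (· ∈ fix V g)) fun x _ => ?_).trans
    (Finset.card_biUnion_le.trans (Finset.sum_le_sum fun g _ => ?_))
  · obtain ⟨g, h1, v, h2⟩ := h x
    refine Finset.mem_biUnion.2 ⟨g, Finset.mem_erase.2 ⟨fun e => h2 ?_, Finset.mem_univ _⟩,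
      Fintype.mem_piFinset.2 fun i => Finset.mem_filter.2 ⟨Finset.mem_univ _, h1 i⟩⟩
    rw [e, one_smul]
  · rw [Fintype.card_piFinset, Finset.prod_const, Finset.card_univ, Nat.card_eq_fintype_card,
      Nat.card_eq_fintype_card, Fintype.card_subtype]

namespace Str

variable {Z E : Subgroup A} (h : Str V Z E)
include h

theorem vandermonde {z₀ z₁ z₂ : A} (h0 : z₀ ∈ Z) (h1 : z₁ ∈ Z) (h2 : z₂ ∈ Z) (n1 : z₀ ≠ z₁)
    (n2 : z₀ ≠ z₂) (n3 : z₁ ≠ z₂) {a b c : V} (e0 : a + z₀ • b + z₀ • z₀ • c = 0)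
    (e1 : a + z₁ • b + z₁ • z₁ • c = 0) (e2 : a + z₂ • b + z₂ • z₂ • c = 0) : b = 0 ∧ c = 0 := by
  have key : ∀ z ∈ Z, z₀ ≠ z → a + z • b + z • z • c = 0 → b + z₀ • c + z • c = 0 := by
    intro z hz n e
    refine h.smul_inj h0 hz n ?_
    rw [smul_add, smul_add, smul_add, smul_add, ← mul_smul z₀ z, h.ab h0 hz, mul_smul,
      ← add_right_inj a]
    calc _ = a + z₀ • b + z₀ • z₀ • c + z • z₀ • c := by abel
      _ = a + z • b + z • z • c + z • z₀ • c := by rw [e0, e]
      _ = _ := by abel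
  have k1 := key z₁ h1 n1 e1
  have hc : c = 0 := h.smul_inj h1 h2 n3 (add_left_cancel (k1.trans (key z₂ h2 n2 e2).symm))
  rw [hc, smul_zero, smul_zero, add_zero, add_zero] at k1
  exact ⟨k1, hc⟩

variable [Finite V]

theorem fix_pow_three_of_notMem_centralizer {g : A} (ho : Odd (orderOf g))
    (hg : g ∉ centralizer (Z : Set A)) : Nat.card (fix V g) ^ 3 ≤ Nat.card V := by
  obtain ⟨z, hz, hne⟩ : ∃ z ∈ Z, g * z * g⁻¹ ≠ z := by
    by_contra hc
    push Not at hc
    exact hg fun z hz => (mul_inv_eq_iff_eq_mul.1 (hc z hz)).symm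
  have key : ∀ y : A, ∀ a ∈ fix V g, ∀ b ∈ fix V g, ∀ c ∈ fix V g, a + y • b + y • y • c = 0 →
      a + (g * y * g⁻¹) • b + (g * y * g⁻¹) • (g * y * g⁻¹) • c = 0 := by
    intro y a ha b hb c hc e
    have := congrArg (g • ·) e
    simp only [smul_add, smul_zero] at this
    simp only [mul_smul, inv_smul_smul, inv_smul_eq_iff.2 (mem_fix.1 hb).symm,
      inv_smul_eq_iff.2 (mem_fix.1 hc).symm]
    rwa [mem_fix.1 ha] at this
  refine card_pow_three_le _ z (z * z) fun a ha b hb c hc e => ?_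
  rw [mul_smul] at e
  have e1 := key _ a ha b hb c hc e
  refine h.vandermonde hz (h.Zn.conj_mem z hz g) (h.Zn.conj_mem _ (h.Zn.conj_mem z hz g) g)
    hne.symm (fun e' => hne ?_) (fun e' => hne ?_) e e1 (key _ a ha b hb c hc e1)
  · exact smul_eq_of_sq (G := ConjAct A) (g := ConjAct.toConjAct g)
      (by rwa [MulEquiv.orderOf_eq]) e'.symm
  · exact (mul_left_cancel (mul_right_cancel e')).symm

theorem fix_pow_three_of_mem [Finite A] (hA : Odd (Nat.card A)) {g : A} (hg : g ∈ E) (h1 : g ≠ 1) :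
    Nat.card (fix V g) ^ 3 ≤ Nat.card V := by
  by_cases hgZ : g ∈ Z
  · rw [(AddSubgroup.eq_bot_iff_forall (fix V g)).2 fun v hv => (h.fpf g hgZ v hv).resolve_left h1,
      AddSubgroup.card_bot, one_pow]
    exact Nat.card_pos
  obtain ⟨y, hy, hne⟩ : ∃ y ∈ E, y * g ≠ g * y := by
    by_contra hc
    push Not at hc
    exact hgZ (h.selfc _ hc)
  have hζ := h.comm g hg y hy
  set ζ := ⁅g, y⁆ with hζ'
  have hζ1 : 1 ≠ ζ := fun e => hne (commutatorElement_eq_one_iff_mul_comm.1 e.symm).symm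
  have hgy : g * y = ζ * y * g := by rw [hζ', commutatorElement_def]; group
  have hc := h.cen ζ hζ
  refine card_pow_three_le _ y (y * y) fun a ha b hb c hc' e => ?_
  have k1 : g • y • b = ζ • y • b := by rw [← mul_smul, hgy, mul_smul, mem_fix.1 hb, mul_smul]
  have k2 : g • (y * y) • c = ζ • ζ • (y * y) • c := by
    have : g * (y * y) = ζ * ζ * (y * y) * g := by
      calc g * (y * y) = ζ * y * (g * y) := by rw [← mul_assoc, ← mul_assoc, ← hgy]
        _ = ζ * (y * ζ) * y * g := by rw [hgy]; group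
        _ = _ := by rw [← hc y hy]; group
    rw [← mul_smul, this, mul_smul, mem_fix.1 hc', mul_smul, mul_smul]
  have k3 : ∀ w : V, g • ζ • w = ζ • g • w := fun w => by
    rw [← mul_smul, ← hc g hg, mul_smul]
  have e1 := congrArg (g • ·) e
  simp only [smul_add, smul_zero, mem_fix.1 ha, k1, k2] at e1
  have e2 := congrArg (g • ·) e1
  simp only [smul_add, smul_zero, mem_fix.1 ha, k1, k2, k3] at e2
  have := h.vandermonde (one_mem Z) hζ (mul_mem hζ hζ) hζ1 (fun e' => hζ1 ?_) (by simpa using hζ1.symm)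
    (a := a) (b := y • b) (c := (y * y) • c) (by simpa using e) e1 (by simpa only [mul_smul] using e2)
  · simpa only [smul_eq_zero_iff_eq] using this
  · have := smul_eq_of_sq (odd_orderOf hA ζ) (x := (1 : A)) (by simpa using e'.symm)
    simpa using this.symm

theorem fix_pow_six [Finite A] [Nontrivial V] (hA : Odd (Nat.card A)) {g : A}
    (hg : g ∈ centralizer (Z : Set A)) (h1 : g ∉ E) : Nat.card (fix V g) ^ 6 ≤ Nat.card V ^ 4 := by
  obtain ⟨y, hy, hne⟩ : ∃ y ∈ E, ⁅g, y⁆ ∉ Z := by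
    by_contra hc
    push Not at hc
    exact h1 (h.mem_of_comm hg hc)
  have h2 := h.fix_pow_three_of_mem hA (g := ⁅g, y⁆)
    (by rw [commutatorElement_def]; exact mul_mem (h.En.conj_mem y hy g) (inv_mem hy))
    fun e => hne (e ▸ one_mem Z)
  have h3 := card_mul_le_inf (fix V g) (y • fix V g)
  have h4 : Nat.card (y • fix V g : AddSubgroup V) = Nat.card (fix V g) :=
    (Nat.card_congr (AddSubgroup.equivMapOfInjective (fix V g) (DistribSMul.toAddMonoidHom V y)
      (MulAction.injective y)).toEquiv).symm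
  have h5 : Nat.card (fix V g ⊓ y • fix V g : AddSubgroup V) ≤ Nat.card (fix V ⁅g, y⁆) := by
    refine AddSubgroup.card_le_of_le fun w hw => ?_
    have h6 := AddSubgroup.mem_pointwise_smul_iff_inv_smul_mem.1 hw.2
    rw [mem_fix, commutatorElement_def, mul_smul, mul_smul, mul_smul,
      inv_smul_eq_iff.2 (mem_fix.1 h6).symm, smul_inv_smul]
    exact hw.1
  rw [h4] at h3
  calc _ = (Nat.card (fix V g) * Nat.card (fix V g)) ^ 3 := by ring
    _ ≤ (Nat.card (fix V ⁅g, y⁆) * Nat.card V) ^ 3 := 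
      Nat.pow_le_pow_left (h3.trans (Nat.mul_le_mul_right _ h5)) 3
    _ = Nat.card (fix V ⁅g, y⁆) ^ 3 * Nat.card V ^ 3 := by ring
    _ ≤ Nat.card V * Nat.card V ^ 3 := by gcongr
    _ = _ := by ring

end Str

end

theorem num_large (e : ℕ) (he : 23 ≤ e) : 8 * e ^ 18 * 4 ^ 3 ≤ 4 ^ (2 * e) := by
  induction e, he using Nat.le_induction with
  | base => norm_num
  | succ e he ih =>
    have h1 : (e + 1) ^ 9 ≤ 4 * e ^ 9 := by
      have : 23 * (e + 1) ≤ 24 * e := by omega
      have h2 := Nat.pow_le_pow_left this 9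
      rw [mul_pow, mul_pow] at h2
      nlinarith [Nat.zero_le (e ^ 9), Nat.zero_le ((e + 1) ^ 9)]
    calc 8 * (e + 1) ^ 18 * 4 ^ 3 = 8 * ((e + 1) ^ 9) ^ 2 * 4 ^ 3 := by ring
      _ ≤ 8 * (4 * e ^ 9) ^ 2 * 4 ^ 3 := by gcongr
      _ = 16 * (8 * e ^ 18 * 4 ^ 3) := by ring
      _ ≤ 16 * 4 ^ (2 * e) := by gcongr
      _ = _ := by ring

theorem num_main {q z e h : ℕ} (hq : IsPrimePow q) (hz : z ∣ q - 1) (he : Odd e) (he3 : 5 ≤ e)
    (hr : ∀ r, r.Prime → r ∣ e → r ∣ z) (h4 : h ≤ e ^ 4) (h5 : e = 5 → h ≤ 3) (h7 : e = 7 → h ≤ 3)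
    (h9 : e = 9 → h ≤ 5) : 8 * (e ^ 2 * h) ^ 3 * q ^ 3 ≤ q ^ (2 * e) := by
  have hq2 := hq.two_le
  have hge : ∀ r, r.Prime → r ∣ e → r + 1 ≤ q := fun r h1 h2 => by
    have := Nat.le_of_dvd (by omega) ((hr r h1 h2).trans hz)
    omega
  have h11 : 5 ∣ e → 11 ≤ q := fun h1 => by
    have h2 := (hr 5 (by norm_num) h1).trans hz
    have h3 : q ≠ 6 := by rintro rfl; revert hq; decide
    omega
  have key : ∀ q₀ c : ℕ, q₀ ≤ q → h ≤ c → 8 * (e ^ 2 * c) ^ 3 * q₀ ^ 3 ≤ q₀ ^ (2 * e) → 0 < q₀ →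
      8 * (e ^ 2 * h) ^ 3 * q ^ 3 ≤ q ^ (2 * e) := by
    intro q₀ c h1 h2 h3 h0
    obtain ⟨k, hk⟩ : ∃ k, 2 * e = k + 3 := ⟨2 * e - 3, by omega⟩
    rw [hk, pow_add] at h3 ⊢
    have := Nat.le_of_mul_le_mul_right h3 (pow_pos h0 3)
    refine Nat.mul_le_mul_right _ ?_
    calc _ ≤ 8 * (e ^ 2 * c) ^ 3 := by gcongr
      _ ≤ q₀ ^ k := this
      _ ≤ _ := by gcongr
  by_cases hl : 23 ≤ e
  · have h1 := hge _ (Nat.minFac_prime (by omega)) (Nat.minFac_dvd e)
    have h2 : 2 < e.minFac := by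
      refine lt_of_le_of_ne (Nat.minFac_prime (by omega)).two_le fun e' => ?_
      exact (Nat.not_even_iff_odd.2 he) (even_iff_two_dvd.2 (e' ▸ Nat.minFac_dvd e))
    refine key 4 _ (by omega) h4 ?_ (by norm_num)
    have := num_large e hl
    calc _ = 8 * e ^ 18 * 4 ^ 3 := by ring
      _ ≤ _ := this
  obtain ⟨k, rfl⟩ := he
  have hk : k ≤ 10 := by omega
  interval_cases k
  · omega
  · omega
  · exact key 11 3 (h11 (by norm_num)) (h5 rfl) (by norm_num) (by norm_num)
  · exact key 8 3 (hge 7 (by norm_num) (by norm_num)) (h7 rfl) (by norm_num) (by norm_num)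
  · exact key 4 5 (hge 3 (by norm_num) (by norm_num)) (h9 rfl) (by norm_num) (by norm_num)
  · exact key 12 _ (hge 11 (by norm_num) (by norm_num)) h4 (by norm_num) (by norm_num)
  · exact key 14 _ (hge 13 (by norm_num) (by norm_num)) h4 (by norm_num) (by norm_num)
  · exact key 11 _ (h11 (by norm_num)) h4 (by norm_num) (by norm_num)
  · exact key 18 _ (hge 17 (by norm_num) (by norm_num)) h4 (by norm_num) (by norm_num)
  · exact key 20 _ (hge 19 (by norm_num) (by norm_num)) h4 (by norm_num) (by norm_num)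
  · exact key 8 _ (hge 7 (by norm_num) (by norm_num)) h4 (by norm_num) (by norm_num)

theorem Str.small {n : ℕ} (hP : POdd.{u} n) {A : Type u} [Group A] [Finite A] [Group.IsSolvable A]
    {V : Type*} [AddCommGroup V] [DistribMulAction A V] [Finite V] [Nontrivial V]
    (hA : Odd (Nat.card A)) {Z E : Subgroup A} (h : Str V Z E) {e : ℕ} (he : Z.relIndex E = e ^ 2)
    (hn : e ^ 2 < n) : E.relIndex (centralizer (Z : Set A)) ≤ e ^ 4 ∧
      (e = 3 → E.relIndex (centralizer (Z : Set A)) ≤ 1) ∧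
      (e = 5 → E.relIndex (centralizer (Z : Set A)) ≤ 3) ∧
      (e = 7 → E.relIndex (centralizer (Z : Set A)) ≤ 3) ∧
      (e = 9 → E.relIndex (centralizer (Z : Set A)) ≤ 5) := by
  obtain ⟨W, _, _, Y, _, _, f, B, hf, hW, hfa, hcr, hH, b1, b2, b3, b4, b5⟩ := h.section
  have := h.Zn
  have : Finite Y := Finite.of_surjective f hf
  have := Group.isSolvable_of_surjective hf
  have hY := hA.of_dvd_nat (card_dvd_of_surjective f hf)
  rw [he] at hW
  rw [← hH]
  set H := (centralizer (Z : Set A)).map f with hHd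
  have : H.Normal := (inferInstance : (centralizer (Z : Set A)).Normal).map f hf
  have hHo := hY.of_dvd_nat (card_subgroup_dvd_card H)
  have key : ∀ r k : ℕ, r.Prime → e ^ 2 = r ^ k →
      (∀ s j, s.Prime → Odd s → s ≠ r → j < k → j ≠ 1 → s ∣ r ^ k - r ^ j → j = 0) →
      (∀ t, t ∣ r ^ k - 1 → Odd t → t ≡ 1 [MOD r] → t = 1) → Nat.card H ∣ r ^ k - 1 := by
    intro r k hr hk h1 h2
    rw [hk] at hW
    rw [← hW] at h2 ⊢
    refine hcr.card_dvd_of_small hfa hr hW H ?_ fun t a b c => h2 t a (hHo.of_dvd_nat b) c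
    rintro _ ⟨c, hc, rfl⟩ hp hne w hw
    obtain ⟨j, hj, hj'⟩ := (Nat.dvd_prime_pow hr).1 (hW ▸ (fix W (f c)).card_addSubgroup_dvd_card)
    have h3 := dvd_card_sub_fix (W := W) hp
    rw [hj', hW] at h3
    have h4 := h1 _ j hp (odd_orderOf hY _) hne (lt_of_le_of_ne hj fun e' => hp.ne_one ?_)
      (fun e' => fix_not_prime B b1 b2 b3 b4 (b5 c hc) (pow_orderOf_eq_one _)
        (hW ▸ ((Nat.coprime_primes hp hr).2 hne).pow_right k) (by rwa [hj', e', pow_one])) h3
    · rw [h4] at hj'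
      exact (AddSubgroup.eq_bot_iff_forall _).1 (AddSubgroup.eq_bot_of_card_eq _ hj') w hw
    · rw [e', ← hW] at hj'
      rw [orderOf_eq_one_iff]
      exact hfa _ fun v => (show v ∈ fix W (f c) from
        (AddSubgroup.eq_top_of_card_eq _ hj').symm ▸ trivial)
  have fin : ∀ m c : ℕ, 0 < m → (∀ t ∈ m.divisors, Odd t → t ≤ c) → Nat.card H ∣ m →
      Nat.card H ≤ c := fun m c h0 h1 h2 => h1 _ (Nat.mem_divisors.2 ⟨h2, h0.ne'⟩) hHo
  have aux : ∀ (m r : ℕ), 0 < m → (∀ t ∈ m.divisors, Odd t → t % r = 1 % r → t = 1) →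
      ∀ t, t ∣ m → Odd t → t ≡ 1 [MOD r] → t = 1 :=
    fun m r h0 h1 t a b c => h1 t (Nat.mem_divisors.2 ⟨a, h0.ne'⟩) b c
  refine ⟨?_, ?_, ?_, ?_, ?_⟩
  · refine (card_le_card_group H).trans ?_
    have := (hP Y W (hW ▸ hn) hY hcr).card_le hfa
    rw [hW, Nat.card_eq_fintype_card (α := Bool), Fintype.card_bool, ← pow_mul] at this
    exact this
  · rintro rfl
    exact fin 8 1 (by norm_num) (by decide) (key 3 2 (by norm_num) rfl (fun _ _ _ _ _ _ _ _ => by omega)
      (aux 8 3 (by norm_num) (by decide)))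
  · rintro rfl
    exact fin 24 3 (by norm_num) (by decide) (key 5 2 (by norm_num) rfl
      (fun _ _ _ _ _ _ _ _ => by omega) (aux 24 5 (by norm_num) (by decide)))
  · rintro rfl
    exact fin 48 3 (by norm_num) (by decide) (key 7 2 (by norm_num) rfl
      (fun _ _ _ _ _ _ _ _ => by omega) (aux 48 7 (by norm_num) (by decide)))
  · rintro rfl
    refine fin 80 5 (by norm_num) (by decide) (key 3 4 (by norm_num) rfl
      (fun s j h1 h2 h3 h4 h5 h6 => ?_) (aux 80 3 (by norm_num) (by decide)))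
    have h7 : ¬ s ∣ 2 ^ 3 * 3 ^ 3 := fun h8 => by
      rcases (Nat.Prime.dvd_mul h1).1 h8 with h9 | h9
      · have := (Nat.prime_dvd_prime_iff_eq h1 Nat.prime_two).1 (h1.dvd_of_dvd_pow h9)
        rw [this] at h2
        exact absurd h2 (by decide)
      · exact h3 ((Nat.prime_dvd_prime_iff_eq h1 Nat.prime_three).1 (h1.dvd_of_dvd_pow h9))
    interval_cases j
    · rfl
    · exact absurd rfl h5
    · exact absurd (h6.trans (by norm_num)) h7
    · exact absurd (h6.trans (by norm_num)) h7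

theorem hasBase_prim {A V : Type u} [Group A] [Finite A] [Group.IsSolvable A] [AddCommGroup V]
    [DistribMulAction A V] [Finite V] [Nontrivial V] (hP : POdd.{u} (Nat.card V))
    (hA : Odd (Nat.card A)) (hp : Prim A V) : HasBase A V Bool := by
  classical
  obtain ⟨Z, E, h⟩ := exists_str hp
  by_cases hEZ : E = Z
  · obtain ⟨v, w, hvw⟩ := h.base_of_eq hEZ
    exact ⟨fun b => if b then v else w, fun a ha u => by
      rw [hvw a (ha true) (ha false), one_smul]⟩
  by_contra hb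
  have := Fintype.ofFinite A
  have hsum := card_le_sum_fix hb
  rw [Nat.card_eq_fintype_card (α := Bool), Fintype.card_bool] at hsum
  obtain ⟨-, q, d, hq, hz, hN, hd⟩ := h.field
  obtain ⟨e, he⟩ := h.exists_sq
  set C := centralizer (Z : Set A) with hC
  set N := Nat.card V with hN'
  set z := Nat.card Z with hz'
  have hEC : E ≤ C := fun x hx y hy => h.cen y hy x hx
  have hCc : Nat.card C = z * (e ^ 2 * E.relIndex C) := by
    rw [← he, relIndex_mul_relIndex Z E C h.le hEC, hz', ← relIndex_bot_left, ← relIndex_bot_left,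
      relIndex_mul_relIndex _ _ _ bot_le (h.le.trans hEC)]
  have hAc : Nat.card A ≤ Nat.card C * z := by
    rw [← C.card_mul_index]; exact Nat.mul_le_mul_left _ h.index_le
  have heo : Odd e := by
    have := (hA.of_dvd_nat (card_subgroup_dvd_card E)).of_dvd_nat (index_dvd_card (Z.subgroupOf E))
    exact (Nat.odd_pow_iff two_ne_zero).1 (he ▸ this)
  have he1 : e ≠ 1 := fun e' => hEZ (le_antisymm (relIndex_eq_one.1 (by rw [he, e']; rfl)) h.le)
  have he3 : 3 ≤ e := by obtain ⟨k, rfl⟩ := heo; omega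
  have hed : e ≤ d := by rw [he] at hd; exact (Nat.pow_le_pow_iff_left two_ne_zero).1 hd
  have hq2 := hq.two_le
  have hzq : z < q := by have := Nat.le_of_dvd (by omega) hz; omega
  have hr : ∀ r, r.Prime → r ∣ e → r ∣ z := fun r h1 h2 =>
    h.prime_dvd h1 (he ▸ h2.trans (dvd_pow_self e two_ne_zero))
  have hq4 : 4 ≤ q := by
    have h1 := Nat.le_of_dvd Nat.card_pos (hr _ (Nat.minFac_prime he1) (Nat.minFac_dvd e))
    have h2 : 2 < e.minFac := by
      refine lt_of_le_of_ne (Nat.minFac_prime he1).two_le fun e' => ?_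
      exact (Nat.not_even_iff_odd.2 heo) (even_iff_two_dvd.2 (e' ▸ Nat.minFac_dvd e))
    omega
  have hNe : q ^ e ≤ N := (Nat.pow_le_pow_right (by omega) hed).trans hN
  obtain ⟨s4, s3, s5, s7, s9⟩ := h.small hP hA he (by
    refine lt_of_lt_of_le ?_ hNe
    calc e ^ 2 < (2 ^ e) ^ 2 := by gcongr; exact Nat.lt_two_pow_self
      _ = 4 ^ e := by rw [← pow_mul, mul_comm, pow_mul]; norm_num
      _ ≤ _ := by gcongr)
  obtain ⟨t, ht0, ht⟩ : ∃ t : ℝ, 0 < t ∧ t ^ 3 = N :=
    ⟨(N : ℝ) ^ ((3 : ℕ) : ℝ)⁻¹, Real.rpow_pos_of_pos (by exact_mod_cast Nat.card_pos) _,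
      Real.rpow_inv_natCast_pow (Nat.cast_nonneg _) three_ne_zero⟩
  have hqt : (q : ℝ) ≤ t := by
    refine le_of_pow_le_pow_left₀ three_ne_zero ht0.le ?_
    rw [ht]
    exact_mod_cast (Nat.pow_le_pow_right (by omega) he3).trans hNe
  have hfix : ∀ g ∈ Finset.univ.erase (1 : A), ((Nat.card (fix V g) : ℝ)) ^ 2 ≤
      (if g ∈ C ∧ g ∉ E then t ^ 4 else 0) + t ^ 2 := by
    intro g hg
    split_ifs with hc
    · have h1 : (Nat.card (fix V g) : ℝ) ≤ t ^ 2 := by
        refine le_of_pow_le_pow_left₀ (n := 6) (by norm_num) (by positivity) ?_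
        rw [← pow_mul, show 2 * 6 = 3 * 4 from rfl, pow_mul, ht]
        exact_mod_cast h.fix_pow_six hA hc.1 hc.2
      calc _ ≤ (t ^ 2) ^ 2 := by gcongr
        _ ≤ _ := by rw [← pow_mul]; exact le_add_of_nonneg_right (by positivity)
    · have h1 : (Nat.card (fix V g) : ℝ) ≤ t := by
        refine le_of_pow_le_pow_left₀ three_ne_zero ht0.le ?_
        rw [ht]
        by_cases h2 : g ∈ C
        · exact_mod_cast h.fix_pow_three_of_mem hA (by tauto) (Finset.ne_of_mem_erase hg)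
        · exact_mod_cast h.fix_pow_three_of_notMem_centralizer (odd_orderOf hA g) h2
      rw [zero_add]; gcongr
  set c := (Finset.univ.filter fun g => g ∈ C ∧ g ∉ E).card with hc
  have hmain : t ^ 6 ≤ c * t ^ 4 + Nat.card A * t ^ 2 := by
    calc t ^ 6 = (N : ℝ) ^ 2 := by rw [← ht]; ring
      _ ≤ ∑ g ∈ Finset.univ.erase (1 : A), ((Nat.card (fix V g) : ℝ)) ^ 2 := by exact_mod_cast hsum
      _ ≤ ∑ g ∈ Finset.univ.erase (1 : A), ((if g ∈ C ∧ g ∉ E then t ^ 4 else 0) + t ^ 2) :=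
        Finset.sum_le_sum hfix
      _ ≤ ∑ g : A, ((if g ∈ C ∧ g ∉ E then t ^ 4 else 0) + t ^ 2) :=
        Finset.sum_le_sum_of_subset_of_nonneg (Finset.subset_univ _) fun g _ _ => by positivity
      _ = _ := by
        rw [Finset.sum_add_distrib, ← Finset.sum_filter, Finset.sum_const, Finset.sum_const,
          nsmul_eq_mul, nsmul_eq_mul, Finset.card_univ, Nat.card_eq_fintype_card]
  have hzt : (z : ℝ) < t := lt_of_lt_of_le (by exact_mod_cast hzq) hqt
  have ht4 : (4 : ℝ) ≤ t := le_trans (by exact_mod_cast hq4) hqt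
  have hz0 : (0 : ℝ) ≤ z := Nat.cast_nonneg _
  by_cases h3 : e = 3
  · have h1 : E.relIndex C = 1 := by
      have h2 : E.relIndex C ≠ 0 := FiniteIndex.index_ne_zero
      have : E.relIndex C ≤ 1 := s3 h3
      omega
    have h2 : c = 0 := by
      rw [hc, Finset.card_eq_zero, Finset.filter_eq_empty_iff]
      exact fun g _ hg => hg.2 (relIndex_eq_one.1 h1 hg.1)
    rw [hCc, h1, h3] at hAc
    have h4 : (Nat.card A : ℝ) ≤ z * 9 * z := by exact_mod_cast hAc
    rw [h2, Nat.cast_zero, zero_mul, zero_add] at hmain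
    have h5 : t ^ 4 ≤ Nat.card A := le_of_mul_le_mul_right (by nlinarith) (pow_pos ht0 2)
    have h6 : (z : ℝ) * z < t * t := by nlinarith
    nlinarith
  have h1 := num_main hq hz heo (by obtain ⟨k, rfl⟩ := heo; omega) hr s4 s5 s7 s9
  have h2 : 2 * (Nat.card C : ℝ) ≤ t ^ 2 := by
    refine le_of_pow_le_pow_left₀ three_ne_zero (by positivity) ?_
    rw [← pow_mul, mul_comm 2 3, pow_mul, ht]
    have : (2 * Nat.card C) ^ 3 ≤ N ^ 2 := by
      calc _ = 8 * (e ^ 2 * E.relIndex C) ^ 3 * z ^ 3 := by rw [hCc]; ring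
        _ ≤ 8 * (e ^ 2 * E.relIndex C) ^ 3 * q ^ 3 := by gcongr
        _ ≤ q ^ (2 * e) := h1
        _ ≤ _ := by rw [mul_comm, pow_mul]; gcongr
    exact_mod_cast this
  have h4 : (c : ℝ) ≤ Nat.card C := by
    rw [Nat.card_eq_fintype_card, Fintype.card_subtype]
    exact_mod_cast Finset.card_le_card (s := Finset.univ.filter fun g => g ∈ C ∧ g ∉ E)
      (t := Finset.univ.filter fun g => g ∈ C) fun g hg => by
        simp only [Finset.mem_filter, Finset.mem_univ, true_and] at hg ⊢; exact hg.1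
  have h5 : (Nat.card A : ℝ) ≤ Nat.card C * z := by exact_mod_cast hAc
  have h6 : 2 * (Nat.card A : ℝ) ≤ t ^ 2 * z := by nlinarith
  have h7 : t ^ 2 * z < t ^ 2 * t ^ 2 := by gcongr; nlinarith
  nlinarith [pow_pos ht0 2, pow_pos ht0 4]

theorem exists_two_bases {A V : Type*} [Group A] [AddCommGroup V] [DistribMulAction A V]
    (hA : Odd (Nat.card A)) {H : Subgroup A} {U : AddSubgroup V} (hU : U ≠ ⊥) {x : Bool → V}
    (hx : IsBase H U x) : ∃ y : Prop → Bool → V, (∀ k, IsBase H U (y k)) ∧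
      ∀ k k' (a : A), (∀ i, a • y k i = y k' i) → k = k' := by
  classical
  obtain ⟨v, w, hne, hv, hw, hb⟩ : ∃ v w : V, v ≠ w ∧ v ∈ U ∧ w ∈ U ∧
      ∀ a ∈ H, a • v = v → a • w = w → ∀ u ∈ U, a • u = u := by
    by_cases h1 : x true = x false
    · by_cases h2 : x true = 0
      · obtain ⟨⟨u, hu⟩, hu0⟩ := (AddSubgroup.ne_bot_iff_exists_ne_zero).1 hU
        exact ⟨u, 0, fun e => hu0 (Subtype.ext e), hu, zero_mem _, fun a ha _ _ => hx.2 a ha
          fun i => by cases i <;> simp [← h1, h2]⟩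
      · exact ⟨x true, 0, h2, hx.1 _, zero_mem _, fun a ha h _ => hx.2 a ha
          fun i => by cases i <;> simp [← h1, h]⟩
    · exact ⟨x true, x false, h1, hx.1 _, hx.1 _, fun a ha h h' => hx.2 a ha
        fun i => by cases i <;> assumption⟩
  have key : ∀ (a : A) (v w : V), a • v = w → a • w = v → v = w := fun a v w h1 h2 =>
    (smul_eq_of_sq (odd_orderOf hA a) (by rw [h1, h2])).symm.trans h1
  refine ⟨fun k i => if k then (if i then v else w) else (if i then w else v), fun k => ?_,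
    fun k k' a h => ?_⟩
  · by_cases hk : k
    · exact ⟨fun i => by cases i <;> simp [hk, hv, hw], fun a ha h => hb a ha
        (by simpa [hk] using h true) (by simpa [hk] using h false)⟩
    · exact ⟨fun i => by cases i <;> simp [hk, hv, hw], fun a ha h => hb a ha
        (by simpa [hk] using h false) (by simpa [hk] using h true)⟩
  · by_cases hk : k <;> by_cases hk' : k'
    · exact propext (iff_of_true hk hk')
    · exact absurd (key a v w (by simpa [hk, hk'] using h true) (by simpa [hk, hk'] using h false)) hne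
    · exact absurd (key a v w (by simpa [hk, hk'] using h false) (by simpa [hk, hk'] using h true)) hne
    · exact propext (iff_of_false hk hk')

theorem pOdd (n : ℕ) : POdd.{u} n := by
  induction n with
  | zero => exact fun _ _ _ _ _ _ _ _ h => absurd h (Nat.not_lt_zero _)
  | succ n ih =>
  intro A₀ V _ _ _ _ _ _ hn hA₀ hcr₀
  rcases Nat.lt_succ_iff_lt_or_eq.1 hn with hn | rfl
  · exact ih A₀ V hn hA₀ hcr₀
  refine HasBase.of_img ?_
  have hA := hA₀.of_dvd_nat (card_img_dvd (A := A₀) (V := V))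
  have hcr := hcr₀.img
  have hf := img_faithful (A := A₀) (V := V)
  have := Group.isSolvable_of_surjective (toImg_surj (A := A₀) (V := V))
  have : Finite (Img A₀ V) := Finite.of_surjective _ toImg_surj
  generalize Img A₀ V = A at *
  have hlt : ∀ U : AddSubgroup V, U ≠ ⊤ → Nat.card U < Nat.card V := fun U hU =>
    lt_of_le_of_ne U.card_le_card_addGroup fun e => hU (AddSubgroup.eq_top_of_card_eq _ e)
  have hsub : ∀ (H : Subgroup A) (U : AddSubgroup V) (h : Inv H U), U ≠ ⊤ →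
      (letI := resAct H U h; CR H U) → ∃ x : Bool → V, IsBase H U x := fun H U h hU hc =>
    exists_isBase_of_res h (by
      let := resAct H U h
      exact ih H U (hlt U hU) (hA.of_dvd_nat (card_subgroup_dvd_card H)) hc)
  by_cases hirr : Irr A V
  swap
  · simp only [Irr, not_forall, not_or] at hirr
    obtain ⟨U, hU, h1, h2⟩ := hirr
    obtain ⟨W, hW, h3, h4⟩ := hcr U hU
    have hU' : Inv (⊤ : Subgroup A) U := fun a _ => hU a
    have hW' : Inv (⊤ : Subgroup A) W := fun a _ => hW a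
    obtain ⟨x, hx⟩ := hsub ⊤ U hU' h2 (cr_res_of_cr hcr hU')
    obtain ⟨y, hy⟩ := hsub ⊤ W hW' (fun e => h1 (by rwa [e, inf_top_eq] at h3)) (cr_res_of_cr hcr hW')
    exact hasBase_of_compl hU' hW' h3 h4 hx hy
  rcases subsingleton_or_nontrivial V with hV | hV
  · exact ⟨0, fun _ _ _ => Subsingleton.elim _ _⟩
  by_cases hp : Prim A V
  · exact hasBase_prim ih hA hp
  obtain ⟨U, h1, h2, h3⟩ := exists_indep hf hp
  have : Finite (MulAction.orbit A U) := Finite.finite_mulAction_orbit U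
  obtain ⟨D, hD⟩ := gluck ih _ A (MulAction.orbit A U) rfl (h3.card_lt h1) hA
  obtain ⟨x, hx⟩ := hsub _ U (inv_stabilizer U) h2 (cr_res_of_irr _ (h3.irr hirr))
  obtain ⟨y, hy1, hy2⟩ := exists_two_bases hA h1 hx
  exact hasBase_of_indep hirr h1 h3 (· ∈ D) (fun a ha => hD a fun l => iff_of_eq (ha l)) y hy1 hy2

/-- A solvable group of odd order has a base of size two on a completely reducible module. -/
theorem hasBase_of_odd {A V : Type*} [Group A] [Finite A] [Group.IsSolvable A] [AddCommGroup V]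
    [Finite V] [DistribMulAction A V] (hA : Odd (Nat.card A)) (hcr : CR A V) : HasBase A V Bool := by
  have := Group.isSolvable_of_surjective (toImg_surj (A := A) (V := V))
  have : Finite (Img A V) := Finite.of_surjective _ toImg_surj
  exact (pOdd _ (Img A V) V (Nat.lt_succ_self _) (hA.of_dvd_nat card_img_dvd) hcr.img).of_img

end CL.SolvLin
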