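import Mathlib
import Cfsg.Agent.FGS.Base8
import Cfsg.Agent.FGS.SolvLin6
import Cfsg.Agent.FGS.BaseRed

/-!
# Bases of solvable groups IX: Dolfi's theorem on coprime modules
-/

open Subgroup
open scoped Pointwise commutatorElement

namespace CL.SolvLin

universe u v

variable {A : Type u} [Group A] {V : Type*} [AddCommGroup V] [DistribMulAction A V]

theorem exists_subgroup [Finite A] (P : A → Prop) (h1 : P 1) (hm : ∀ a b, P a → P b → P (a * b)) :
    ∃ K : Subgroup A, ∀ a, a ∈ K ↔ P a := by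
  refine ⟨{ carrier := {a | P a}, one_mem' := h1, mul_mem' := fun ha hb => hm _ _ ha hb
            inv_mem' := fun {a} ha => ?_ }, fun _ => Iff.rfl⟩
  obtain ⟨n, hn⟩ : ∃ n : ℕ, a ^ n = a⁻¹ := mem_powers_iff_mem_zpowers.2 (inv_mem (mem_zpowers a))
  rw [← hn]
  clear hn
  induction n with
  | zero => simpa using h1
  | succ n ih => rw [pow_succ]; exact hm _ _ ih ha

theorem lin1 {p : ℕ} {x : V} (hp : (p + 1) • x = 0) (F : List (Fin (p + 1) → Fin (p + 1))) :
    Lin (mdl1 p F) fun a : Fin (p + 1) => a.val • x := by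
  refine ⟨fun (a b : Fin (p + 1)) => ?_, fun (a : Fin (p + 1)) => ?_, zero_nsmul x,
    Fin.val_injective, fun _ => rfl, fun (a : Fin (p + 1)) => ?_⟩
  · exact (nsmul_eq_mod_nsmul (a.val + b.val) hp).symm.trans (add_nsmul _ _ _)
  · refine (nsmul_eq_mod_nsmul (p + 1 - a.val + 0) hp).symm.trans ?_
    rw [add_zero, eq_neg_iff_add_eq_zero, ← add_nsmul, Nat.sub_add_cancel a.2.le, hp]
  · change _ = a.val • (1 % (p + 1)) • x + 0
    rw [← nsmul_eq_mod_nsmul 1 hp, one_nsmul, add_zero]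

theorem val_mul_smul {p : ℕ} {x : V} (hp : (p + 1) • x = 0) (a b : Fin (p + 1)) :
    (Fin.mul a b).val • x = b.val • a.val • x :=
  (nsmul_eq_mod_nsmul (a.val * b.val) hp).symm.trans (mul_nsmul _ _ _)

namespace Str
variable {Z E : Subgroup A} (h : Str V Z E) [Finite A] {x : V}
include h

theorem real_base (hx : x ≠ 0) {m : Mdl} {ι : m.M → V} (l : Lin m ι) {al : List m.M}
    (hal : ∀ a, a ∈ al) {f₁ f₂ : m.M → m.M} {W : List (List Bool)} {a₀ : m.M}
    (hb : m.bchk al f₁ f₂ W a₀ = true) (h0 : ι a₀ ≠ 0) (hF : ∀ a, Fx E x (ι a)) {γ₁ γ₂ : A}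
    (k₁ : γ₁ ∈ cstab E x) (k₂ : γ₂ ∈ cstab E x) (e₁ : ∀ a, γ₁ • ι a = ι (f₁ a))
    (e₂ : ∀ a, γ₂ • ι a = ι (f₂ a))
    (hg : ∀ K : Subgroup A, stab E x ≤ K → γ₁ ∈ K → γ₂ ∈ K → cstab E x ≤ K) :
    Real m E (stab E x) ι := by
  have hfe : ∀ f f', m.fe al f f' = true → ∀ a, f a = f' a := fun f f' e a =>
    (l.eqv _ _).1 (List.all_eq_true.1 e a (hal a))
  simp only [Mdl.bchk, Bool.and_eq_true, List.all_eq_true, List.any_eq_true, Bool.or_eq_true,
    l.eqv] at hb
  obtain ⟨⟨⟨⟨⟨b1, b2⟩, b3⟩, b4⟩, b5⟩, b6⟩ := hb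
  have hr : ∀ f ∈ m.F, ∃ c ∈ cstab E x, ∀ a, c • ι a = ι (f a) := fun f hf => by
    obtain ⟨w, -, e⟩ := b1 f hf
    simp only [hfe _ _ e]
    clear e
    induction w with
    | nil => exact ⟨1, one_mem _, fun a => one_smul _ _⟩
    | cons t w ih =>
      obtain ⟨c, hc, e⟩ := ih
      cases t
      · exact ⟨γ₁ * c, mul_mem k₁ hc, fun a => by rw [mul_smul, e, e₁]; rfl⟩
      · exact ⟨γ₂ * c, mul_mem k₂ hc, fun a => by rw [mul_smul, e, e₂]; rfl⟩
  obtain ⟨K, hK⟩ := exists_subgroup (fun c => c ∈ cstab E x ∧ ∃ f ∈ m.F, ∀ a, c • ι a = ι (f a))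
    (by
      obtain ⟨f, hf, e⟩ := b3
      exact ⟨one_mem _, f, hf, fun a => by rw [one_smul, ← hfe _ _ e]; rfl⟩) (by
      rintro c c' ⟨hc, f, hf, e⟩ ⟨hc', f', hf', e'⟩
      obtain ⟨f'', hf'', e''⟩ := b2 f hf f' hf'
      exact ⟨mul_mem hc hc', f'', hf'', fun a => by rw [mul_smul, e', e, ← hfe _ _ e'']; rfl⟩)
  refine ⟨l, fun a b e => ?_, ⟨a₀, h0⟩, inf_le_left, fun d hd a => hF a d hd.1 hd.2,
    fun c hc => ((hK c).1 (hg K (fun d hd => ?_) ?_ ?_ hc)).2, hr⟩
  · refine (b6 a (hal a) b (hal b)).resolve_right ?_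
    rintro ⟨f, hf, k, -, k', -, e'⟩
    obtain ⟨c, -, e''⟩ := hr f hf
    have : ι (m.add a (m.neg b)) = 0 := by rw [l.add, l.neg, e, add_neg_cancel]
    refine h0 ?_
    rw [← e', l.comb]
    simp [lc, ← e'', this]
  · obtain ⟨f, hf, e⟩ := b3
    exact (hK d).2 ⟨h.mem_cstab_of_fix hx hd.1 hd.2, f, hf, fun a => by
      rw [hF a d hd.1 hd.2, ← hfe _ _ e]; rfl⟩
  · obtain ⟨f, hf, e⟩ := b4
    exact (hK _).2 ⟨k₁, f, hf, fun a => by rw [e₁, hfe _ _ e]⟩
  · obtain ⟨f, hf, e⟩ := b5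
    exact (hK _).2 ⟨k₂, f, hf, fun a => by rw [e₂, hfe _ _ e]⟩

theorem real1 (hx : x ≠ 0) {p : ℕ} (hp : ∀ v : V, (p + 2) • v = 0)
    {F : List (Fin (p + 2) → Fin (p + 2))} {k : Fin (p + 2)} {W : List (List Bool)}
    (hb : (mdl1 (p + 1) F).bchk (List.finRange (p + 2)) (Fin.mul k) (Fin.mul k) W
      (1 : Fin (p + 2)) = true) {y : V} (h0 : y ≠ 0) (hF : Fx E x y) {γ : A} (hγ : γ ∈ cstab E x)
    (e : γ • y = k.val • y) (hg : ∀ K : Subgroup A, stab E x ≤ K → γ ∈ K → cstab E x ≤ K) :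
    ∃ ι : _ → V, Real (mdl1 (p + 1) F) E (stab E x) ι := by
  have : ∀ a : Fin (p + 2), γ • a.val • y = (Fin.mul k a).val • y := fun a => by
    rw [val_mul_smul (hp y), smul_comm, e]
  exact ⟨_, h.real_base hx (lin1 (hp y) F) List.mem_finRange hb (by simpa using h0)
    (fun a => nsmul_mem (S := fxs E x) hF _) hγ hγ this this fun K h1 h2 _ => hg K h1 h2⟩

omit h [Finite A] in
theorem mat_act {p : ℕ} (hp : ∀ v : V, (p + 1) • v = 0) {γ : A} {y y' : V}
    {a b c d : Fin (p + 1)} (e : γ • y = a.val • y + c.val • y')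
    (e' : γ • y' = b.val • y + d.val • y') (v : Sq (Fin (p + 1))) :
    γ • (v.1.val • y + v.2.val • y') = (mat a b c d v).1.val • y + (mat a b c d v).2.val • y' := by
  have h1 := fun w => (lin1 (hp w) []).add
  simp only [mdl1] at h1
  simp only [mat, h1, val_mul_smul (hp _), smul_add, smul_comm γ, e, e']
  abel

theorem real2 (hx : x ≠ 0) {p : ℕ} (hp : ∀ v : V, (p + 2) • v = 0)
    {F : List (Sq (Fin (p + 2)) → Sq (Fin (p + 2)))} {a b c d a' b' c' d' : Fin (p + 2)}
    {W : List (List Bool)} (hb : (mdl2 (p + 1) F).bchk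
      (List.finRange (p + 2) ×ˢ List.finRange (p + 2)) (mat a b c d) (mat a' b' c' d') W
      ((1, 0) : Sq (Fin (p + 2))) = true) {y y' : V} (h0 : y ≠ 0) (hF : Fx E x y)
    (hF' : Fx E x y') {γ γ' : A} (hγ : γ ∈ cstab E x) (hγ' : γ' ∈ cstab E x)
    (e₁ : γ • y = a.val • y + c.val • y') (e₂ : γ • y' = b.val • y + d.val • y')
    (e₃ : γ' • y = a'.val • y + c'.val • y') (e₄ : γ' • y' = b'.val • y + d'.val • y')
    (hg : ∀ K : Subgroup A, stab E x ≤ K → γ ∈ K → γ' ∈ K → cstab E x ≤ K) :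
    ∃ ι : _ → V, Real (mdl2 (p + 1) F) E (stab E x) ι := by
  have l := (lin1 (hp y) []).dbl (lin1 (hp y') [])
  exact ⟨fun v : Sq (Fin (p + 2)) => v.1.val • y + v.2.val • y',
    h.real_base hx ⟨l.1, l.2, l.3, l.4, l.5, l.6⟩
    (fun v => List.mem_product.2 ⟨List.mem_finRange _, List.mem_finRange _⟩) hb
    (by simpa using h0) (fun a => (nsmul_mem (S := fxs E x) hF _ : Fx E x _).add
      (nsmul_mem (S := fxs E x) hF' _)) hγ hγ' (mat_act hp e₁ e₂) (mat_act hp e₃ e₄) hg⟩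

omit [Finite A] in
theorem gen_one {θ : A} (hg : ∀ z ∈ Z, ∃ n : ℕ, θ ^ n = z)
    (h1 : ∀ b ∈ cstab E x, ∃ z ∈ Z, b • x = z • x) {k l : ℕ} (e : (θ ^ k) ^ l = θ)
    (K : Subgroup A) (hK : stab E x ≤ K) (hθ : θ ^ k ∈ K) : cstab E x ≤ K := fun b hb => by
  obtain ⟨z, hz, e'⟩ := h1 b hb
  obtain ⟨n, rfl⟩ := hg z hz
  have h2 : θ ∈ K := e ▸ pow_mem hθ l
  simpa using mul_mem (pow_mem h2 n) (hK (show (θ ^ n)⁻¹ * b ∈ stab E x from
    ⟨E.mul_mem (E.inv_mem (h.le hz)) hb.1, by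
      change _ • x = x
      rw [mul_smul, e', inv_smul_smul]⟩))

variable [Finite V] [Nontrivial V]

omit [Finite V] [Nontrivial V] in
theorem fin {p : ℕ} (hp : p.Coprime (Nat.card A)) {m : Mdl} {D : Subgroup A} {ι : m.M → V}
    (r : Real m E D ι) (hc : ∃ x fam w, m.full p x fam w) :
    ∃ x y : V, ∀ g : A, g • x = x → g • y = y → g = 1 := by
  obtain ⟨x, fam, w, h1, h2, h3⟩ := hc
  exact ⟨_, h.base_of_real r hp (fun e => by
    rw [← r.lin.zero] at e
    rw [(r.lin.eqv _ _).2 (r.inj e)] at h3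
    exact Bool.noConfusion h3) h1 (Or.inl h2)⟩

theorem levels (hE : ∀ a ∈ E, a ^ 2 ∈ Z) (h2 : ∀ v : V, v + v = 0 → v = 0) (hc : ¬ Cols E x)
    {m : Mdl} (r : ∃ ι : _ → V, Real m E (stab E x) ι) : (∃ D, ∃ ι : _ → V, Real m.dbl E D ι) ∧
      ∃ D, ∃ ι : _ → V, Real m.dbl.dbl E D ι := by
  obtain ⟨ι, r⟩ := r
  obtain ⟨b, hb, r₁, h1⟩ := h.real_dbl hE h2 r fun e => hc (Or.inr ⟨1, one_mem _, fun a ha =>
    Or.inl ⟨ha, fun d hd => by rw [e] at hd; simp [mem_bot.1 hd]⟩⟩)
  obtain ⟨b', -, r₂, -⟩ := h.real_dbl hE h2 r₁ fun e => hc (Or.inr ⟨b, hb, fun a ha =>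
    h1 a ⟨ha, fun d hd => by rw [e] at hd; simp [mem_bot.1 hd]⟩⟩)
  exact ⟨⟨_, _, r₁⟩, _, _, r₂⟩

theorem base_small {p : ℕ} (hp : p = 3 ∨ p = 5) (h0 : ∀ v : V, p • v = 0)
    (hcop : p.Coprime (Nat.card A)) (hx : IsMax E x) {θ : A} (hθ : θ ∈ Z)
    (hg : ∀ z ∈ Z, ∃ n : ℕ, θ ^ n = z) (h8 : θ ^ 8 = 1) (hc : ¬ Cols E x) :
    ∃ x y : V, ∀ g : A, g • x = x → g • y = y → g = 1 := by
  have hE : ∀ a ∈ E, a ^ 2 ∈ Z := fun a ha => by
    obtain ⟨u, hu, u', hu', m, hm, h1, rfl⟩ := h.decomp ha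
    refine (mul_mem hu (h.le_sqs (h.selfc u' fun y hy => commutatorElement_eq_one_iff_mul_comm.1
      (mem_bot.1 (mem_of_coprime (a := m) (b := 2 ^ 3) ?_ ?_
        ((Nat.coprime_two_right.2 hm).pow_right 3)))))).2
    · rw [← PG.commutator_pow_right (h.commute hy hu' hu')]
      exact commutatorElement_eq_one_iff_mul_comm.2 (h.cen _ h1 y hy).symm
    · obtain ⟨n, hn⟩ := hg _ (h.comm y hy u' hu')
      rw [← hn, pow_right_comm, show θ ^ 2 ^ 3 = 1 from h8, one_pow]; rfl
  have h2 : ∀ v : V, v + v = 0 → v = 0 := fun v e => by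
    have := h0 v
    rcases hp with rfl | rfl
    · linear_combination (norm := abel) this - e
    · linear_combination (norm := abel) this - e - e
  have hθ1 : θ ≠ 1 := fun e => hc (Or.inr ⟨1, one_mem _, fun a ha => Or.inl ⟨ha, fun d hd => by
    obtain ⟨n, hn⟩ := hg _ (h.comm d hd.1 a ha)
    rw [← commutatorElement_eq_one_iff_mul_comm, ← hn, e, one_pow]⟩⟩)
  have hB : ∀ n, θ ^ n ∈ cstab E x := fun n => h.le_cstab x (pow_mem hθ n)
  have hB1 := h.le_cstab x hθ
  have hF : ∀ w, Fx E x w → ∀ n : ℕ, Fx E x (n • w) := fun w hw n => nsmul_mem (S := fxs E x) hw n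
  have lv := fun {m : Mdl} => h.levels hE h2 hc (m := m)
  have h9 : (θ ^ 3) ^ 3 = θ := by rw [← pow_mul, pow_succ, h8, one_mul]
  have h11 : (θ ^ 1) ^ 1 = θ := by simp
  rcases h.cstab_cases hx with h1 | ⟨i, hi, j, hj, h1, h3, h4, h5, h6⟩
  · have g1 := fun K hK (e : θ ∈ K) => h.gen_one hg h1 h11 K hK (pow_mem e 1)
    by_cases t2 : θ ^ 2 = 1
    · have e := h.neg_of_sq hθ t2 hθ1 x
      rcases hp with rfl | rfl
      · obtain ⟨D, ι, r⟩ := (lv (h.real1 hx.1 h0 b3 hx.1 Fx.self hB1 (by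
          change _ = 2 • x; linear_combination (norm := abel) e - h0 x) g1)).2
        by_cases hD : D = ⊥
        · obtain ⟨x, fam, c1, c2, c3⟩ := c3b
          exact ⟨_, h.base_of_real r hcop (fun e => by
            rw [← r.lin.zero] at e
            exact Bool.noConfusion (c2.symm.trans ((r.lin.eqv _ _).2 (r.inj e)))) c1
            (w := fun _ => x) (Or.inr ⟨hD, c3⟩)⟩
        · obtain ⟨b, -, r', -⟩ := h.real_dbl hE h2 r hD
          exact h.fin hcop r' c3
      · obtain ⟨D, ι, r⟩ := (lv (h.real1 hx.1 h0 b5a hx.1 Fx.self hB1 (by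
          change _ = 4 • x; linear_combination (norm := abel) e - h0 x) g1)).2
        exact h.fin hcop r c5a
    by_cases t4 : (θ ^ 2) ^ 2 = 1
    · have e := h.neg_of_sq (pow_mem hθ 2) t4 t2
      simp only [sq, mul_smul] at e
      rcases hp with rfl | rfl
      · have a1 : θ • x = 0 • x + 1 • θ • x := by simp
        have a2 : θ • θ • x = 2 • x + 0 • θ • x := by
          rw [zero_nsmul]
          linear_combination (norm := abel) e x - h0 x
        obtain ⟨D, ι, r⟩ := (lv (h.real2 hx.1 h0 b9a hx.1 Fx.self (Fx.self.smul hB1) hB1 hB1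
          a1 a2 a1 a2 fun K k1 k2 _ => g1 K k1 k2)).2
        exact h.fin hcop r c9a
      · obtain ⟨D, ι, r⟩ : ∃ D, ∃ ι : _ → V, Real m5b.dbl.dbl E D ι := by
          by_cases t : θ • x + 2 • x = 0
          · refine (lv (h.real1 hx.1 h0 b5b hx.1 Fx.self (hB 3) ?_ (h.gen_one hg h1 h9))).2
            change _ = 2 • x
            simp only [pow_succ, pow_zero, one_mul, mul_smul, e, smul_neg]
            linear_combination (norm := abel) -t
          · refine (lv (h.real1 hx.1 h0 b5b t ((Fx.self.smul hB1).add (hF _ Fx.self 2)) hB1 ?_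
              g1)).2
            change _ = 2 • (θ • x + 2 • x)
            rw [smul_add, smul_comm θ 2, e]
            linear_combination (norm := abel) -h0 x
        exact h.fin hcop r c5b
    have e := h.neg_of_sq (pow_mem (pow_mem hθ 2) 2) (by rw [← pow_mul, ← pow_mul, h8]) t4
    simp only [sq, mul_smul] at e
    have a1 : ∀ (γ : A) (y : V), γ • y = 0 • y + 1 • γ • y := by simp
    rcases hp with rfl | rfl
    · obtain ⟨D, ι, r⟩ : ∃ D, ∃ ι : _ → V, Real m9b.dbl.dbl E D ι := by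
        by_cases t : θ • θ • x + θ • x - x = 0
        · have a2 : θ ^ 5 • θ ^ 5 • x = 1 • x + 1 • θ ^ 5 • x := by
            simp only [pow_succ, pow_zero, one_mul, mul_smul, e, smul_neg]
            linear_combination (norm := abel) t
          exact (lv (h.real2 hx.1 h0 b9b hx.1 Fx.self (Fx.self.smul (hB 5)) (hB 5) (hB 5) (a1 _ _)
            a2 (a1 _ _) a2 fun K k1 k2 _ => h.gen_one (l := 5) hg h1 (by
              rw [← pow_mul, pow_succ, show 24 = 8 * 3 from rfl, pow_mul, h8]; simp)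
              K k1 k2)).2
        · have f1 := (((Fx.self.smul hB1).smul hB1).add (Fx.self.smul hB1)).sub Fx.self
          have a2 : θ • θ • (θ • θ • x + θ • x - x) =
              1 • (θ • θ • x + θ • x - x) + 1 • θ • (θ • θ • x + θ • x - x) := by
            simp only [smul_add θ, smul_sub θ, e]
            linear_combination (norm := abel) -h0 (θ • θ • x)
          exact (lv (h.real2 hx.1 h0 b9b t f1 (f1.smul hB1) hB1 hB1 (a1 _ _) a2 (a1 _ _) a2
            fun K k1 k2 _ => g1 K k1 k2)).2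
      exact h.fin hcop r c9b
    · obtain ⟨D, ι, r⟩ : ∃ D, ∃ ι : _ → V, Real m25.dbl E D ι := by
        by_cases t : θ • θ • x + 2 • x = 0
        · have a2 : θ ^ 3 • θ ^ 3 • x = 2 • x + 0 • θ ^ 3 • x := by
            simp only [pow_succ, pow_zero, one_mul, mul_smul, e, smul_neg, zero_nsmul]
            linear_combination (norm := abel) -t
          exact (lv (h.real2 hx.1 h0 b25 hx.1 Fx.self (Fx.self.smul (hB 3)) (hB 3) (hB 3) (a1 _ _)
            a2 (a1 _ _) a2 fun K k1 k2 _ => h.gen_one hg h1 h9 K k1 k2)).1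
        · have f1 := ((Fx.self.smul hB1).smul hB1).add (hF _ Fx.self 2)
          have a2 : θ • θ • (θ • θ • x + 2 • x) =
              2 • (θ • θ • x + 2 • x) + 0 • θ • (θ • θ • x + 2 • x) := by
            simp only [smul_add θ, smul_comm θ 2, e, zero_nsmul]
            linear_combination (norm := abel) -h0 x
          exact (lv (h.real2 hx.1 h0 b25 t f1 (f1.smul hB1) hB1 hB1 (a1 _ _) a2 (a1 _ _) a2
            fun K k1 k2 _ => g1 K k1 k2)).1
      exact h.fin hcop r c25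
  have t2 : θ ^ 2 = 1 := by
    obtain ⟨k, hk, e⟩ := (Nat.dvd_prime_pow Nat.prime_two (m := 3)).1
      (orderOf_dvd_of_pow_eq_one h8)
    have := Z.orderOf_dvd_natCard hθ
    rw [← orderOf_dvd_iff_pow_eq_one]
    rw [e] at this ⊢
    interval_cases k
    · decide
    · decide
    · exact absurd this h5
    · exact absurd (dvd_trans (by decide) this) h5
  have g2 : ∀ K : Subgroup A, stab E x ≤ K → i ∈ K → j ∈ K → cstab E x ≤ K := fun K k1 k2 k3 =>
    h6 K k1 (fun z hz => by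
      obtain ⟨n, rfl⟩ := hg z hz
      rw [h.eq_of_sq hθ (h.comm i hi.1 j hj.1) t2 (h.comm_sq hj.1 hi.1 (hE j hj.1)) hθ1 h4]
      exact pow_mem (mul_mem (mul_mem (mul_mem k2 k3) (inv_mem k2)) (inv_mem k3)) n) k2 k3
  have hij : ∀ v : V, j • i • v = -(i • j • v) := fun v => by
    rw [← mul_smul i, PG.mul_eq_commutator_mul_mul i, mul_smul, h3, mul_smul, neg_neg]
  have ix := Fx.self.smul hi
  have jx := Fx.self.smul hj
  rcases hp with rfl | rfl
  · obtain ⟨y, f1, f2, f3⟩ : ∃ y, Fx E x y ∧ y ≠ 0 ∧ i • y + j • y = y := by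
      by_cases t : x + (i • x + j • x) = 0
      · refine ⟨i • j • x, jx.smul hi, fun e => hx.1
          ((smul_eq_zero_iff_eq j).1 ((smul_eq_zero_iff_eq i).1 e)), ?_⟩
        have := congrArg (fun v => j • i • v) t
        simp only [smul_add, smul_zero, hij, (h1 _ Fx.self).1, (h1 _ Fx.self).2, smul_neg,
          (h1 _ jx).1] at this ⊢
        linear_combination (norm := abel) this
      · refine ⟨_, Fx.self.add (ix.add jx), t, ?_⟩
        simp only [smul_add, hij, (h1 _ Fx.self).1, (h1 _ Fx.self).2]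
        linear_combination (norm := abel) -h0 x
    have f4 := congrArg (i • ·) f3
    simp only [smul_add, (h1 y f1).1] at f4
    obtain ⟨D, ι, r⟩ := (lv (h.real2 hx.1 h0 b3q f2 f1 (f1.smul hi) hi hj
      (show i • y = 0 • y + 1 • i • y by simp)
      (show i • i • y = 2 • y + 0 • i • y by
        rw [zero_nsmul]
        linear_combination (norm := abel) (h1 y f1).1 - h0 y)
      (show j • y = 1 • y + 2 • i • y by
        linear_combination (norm := abel) f3 - h0 (i • y))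
      (show j • i • y = 2 • y + 2 • i • y by
        linear_combination (norm := abel) hij y - f4 - h0 y - h0 (i • y)) g2)).2
    exact h.fin hcop r c3q
  · obtain ⟨y, f1, f2, f3⟩ : ∃ y, Fx E x y ∧ y ≠ 0 ∧ i • y = 2 • y := by
      by_cases t : i • x + 2 • x = 0
      · refine ⟨j • x, jx, fun e => hx.1 ((smul_eq_zero_iff_eq j).1 e), ?_⟩
        have := congrArg (j • ·) t
        simp only [smul_add, smul_zero, hij, smul_comm j 2] at this
        linear_combination (norm := abel) -this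
      · refine ⟨_, ix.add (hF _ Fx.self 2), t, ?_⟩
        rw [smul_add, smul_comm i 2, (h1 _ Fx.self).1]
        linear_combination (norm := abel) -h0 x
    have f4 := hij y
    rw [f3, smul_comm j 2] at f4
    obtain ⟨D, ι, r⟩ := (lv (h.real2 hx.1 h0 b5q f2 f1 (f1.smul hj) hi hj
      (show i • y = 2 • y + 0 • j • y by simp [f3])
      (show i • j • y = 0 • y + 3 • j • y by
        rw [zero_nsmul]
        linear_combination (norm := abel) f4 - h0 (j • y))
      (show j • y = 0 • y + 1 • j • y by simp)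
      (show j • j • y = 4 • y + 0 • j • y by
        rw [zero_nsmul]
        linear_combination (norm := abel) (h1 y f1).2 - h0 y) g2)).1
    exact h.fin hcop r c5q

theorem hasBase_two {p : ℕ} (hp : p.Prime) (hp2 : p ≠ 2) (h0 : ∀ v : V, p • v = 0)
    (hcop : p.Coprime (Nat.card A)) : HasBase A V Bool := by
  suffices h' : ∃ x y : V, ∀ g : A, g • x = x → g • y = y → g = 1 by
    obtain ⟨x, y, h'⟩ := h'
    exact ⟨fun b => bif b then x else y, fun g hg u => by rw [h' g (hg true) (hg false), one_smul]⟩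
  obtain ⟨x, y₀, hx, h1, h2⟩ := h.exists_pair hp h0
  by_cases hc : Cols E x
  · refine ⟨x, h.gen hx (fun e => hx.1 ?_) h1 h2 hc⟩
    rw [← two_nsmul] at e
    exact AddMonoid.addOrderOf_eq_one_iff.1 (Nat.eq_one_of_dvd_coprimes
      ((Nat.coprime_primes hp Nat.prime_two).2 hp2) (addOrderOf_dvd_of_nsmul_eq_zero (h0 x))
      (addOrderOf_dvd_of_nsmul_eq_zero e))
  obtain ⟨θ, hθ, hg⟩ := h.exists_zpowers
  have h7 : ¬ 7 ≤ p := fun e => hc (cols_of_prime hp h0 e hx.1)
  refine h.base_small ?_ h0 hcop hx hθ hg (by_contra fun e => hc (h.cols_of_eight hθ e hx.1)) hc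
  have := hp.two_le
  interval_cases p <;> simp_all (config := {decide := true})

end Str

theorem exists_bases {p m : ℕ} (hp : p.Prime) (hm : m ≤ p) (h0 : ∀ v : V, p • v = 0)
    (hcop : p.Coprime (Nat.card A)) {H : Subgroup A} {U : AddSubgroup V} (hU : U ≠ ⊥)
    {x : Bool → V} (hx : IsBase H U x) : ∃ y : Fin m → Bool → V, (∀ k, IsBase H U (y k)) ∧
      ∀ k k' (a : A), (∀ i, a • y k i = y k' i) → k = k' := by
  obtain ⟨x, y, h1, h2, h3, h4⟩ : ∃ x y, x ∈ U ∧ y ∈ U ∧ y ≠ 0 ∧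
      ∀ a ∈ H, a • x = x → a • y = y → ∀ u ∈ U, a • u = u := by
    by_cases e : x true = 0
    · obtain ⟨⟨u, hu⟩, hu0⟩ := (AddSubgroup.ne_bot_iff_exists_ne_zero).1 hU
      exact ⟨x false, u, hx.1 _, hu, fun e => hu0 (Subtype.ext e), fun a ha h1 _ => hx.2 a ha
        (Bool.rec h1 (by rw [e, smul_zero]))⟩
    · exact ⟨x false, x true, hx.1 _, hx.1 _, e, fun a ha h1 h2 => hx.2 a ha (Bool.rec h1 h2)⟩
  refine ⟨fun k b => bif b then x + k.1 • y else y, fun k => ⟨Bool.rec h2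
    (add_mem h1 (nsmul_mem h2 _)), fun a ha e => h4 a ha ?_ (e false)⟩, fun k k' a e => ?_⟩
  · have := e true
    simp only [cond_true, smul_add, smul_comm a k.1, show a • y = y from e false] at this
    exact add_right_cancel this
  have e1 : a • y = y := e false
  have e2 := e true
  simp only [cond_true, smul_add, smul_comm a k.1, e1] at e2
  have e3 : ∀ n : ℕ, a ^ n • x + (n * k.1) • y = x + (n * k'.1) • y := fun n => by
    induction n with
    | zero => simp
    | succ n ih =>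
      have := congrArg (a • ·) ih
      simp only [smul_add, smul_comm a (_ : ℕ), e1, ← mul_smul a] at this
      rw [pow_succ', add_mul, add_mul, add_nsmul, add_nsmul, one_mul, one_mul]
      linear_combination (norm := abel) this + e2
  have e4 := e3 (Nat.card A)
  have := Fact.mk hp
  rw [pow_card_eq_one', one_smul, add_right_inj, nsmul_eq_nsmul_iff_modEq,
    addOrderOf_eq_prime (h0 y) h3] at e4
  exact Fin.ext (Nat.ModEq.eq_of_lt_of_lt (Nat.ModEq.cancel_left_of_coprime hcop e4)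
    (k.2.trans_le hm) (k'.2.trans_le hm))

theorem hasBase_two_aux (n : ℕ) : ∀ (A V : Type u) [Group A] [Finite A] [Group.IsSolvable A]
    [AddCommGroup V] [Finite V] [DistribMulAction A V], Nat.card V = n →
    (Nat.card A).Coprime (Nat.card V) → CR A V → HasBase A V Bool := by
  induction n using Nat.strong_induction_on with
  | _ n ih =>
  rintro A₀ V _ _ _ _ _ _ rfl hcop₀ hcr₀
  refine HasBase.of_img ?_
  have hcr := hcr₀.img
  have hf := img_faithful (A := A₀) (V := V)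
  have := Group.isSolvable_of_surjective (toImg_surj (A := A₀) (V := V))
  have : Finite (Img A₀ V) := Finite.of_surjective _ toImg_surj
  have hcop := hcop₀.coprime_dvd_left (card_img_dvd (A := A₀) (V := V))
  generalize Img A₀ V = A at *
  have hlt : ∀ U : AddSubgroup V, U ≠ ⊤ → Nat.card U < Nat.card V := fun U hU =>
    lt_of_le_of_ne U.card_le_card_addGroup fun e => hU (AddSubgroup.eq_top_of_card_eq _ e)
  have hsub : ∀ (H : Subgroup A) (U : AddSubgroup V) (h : Inv H U), U ≠ ⊤ →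
      (letI := resAct H U h; CR H U) → ∃ x : Bool → V, IsBase H U x := fun H U h hU hc =>
    exists_isBase_of_res h (by
      let := resAct H U h
      exact ih _ (hlt U hU) H U rfl ((hcop.coprime_dvd_left (card_subgroup_dvd_card H)).coprime_dvd_right
        U.card_addSubgroup_dvd_card) hc)
  by_cases hirr : Irr A V
  swap
  · simp only [Irr, not_forall, not_or] at hirr
    obtain ⟨U, hU, h1, h2⟩ := hirr
    obtain ⟨W, hW, h3, h4⟩ := hcr U hU
    have hU' : Inv (⊤ : Subgroup A) U := fun a _ => hU a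
    have hW' : Inv (⊤ : Subgroup A) W := fun a _ => hW a
    obtain ⟨x, hx⟩ := hsub ⊤ U hU' h2 (cr_res_of_cr hcr hU')
    obtain ⟨y, hy⟩ := hsub ⊤ W hW' (fun e => h1 (by rwa [e, inf_top_eq] at h3)) (cr_res_of_cr hcr hW')
    exact hasBase_of_compl hU' hW' h3 h4 hx hy
  rcases subsingleton_or_nontrivial V with hV | hV
  · exact ⟨0, fun _ _ _ => Subsingleton.elim _ _⟩
  obtain ⟨p, k, hp, h0, hk⟩ := hirr.exists_prime
  have hpA : p.Coprime (Nat.card A) := hcop.symm.coprime_dvd_left (hk ▸ dvd_pow_self p (by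
    rintro rfl
    exact (Finite.one_lt_card (α := V)).ne' hk))
  by_cases hp2 : p = 2
  · exact hasBase_of_odd (Nat.coprime_two_left.1 (hp2 ▸ hpA)) hcr
  by_cases hpr : Prim A V
  · obtain ⟨Z, E, h⟩ := exists_str hpr
    exact h.hasBase_two hp hp2 h0 hpA
  obtain ⟨U, h1, h2, h3⟩ := exists_indep hf hpr
  have : Finite (MulAction.orbit A U) := Finite.finite_mulAction_orbit U
  obtain ⟨x, hx⟩ := hsub _ U (inv_stabilizer U) h2 (cr_res_of_irr _ (h3.irr hirr))
  by_cases hp3 : p = 3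
  · obtain ⟨c, hc⟩ := exists_col_three A (MulAction.orbit A U)
      ((Nat.Prime.coprime_iff_not_dvd Nat.prime_three).1 (hp3 ▸ hpA))
    obtain ⟨y, hy1, hy2⟩ := exists_bases hp hp3.ge h0 hpA h1 hx
    exact hasBase_of_indep hirr h1 h3 c hc y hy1 hy2
  · obtain ⟨c, hc⟩ := exists_col_five A (MulAction.orbit A U)
    obtain ⟨y, hy1, hy2⟩ := exists_bases hp (hp.five_le_of_ne_two_of_ne_three hp2 hp3) h0 hpA h1 hx
    exact hasBase_of_indep hirr h1 h3 c hc y hy1 hy2

/-- Dolfi, Vdovin: a solvable group has a base of size two on a coprime module. -/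
theorem modBase_bool : ModBase.{u, v} Bool := by
  intro A V _ _ _ _ _ _ hcop hcr
  have := Group.isSolvable_of_surjective (toImg_surj (A := A) (V := V))
  have : Finite (Img A V) := Finite.of_surjective _ toImg_surj
  exact (hasBase_two_aux _ (Img A V) V rfl (hcop.coprime_dvd_left card_img_dvd) hcr.img).of_img

end CL.SolvLin
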