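import Mathlib
import Cfsg.Agent.FGS.CITM10
import Cfsg.Agent.PERM.SpecSL2
import Cfsg.Agent.S3050

/-! Groups whose set of element orders is `{1, 2, 3, 4, 5}`. -/

set_option autoImplicit false
set_option linter.unusedSectionVars false

namespace CL.CITC

open Subgroup CL Cfsg Matrix
open scoped MatrixGroups

variable {G : Type*} [Group G] [Finite G] {F : Type*} [Field F] [Fintype F]

theorem IsCIT.higman (h : IsCIT G) {Q : Subgroup G} [Q.Normal] (hQ : IsPGroup 2 Q) {n : ℕ} (hn : 2 ≤ n)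
    (hF : Fintype.card F = 2 ^ n) (e : G ⧸ Q ≃* PSL(2, F)) :
    IsElementaryAbelian 2 Q ∧ ∃ (k : ℕ) (V : Fin k → Subgroup G), (∀ i, V i ≤ Q ∧ (V i).Normal ∧
      ActsAsSL2OnSection F ⊤ ⊤ (V i) ⊥) ∧ iSupIndep V ∧ ⨆ i, V i = Q := by
  have : CharP F 2 := (CharP.charP_iff_prime_eq_zero Nat.prime_two).2 (two_eq_zero_of_card hF)
  obtain ⟨x, hx⟩ := exists_prime_orderOf_dvd_card' (G := G) 3
    ((three_dvd_card_psl2 e).trans (card_quotient_dvd_card _))
  refine Agent.S3050.result Q hQ n hn F hF (e.trans Spec.psl2EquivCharTwo) x hx fun q hq h1 => ?_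
  obtain ⟨k, hk⟩ := hQ ⟨q, hq⟩
  exact h.eq_one_of_commute (fun h => by simp [h] at hx) (hx ▸ by decide)
    (mul_inv_eq_iff_eq_mul.1 h1) (congrArg Subtype.val hk)

theorem struct_of_five (h : ∀ n, (∃ g : G, orderOf g = n) ↔ 1 ≤ n ∧ n ≤ 5) :
    IsCIT G ∧ (Nonempty (G ≃* alternatingGroup (Fin 6)) ∨ ∃ (F : Type) (_ : Field F) (_ : Fintype F),
      Fintype.card F = 4 ∧ Nonempty (G ⧸ pCore 2 G ≃* PSL(2, F))) := by
  have h1 : Eppo G := fun g hg => by
    obtain ⟨h1, h2⟩ := (h _).1 ⟨g, rfl⟩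
    have h3 := mt orderOf_eq_one_iff.1 hg
    generalize orderOf g = n at *
    interval_cases n
    exacts [absurd rfl h3, Nat.prime_two.isPrimePow, Nat.prime_three.isPrimePow,
      Nat.prime_two.isPrimePow.pow two_ne_zero, Nat.prime_five.isPrimePow]
  have h2 : ∀ n, 1 ≤ n ∧ n ≤ 5 → n ∣ Nat.card G := fun n hn => by
    obtain ⟨g, rfl⟩ := (h n).2 hn; exact orderOf_dvd_natCard g
  have h3 : ∀ r, r.Prime → 5 < r → ¬ r ∣ Nat.card G := fun r hr h5 h3 => by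
    have := Fact.mk hr
    have := (h r).1 (exists_prime_orderOf_dvd_card' r h3)
    omega
  have h4 : ∀ r, r.Prime → 5 < r → ¬ r ∣ Nat.card (G ⧸ pCore 2 G) := fun r hr h5 h4 =>
    h3 r hr h5 (h4.trans (card_quotient_dvd_card _))
  have hG := not_isSolvable_of_three (G := G) Nat.prime_two Nat.prime_three Nat.prime_five (by decide)
    (by decide) (by decide) (h2 2 (by decide)) (h2 3 (by decide)) (h2 5 (by decide))
    (by rw [h]; decide) (by rw [h]; decide) (by rw [h]; decide)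
  refine ⟨isCIT_of_primePow h1, ?_⟩
  rcases h1.struct hG with ⟨K, _, _, h1 | h1, ⟨e⟩⟩ | ⟨K, _, _, ⟨h1, ⟨e⟩⟩ | ⟨h1, ⟨e⟩⟩⟩ |
    ⟨h0, ⟨K, _, _, h1 | h1, ⟨e⟩⟩ | ⟨K, _, _, h1, ⟨e⟩⟩ | ⟨N, _, h5, ⟨e⟩⟩⟩
  · exact .inr ⟨K, _, _, h1, ⟨e⟩⟩
  · exact absurd (card_psl2_even (n := 3) h1 e ▸ by decide) (h4 7 (by decide) (by decide))
  · exact absurd (card_suzuki (m := 1) h1 e ▸ by decide) (h4 7 (by decide) (by decide))
  · exact absurd (card_suzuki (m := 2) h1 e ▸ by decide) (h4 31 (by decide) (by decide))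
  · have := (h 7).1 ((spec_psl2_prime (h1 ▸ by decide) (by omega) e 7).2 (.inl h1.symm.dvd))
    omega
  · have := (h 9).1 ((spec_psl2_prime (h1 ▸ by decide) (by omega) e 9).2 (h1 ▸ by decide))
    omega
  · exact absurd (by rw [Nat.card_congr e.toEquiv, card_psl3_four h1]; decide)
      (h3 7 (by decide) (by decide))
  · obtain rfl := (isCIT_of_primePow h1).eq_top_of_A6 h0 h5 e fun g hg => by
      have := (h 8).1 ⟨g, hg⟩; omega
    exact .inl ⟨topEquiv.symm.trans e⟩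

end CL.CITC
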