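import Mathlib
import Cfsg.Agent.FGS.CITCN
import Cfsg.Agent.FGS.CITBasic
import Cfsg.Agent.SOLV.Frobenius

/-! Non-solvable CN-groups have `2`-groups as involution centralizers. -/

set_option autoImplicit false
set_option linter.unusedSectionVars false

namespace CL.CIT

open Subgroup Cfsg CL.MSS CL.Th

variable {G : Type*} [Group G] [Finite G]

theorem mem_of_two_odd {K : Subgroup G} {g : G} (h1 : ∀ k : ℕ, Odd (orderOf (g ^ k)) → g ^ k ∈ K)
    (h2 : ∀ k : ℕ, Two (g ^ k) → g ^ k ∈ K) : g ∈ K := by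
  obtain ⟨k, hk⟩ := exists_odd_pow g
  obtain ⟨m, hm⟩ := Two.of_odd_pow g
  obtain ⟨a, b, e⟩ : IsCoprime ((2 ^ k : ℕ) : ℤ) ((2 * m + 1 : ℕ) : ℤ) :=
    Nat.isCoprime_iff_coprime.2 ((Nat.coprime_two_left.2 ⟨m, rfl⟩).pow_left k)
  rw [← zpow_one g, ← e, zpow_add, zpow_mul', zpow_mul', zpow_natCast, zpow_natCast]
  exact mul_mem (zpow_mem (h1 _ hk) a) (zpow_mem (h2 _ hm) b)

theorem cn_commute (hCN : IsCNGroup G) {u a b : G} (hu : u ≠ 1) (ha : Commute a u) (hb : Commute b u)
    (ho : Odd (orderOf a)) (h2 : Two b) : Commute a b := commute_of_nilpotent (hCN _ hu)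
  (mem_centralizer_singleton_iff.2 ha.eq) (mem_centralizer_singleton_iff.2 hb.eq) (h2.coprime ho)

theorem cn_subgroup (hCN : IsCNGroup G) (N : Subgroup G) : IsCNGroup N := fun x hx => by
  have h1 : centralizer ({x} : Set N) = (centralizer ({(x : G)} : Set G)).subgroupOf N := by
    ext g
    rw [mem_subgroupOf, mem_centralizer_singleton_iff, mem_centralizer_singleton_iff, Subtype.ext_iff]
    rfl
  rw [h1]
  exact isNilpotent_subgroupOf (hCN _ fun e => hx (Subtype.ext e)) N

theorem exists_cc (hCN : IsCNGroup G) {t y : G} (ht : orderOf t = 2) (hy : Commute y t)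
    (ho : Odd (orderOf y)) (hy1 : y ≠ 1) : ∃ (S : Sylow 2 G) (z : G), orderOf z = 2 ∧ Commute y z ∧
      (∀ s ∈ (S : Subgroup G), Commute s z) ∧
      ∀ x g : G, x ≠ 1 → Commute x z → Commute g x → Commute g z := by
  obtain ⟨S, hS⟩ := (Two.of_mul_self (mul_self_of_order ht)).zpowers.exists_le_sylow
  have htS := hS (mem_zpowers t)
  obtain ⟨⟨u, hu⟩, hu1⟩ := ne_bot_iff_exists_ne_one.1 (inf_centralizer_ne_bot S.2 S.2 le_normalizer
    fun e => ne_one_of_order ht (mem_bot.1 (e ▸ htS)))
  obtain ⟨j, hz⟩ := (Two.of_mem S.2 hu.1).exists_invol (fun e => hu1 (Subtype.ext e))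
  have hzS : ∀ s ∈ (S : Subgroup G), Commute s (u ^ 2 ^ j) := fun s hs =>
    (show Commute s u from hu.2 s hs).pow_right _
  generalize u ^ 2 ^ j = z at hz hzS
  have hz2 := Two.of_mul_self (mul_self_of_order hz)
  have hz1 := ne_one_of_order hz
  have hyz : Commute y z := cn_commute hCN (ne_one_of_order ht) hy (hzS t htS).symm ho hz2
  have h1 : ∀ a : G, Odd (orderOf a) → a ≠ 1 → Commute a z → ∀ b : G, Two b → Commute b a →
      Commute b z := fun a ha ha1 haz b hb hba => by
    have hN := hCN a ha1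
    have hSa : (S : Subgroup G) ≤ centralizer {a} := fun s hs => mem_centralizer_singleton_iff.2
      (cn_commute hCN hz1 haz (hzS s hs) ha (Two.of_mem S.2 hs)).symm.eq
    have hn : ((sylIn_sylow S hSa).toSylow : Subgroup (centralizer ({a} : Set G))).Normal :=
      inferInstance
    have := normal_subgroupOf_iff_le_normalizer hSa |>.1 hn
    have hb' : zpowers b ≤ centralizer {a} := zpowers_le.2 (mem_centralizer_singleton_iff.2 hba.eq)
    exact hzS b ((sylIn_sylow S hSa).le_of_normalizes hb.zpowers hb' (hb'.trans this)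
      (mem_zpowers b))
  refine ⟨S, z, hz, hyz, hzS, fun x g hx1 hxz hgx => ?_⟩
  refine mem_centralizer_singleton_iff.1 (mem_of_two_odd (fun k hk => ?_) fun k hk => ?_)
  · exact mem_centralizer_singleton_iff.2 (cn_commute hCN hx1 (hgx.pow_left _) hxz.symm hk hz2).eq
  · refine mem_centralizer_singleton_iff.2 (Commute.eq ?_)
    obtain ⟨l, hl⟩ := exists_odd_pow x
    by_cases e : x ^ 2 ^ l = 1
    · exact h1 y ho hy1 hyz _ hk
        (cn_commute hCN hx1 (cn_commute hCN hz1 hyz hxz ho ⟨l, e⟩) (hgx.pow_left _) ho hk).symm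
    · exact h1 _ hl e (hxz.pow_left _) _ hk ((hgx.pow_left _).pow_right _)

theorem commute_conj {a b : G} (h : Commute a b) (g : G) : Commute (g * a * g⁻¹) (g * b * g⁻¹) := by
  simpa using h.map (MulAut.conj g)

theorem orderOf_conj' (g a : G) : orderOf (g * a * g⁻¹) = orderOf a := (MulAut.conj g).orderOf_eq a

theorem Two.conj' {a : G} (h : Two a) (g : G) : Two (g * a * g⁻¹) :=
  let ⟨k, hk⟩ := h; ⟨k, by rw [conj_pow, hk, mul_one, mul_inv_cancel]⟩

theorem isCIT_of_cn' (hG : ¬ Group.IsSolvable G) (hCN : IsCNGroup G) : CITC.IsCIT G := by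
  intro t ht
  refine isPGroup_of_odd fun y hy ho => ?_
  by_contra hy1
  obtain ⟨S, z, hz, hyz, hzS, hcc⟩ := exists_cc hCN ht (mem_centralizer_singleton_iff.1 hy) ho hy1
  have hz2 := Two.of_mul_self (mul_self_of_order hz)
  have hz1 := ne_one_of_order hz
  have hne : ∀ {g a : G}, a ≠ 1 → g * a * g⁻¹ ≠ 1 := fun ha e => ha (conj_eq_one_iff.1 e)
  have hS : ∀ a : G, Two a → ∃ g : G, Commute (g * a * g⁻¹) z := fun a ha => by
    obtain ⟨P, hP⟩ := ha.zpowers.exists_le_sylow
    obtain ⟨g, rfl⟩ := MulAction.exists_smul_eq G P S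
    exact ⟨g, hzS _ (smul_mem_pointwise_smul _ (MulAut.conj g) _ (hP (mem_zpowers a)))⟩
  have hTI : ∀ g x : G, x ≠ 1 → Commute x z → Commute (g * x * g⁻¹) z → ∀ k : G, Commute k z →
      Commute (g * k * g⁻¹) z := fun g x hx1 hx hgx k hk => by
    have h1 : Commute (g⁻¹ * z * g⁻¹⁻¹) z := hcc x _ hx1 hx (by
      simpa [mul_assoc] using (commute_conj hgx g⁻¹).symm)
    have h2 : ∀ k : G, Odd (orderOf k) → Commute k z → Commute (g * k * g⁻¹) z := fun k ho hk => by
      simpa [mul_assoc] using commute_conj (cn_commute hCN hz1 hk h1 ho (hz2.conj' _)) g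
    refine mem_centralizer_singleton_iff.1 (mem_of_two_odd (fun j hj => ?_) fun j hj => ?_) <;>
      rw [conj_pow] at hj ⊢ <;> refine mem_centralizer_singleton_iff.2 (Commute.eq ?_)
    · exact h2 _ (orderOf_conj' g _ ▸ hj) (hk.pow_left j)
    · refine hcc _ _ (hne hy1) (h2 y ho hyz) (commute_conj (cn_commute hCN hz1 hyz (hk.pow_left j) ho
        (by simpa [mul_assoc] using hj.conj' g⁻¹)).symm g)
  have : Nontrivial G := not_subsingleton_iff_nontrivial.1 fun _ => hG inferInstance
  obtain ⟨N, hN⟩ := exists_isMinNormal G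
  have := hN.normal
  obtain ⟨⟨n, hn⟩, hn1⟩ := ne_bot_iff_exists_ne_one.1 hN.ne_bot
  replace hn1 : n ≠ 1 := fun e => hn1 (Subtype.ext e)
  by_cases h0 : ∀ x ∈ N, Commute x z → x = 1
  · have h1 : Odd (Nat.card (centralizer (N : Set G))) := by
      by_contra h1
      obtain ⟨c, hc, h2⟩ := CITC.exists_orderOf_two_of_mem h1
      obtain ⟨g, hg⟩ := hS c (Two.of_mul_self (mul_self_of_order h2))
      exact hn1 (h0 n hn (hcc _ _ (hne (ne_one_of_order h2)) hg
        (Normal.conj_mem inferInstance c hc g n hn)))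
    have h2 : ∀ x ∈ N, z * x * z⁻¹ = x⁻¹ := fun x hx => by
      have := MonoidHom.FixedPointFree.coe_eq_inv_of_involutive (φ := (MulAut.conjNormal z : MulAut N))
        (fun q h => Subtype.ext (h0 q q.2
          (show Commute z q from mul_inv_eq_iff_eq_mul.1 (congrArg Subtype.val h)).symm))
        fun q => Subtype.ext (by
          have : z * (z * q * z⁻¹) * z⁻¹ = (z * z) * q * (z * z)⁻¹ := by group
          rw [mul_self_of_order hz, one_mul, inv_one, mul_one] at this
          exact this)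
      exact congrArg Subtype.val (congrFun this ⟨x, hx⟩)
    let f := QuotientGroup.mk' (centralizer (N : Set G))
    have h3 := isSolvable_of_odd _ h1
    have h4 : f z ≠ 1 := fun e => absurd (hz ▸ h1.of_dvd_nat (orderOf_dvd_natCard _
      ((QuotientGroup.eq_one_iff z).1 e))) (by decide)
    have h5 : centralizer {f z} = ⊤ := by
      refine eq_top_iff.2 fun g _ => ?_
      obtain ⟨g, rfl⟩ := QuotientGroup.mk'_surjective _ g
      rw [mem_centralizer_singleton_iff, ← map_mul, ← map_mul, QuotientGroup.mk'_eq_mk']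
      refine ⟨(g * z)⁻¹ * (z * g), fun k hk => ?_, by group⟩
      have h3 := h2 _ (Normal.conj_mem inferInstance k hk g)
      have h5 := h2 k hk
      calc _ = (g * z)⁻¹ * (g * (z * k * z⁻¹) * g⁻¹) * (z * g) := by group
        _ = (g * z)⁻¹ * (g * k * g⁻¹)⁻¹ * (z * g) := by rw [h5]; group
        _ = _ := by rw [← h3]; group
    have h6 := CL.CN.cn_of_surjective G hCN f (QuotientGroup.mk'_surjective _)
      (by rwa [QuotientGroup.ker_mk']) _ h4
    rw [h5] at h6
    have : Group.IsSolvable (G ⧸ centralizer (N : Set G)) := by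
      have := Group.nilpotent_of_mulEquiv topEquiv (_h := h6)
      infer_instance
    exact hG (Group.isSolvable_of_ker_le_range (centralizer (N : Set G)).subtype f (by simp [f]))
  push Not at h0
  obtain ⟨x, hx, hxz, hx1⟩ := h0
  by_cases hs : Group.IsSolvable N
  · have hc := hN.isMulCommutative_of_isSolvable hs
    have : (centralizer ({z} : Set G)).Normal := ⟨fun k hk g => mem_centralizer_singleton_iff.2
      (hTI g x hx1 hxz (hcc x _ hx1 hxz (mul_comm_of_mem_isMulCommutative N
        (Normal.conj_mem inferInstance x hx g) hx)) k (mem_centralizer_singleton_iff.1 hk)).eq⟩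
    have h1 : ¬ 2 ∣ Nat.card (G ⧸ centralizer ({z} : Set G)) := fun h => S.not_dvd_index
      (h.trans (index_dvd_of_le fun s hs => mem_centralizer_singleton_iff.2 (hzS s hs).eq))
    have := isSolvable_of_not_two_dvd _ h1
    have := hCN z hz1
    exact hG (Group.isSolvable_of_ker_le_range (centralizer ({z} : Set G)).subtype
      (QuotientGroup.mk' (centralizer ({z} : Set G))) (by simp))
  have := hN.nontrivial
  have hCN' := cn_subgroup hCN N
  have : IsSimpleGroup N := ⟨fun L hL => or_iff_not_imp_left.2 fun h0 => by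
    obtain ⟨M, hM, hML⟩ := exists_isMinNormal_le L h0
    have h4 : ∀ e : N ≃* N, M.map (e : N →* N) = M := fun e => by_contra fun h4 => by
      have := hM.normal
      have := (hM.map_equiv e).normal
      have h5 := isNilpotent_of_le (CL.CN.nil_cent_of_ne_bot hCN' hM.ne_bot)
        ((hM.map_equiv e).le_centralizer_of_ne hM h4)
      obtain ⟨p, hp, h6⟩ := exists_pCore_inf_ne_bot (M.map (e : N →* N)) inferInstance
        (hM.map_equiv e).ne_bot
      have := Fact.mk hp
      have := (pCore_eq_top_iff.1 ((hN.eq_bot_or_top_of_characteristic (pCore p N)).resolve_left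
        fun e => h6 (by rw [e, bot_inf_eq]))).isNilpotent
      exact hs inferInstance
    have : M.Characteristic := characteristic_iff_map_eq.2 h4
    exact top_le_iff.1 (((hN.eq_bot_or_top_of_characteristic M).resolve_left hM.ne_bot).ge.trans hML)⟩
  have hI := isCIT_of_cn (fun hc => hs (isSolvable_of_isMulCommutative N)) hCN'
  obtain ⟨s, hsN, hs2, hsz⟩ : ∃ s ∈ N, orderOf s = 2 ∧ Commute s z := by
    obtain ⟨s, h1, h2⟩ := CITC.exists_orderOf_two_of_mem fun ho => hs (isSolvable_of_odd N ho)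
    obtain ⟨g, hg⟩ := hS s (Two.of_mul_self (mul_self_of_order h2))
    exact ⟨_, Normal.conj_mem inferInstance s h1 g, by rw [orderOf_conj', h2], hg⟩
  have h1 : ∀ c ∈ N, Commute c z → Two c := fun c hc hcz => by
    obtain ⟨k, hk⟩ := exists_odd_pow c
    refine ⟨k, Two.eq_one ?_ hk⟩
    obtain ⟨j, hj⟩ := Two.of_mem (hI ⟨s, hsN⟩ (by rwa [orderOf_mk])) (u := ⟨c ^ 2 ^ k, pow_mem hc _⟩)
      (mem_centralizer_singleton_iff.2 (Subtype.ext (cn_commute hCN hz1 (hcz.pow_left _) hsz hk
        (Two.of_mul_self (mul_self_of_order hs2))).eq))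
    exact ⟨j, congrArg Subtype.val hj⟩
  have h2 : IsFrobeniusComplement ((centralizer ({z} : Set G)).subgroupOf N) := by
    refine ⟨fun e => ?_, fun e => ?_, fun g hg => eq_bot_iff.2 ?_⟩
    · have : (⟨x, hx⟩ : N) ∈ (centralizer ({z} : Set G)).subgroupOf N :=
        mem_centralizer_singleton_iff.2 hxz.eq
      rw [e, mem_bot] at this
      exact hx1 (congrArg Subtype.val this)
    · have := isNilpotent_of_le (hCN z hz1) (subgroupOf_eq_top.1 e)
      exact hs inferInstance
    · rintro _ ⟨h3, a, ha, rfl⟩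
      by_contra h4
      have h5 := hTI g a (fun e => h4 (by simp [show a = 1 from Subtype.ext e])) (mem_centralizer_singleton_iff.1 ha)
        (mem_centralizer_singleton_iff.1 h3) y hyz
      have h6 := h1 ((g : G) * y * (g : G)⁻¹ * y⁻¹) (by
        rw [mul_assoc, mul_assoc, ← mul_assoc y]
        exact mul_mem g.2 (Normal.conj_mem inferInstance _ (inv_mem g.2) y)) (h5.mul_left hyz.inv_left)
      have h7 := cn_commute hCN hz1 hyz (h5.mul_left hyz.inv_left) ho h6
      have h8 := h7.symm.mul_pow (orderOf y)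
      rw [inv_mul_cancel_right, conj_pow, pow_orderOf_eq_one, mul_one, mul_inv_cancel, mul_one] at h8
      have h9 := h6.eq_one (ho.of_dvd_nat (orderOf_dvd_of_pow_eq_one h8.symm))
      exact hg (mem_centralizer_singleton_iff.2 (hcc y g hy1 hyz
        (mul_inv_eq_iff_eq_mul.1 (mul_inv_eq_one.1 h9))).eq)
  obtain ⟨K, -, h3, h4, h5, -⟩ := CL.Frob.exists_kernel h2
  obtain rfl := (h3.eq_bot_or_eq_top).resolve_left h5
  exact h2.1 (isComplement'_top_left.1 h4)

end CL.CIT
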