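import Mathlib
import Cfsg.Agent.FGS.CS2b
import Cfsg.Agent.FGS.CITSpec
import Cfsg.Agent.FGS.CITStruct
import Cfsg.Agent.INV.SmallPSL
import Cfsg.Agent.PLOC.S4F.GoldA
import Cfsg.Agent.CLAS.PGL2Max
import Cfsg.Agent.S3214

/-! Simple groups whose class sizes have at most two prime divisors: identification. -/

set_option autoImplicit false

namespace CL.CS2

open Subgroup Cfsg CL.CS

variable {G : Type*} [Group G] [Finite G]

theorem only_two {n a b : ℕ} (h : n.primeFactors.card ≤ 2) (hn : n ≠ 0) (ha : a.Prime)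
    (hb : b.Prime) (hab : a ≠ b) (da : a ∣ n) (db : b ∣ n) {s : ℕ} (hs : s.Prime) (ds : s ∣ n) :
    s = a ∨ s = b := by
  have := Finset.eq_of_subset_of_card_le (s := {a, b}) (t := n.primeFactors) (fun p hp => by
    simp only [Finset.mem_insert, Finset.mem_singleton] at hp
    rcases hp with rfl | rfl <;> simp [*]) (by rwa [Finset.card_pair hab])
  have h2 : s ∈ ({a, b} : Finset ℕ) := this ▸ Nat.mem_primeFactors.2 ⟨hs, ds, hn⟩
  simpa using h2

theorem arith_psl {p k q d A B : ℕ} (hp : p.Prime) (hk : q = p ^ k) (hq : 4 ≤ q)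
    (hd : d = Nat.gcd 2 (q - 1)) (hA : d * A = q - 1) (hB : d * B = q + 1)
    (h1 : 3 ≤ A → (q * B * d).primeFactors.card ≤ 2)
    (h2 : 3 ≤ B → (q * A * d).primeFactors.card ≤ 2) : q = 4 ∨ q = 5 ∨ q = 8 := by
  have hk0 : k ≠ 0 := by rintro rfl; simp at hk; omega
  have hpq : p ∣ q := hk ▸ dvd_pow_self p hk0
  rcases Nat.even_or_odd' q with ⟨m, hm | hm⟩
  · obtain rfl : p = 2 := ((Nat.prime_dvd_prime_iff_eq Nat.prime_two hp).1
      (Nat.prime_two.dvd_of_dvd_pow (hk ▸ Dvd.intro _ hm.symm))).symm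
    obtain rfl : d = 1 := by
      rw [hd, show q - 1 = 1 + 2 * (m - 1) by omega]; simp
    have h3 : ¬ 3 ∣ q := fun h => by
      have := Nat.prime_three.dvd_of_dvd_pow (hk ▸ h); omega
    have key : ∀ X, X % 2 = 1 → 3 ∣ X → (q * X * 1).primeFactors.card ≤ 2 →
        ∃ j, 1 ≤ j ∧ X = 3 ^ j := by
      intro X x2 x3 hX
      have x0 : X ≠ 0 := by omega
      refine ⟨_, ?_, Nat.eq_prime_pow_of_unique_prime_dvd x0 fun {s} hs ds => ?_⟩
      · exact List.length_pos_of_mem ((Nat.mem_primeFactorsList x0).2 ⟨Nat.prime_three, x3⟩)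
      · refine (only_two hX (by simp; omega) Nat.prime_two Nat.prime_three (by norm_num)
          ((hpq.mul_right _).mul_right _) ((x3.mul_left _).mul_right _) hs
          ((ds.mul_left _).mul_right _)).resolve_left fun e => ?_
        subst e
        omega
    have hk1 : k ≠ 1 := by rintro rfl; omega
    rcases (by omega : q % 3 = 1 ∨ q % 3 = 2) with h | h
    · obtain ⟨j, a, b⟩ := key A (by omega) (by omega) (h2 (by omega))
      obtain rfl := (CL.CITC.three_pow_cases a (Nat.pos_of_ne_zero hk0)).2 (by omega)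
      omega
    · obtain ⟨j, a, b⟩ := key B (by omega) (by omega) (h1 (by omega))
      obtain rfl := ((CL.CITC.three_pow_cases a (Nat.pos_of_ne_zero hk0)).1
        (by omega)).resolve_left hk1
      omega
  · obtain rfl : d = 2 := by rw [hd, show q - 1 = 2 * m by omega]; simp
    by_contra! hne
    have p2 : 2 ≠ p := by rintro rfl; omega
    have key : ∀ X, 3 ≤ X → ¬ p ∣ X → (q * X * 2).primeFactors.card ≤ 2 → 2 ∣ X := by
      intro X x3 xp hX
      obtain ⟨s, hs, ds⟩ := Nat.exists_prime_and_dvd (by omega : X ≠ 1)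
      rcases only_two hX (by simp; omega) Nat.prime_two hp p2 (dvd_mul_left _ _)
        ((hpq.mul_right _).mul_right _) hs ((ds.mul_left _).mul_right _) with rfl | rfl
      exacts [ds, absurd ds xp]
    have a := key A (by omega) (fun h => hp.one_lt.ne' (Nat.dvd_one.1
      ((Nat.dvd_add_right (h.mul_left 2)).1 (by rwa [show 2 * A + 1 = q by omega])))) (h2 (by omega))
    have b := key B (by omega) (fun h => hp.one_lt.ne' (Nat.dvd_one.1
      ((Nat.dvd_add_right hpq).1 (hB ▸ h.mul_left 2)))) (h1 (by omega))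
    omega

open CL.PGL2 CL.Dk in
theorem H2.psl {F : Type*} [Field F] [Finite F] (hF : 4 ≤ Nat.card F) (h : H2 (pslIn F)) :
    Nat.card F = 4 ∨ Nat.card F = 5 ∨ Nat.card F = 8 := by
  obtain ⟨p, hp⟩ := CharP.exists F
  have := Fintype.ofFinite F
  obtain ⟨k, hpp, hk⟩ := FiniteField.card F p
  rw [← Nat.card_eq_fintype_card] at hk
  set q := Nat.card F with hq
  set d := Nat.gcd 2 (q - 1) with hd
  let f := algebraMap F (AlgebraicClosure F)
  let ρ := (mapG f).comp (pslIn F).subtype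
  have hρ : Function.Injective ρ := (mapG_injective f).comp (pslIn F).subtype_injective
  have tor : ∀ {x y}, x ≠ y → pairT (mapG f) x y ≠ ⊥ →
      d * Nat.card (pairT ρ x y) = Nat.card (pairT (mapG f) x y) ∧
      (3 ≤ Nat.card (pairT ρ x y) → ∀ n, Nat.card (pairT ρ x y) * n = Nat.card (pslIn F) →
        n.primeFactors.card ≤ 2) := by
    intro x y hxy hne
    refine ⟨?_, fun h3 n hn => ?_⟩
    · rw [← gcd_mul_card_pairT_inf_pslIn f hxy hne, ← card_map_of_injective
        (pslIn F).subtype_injective]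
      exact congrArg (fun H : Subgroup _ => d * Nat.card H)
        (subgroupOf_map_subtype (pairT (mapG f) x y) _)
    · obtain ⟨c, hc⟩ := (Subgroup.isCyclic_iff_exists_zpowers_eq_top _).1 (isCyclic_pairT hρ hxy)
      have hcm : c ∈ pairT ρ x y := hc ▸ mem_zpowers c
      have ho : 3 ≤ orderOf c := by rwa [← Nat.card_zpowers, hc]
      have e : 𝐂[c] = pairT ρ x y := by
        refine le_antisymm (fun k hk => ?_) (hc ▸ zpowers_le_cen c)
        have e1 : k⁻¹ * c * k = c := by rw [mul_assoc, ← (mem_cen.1 hk).eq]; group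
        by_contra h2
        have := conj_eq_inv_of_mem_pairN hρ hxy (inv_mem (mem_pairN_of_conj hρ hxy hcm
          (fun e => by simp [e] at ho) (e1.symm ▸ hcm))) (fun h => h2 (inv_mem_iff.1 h)) hcm
        rw [inv_inv, e1] at this
        have := Nat.le_of_dvd two_pos (orderOf_dvd_of_pow_eq_one
          (show c ^ 2 = 1 by rw [sq]; exact mul_eq_one_iff_eq_inv.2 this))
        omega
      have := h c
      rwa [e, Nat.eq_of_mul_eq_mul_left Nat.card_pos ((card_mul_index _).trans hn.symm)] at this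
  obtain ⟨x, y, hxy, hne, hA⟩ := exists_split_pair f (by omega)
  obtain ⟨hA1, hA2⟩ := tor hxy hne
  obtain ⟨x', y', hxy', hne', hB⟩ := exists_nonsplit_pair f
  obtain ⟨hB1, hB2⟩ := tor hxy' hne'
  rw [hA, ← hq] at hA1
  rw [hB, ← hq] at hB1
  set A := Nat.card (pairT ρ x y)
  set B := Nat.card (pairT ρ x' y')
  have hd0 : 0 < d := Nat.gcd_pos_of_pos_left _ two_pos
  have hG : Nat.card (pslIn F) = q * A * B * d := by
    refine Nat.eq_of_mul_eq_mul_left hd0 ?_
    rw [gcd_mul_card_pslIn, show d * (q * A * B * d) = q * ((d * B) * (d * A)) by ring, hA1, hB1,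
      ← Nat.sq_sub_sq]
  exact arith_psl hpp hk hF hd hA1 hB1 (fun h => hA2 h _ (by rw [hG]; ring))
    (fun h => hB2 h _ (by rw [hG]; ring))

theorem arith_sz {m : ℕ} (hm : 1 ≤ m) : 4 ≤ ((2 ^ (2 * m + 1)) ^ 2 * ((2 ^ (2 * m + 1)) ^ 2 + 1) *
    (2 ^ (2 * m + 1) - 1)).primeFactors.card := by
  obtain ⟨k, rfl⟩ := Nat.exists_eq_add_of_le' hm
  set q := 2 ^ (2 * (k + 1) + 1) with hq
  have e : q = 8 * 4 ^ k := by rw [hq, show (4 : ℕ) = 2 ^ 2 by norm_num, ← pow_mul]; ring
  have p4 : 0 < 4 ^ k := by positivity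
  have h5 : (q ^ 2 + 1) % 5 = 0 := by
    rw [e, mul_pow, ← pow_mul, mul_comm k, pow_mul, Nat.add_mod, Nat.mul_mod, Nat.pow_mod (4 ^ 2)]
    norm_num
  have h3 : (q ^ 2 + 1) % 3 = 2 := by
    rw [e, mul_pow, ← pow_mul, Nat.add_mod, Nat.mul_mod, Nat.pow_mod 4]
    norm_num
  have h8 : (q ^ 2 + 1) % 8 = 1 := by rw [e, mul_pow]; omega
  obtain ⟨s, hs, ds⟩ := Nat.exists_prime_and_dvd (by omega : q - 1 ≠ 1)
  obtain ⟨t, ht, dt, t5⟩ : ∃ t : ℕ, t.Prime ∧ t ∣ q ^ 2 + 1 ∧ t ≠ 5 := by
    by_contra! hh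
    have e5 := Nat.eq_prime_pow_of_unique_prime_dvd (by omega) fun {t} a b => hh t a b
    generalize (q ^ 2 + 1).primeFactorsList.length = j at e5
    rw [e5] at h3 h8
    rcases Nat.even_or_odd' j with ⟨i, rfl | rfl⟩
    · rw [pow_mul, Nat.pow_mod] at h3; norm_num at h3
    · rw [pow_succ, pow_mul, Nat.mul_mod, Nat.pow_mod] at h8; norm_num at h8
  have hst : ∀ u : ℕ, u.Prime → u ∣ q - 1 → u ∣ q ^ 2 + 1 → False := fun u hu a b => by
    have : q ^ 2 + 1 = (q - 1) * (q + 1) + 2 := by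
      obtain ⟨w, hw⟩ : ∃ w, q = w + 1 := ⟨q - 1, by omega⟩
      rw [hw]; simp only [Nat.add_sub_cancel]; ring
    rw [this] at b
    obtain rfl := (Nat.prime_dvd_prime_iff_eq hu Nat.prime_two).1
      ((Nat.dvd_add_right (a.mul_right _)).1 b)
    omega
  have s2 : 2 ≠ s := by rintro rfl; omega
  have t2 : 2 ≠ t := by rintro rfl; omega
  have s5 : 5 ≠ s := by rintro rfl; exact hst 5 hs ds (by omega)
  have st : s ≠ t := by rintro rfl; exact hst s hs ds dt
  have hc : ({2, 5, s, t} : Finset ℕ).card = 4 := by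
    rw [Finset.card_insert_of_notMem (by simp [s2, t2]), Finset.card_insert_of_notMem
      (by simp [s5, t5.symm]), Finset.card_pair st]
  rw [← hc]
  refine Finset.card_le_card fun u hu => Nat.mem_primeFactors.2 ?_
  have h0 : q ^ 2 * (q ^ 2 + 1) * (q - 1) ≠ 0 := by
    refine mul_ne_zero (mul_ne_zero (pow_ne_zero _ ?_) ?_) ?_ <;> omega
  simp only [Finset.mem_insert, Finset.mem_singleton] at hu
  rcases hu with rfl | rfl | rfl | rfl
  · exact ⟨Nat.prime_two, ((Dvd.dvd.pow (by omega) two_ne_zero).mul_right _).mul_right _, h0⟩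
  · exact ⟨Nat.prime_five, ((Nat.dvd_of_mod_eq_zero h5).mul_left _).mul_right _, h0⟩
  · exact ⟨hs, ds.mul_left _, h0⟩
  · exact ⟨ht, (dt.mul_left _).mul_right _, h0⟩

theorem comm_sylow_equiv {H : Type*} [Group H] [Finite H] (e : G ≃* H) {p : ℕ} [Fact p.Prime]
    {U : Subgroup H} (hU : IsMulCommutative U) (hc : Nat.card U = p ^ (Nat.card H).factorization p)
    (P : Sylow p G) : IsMulCommutative P := by
  let Q := Sylow.ofCard (U.map e.symm.toMonoidHom) (p := p) (by
    rw [card_map_of_injective e.symm.injective, hc, Nat.card_congr e.toEquiv])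
  have : IsMulCommutative (Q : Subgroup G) := map_isMulCommutative _ _
  exact ⟨⟨fun a b => (Q.equiv P).symm.injective (by rw [map_mul, map_mul, mul_comm'])⟩⟩

open CL.PGL2 CL.Dk in
theorem H2.simple [IsSimpleGroup G] (hG : ¬ IsMulCommutative G) (h : H2 G) :
    (∀ (s : ℕ) [Fact s.Prime] (P : Sylow s G), IsMulCommutative P) ∧ (Nat.card G = 60 ∨
      Nat.card G = 504 ∧
        Nonempty (G ≃* Matrix.ProjectiveSpecialLinearGroup (Fin 2) (GaloisField 2 3))) := by
  have h3 := h.card_pf hG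
  suffices hs : (∀ P : Sylow 2 G, IsMulCommutative P) ∧ (Nat.card G = 60 ∨ Nat.card G = 504 ∧
      Nonempty (G ≃* Matrix.ProjectiveSpecialLinearGroup (Fin 2) (GaloisField 2 3))) by
    refine ⟨fun s _ P => ?_, hs.2⟩
    by_cases e : s = 2
    · subst e; exact hs.1 P
    · exact h.comm_odd hG s e P
  rcases Cfsg.Agent.S3214.result hG (fun t ht => h.two_nil hG ht) with
    ⟨F, _, _, hF, ⟨e⟩⟩ | hS | ⟨⟨e⟩⟩ | ⟨F, _, _, hF, ⟨e⟩⟩
  · have f := e.trans (pslInEquiv F)
    have hc := gcd_mul_card_pslIn (F := F)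
    rw [← Nat.card_congr f.toEquiv] at hc
    have h60 : Nat.card G = 60 → ∀ P : Sylow 2 G, IsMulCommutative P := fun h P => by
      have : Nat.card P = 2 ^ 2 := by
        rw [P.card_eq_multiplicity, h, ← Nat.primeFactorsList_count_eq]
        decide +kernel
      exact IsPGroup.isMulCommutative_of_card_eq_prime_sq this
    rcases (h.map (f := f.toMonoidHom) f.surjective).psl (by rwa [Nat.card_eq_fintype_card])
      with q | q | q <;> rw [q] at hc <;> norm_num at hc
    · exact ⟨h60 hc, Or.inl hc⟩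
    · exact ⟨h60 (by omega), Or.inl (by omega)⟩
    · have := Fintype.ofFinite (GaloisField 2 3)
      refine ⟨comm_sylow_equiv f (U := (unipAt (inf : P1 F)).subgroupOf (pslIn F)) ?_ ?_,
        Or.inr ⟨hc, CL.Small.psl_transfer (by
          rw [← Nat.card_eq_fintype_card, q, ← Nat.card_eq_fintype_card,
            GaloisField.card 2 3 (by norm_num)]; rfl) ⟨e⟩⟩⟩
      · have : CharP F 2 := charP_of_card_eq_prime_pow (f := 3)
          (by rw [← Nat.card_eq_fintype_card, q]; rfl)
        have h2 : ∀ c : (unipAt (inf : P1 F)).subgroupOf (pslIn F), c ^ 2 = 1 := fun c =>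
          Subtype.ext (Subtype.ext (pow_char_eq_one_of_mem_unipAt 2 c.2))
        exact ⟨⟨fun a b => (Commute.of_orderOf_dvd_two
          (fun c => orderOf_dvd_of_pow_eq_one (h2 c)) a b).eq⟩⟩
      · rw [Nat.card_congr (subgroupOfEquivOfLe (unipAt_le_pslIn _)).toEquiv, card_unipAt, q,
          ← Nat.card_congr f.toEquiv, hc, ← Nat.primeFactorsList_count_eq]
        decide +kernel
  · obtain ⟨m, hm, e⟩ := CL.S4F.card_of_isoSuzuki hS
    have := arith_sz hm
    rw [← e] at this
    omega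
  · rw [Nat.card_congr e.toEquiv, nat_card_alternatingGroup] at h3
    simp only [Nat.card_eq_fintype_card, Fintype.card_fin] at h3
    exact absurd h3 (by decide +kernel)
  · rw [Nat.card_congr e.toEquiv, CL.CITC.card_psl3_four hF] at h3
    exact absurd h3 (by decide +kernel)

end CL.CS2
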