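import Mathlib
import Cfsg.Agent.FGS.CS2c
import Cfsg.Agent.SOLV.MinNormal
import Cfsg.Agent.PLOC.Fusion
import Cfsg.Agent.S0196

/-! Groups whose class sizes have at most two prime divisors: reduction to the simple case. -/

set_option autoImplicit false

namespace CL.CS2

open Subgroup Cfsg CL.CS
open scoped Pointwise

section Simple

variable {S : Type*} [Group S] [Finite S] [IsSimpleGroup S]

theorem H2.cen_sylow (hG : ¬ IsMulCommutative S) (h : H2 S) {s : ℕ} [Fact s.Prime] (P : Sylow s S)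
    {x : S} (hx : x ∈ (P : Subgroup S)) (h1 : x ≠ 1) : 𝐂[x] = P := by
  have hk : ∃ k, x ^ s ^ k = 1 := (P.isPGroup' ⟨x, hx⟩).imp fun k e => congrArg Subtype.val e
  have := (h.simple hG).1 s P
  exact P.is_maximal' (h.isPGroup hG (fun t _ _ Q => (h.simple hG).1 t Q) h1 hk
    (not_dvd_of_comm P this hk)) (le_cen_iff.2 (le_centralizer _ hx))

theorem H2.cent_sylow (hG : ¬ IsMulCommutative S) (h : H2 S) {s : ℕ} [Fact s.Prime]
    (hs : s ∣ Nat.card S) (P : Sylow s S) : centralizer ((P : Subgroup S) : Set S) = P := by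
  obtain ⟨x, hx⟩ := ne_bot_iff_exists_ne_one.1 (P.ne_bot_of_dvd_card hs)
  have := (h.simple hG).1 s P
  exact le_antisymm ((centralizer_le (Set.singleton_subset_iff.2 x.2)).trans
    (h.cen_sylow hG P x.2 (fun e => hx (Subtype.ext e))).le) (le_centralizer _)

theorem H2.card_norm (hG : ¬ IsMulCommutative S) (h : H2 S) {s : ℕ} [Fact s.Prime]
    (hs : s ∣ Nat.card S) (P : Sylow s S) :
    Nat.card (normalizer ((P : Subgroup S) : Set S)) = Nat.card P * aut (P : Subgroup S) := by
  rw [← CL.card_mul_relIndex_of_le (centralizer_le_normalizer ((P : Subgroup S) : Set S)),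
    h.cent_sylow hG hs P]
  rw [aut, h.cent_sylow hG hs P]

theorem H2.exists_elt (hG : ¬ IsMulCommutative S) (h : H2 S) {p : ℕ} (hp : p.Prime) :
    ∃ a : S, a ≠ 1 ∧ ¬ p ∣ (𝐂[a]).index := by
  have := Fact.mk hp
  by_cases hd : p ∣ Nat.card S
  · obtain ⟨P⟩ : Nonempty (Sylow p S) := inferInstance
    obtain ⟨x, hx⟩ := ne_bot_iff_exists_ne_one.1 (P.ne_bot_of_dvd_card hd)
    have h1 : (x : S) ≠ 1 := fun e => hx (Subtype.ext e)
    exact ⟨x, h1, by rw [h.cen_sylow hG P x.2 h1]; exact P.not_dvd_index⟩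
  · obtain ⟨a, ha⟩ := exists_ne (1 : S)
    exact ⟨a, ha, fun e => hd (e.trans (index_dvd_card _))⟩

theorem H2.count (hG : ¬ IsMulCommutative S) (h : H2 S) {s : ℕ} [Fact s.Prime]
    (hs : s ∣ Nat.card S) (P₀ : Sylow s S) (φ : MulAut S) :
    {u : S | ∃ P : Sylow s S, ∀ y ∈ (P : Subgroup S), u * φ y * u⁻¹ = y}.ncard *
      aut (P₀ : Subgroup S) ≤ Nat.card S := by
  classical
  have := Fintype.ofFinite S
  have := Fintype.ofFinite (Sylow s S)
  have h1 := Finset.card_biUnion_le_card_mul (Finset.univ : Finset (Sylow s S))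
    (fun P => Finset.univ.filter fun u : S => ∀ y ∈ (P : Subgroup S), u * φ y * u⁻¹ = y)
    (Nat.card P₀) (fun P _ => by
      rcases (Finset.univ.filter fun u : S =>
        ∀ y ∈ (P : Subgroup S), u * φ y * u⁻¹ = y).eq_empty_or_nonempty with e | ⟨u₀, h₀⟩
      · simp [e]
      rw [P₀.card_eq_multiplicity, ← P.card_eq_multiplicity,
        Nat.card_eq_fintype_card, Fintype.card_subtype]
      refine Finset.card_le_card_of_injOn (fun u => u * u₀⁻¹) (fun u hu => ?_)
        (fun a _ b _ e => by simpa using e)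
      simp only [Finset.coe_filter, Finset.mem_univ, true_and, Set.mem_ofPred_eq,
        Finset.mem_filter] at hu h₀ ⊢
      refine (h.cent_sylow hG hs P).le (mem_centralizer_iff.2 fun y hy => ?_)
      calc y * (u * u₀⁻¹) = u * φ y * u⁻¹ * (u * u₀⁻¹) := by rw [hu y hy]
        _ = u * u₀⁻¹ * (u₀ * φ y * u₀⁻¹) := by group
        _ = _ := by rw [h₀ y hy])
  have h2 : {u : S | ∃ P : Sylow s S, ∀ y ∈ (P : Subgroup S), u * φ y * u⁻¹ = y}.ncard ≤
      Nat.card (Sylow s S) * Nat.card P₀ := by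
    rw [Nat.card_eq_fintype_card (α := Sylow s S), ← Finset.card_univ]
    refine le_trans (le_of_eq ?_) h1
    rw [← Set.ncard_coe_finset]
    congr 1
    ext u
    simp
  calc _ ≤ Nat.card (Sylow s S) * Nat.card P₀ * aut (P₀ : Subgroup S) :=
        Nat.mul_le_mul_right _ h2
    _ = _ := by
      rw [mul_assoc, ← h.card_norm hG hs, P₀.card_eq_index_normalizer]
      exact index_mul_card _

theorem inner_of_fix (T : Sylow 2 S) {P : Subgroup S} (hn : Nat.card (Sylow 2 S) ≠ 1)
    (hc : Nat.card P = Nat.card (Sylow 2 S))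
    (hco : (Nat.card P).Coprime (Nat.card (normalizer ((T : Subgroup S) : Set S))))
    (ψ : MulAut S) (hψ : ∀ y ∈ P, ψ y = y) (hP : IsMulCommutative P) :
    ∃ u, ψ = MulAut.conj u := by
  have hsurj : Function.Surjective fun y : P => (y : S) • T := by
    refine ((Nat.bijective_iff_injective_and_card _).2 ⟨fun a b e => ?_, hc⟩).2
    have h1 : ((b⁻¹ * a : P) : S) ∈ normalizer ((T : Subgroup S) : Set S) :=
      Sylow.smul_eq_iff_mem_normalizer.1 (by
        rw [coe_mul, mul_smul, show (a : S) • T = _ from e, coe_inv, inv_smul_smul])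
    have h2 : ((b⁻¹ * a : P) : S) ∈ (⊥ : Subgroup S) :=
      (disjoint_of_coprime_natCard hco).le_bot ⟨(b⁻¹ * a).2, h1⟩
    exact (inv_mul_eq_one.1 (Subtype.ext (mem_bot.1 h2))).symm
  obtain ⟨y, hy⟩ := hsurj (ψ • T)
  set θ := (MulAut.conj (y : S))⁻¹ * ψ with hθ
  let κ := MulAction.toPermHom (MulAut S) (Sylow 2 S)
  have hθT : θ • T = T := by rw [hθ, mul_smul, ← hy]; exact inv_smul_smul _ _
  have hκ : θ ∈ κ.ker := by
    refine Equiv.ext fun U => ?_
    obtain ⟨w, rfl⟩ := hsurj U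
    have : θ * MulAut.conj (w : S) = MulAut.conj (w : S) * θ := by
      have e : (y : S) * w = w * y := congrArg Subtype.val (mul_comm' y w)
      have e1 : θ w = w := by
        rw [hθ, MulAut.mul_apply, hψ w w.2, MulAut.conj_inv_apply, mul_assoc, ← e]; group
      ext x
      simp only [MulAut.mul_apply, MulAut.conj_apply, map_mul, map_inv, e1]
    change θ • MulAut.conj (w : S) • T = MulAut.conj (w : S) • T
    rw [← mul_smul, this, mul_smul, hθT]
  have hK : (κ.comp MulAut.conj).ker = ⊥ := by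
    refine (MonoidHom.normal_ker _).eq_bot_or_eq_top.resolve_right fun e => hn ?_
    refine Nat.card_eq_one_iff_exists.2 ⟨T, fun U => ?_⟩
    obtain ⟨w, rfl⟩ := hsurj U
    exact congrArg (fun σ : Equiv.Perm (Sylow 2 S) => σ T) (e ▸ mem_top (w : S) :
      (w : S) ∈ (κ.comp MulAut.conj).ker)
  refine ⟨y, (inv_mul_eq_one.1 (MulEquiv.ext fun u => ?_)).symm⟩
  have h1 : θ u * u⁻¹ ∈ (κ.comp MulAut.conj).ker := by
    have := mul_mem hκ ((MonoidHom.normal_ker κ).conj_mem _ (inv_mem hκ) (MulAut.conj u))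
    rwa [show θ * (MulAut.conj u * θ⁻¹ * (MulAut.conj u)⁻¹) = MulAut.conj (θ u * u⁻¹) by
      ext x; simp [mul_assoc]] at this
  rw [hK] at h1
  exact mul_inv_eq_one.1 (mem_bot.1 h1)

theorem H2.inner (hG : ¬ IsMulCommutative S) (h : H2 S) (φ : MulAut S)
    (hφ : ∀ u : S, ∃ s : ℕ, s.Prime ∧ s ∣ Nat.card S ∧
      ∃ P : Sylow s S, ∀ y ∈ (P : Subgroup S), u * φ y * u⁻¹ = y) : ∃ u, φ = MulAut.conj u := by
  obtain ⟨T⟩ : Nonempty (Sylow 2 S) := inferInstance
  have a1 := three_le_aut hG T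
  have a2 : aut (T : Subgroup S) ∣ Nat.card T - 1 := by
    rw [aut, h.cent_sylow hG (two_dvd hG)]
    exact Cfsg.Agent.S0196.result _ fun x hx h1 => h.cen_sylow hG T hx h1
  have a3 := h.card_norm hG (two_dvd hG) T
  have a4 : Nat.card (Sylow 2 S) * Nat.card (normalizer ((T : Subgroup S) : Set S)) =
      Nat.card S := by rw [T.card_eq_index_normalizer]; exact index_mul_card _
  obtain ⟨q, hq, q2, dq, hc⟩ : ∃ q : ℕ, q.Prime ∧ q ≠ 2 ∧ q ∣ Nat.card S ∧
      q ^ (Nat.card S).factorization q = Nat.card (Sylow 2 S) ∧ Nat.card (Sylow 2 S) ≠ 1 ∧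
      (Nat.card (Sylow 2 S)).Coprime (Nat.card (normalizer ((T : Subgroup S) : Set S))) := by
    rw [T.card_eq_multiplicity] at a2 a3
    rcases (h.simple hG).2 with e | ⟨e, -⟩ <;>
      simp only [e, ← Nat.primeFactorsList_count_eq] at a2 a3 a4 ⊢
    · rw [show 2 ^ List.count 2 (Nat.primeFactorsList 60) = 4 by decide +kernel] at a2 a3
      rw [le_antisymm (Nat.le_of_dvd (by norm_num) a2) a1] at a3
      rw [a3] at a4 ⊢
      rw [show Nat.card (Sylow 2 S) = 5 by omega]
      exact ⟨5, by decide +kernel⟩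
    · rw [show 2 ^ List.count 2 (Nat.primeFactorsList 504) = 8 by decide +kernel] at a2 a3
      rw [((Nat.dvd_prime (by norm_num : Nat.Prime 7)).1 a2).resolve_left (by omega)] at a3
      rw [a3] at a4 ⊢
      rw [show Nat.card (Sylow 2 S) = 9 by omega]
      exact ⟨3, by decide +kernel⟩
  obtain ⟨r, t⟩ := h.exists_tri hG hq q2 dq
  have := Fact.mk hq
  have := Fact.mk t.hr
  by_cases hu : ∃ u, ∃ P : Sylow q S, ∀ y ∈ (P : Subgroup S), u * φ y * u⁻¹ = y
  · obtain ⟨u, P, hP⟩ := hu
    rw [← P.card_eq_multiplicity] at hc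
    obtain ⟨v, hv⟩ := inner_of_fix T hc.2.1 hc.1 (hc.1 ▸ hc.2.2) (MulAut.conj u * φ) hP
      ((h.simple hG).1 q P)
    exact ⟨u⁻¹ * v, by rw [map_mul, map_inv, ← hv, inv_mul_cancel_left]⟩
  obtain ⟨R⟩ : Nonempty (Sylow r S) := inferInstance
  have b1 := h.count hG (two_dvd hG) T φ
  have b2 := h.count hG t.dr R φ
  have b3 := two_le_aut hG t.dr R
  set A := {u : S | ∃ P : Sylow 2 S, ∀ y ∈ (P : Subgroup S), u * φ y * u⁻¹ = y}
  set B := {u : S | ∃ P : Sylow r S, ∀ y ∈ (P : Subgroup S), u * φ y * u⁻¹ = y}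
  have b4 : Nat.card S ≤ A.ncard + B.ncard := by
    rw [← Set.ncard_univ]
    refine (Set.ncard_le_ncard (fun u _ => ?_)).trans (Set.ncard_union_le _ _)
    obtain ⟨s, hs, ds, hP⟩ := hφ u
    rcases t.mem s hs ds with rfl | rfl | rfl
    exacts [Or.inl hP, absurd ⟨u, hP⟩ hu, Or.inr hP]
  have b5 := Nat.mul_le_mul_left A.ncard a1
  have b6 := Nat.mul_le_mul_left B.ncard b3
  have : 0 < Nat.card S := Nat.card_pos
  omega

end Simple

universe u

variable {G : Type*} [Group G] [Finite G]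

theorem H2.le_center (h : H2 G) {A B : Subgroup G} [hA : A.Normal] [hB : B.Normal]
    [IsSimpleGroup A] (hc : ¬ IsMulCommutative A) (hAB : Disjoint A B) : B ≤ center G := by
  intro b hb
  by_contra hz
  obtain ⟨p, hp, hd⟩ := Nat.exists_prime_and_dvd (one_lt_index_cen_iff.2 hz).ne'
  obtain ⟨a, a1, a2⟩ := (h.normal A).exists_elt hc hp
  have key : ∀ g ∈ 𝐂[(a : G) * b], g ∈ 𝐂[(a : G)] ∧ g ∈ 𝐂[b] := by
    intro g hg
    have e : (a : G)⁻¹ * (g * a * g⁻¹) = b * (g * b * g⁻¹)⁻¹ := by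
      have : g * (a * b) * g⁻¹ = a * b := mul_inv_eq_of_eq_mul (mem_cen.1 hg)
      rw [← conj_mul] at this
      rw [eq_mul_inv_of_mul_eq this]; group
    have e1 := disjoint_def.1 hAB (mul_mem (inv_mem a.2) (hA.conj_mem _ a.2 g))
      (e ▸ mul_mem hb (inv_mem (hB.conj_mem _ hb g)))
    exact ⟨mem_cen.2 (mul_inv_eq_iff_eq_mul.1 (inv_mul_eq_one.1 e1).symm),
      mem_cen.2 (mul_inv_eq_iff_eq_mul.1 (mul_inv_eq_one.1 (e ▸ e1)).symm)⟩
  exact h.not_dvd ((index_cen_normal_dvd a).trans (index_dvd_of_le fun g hg => (key g hg).1))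
    (two_le_pf hc a1) hp a2 (hd.trans (index_dvd_of_le fun g hg => (key g hg).2))

theorem H2.sup_eq_top (h : H2 G) {S : Subgroup G} [hS : S.Normal] [IsSimpleGroup S]
    (hc : ¬ IsMulCommutative S) : center G ⊓ S = ⊥ ∧ center G ⊔ S = ⊤ := by
  have h1 : Disjoint S (centralizer (S : Set G)) := by
    rw [disjoint_iff_inf_le, inf_comm, ← subgroupOf_map_subtype, map_le_iff_le_comap,
      MonoidHom.comap_bot, ker_subtype, le_bot_iff]
    refine (Normal.subgroupOf inferInstance S).eq_bot_or_eq_top.resolve_right fun e => hc ?_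
    exact ⟨⟨fun a b => Subtype.ext (mem_centralizer_iff.1 (subgroupOf_eq_top.1 e b.2) a a.2)⟩⟩
  refine ⟨(h1.mono_right (center_le_centralizer _)).symm.eq_bot, eq_top_iff.2 fun x _ => ?_⟩
  obtain ⟨v, hv⟩ := (h.normal S).inner hc (MulAut.conjNormal x) fun u => by
    have h2 := (card_pf_le (CL.CS.relIndex_dvd_index_of_normal_right 𝐂[(u : G) * x] S)
      (index_cen_pos _).ne').trans (h _)
    obtain ⟨s, hs, ns⟩ := Finset.exists_mem_notMem_of_card_lt_card
      (h2.trans_lt (by rw [(h.normal S).card_pf hc]; norm_num :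
        2 < (Nat.card S).primeFactors.card))
    have := Fact.mk (Nat.prime_of_mem_primeFactors hs)
    obtain ⟨P, hP⟩ := exists_sylow_le_of_not_dvd_index (p := s)
      (H := (𝐂[(u : G) * x]).subgroupOf S)
      (fun e => ns (Nat.mem_primeFactors.2 ⟨this.out, e, index_ne_zero_of_finite⟩))
    refine ⟨s, this.out, Nat.dvd_of_mem_primeFactors hs, P, fun y hy => Subtype.ext ?_⟩
    have := (mem_cen.1 (mem_subgroupOf.1 (hP hy))).eq
    simp only [coe_mul, MulAut.conjNormal_apply, InvMemClass.coe_inv]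
    calc (u : G) * (x * y * x⁻¹) * (u : G)⁻¹ = u * x * y * ((u : G) * x)⁻¹ := by group
      _ = _ := by rw [← this]; group
  have h3 : (v : G)⁻¹ * x ∈ centralizer (S : Set G) := mem_centralizer_iff.2 fun y hy => by
    have := congrArg (fun φ : MulAut S => (φ ⟨y, hy⟩ : G)) hv
    simp only [MulAut.conjNormal_apply, MulAut.conj_apply, coe_mul, InvMemClass.coe_inv] at this
    calc y * ((v : G)⁻¹ * x) = (v : G)⁻¹ * (v * y * (v : G)⁻¹) * x := by group
      _ = _ := by rw [← this]; group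
  rw [← mul_inv_cancel_left (v : G) x]
  exact mul_mem (mem_sup_right v.2) (mem_sup_left (h.le_center hc h1 h3))

theorem H2.split (h : H2 G) {S : Type*} [Group S] [Finite S] [IsSimpleGroup S]
    (hc : ¬ IsMulCommutative S) {f : G →* S} (hf : Function.Surjective f) {p : ℕ}
    [hp : Fact p.Prime] (hK : IsPGroup p f.ker) (hab : IsMulCommutative f.ker) :
    Disjoint (commutator G) f.ker := by
  have hS := h.map hf
  have ha : ∀ (s : ℕ) [Fact s.Prime] (P : Sylow s G), ∀ y ∈ (P : Subgroup G), f y ≠ 1 →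
      (s = p ∨ ¬ p ∣ Nat.card S) → ¬ p ∣ (𝐂[y]).index := by
    intro s _ P y hy h1 hs
    refine h.not_dvd (index_cen_map_dvd hf y) (two_le_pf hc h1) hp.out ?_
    rcases hs with rfl | hs
    · rw [hS.cen_sylow hc (P.mapSurjective hf) (mem_map_of_mem f hy) h1]
      exact (P.mapSurjective hf).not_dvd_index
    · exact fun e => hs (e.trans (index_dvd_card _))
  have hZ : f.ker ≤ center G := by
    obtain ⟨s, _, ds, hs⟩ : ∃ (s : ℕ) (_ : Fact s.Prime), s ∣ Nat.card S ∧
        (s = p ∨ ¬ p ∣ Nat.card S) := by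
      by_cases e : p ∣ Nat.card S
      exacts [⟨p, hp, e, Or.inl rfl⟩, ⟨2, inferInstance, two_dvd hc, Or.inr e⟩]
    obtain ⟨P⟩ : Nonempty (Sylow s G) := inferInstance
    obtain ⟨⟨_, y, hy, rfl⟩, h1⟩ :=
      ne_bot_iff_exists_ne_one.1 ((P.mapSurjective hf).ne_bot_of_dvd_card ds)
    replace h1 : f y ≠ 1 := fun e => h1 (Subtype.ext e)
    have h2 := le_cen_iff.1 (le_cen_of_normal_isPGroup (ha s P y hy h1 hs) hK)
    have h3 := (Normal.map (inferInstance : (centralizer (f.ker : Set G)).Normal) f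
      hf).eq_bot_or_eq_top.resolve_left fun e => h1 (mem_bot.1 (e ▸ mem_map_of_mem f h2))
    have h4 := congrArg (comap f) h3
    rw [comap_map_eq_self (le_centralizer _), comap_top] at h4
    exact centralizer_eq_top_iff_subset.1 h4
  obtain ⟨P⟩ : Nonempty (Sylow p G) := inferInstance
  have hP : IsMulCommutative (P : Subgroup G) := ⟨⟨fun a b => Subtype.ext (by
    by_cases h1 : f a = 1
    · exact (mem_center_iff.1 (hZ h1) b).symm
    obtain ⟨Q, hQ⟩ := exists_sylow_le_of_not_dvd_index (ha p P a a.2 h1 (Or.inl rfl))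
    have e : (P : Subgroup G).map f = (Q : Subgroup G).map f :=
      (Q.mapSurjective hf).is_maximal' (P.mapSurjective hf).isPGroup' (((map_mono hQ).trans
        (map_cen_le f _)).trans
          (hS.cen_sylow hc (P.mapSurjective hf) (mem_map_of_mem f a.2) h1).le)
    have e2 := congrArg (comap f) e
    rw [comap_map_eq_self (hK.le_sylow_of_normal P),
      comap_map_eq_self (hK.le_sylow_of_normal Q)] at e2
    exact (mem_cen'.1 (hQ (e2 ▸ b.2))).eq)⟩⟩
  refine disjoint_def.2 fun {z} z1 z2 => ?_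
  obtain ⟨k, hk⟩ := hK ⟨z, z2⟩
  have := pow_gcd_eq_one.2 ⟨CL.Tr.pow_index_eq_one_of_mem_center_commutator hP (hZ z2) z1,
    (congrArg Subtype.val hk : z ^ p ^ k = 1)⟩
  rwa [(((Nat.Prime.coprime_iff_not_dvd hp.out).2 P.not_dvd_index).symm.pow_right k).gcd_eq_one,
    pow_one] at this

theorem H2.exists_simple {G : Type u} [Group G] [Finite G] (h : H2 G) (hG : ¬ Group.IsSolvable G) :
    ∃ S : Subgroup G, S.Normal ∧ IsSimpleGroup S ∧ ¬ IsMulCommutative S := by
  induction hn : Nat.card G using Nat.strong_induction_on generalizing G with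
  | _ n ih =>
  subst hn
  have : Nontrivial G := by
    by_contra e
    have := not_nontrivial_iff_subsingleton.1 e
    exact hG inferInstance
  obtain ⟨V, hV⟩ := CL.exists_isMinNormal G
  have := hV.normal
  by_cases hs : Group.IsSolvable V
  · obtain ⟨p, hp, hpV⟩ := hV.exists_isPGroup_of_isSolvable hs
    have := Fact.mk hp
    obtain ⟨S, S1, S2, S3⟩ := ih _ (by
        rw [← index_eq_card, ← V.index_mul_card]
        exact lt_mul_of_one_lt_right (Nat.pos_of_ne_zero index_ne_zero_of_finite)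
          (one_lt_card_iff_ne_bot _ |>.2 hV.ne_bot))
      (h.map (QuotientGroup.mk'_surjective V))
      (fun _ => hG (Group.isSolvable_of_ker_le_range V.subtype (QuotientGroup.mk' V) (by simp))) rfl
    let N := S.comap (QuotientGroup.mk' V)
    let f : N →* S := (QuotientGroup.mk' V).subgroupComap S
    have hf : Function.Surjective f :=
      MonoidHom.subgroupComap_surjective_of_surjective _ _ (QuotientGroup.mk'_surjective V)
    have hk : f.ker = V.subgroupOf N := by
      ext x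
      rw [MonoidHom.mem_ker, Subtype.ext_iff, mem_subgroupOf]
      exact QuotientGroup.eq_one_iff _
    have := hV.isMulCommutative_of_isSolvable hs
    have h1 := (h.normal N).split S3 hf (p := p) (hk ▸ hpV.comap_subtype)
      (hk ▸ subgroupOf_isMulCommutative _ _)
    have h2 : Function.Bijective (f.comp (commutator N).subtype) := by
      refine ⟨(injective_iff_map_eq_one _).2 fun a ha => Subtype.ext (disjoint_def.1 h1 a.2 ha),
        MonoidHom.range_eq_top.1 ?_⟩
      rw [MonoidHom.range_comp, range_subtype, map_commutator_eq, MonoidHom.range_eq_top.2 hf]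
      exact (Subgroup.Normal.eq_bot_or_eq_top (inferInstance : (commutator S).Normal)).resolve_left
        fun e => S3 ((commutator_eq_bot_iff S).1 e)
    have e := ((commutator N).equivMapOfInjective _ N.subtype_injective).symm.trans
      (MulEquiv.ofBijective _ h2)
    exact ⟨(commutator N).map N.subtype, inferInstance, e.isSimpleGroup,
      fun a => S3 ⟨⟨fun x y => e.symm.injective (by rw [map_mul, map_mul, mul_comm'])⟩⟩⟩
  by_cases hT : V = ⊤
  · subst hT
    refine ⟨⊤, inferInstance, ?_, fun a => hs (Group.isSolvable_of_comm fun x y => mul_comm' x y)⟩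
    have : IsSimpleGroup G := ⟨fun K hK => hV.eq_bot_or_eq K hK le_top⟩
    exact topEquiv.isSimpleGroup
  obtain ⟨S, S1, S2, S3⟩ := ih _ (by
      rw [← V.card_mul_index]
      exact lt_mul_of_one_lt_right Nat.card_pos (one_lt_index_of_ne_top hT))
    (h.normal V) hs rfl
  have e := S.equivMapOfInjective _ V.subtype_injective
  refine ⟨S.map V.subtype, ⟨?_⟩, e.symm.isSimpleGroup,
    fun a => S3 ⟨⟨fun x y => e.injective (by rw [map_mul, map_mul, mul_comm'])⟩⟩⟩
  rintro _ ⟨x, hx, rfl⟩ g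
  let S' := S.map (MulAut.conjNormal g : MulAut V).toMonoidHom
  have : S'.Normal := S1.map _ (MulEquiv.surjective _)
  have e' : S ≃* S' := S.equivMapOfInjective _ (MulEquiv.injective _)
  rcases (Normal.subgroupOf this S).eq_bot_or_eq_top with a | a
  · have := (h.normal V).le_center S3 (subgroupOf_eq_bot.1 a).symm
    exact absurd ⟨⟨fun x y => e'.injective (by
      rw [map_mul, map_mul]
      exact Subtype.ext (mem_center_iff.1 (this (e' y).2) _))⟩⟩ S3
  · have := eq_of_le_of_card_ge (subgroupOf_eq_top.1 a) (Nat.card_congr e'.toEquiv).ge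
    exact ⟨MulAut.conjNormal g x, this ▸ mem_map_of_mem _ hx, rfl⟩

end CL.CS2
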