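import Mathlib
import Cfsg.Agent.FGS.ClassSize
import Cfsg.Agent.PLOC.NPC

/-! Counting elements whose class size is (not) divisible by a prime. -/

namespace CL.CS

open Subgroup

variable {G : Type*} [Group G]

/-- The union of the conjugates of `C` has at most `[G : N] * |C|` elements when `N` normalizes `C`. -/
theorem ncard_conj_mem_le [Finite G] {C N : Subgroup G} (hN : N ≤ normalizer (C : Set G)) :
    {x : G | ∃ g : G, g * x * g⁻¹ ∈ C}.ncard ≤ N.index * Nat.card C := by
  classical
  let f : (G ⧸ N) × C → G := fun t => t.1.out * (t.2 : G) * (t.1.out)⁻¹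
  have hsub : {x : G | ∃ g : G, g * x * g⁻¹ ∈ C} ⊆ Set.range f := by
    rintro x ⟨g, hg⟩
    obtain ⟨n, hn⟩ := QuotientGroup.mk_out_eq_mul N g⁻¹
    have hn' : (n : G)⁻¹ ∈ normalizer (C : Set G) := hN (N.inv_mem n.2)
    have hc : (n : G)⁻¹ * (g * x * g⁻¹) * (n : G)⁻¹⁻¹ ∈ C := (mem_normalizer_iff.mp hn' _).mp hg
    refine ⟨((g⁻¹ : G), ⟨_, hc⟩), ?_⟩
    simp only [f, hn]
    group
  calc {x : G | ∃ g : G, g * x * g⁻¹ ∈ C}.ncard ≤ (Set.range f).ncard :=
        Set.ncard_le_ncard hsub (Set.toFinite _)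
    _ ≤ Nat.card ((G ⧸ N) × C) := by
        rw [← Set.image_univ, ← Set.ncard_univ]
        exact Set.ncard_image_le (Set.toFinite _)
    _ = N.index * Nat.card C := by rw [Nat.card_prod]; rfl

/-- The elements of class size prime to `p` number at most `|G| / [N(P) : C(P)]`. -/
theorem ncard_not_dvd_mul_relIndex_le [Finite G] {p : ℕ} [Fact p.Prime] (P : Sylow p G) :
    {x : G | ¬ p ∣ (𝐂[x]).index}.ncard *
      (centralizer ((P : Subgroup G) : Set G)).relIndex (normalizer ((P : Subgroup G) : Set G)) ≤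
      Nat.card G := by
  set C := centralizer ((P : Subgroup G) : Set G)
  set N := normalizer ((P : Subgroup G) : Set G)
  have hCN : C ≤ N := centralizer_le_normalizer _
  have h1 : {x : G | ¬ p ∣ (𝐂[x]).index}.ncard ≤ N.index * Nat.card C := by
    refine le_trans (Set.ncard_le_ncard ?_ (Set.toFinite _))
      (ncard_conj_mem_le (CL.normalizer_le_normalizer_centralizer (P : Subgroup G)))
    intro x hx
    exact exists_conj_mem_centralizer_sylow hx P
  have h2 : N.index * Nat.card C * C.relIndex N = Nat.card G := by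
    rw [mul_assoc, CL.card_mul_relIndex_of_le hCN, mul_comm, Subgroup.card_mul_index]
  calc _ ≤ N.index * Nat.card C * C.relIndex N := Nat.mul_le_mul_right _ h1
    _ = _ := h2

/-- If `G` has no normal `p`-complement, at most half of the elements have class size prime to `p`. -/
theorem two_mul_ncard_not_dvd_le [Finite G] {p : ℕ} [Fact p.Prime]
    (h : ¬ Cfsg.HasNormalPComplement p G) :
    2 * {x : G | ¬ p ∣ (𝐂[x]).index}.ncard ≤ Nat.card G := by
  obtain ⟨P⟩ : Nonempty (Sylow p G) := inferInstance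
  have h1 := ncard_not_dvd_mul_relIndex_le P
  have h2 : 2 ≤ (centralizer ((P : Subgroup G) : Set G)).relIndex
      (normalizer ((P : Subgroup G) : Set G)) := by
    have h0 : (centralizer ((P : Subgroup G) : Set G)).relIndex
      (normalizer ((P : Subgroup G) : Set G)) ≠ 0 := Subgroup.index_ne_zero_of_finite
    have h1 : (centralizer ((P : Subgroup G) : Set G)).relIndex
      (normalizer ((P : Subgroup G) : Set G)) ≠ 1 := by
      intro h1
      exact h (CL.hasNPC_of_normalizer_le_centralizer P (Subgroup.relIndex_eq_one.mp h1))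
    omega
  nlinarith

/-- If `G` has no normal `p`-complement, at least half of the elements have class size divisible
by `p`. -/
theorem card_le_two_mul_ncard_dvd [Finite G] {p : ℕ} [Fact p.Prime]
    (h : ¬ Cfsg.HasNormalPComplement p G) :
    Nat.card G ≤ 2 * {x : G | p ∣ (𝐂[x]).index}.ncard := by
  have h1 := two_mul_ncard_not_dvd_le h
  have h2 := Set.ncard_add_ncard_compl {x : G | p ∣ (𝐂[x]).index}
  have h3 : {x : G | p ∣ (𝐂[x]).index}ᶜ = {x : G | ¬ p ∣ (𝐂[x]).index} := rfl
  rw [h3] at h2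
  omega

/-- Non-adjacent primes in the class size graph: `G` is `p`-nilpotent or `q`-nilpotent. -/
theorem hasNPC_or_hasNPC_of_not_mul_dvd [Finite G] {p q : ℕ} (hp : p.Prime) (hq : q.Prime)
    (hpq : p ≠ q) (h : ∀ x : G, ¬ p * q ∣ (𝐂[x]).index) :
    Cfsg.HasNormalPComplement p G ∨ Cfsg.HasNormalPComplement q G := by
  haveI := Fact.mk hp
  haveI := Fact.mk hq
  by_contra hc
  push Not at hc
  have h1 := card_le_two_mul_ncard_dvd hc.1
  have h2 := card_le_two_mul_ncard_dvd hc.2
  have hdisj : Disjoint {x : G | p ∣ (𝐂[x]).index} {x : G | q ∣ (𝐂[x]).index} := by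
    rw [Set.disjoint_left]
    intro x hx1 hx2
    exact h x (((Nat.coprime_primes hp hq).mpr hpq).mul_dvd_of_dvd_of_dvd hx1 hx2)
  have h3 := Set.ncard_union_eq hdisj (Set.toFinite _) (Set.toFinite _)
  have h4 : ({x : G | p ∣ (𝐂[x]).index} ∪ {x : G | q ∣ (𝐂[x]).index}).ncard < Nat.card G := by
    rw [← Set.ncard_univ]
    refine Set.ncard_lt_ncard ⟨Set.subset_univ _, fun hh => ?_⟩ (Set.toFinite _)
    rcases hh (Set.mem_univ (1 : G)) with h1 | h1
    · simp only [Set.mem_ofPred_eq, index_cen_one, Nat.dvd_one] at h1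
      exact hp.one_lt.ne' h1
    · simp only [Set.mem_ofPred_eq, index_cen_one, Nat.dvd_one] at h1
      exact hq.one_lt.ne' h1
  omega

end CL.CS
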