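import Mathlib

/-! An automorphism of prime order `q` of an elementary abelian `p`-group, seen as an
`𝔽_p[X]`-module: order of an irreducible module, homogeneous modules, twisting. -/

set_option autoImplicit false

open Polynomial

namespace CL.FGS.CycMod

section generic

variable {F : Type*} [Field F] {M : Type*} [AddCommGroup M] [Module F[X] M]

theorem exists_ann (m : M) : ∃ g : F[X], ∀ f : F[X], f • m = 0 ↔ g ∣ f := by
  obtain ⟨g, hg⟩ := (IsPrincipalIdealRing.principal
    (LinearMap.ker (LinearMap.toSpanSingleton F[X] M m))).principal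
  refine ⟨g, fun f => ?_⟩
  rw [← Ideal.mem_span_singleton]
  change _ ↔ f ∈ Submodule.span F[X] {g}
  rw [← hg]
  simp

theorem card_span_singleton [Finite F] (m : M) {g : F[X]} (hg : g ≠ 0)
    (h : ∀ f : F[X], f • m = 0 ↔ g ∣ f) :
    Nat.card (Submodule.span F[X] ({m} : Set M)) = Nat.card F ^ g.natDegree := by
  have hk : LinearMap.ker (LinearMap.toSpanSingleton F[X] M m) = Ideal.span {g} := by
    ext f; rw [Ideal.mem_span_singleton, ← h]; simp
  have e := (LinearMap.toSpanSingleton F[X] M m).quotKerEquivRange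
  rw [hk, ← LinearMap.span_singleton_eq_range] at e
  rw [← Nat.card_congr e.toEquiv]
  have : Module.Finite F (AdjoinRoot g) := (AdjoinRoot.powerBasis hg).finite
  have h1 : Nat.card (AdjoinRoot g) = Nat.card F ^ g.natDegree := by
    rw [Module.natCard_eq_pow_finrank (K := F), (AdjoinRoot.powerBasis hg).finrank,
      AdjoinRoot.powerBasis_dim]
  exact h1

theorem irreducible_ann {m : M} (hm : m ≠ 0) {g : F[X]}
    (h : ∀ f : F[X], f • m = 0 ↔ g ∣ f) (hg : g ≠ 0)
    (hmin : ∀ b : F[X], b • m ≠ 0 → m ∈ Submodule.span F[X] ({b • m} : Set M)) :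
    Irreducible g := by
  refine ⟨fun hu => hm ?_, fun a b hab => ?_⟩
  · have := (h 1).2 hu.dvd
    simpa using this
  · by_cases hb : b • m = 0
    · left
      obtain ⟨c, hc⟩ := (h b).1 hb
      have : g * 1 = g * (a * c) := by rw [mul_one]; nth_rewrite 1 [hab]; rw [hc]; ring
      exact IsUnit.of_mul_eq_one c (mul_left_cancel₀ hg this).symm
    · right
      obtain ⟨c, hc⟩ := Submodule.mem_span_singleton.1 (hmin b hb)
      have h1 : a • m = 0 := by
        rw [← hc, smul_smul, smul_smul, (h _).2]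
        exact ⟨c, by rw [hab]; ring⟩
      obtain ⟨d, hd⟩ := (h a).1 h1
      have : g * 1 = g * (b * d) := by rw [mul_one]; nth_rewrite 1 [hab]; rw [hd]; ring
      exact IsUnit.of_mul_eq_one d (mul_left_cancel₀ hg this).symm

end generic

theorem natDegree_eq_orderOf {p q : ℕ} [Fact p.Prime] (hq : q.Prime) (hpq : p ≠ q)
    {g : (ZMod p)[X]} (hg : Irreducible g) (hd : g ∣ cyclotomic q (ZMod p)) :
    g.natDegree = orderOf (p : ZMod q) := by
  have hc : p.Coprime q := (Nat.coprime_primes Fact.out hq).2 hpq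
  rw [natDegree_of_dvd_cyclotomic_of_irreducible (p := p) (f := 1) (by simp) hc hd hg,
    ← orderOf_units]
  simp

theorem irreducible_cyclotomic {p q : ℕ} [Fact p.Prime] (hq : q.Prime) (hpq : p ≠ q)
    (h : orderOf (p : ZMod q) = q - 1) : Irreducible (cyclotomic q (ZMod p)) := by
  have hc : ¬ p ∣ q := fun hd => hpq ((Nat.prime_dvd_prime_iff_eq Fact.out hq).1 hd)
  refine ZMod.irreducible_of_dvd_cyclotomic_of_natDegree hc dvd_rfl ?_
  rw [natDegree_cyclotomic, Nat.totient_prime hq, ← orderOf_units, ← h]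
  simp

section linear

variable {F : Type*} [Field F] {V : Type*} [AddCommGroup V] [Module F V]

theorem smul_of (T : Module.End F V) (f : F[X]) (v : V) :
    f • Module.AEval'.of T v = Module.AEval'.of T (aeval T f v) := rfl

theorem aeval_cyclotomic_apply {q : ℕ} (hq : q.Prime) (T : Module.End F V) (hT : T ^ q = 1)
    (hfix : ∀ v, T v = v → v = 0) (v : V) : aeval T (cyclotomic q F) v = 0 := by
  have : Fact q.Prime := ⟨hq⟩
  apply hfix
  have h := congrArg (fun f => aeval T f v) (cyclotomic_prime_mul_X_sub_one F q)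
  simp only [mul_comm (cyclotomic q F), map_mul, map_sub, aeval_X, map_one, map_pow, hT, sub_self,
    Module.End.mul_apply, LinearMap.sub_apply, Module.End.one_apply] at h
  exact sub_eq_zero.1 h

theorem aeval_semiconj {W : Type*} [AddCommGroup W] [Module F W] {T : Module.End F V}
    {S : Module.End F W} (ψ : V →ₗ[F] W) (h : ∀ v, ψ (T v) = S (ψ v)) (f : F[X]) (v : V) :
    ψ (aeval T f v) = aeval S f (ψ v) := by
  induction f using Polynomial.induction_on' generalizing v with
  | add f g hf hg => simp [hf, hg]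
  | monomial n a =>
    simp only [aeval_monomial, Module.End.mul_apply, Module.algebraMap_end_apply, map_smul]
    congr 1
    induction n generalizing v with
    | zero => simp
    | succ n ih => rw [pow_succ, pow_succ, Module.End.mul_apply, Module.End.mul_apply, ih, h]

theorem aeval_mem {T : Module.End F V} {W : Submodule F V} (hW : ∀ v ∈ W, T v ∈ W) (f : F[X])
    {v : V} (hv : v ∈ W) : aeval T f v ∈ W := by
  induction f using Polynomial.induction_on' with
  | add f g hf hg => simpa using W.add_mem hf hg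
  | monomial n a =>
    simp only [aeval_monomial, Module.End.mul_apply, Module.algebraMap_end_apply]
    refine W.smul_mem _ ?_
    induction n with
    | zero => simpa
    | succ n ih => rw [pow_succ', Module.End.mul_apply]; exact hW _ ih

theorem exists_linearEquiv_apply_eq {a b : V} (ha : a ≠ 0) (hb : b ≠ 0) :
    ∃ g : V ≃ₗ[F] V, g a = b := by
  obtain ⟨g, hg⟩ := Submodule.exists_linearEquiv_restrict_eq
    ((LinearEquiv.toSpanNonzeroSingleton F V a ha).symm ≪≫ₗ
      LinearEquiv.toSpanNonzeroSingleton F V b hb)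
  refine ⟨g, ?_⟩
  have := hg ⟨_, Submodule.mem_span_singleton_self _⟩
  rw [← this, LinearEquiv.trans_apply, ← LinearEquiv.toSpanNonzeroSingleton_one F V a ha,
    LinearEquiv.symm_apply_apply, LinearEquiv.toSpanNonzeroSingleton_one]

/-- The cyclic submodule generated by `v`. -/
def cycSub (T : Module.End F V) (v : V) : Submodule F V where
  carrier := {w | ∃ f : F[X], aeval T f v = w}
  add_mem' := by
    rintro _ _ ⟨f, rfl⟩ ⟨g, rfl⟩
    exact ⟨f + g, by simp⟩
  zero_mem' := ⟨0, by simp⟩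
  smul_mem' := by
    rintro c _ ⟨f, rfl⟩
    exact ⟨C c * f, by simp⟩

theorem mem_cycSub {T : Module.End F V} {v w : V} :
    w ∈ cycSub T v ↔ ∃ f : F[X], aeval T f v = w := Iff.rfl

theorem self_mem_cycSub (T : Module.End F V) (v : V) : v ∈ cycSub T v := ⟨1, by simp⟩

theorem apply_mem_cycSub {T : Module.End F V} {v w : V} (h : w ∈ cycSub T v) :
    T w ∈ cycSub T v := by
  obtain ⟨f, rfl⟩ := h
  exact ⟨X * f, by simp⟩

theorem cycSub_le {T : Module.End F V} {W : Submodule F V} (hW : ∀ v ∈ W, T v ∈ W) {v : V}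
    (hv : v ∈ W) : cycSub T v ≤ W := by
  rintro _ ⟨f, rfl⟩
  exact aeval_mem hW f hv

theorem exists_ann' (T : Module.End F V) (v : V) :
    ∃ g : F[X], ∀ f : F[X], aeval T f v = 0 ↔ g ∣ f := by
  obtain ⟨g, hg⟩ := exists_ann (F := F) (Module.AEval'.of T v)
  refine ⟨g, fun f => ?_⟩
  rw [← hg, smul_of, LinearEquiv.map_eq_zero_iff]

theorem card_cycSub [Finite F] (T : Module.End F V) (v : V) {g : F[X]} (hg : g ≠ 0)
    (h : ∀ f : F[X], aeval T f v = 0 ↔ g ∣ f) :
    Nat.card (cycSub T v) = Nat.card F ^ g.natDegree := by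
  rw [← card_span_singleton (Module.AEval'.of T v) hg
    (fun f => by rw [← h, smul_of, LinearEquiv.map_eq_zero_iff])]
  refine Nat.card_congr (Equiv.subtypeEquiv (Module.AEval'.of T).toEquiv fun w => ?_)
  rw [mem_cycSub, Submodule.mem_span_singleton]
  refine exists_congr fun f => ?_
  rw [smul_of]
  exact ((Module.AEval'.of T).injective.eq_iff).symm

theorem irreducible_ann' (T : Module.End F V) {v : V} (hv : v ≠ 0) {g : F[X]}
    (h : ∀ f : F[X], aeval T f v = 0 ↔ g ∣ f) (hg : g ≠ 0)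
    (hmin : ∀ w ∈ cycSub T v, w ≠ 0 → v ∈ cycSub T w) : Irreducible g := by
  refine irreducible_ann (m := Module.AEval'.of T v) (by simpa using hv)
    (fun f => by rw [← h, smul_of, LinearEquiv.map_eq_zero_iff]) hg ?_
  intro b hb
  rw [smul_of, Ne, LinearEquiv.map_eq_zero_iff] at hb
  obtain ⟨f, hf⟩ := hmin _ ⟨b, rfl⟩ hb
  rw [Submodule.mem_span_singleton]
  exact ⟨f, by rw [smul_of, smul_of, hf]⟩

end linear

section zmod

variable {p : ℕ} [Fact p.Prime] {V : Type*} [AddCommGroup V] [Module (ZMod p) V]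

/-- A minimal cyclic submodule has order `p ^ ord_q(p)`; its annihilator is an irreducible factor
of the cyclotomic polynomial. -/
theorem exists_irreducible_ann {q : ℕ} (T : Module.End (ZMod p) V)
    {v : V} (hv : v ≠ 0) (hΦ : aeval T (cyclotomic q (ZMod p)) v = 0)
    (hmin : ∀ w ∈ cycSub T v, w ≠ 0 → v ∈ cycSub T w) :
    ∃ g : (ZMod p)[X], Irreducible g ∧ g ∣ cyclotomic q (ZMod p) ∧
      ∀ f, aeval T f v = 0 ↔ g ∣ f := by
  obtain ⟨g, hg⟩ := exists_ann' T v
  have hd := (hg _).1 hΦ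
  have hg0 : g ≠ 0 := ne_zero_of_dvd_ne_zero (cyclotomic_ne_zero q _) hd
  exact ⟨g, irreducible_ann' T hv hg hg0 hmin, hd, hg⟩

theorem card_of_irreducible {q : ℕ} (hq : q.Prime) (hpq : p ≠ q) (T : Module.End (ZMod p) V)
    (hT : T ^ q = 1) (hT1 : T ≠ 1)
    (hirr : ∀ W : Submodule (ZMod p) V, (∀ v ∈ W, T v ∈ W) → W = ⊥ ∨ W = ⊤) :
    Nat.card V = p ^ orderOf (p : ZMod q) := by
  have hfix : ∀ v, T v = v → v = 0 := by
    rcases hirr (LinearMap.ker (T - 1)) (by
      intro v hv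
      simp only [LinearMap.mem_ker, LinearMap.sub_apply, Module.End.one_apply, sub_eq_zero] at hv ⊢
      rw [hv, hv]) with h | h
    · intro v hv
      have : v ∈ LinearMap.ker (T - 1) := by simp [hv]
      rwa [h] at this
    · exact absurd (sub_eq_zero.1 (LinearMap.ker_eq_top.1 h)) hT1
  obtain ⟨v, hv⟩ : ∃ v : V, v ≠ 0 := by
    by_contra h
    push Not at h
    exact hT1 (LinearMap.ext fun v => by rw [h v]; simp)
  have htop : ∀ w : V, w ≠ 0 → cycSub T w = ⊤ := fun w hw =>
    (hirr _ fun _ => apply_mem_cycSub).resolve_left fun h =>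
      hw (by have := self_mem_cycSub T w; rwa [h] at this)
  obtain ⟨g, hg, hd, hann⟩ := exists_irreducible_ann T hv (aeval_cyclotomic_apply hq T hT hfix v)
    (fun w _ hw => by rw [htop w hw]; trivial)
  have := card_cycSub T v hg.ne_zero hann
  rw [htop v hv, natDegree_eq_orderOf hq hpq hg hd, Nat.card_zmod] at this
  rw [← this]
  exact (Nat.card_congr (Submodule.topEquiv (R := ZMod p) (M := V)).toEquiv).symm

theorem fix_pow {F : Type*} [Field F] {W : Type*} [AddCommGroup W] [Module F W] {q : ℕ}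
    (hq : q.Prime) {T : Module.End F W} (hT : T ^ q = 1) (hfix : ∀ v, T v = v → v = 0) {i : ℕ}
    (hi : ¬ q ∣ i) (v : W) (hv : (T ^ i) v = v) : v = 0 := by
  apply hfix
  have hc : Nat.Coprime i q := ((Nat.Prime.coprime_iff_not_dvd hq).2 hi).symm
  obtain ⟨j, -, hj⟩ := Nat.exists_mul_mod_eq_one_of_coprime hc hq.one_lt
  have h1 : (T ^ i) ^ j = T := by rw [← pow_mul, pow_eq_pow_mod _ hT, hj, pow_one]
  rw [← h1]
  clear h1 hj
  induction j with
  | zero => simp
  | succ j ih => rw [pow_succ, Module.End.mul_apply, hv, ih]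

theorem orderOf_eq_of_transitive [Finite V] [Nontrivial V] {q : ℕ} (hq : q.Prime) (hpq : p ≠ q)
    (T : Module.End (ZMod p) V) (hT : T ^ q = 1) (hfix : ∀ v, T v = v → v = 0)
    (h1 : ∀ a b : V, a ≠ 0 → b ≠ 0 → ∃ (ψ : V ≃ₗ[ZMod p] V) (j : ℕ),
      (∀ v, ψ (T v) = (T ^ j) (ψ v)) ∧ ψ a = b)
    (h2 : ∀ i : ℕ, ¬ q ∣ i → ∃ ψ : V ≃ₗ[ZMod p] V, ∀ v, ψ (T v) = (T ^ i) (ψ v)) :
    orderOf (p : ZMod q) = q - 1 := by
  classical
  have hcard : ∀ a b : V, a ≠ 0 → b ≠ 0 → Nat.card (cycSub T a) ≤ Nat.card (cycSub T b) := by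
    intro a b ha hb
    obtain ⟨ψ, j, hψ, hab⟩ := h1 a b ha hb
    have hmem : ∀ w ∈ cycSub T a, ψ w ∈ cycSub T b := by
      rintro _ ⟨f, rfl⟩
      have := aeval_semiconj (ψ : V →ₗ[ZMod p] V) hψ f a
      simp only [LinearEquiv.coe_coe] at this
      rw [this, hab]
      refine aeval_mem ?_ f (self_mem_cycSub T b)
      intro v hv
      clear hψ this
      induction j with
      | zero => simpa
      | succ j ih => rw [pow_succ', Module.End.mul_apply]; exact apply_mem_cycSub ih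
    exact Nat.card_le_card_of_injective (fun w : cycSub T a => (⟨ψ w, hmem w w.2⟩ : cycSub T b))
      fun w w' h => Subtype.ext (ψ.injective (congrArg Subtype.val h))
  have hann : ∀ v : V, v ≠ 0 → ∃ g : (ZMod p)[X], Irreducible g ∧ g ∣ cyclotomic q (ZMod p) ∧
      ∀ f, aeval T f v = 0 ↔ g ∣ f := by
    intro v hv
    refine exists_irreducible_ann T hv (aeval_cyclotomic_apply hq T hT hfix v) ?_
    intro w hw hw0
    have hle : cycSub T w ≤ cycSub T v := cycSub_le (fun _ => apply_mem_cycSub) hw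
    have : (cycSub T w).toAddSubgroup = (cycSub T v).toAddSubgroup :=
      AddSubgroup.eq_of_le_of_card_ge hle (hcard v w hv hw0)
    have h3 : v ∈ (cycSub T v).toAddSubgroup := self_mem_cycSub T v
    rw [← this] at h3
    exact h3
  obtain ⟨v, hv⟩ := exists_ne (0 : V)
  obtain ⟨g, hg, hd, hgv⟩ := hann v hv
  have hgall : ∀ w, aeval T g w = 0 := by
    intro w
    have hgv0 : aeval T g v = 0 := (hgv g).2 dvd_rfl
    by_cases hw : w = 0
    · simp [hw]
    by_cases hvw : v + w = 0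
    · rw [eq_neg_of_add_eq_zero_right hvw, map_neg, hgv0, neg_zero]
    obtain ⟨g1, hg1, -, hg1w⟩ := hann w hw
    obtain ⟨g2, hg2, -, hg2w⟩ := hann _ hvw
    have e1 : aeval T (g1 * g2) (v + w) = 0 := (hg2w _).2 (dvd_mul_left _ _)
    have e2 : aeval T (g1 * g2) w = 0 := (hg1w _).2 (dvd_mul_right _ _)
    rw [map_add, e2, add_zero, hgv] at e1
    rcases hg.prime.dvd_or_dvd e1 with h | h
    · exact (hg1w g).2 (hg.associated_of_dvd hg1 h).symm.dvd
    · have := (hg2w g).2 (hg.associated_of_dvd hg2 h).symm.dvd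
      rwa [map_add, hgv0, zero_add] at this
  have hdeg := natDegree_eq_orderOf hq hpq hg hd
  rw [← hdeg]
  apply le_antisymm
  · have := natDegree_le_of_dvd hd (cyclotomic_ne_zero q _)
    rwa [natDegree_cyclotomic, Nat.totient_prime hq] at this
  have : Fact (Irreducible g) := ⟨hg⟩
  have hchar : CharP (AdjoinRoot g) p := charP_of_injective_algebraMap
    (algebraMap (ZMod p) (AdjoinRoot g)).injective p
  have hne : NeZero (q : AdjoinRoot g) := ⟨fun h => hpq
    ((Nat.prime_dvd_prime_iff_eq Fact.out hq).1 ((CharP.cast_eq_zero_iff _ p q).1 h))⟩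
  have hζ : IsPrimitiveRoot (AdjoinRoot.root g) q := by
    rw [← isRoot_cyclotomic_iff, ← map_cyclotomic q (algebraMap (ZMod p) (AdjoinRoot g)),
      IsRoot.def, eval_map_algebraMap, AdjoinRoot.aeval_eq, AdjoinRoot.mk_eq_zero]
    exact hd
  have hroot : ∀ i, ¬ q ∣ i → AdjoinRoot.root g ^ i ∈ (g.aroots (AdjoinRoot g)).toFinset := by
    intro i hi
    obtain ⟨ψ, hψ⟩ := h2 i hi
    obtain ⟨u, hu⟩ := ψ.surjective v
    have e1 := aeval_semiconj (ψ : V →ₗ[ZMod p] V) hψ g u
    simp only [LinearEquiv.coe_coe] at e1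
    rw [hgall, map_zero, hu] at e1
    have e2 : aeval T (g.comp (X ^ i)) v = 0 := by
      rw [aeval_comp]; simpa using e1.symm
    rw [hgv, ← AdjoinRoot.mk_eq_zero, ← AdjoinRoot.aeval_eq, aeval_comp] at e2
    rw [Multiset.mem_toFinset, mem_aroots]
    exact ⟨hg.ne_zero, by simpa using e2⟩
  have hinj : Set.InjOn (fun i => AdjoinRoot.root g ^ i) (Finset.Ico 1 q : Finset ℕ) := by
    intro i hi j hj hij
    simp only [Finset.coe_Ico, Set.mem_Ico] at hi hj
    exact hζ.pow_inj hi.2 hj.2 hij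
  have := Finset.card_le_card_of_injOn (fun i => AdjoinRoot.root g ^ i)
    (t := (g.aroots (AdjoinRoot g)).toFinset) (by
      intro i hi
      simp only [Finset.coe_Ico, Set.mem_Ico] at hi
      exact hroot i fun h => absurd (Nat.le_of_dvd (by omega) h) (by omega)) hinj
  rw [Nat.card_Ico] at this
  refine this.trans ((Multiset.toFinset_card_le _).trans ?_)
  refine (card_roots' _).trans ?_
  rw [natDegree_map]

theorem exists_semiconj_of_orderOf [Finite V] {q : ℕ} (hq : q.Prime) (hpq : p ≠ q)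
    (hord : orderOf (p : ZMod q) = q - 1)
    (T : Module.End (ZMod p) V) (hT : T ^ q = 1) (hfix : ∀ v, T v = v → v = 0)
    {i : ℕ} (hi : ¬ q ∣ i) {a b : V} (hab : a = 0 ↔ b = 0) :
    ∃ ψ : V ≃ₗ[ZMod p] V, (∀ v, ψ (T v) = (T ^ i) (ψ v)) ∧ ψ a = b := by
  have hirr := irreducible_cyclotomic hq hpq hord
  set Φ := cyclotomic q (ZMod p) with hΦ
  have hmax : (Ideal.span {Φ}).IsMaximal := PrincipalIdealRing.isMaximal_of_irreducible hirr
  let _ : Field ((ZMod p)[X] ⧸ Ideal.span {Φ}) := Ideal.Quotient.field _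
  have hTi : (T ^ i) ^ q = 1 := by rw [← pow_mul, mul_comm, pow_mul, hT, one_pow]
  have tors : ∀ S : Module.End (ZMod p) V, S ^ q = 1 → (∀ v, S v = v → v = 0) →
      Module.IsTorsionBy (ZMod p)[X] (Module.AEval' S) Φ := by
    intro S hS hSf m
    obtain ⟨v, rfl⟩ := (Module.AEval'.of S).surjective m
    rw [smul_of, aeval_cyclotomic_apply hq S hS hSf, map_zero]
  have t1 := tors T hT hfix
  have t2 := tors (T ^ i) hTi (fix_pow hq hT hfix hi)
  let m1 := t1.module
  let m2 := t2.module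
  have f1 : Finite (Module.AEval' T) := Finite.of_equiv _ (Module.AEval'.of T).toEquiv
  have f2 : Finite (Module.AEval' (T ^ i)) := Finite.of_equiv _ (Module.AEval'.of (T ^ i)).toEquiv
  have fK : Finite ((ZMod p)[X] ⧸ Ideal.span {Φ}) := by
    have : Module.Finite (ZMod p) (AdjoinRoot Φ) := (AdjoinRoot.powerBasis hirr.ne_zero).finite
    exact Module.finite_of_finite (M := AdjoinRoot Φ) (ZMod p)
  have hrank : Module.finrank ((ZMod p)[X] ⧸ Ideal.span {Φ}) (Module.AEval' T) =
      Module.finrank ((ZMod p)[X] ⧸ Ideal.span {Φ}) (Module.AEval' (T ^ i)) := by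
    have e1 := Module.natCard_eq_pow_finrank (K := (ZMod p)[X] ⧸ Ideal.span {Φ})
      (V := Module.AEval' T)
    have e2 := Module.natCard_eq_pow_finrank (K := (ZMod p)[X] ⧸ Ideal.span {Φ})
      (V := Module.AEval' (T ^ i))
    rw [← Nat.card_congr (Module.AEval'.of T).toEquiv] at e1
    rw [← Nat.card_congr (Module.AEval'.of (T ^ i)).toEquiv, e1] at e2
    exact Nat.pow_right_injective Finite.one_lt_card e2
  let e := LinearEquiv.ofFinrankEq _ _ hrank
  obtain ⟨g, hg⟩ : ∃ g : Module.AEval' (T ^ i) ≃ₗ[(ZMod p)[X] ⧸ Ideal.span {Φ}]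
      Module.AEval' (T ^ i), g (e (Module.AEval'.of T a)) = Module.AEval'.of (T ^ i) b := by
    by_cases ha : a = 0
    · exact ⟨LinearEquiv.refl _ _, by simp [ha, hab.1 ha]⟩
    have ha' : e (Module.AEval'.of T a) ≠ 0 := by simpa using ha
    have hb' : Module.AEval'.of (T ^ i) b ≠ 0 := by simpa using fun h => ha (hab.2 h)
    exact exists_linearEquiv_apply_eq ha' hb'
  let ψ0 : V ≃+ V := (Module.AEval'.of T).toAddEquiv.trans (((e ≪≫ₗ g).toAddEquiv).trans
    (Module.AEval'.of (T ^ i)).symm.toAddEquiv)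
  let ψ : V ≃ₗ[ZMod p] V := { ψ0 with map_smul' := ZMod.map_smul ψ0 }
  have hψ : ∀ v, ψ v = (Module.AEval'.of (T ^ i)).symm ((e ≪≫ₗ g) (Module.AEval'.of T v)) :=
    fun v => rfl
  refine ⟨ψ, fun v => ?_, ?_⟩
  · rw [hψ, hψ, ← Module.AEval'.X_smul_of, ← Module.AEval'.of_symm_X_smul]
    congr 1
    exact map_smul (e ≪≫ₗ g) (Ideal.Quotient.mk (Ideal.span {Φ}) X) _
  · rw [hψ, LinearEquiv.trans_apply, hg, LinearEquiv.symm_apply_apply]

end zmod

section group

variable {A : Type*} [CommGroup A]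

/-- An endomorphism of an elementary abelian group as a linear map. -/
def lin (p : ℕ) [Module (ZMod p) (Additive A)] (τ : MulAut A) :
    Module.End (ZMod p) (Additive A) :=
  (MonoidHom.toAdditive τ.toMonoidHom).toZModLinearMap p

theorem lin_apply (p : ℕ) [Module (ZMod p) (Additive A)] (τ : MulAut A) (a : Additive A) :
    lin p τ a = Additive.ofMul (τ a.toMul) := rfl

theorem lin_pow (p : ℕ) [Module (ZMod p) (Additive A)] (τ : MulAut A) (n : ℕ) :
    lin p τ ^ n = lin p (τ ^ n) := by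
  induction n with
  | zero => ext; rfl
  | succ n ih => rw [pow_succ, ih, pow_succ]; ext; rfl

theorem nsmul_eq_zero_of_pow {p : ℕ} (hA : ∀ a : A, a ^ p = 1) (a : Additive A) : p • a = 0 :=
  congrArg Additive.ofMul (hA a.toMul)

/-- An automorphism of prime order `q ≠ p` acting irreducibly on an elementary abelian
`p`-group `A`: `|A| = p ^ ord_q(p)`. -/
theorem card_of_irreducible_aut {p q : ℕ} [Fact p.Prime] (hq : q.Prime) (hpq : p ≠ q)
    (hA : ∀ a : A, a ^ p = 1) (τ : MulAut A) (hτ : τ ^ q = 1) (hτ1 : τ ≠ 1)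
    (hirr : ∀ B : Subgroup A, (∀ b ∈ B, τ b ∈ B) → B = ⊥ ∨ B = ⊤) :
    Nat.card A = p ^ orderOf (p : ZMod q) := by
  obtain ⟨inst⟩ : Nonempty (Module (ZMod p) (Additive A)) :=
    ⟨AddCommGroup.zmodModule (nsmul_eq_zero_of_pow hA)⟩
  refine card_of_irreducible (V := Additive A) hq hpq (lin p τ) ?_ ?_ ?_
  · rw [lin_pow, hτ]; ext; rfl
  · intro h
    apply hτ1
    ext a
    exact congrArg (fun f : Module.End (ZMod p) (Additive A) => (f (Additive.ofMul a)).toMul) h
  · intro W hW
    rcases hirr (AddSubgroup.toSubgroup' W.toAddSubgroup) (fun b hb => hW _ hb) with h | h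
    · left
      rw [eq_bot_iff]
      intro v hv
      have : v.toMul ∈ AddSubgroup.toSubgroup' W.toAddSubgroup := hv
      rw [h] at this
      exact this
    · right
      rw [eq_top_iff]
      intro v _
      have : v.toMul ∈ AddSubgroup.toSubgroup' W.toAddSubgroup := h ▸ Subgroup.mem_top _
      exact this

theorem orderOf_eq_of_transitive_aut [Finite A] [Nontrivial A] {p q : ℕ} [Fact p.Prime]
    (hq : q.Prime) (hpq : p ≠ q) (hA : ∀ a : A, a ^ p = 1) (τ : MulAut A) (hτ : τ ^ q = 1)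
    (hfix : ∀ a, τ a = a → a = 1)
    (h1 : ∀ a b : A, a ≠ 1 → b ≠ 1 → ∃ (ψ : MulAut A) (j : ℕ), ψ * τ = τ ^ j * ψ ∧ ψ a = b)
    (h2 : ∀ i : ℕ, ¬ q ∣ i → ∃ ψ : MulAut A, ψ * τ = τ ^ i * ψ) :
    orderOf (p : ZMod q) = q - 1 := by
  obtain ⟨inst⟩ : Nonempty (Module (ZMod p) (Additive A)) :=
    ⟨AddCommGroup.zmodModule (nsmul_eq_zero_of_pow hA)⟩
  let L : MulAut A → (Additive A ≃ₗ[ZMod p] Additive A) := fun ψ =>
    { MulEquiv.toAdditive ψ with map_smul' := ZMod.map_smul (MulEquiv.toAdditive ψ) }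
  have hL : ∀ (ψ : MulAut A) (j : ℕ), ψ * τ = τ ^ j * ψ →
      ∀ v, L ψ (lin p τ v) = (lin p τ ^ j) (L ψ v) := by
    intro ψ j h v
    rw [lin_pow]
    exact congrArg (fun f : MulAut A => Additive.ofMul (f v.toMul)) h
  refine orderOf_eq_of_transitive (V := Additive A) hq hpq (lin p τ) ?_ ?_ ?_ ?_
  · rw [lin_pow, hτ]; ext; rfl
  · intro v hv
    exact congrArg Additive.ofMul (hfix v.toMul (congrArg Additive.toMul hv))
  · intro a b ha hb
    obtain ⟨ψ, j, h, hab⟩ := h1 a.toMul b.toMul ha hb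
    exact ⟨L ψ, j, hL ψ j h, congrArg Additive.ofMul hab⟩
  · intro i hi
    obtain ⟨ψ, h⟩ := h2 i hi
    exact ⟨L ψ, hL ψ i h⟩

theorem exists_semiconj_aut [Finite A] {p q : ℕ} [Fact p.Prime]
    (hq : q.Prime) (hpq : p ≠ q) (hord : orderOf (p : ZMod q) = q - 1)
    (hA : ∀ a : A, a ^ p = 1) (τ : MulAut A) (hτ : τ ^ q = 1)
    (hfix : ∀ a, τ a = a → a = 1) {i : ℕ} (hi : ¬ q ∣ i) {a b : A} (hab : a = 1 ↔ b = 1) :
    ∃ ψ : MulAut A, ψ * τ = τ ^ i * ψ ∧ ψ a = b := by
  obtain ⟨inst⟩ : Nonempty (Module (ZMod p) (Additive A)) :=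
    ⟨AddCommGroup.zmodModule (nsmul_eq_zero_of_pow hA)⟩
  obtain ⟨ψ, h, hψ⟩ := exists_semiconj_of_orderOf (V := Additive A) hq hpq hord (lin p τ)
    (by rw [lin_pow, hτ]; ext; rfl)
    (fun v hv => congrArg Additive.ofMul (hfix v.toMul (congrArg Additive.toMul hv))) hi
    (a := Additive.ofMul a) (b := Additive.ofMul b) hab
  refine ⟨MulEquiv.toAdditive.symm ψ.toAddEquiv, ?_, congrArg Additive.toMul hψ⟩
  ext v
  have := h (Additive.ofMul v)
  rw [lin_pow] at this
  exact congrArg Additive.toMul this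

end group

end CL.FGS.CycMod
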