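import Cfsg.Agent.TECH.CFSection
import Cfsg.Agent.SOLV.Schmidt
import Cfsg.Agent.INV.ABG.PGamInv

/-! Groups with cyclic Sylow subgroups for the odd primes: local facts. -/

set_option autoImplicit false

namespace CL.CycS

open Subgroup

variable {G : Type*} [Group G]

/-- The `p`-subgroups for odd `p` are cyclic. -/
def OC (G : Type*) [Group G] : Prop :=
  ∀ p : ℕ, p.Prime → p ≠ 2 → ∀ P : Subgroup G, IsPGroup p P → IsCyclic P

/-- The 2-subgroups have a cyclic subgroup of index at most two. -/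
def CI (G : Type*) [Group G] : Prop :=
  ∀ P : Subgroup G, IsPGroup 2 P → ∃ a ∈ P, ∀ x ∈ P, ∀ y ∈ P, x ∉ zpowers a → y ∉ zpowers a →
    x * y ∈ zpowers a

theorem oc_of_sylow [Finite G] (h : ∀ p : ℕ, p.Prime → p ≠ 2 → ∀ P : Sylow p G, IsCyclic P) :
    OC G := fun p hp h2 P hP => by
  obtain ⟨Q, hQ⟩ := hP.exists_le_sylow
  have := h p hp h2 Q
  exact isCyclic_of_le hQ

theorem OC.of_injective (h : OC G) {H : Type*} [Group H] {f : H →* G}
    (hf : Function.Injective f) : OC H := fun p hp h2 P hP => by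
  have := h p hp h2 _ (hP.map f)
  exact isCyclic_of_surjective _ (equivMapOfInjective P f hf).symm.surjective

theorem OC.of_surjective [Finite G] (h : OC G) {H : Type*} [Group H] {f : G →* H}
    (hf : Function.Surjective f) : OC H := by
  have := Finite.of_surjective f hf
  refine oc_of_sylow fun p hp h2 P => ?_
  have := Fact.mk hp
  obtain ⟨Q, rfl⟩ := Sylow.mapSurjective_surjective hf p P
  have := h p hp h2 Q Q.isPGroup'
  exact isCyclic_of_surjective _ (f.subgroupMap_surjective Q)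

theorem ci_of_sylow [Finite G]
    (h : ∀ S : Sylow 2 G, ∃ C : Subgroup (S : Subgroup G), IsCyclic C ∧ C.index ∣ 2) : CI G :=
  fun P hP => by
  obtain ⟨S, hS⟩ := hP.exists_le_sylow
  obtain ⟨C, hC, hi⟩ := h S
  have : IsCyclic (C.map (S : Subgroup G).subtype) :=
    isCyclic_of_surjective _ (MonoidHom.subgroupMap_surjective _ C)
  have h1 : IsCyclic ↥(P ⊓ C.map (S : Subgroup G).subtype) := isCyclic_of_le inf_le_right
  obtain ⟨a, ha⟩ := (Subgroup.isCyclic_iff_exists_zpowers_eq_top _).1 h1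
  refine ⟨a, (ha ▸ mem_zpowers a : a ∈ P ⊓ _).1, fun x hx y hy h2 h3 => ?_⟩
  rw [ha] at h2 h3 ⊢
  have h4 : (⟨x, hS hx⟩ : (S : Subgroup G)) ∉ C := fun e => h2 ⟨hx, _, e, rfl⟩
  have h5 : (⟨y, hS hy⟩ : (S : Subgroup G)) ∉ C := fun e => h3 ⟨hy, _, e, rfl⟩
  rcases (Nat.dvd_prime Nat.prime_two).1 hi with e | e
  · exact absurd (index_eq_one.1 e ▸ mem_top _) h4
  · exact ⟨mul_mem hx hy, _, (mul_mem_iff_of_index_two e).2 (iff_of_false h4 h5), rfl⟩

theorem CI.of_injective (h : CI G) {H : Type*} [Group H] {f : H →* G}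
    (hf : Function.Injective f) : CI H := fun P hP => by
  obtain ⟨_, ⟨a, ha, rfl⟩, h1⟩ := h _ (hP.map f)
  have key : ∀ x, f x ∈ zpowers (f a) ↔ x ∈ zpowers a := fun x => by
    rw [← MonoidHom.map_zpowers, mem_map_iff_mem hf]
  refine ⟨a, ha, fun x hx y hy h2 h3 => (key _).1 ?_⟩
  rw [map_mul]
  exact h1 _ ⟨x, hx, rfl⟩ _ ⟨y, hy, rfl⟩ (mt (key x).1 h2) (mt (key y).1 h3)

theorem mem_zpowers_sq {g x : G} (h : g * g = 1) (hx : x ∈ zpowers g) : x = 1 ∨ x = g := by
  obtain ⟨k, rfl⟩ := hx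
  rcases Int.even_or_odd' k with ⟨m, rfl | rfl⟩
  · left; simp only [zpow_mul, zpow_two, h, one_zpow]
  · right; simp only [zpow_add, zpow_mul, zpow_two, h, one_zpow, zpow_one, one_mul]

theorem CI.rank (h : CI G) {a b c : G} (ha : a * a = 1) (hb : b * b = 1) (hc : c * c = 1)
    (ab : a * b = b * a) (ac : a * c = c * a) (bc : b * c = c * b) (a1 : a ≠ 1) (b1 : b ≠ 1)
    (c1 : c ≠ 1) (hne : a ≠ b) : c = a ∨ c = b ∨ c = a * b := by
  have sq := CL.ABG.isPGroup_closure_of_sq (s := {a, b, c})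
    (by simp [ab, ac, bc]) (by simp [ha, hb, hc])
  obtain ⟨g, hg, h1⟩ := h (closure {a, b, c}) fun x => ⟨1, Subtype.ext (by
    simpa [pow_two] using sq x x.2)⟩
  have key : ∀ x ∈ closure ({a, b, c} : Set G), ∀ y ∈ closure ({a, b, c} : Set G),
      ∀ w ∈ closure ({a, b, c} : Set G), x ≠ 1 → y ≠ 1 → w ≠ 1 → x ≠ g → y ≠ g → w ≠ g →
      x ≠ y → x ≠ w → y = w := fun x hx y hy w hw x1 y1 w1 xg yg wg xy xw => by
    have n : ∀ u, u ≠ 1 → u ≠ g → u ∉ zpowers g := fun u h1 h2 e =>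
      (mem_zpowers_sq (sq g hg) e).elim h1 h2
    have e : ∀ u ∈ closure ({a, b, c} : Set G), u ≠ 1 → u ≠ g → x ≠ u → x * u = g :=
      fun u hu h2 h3 h4 => (mem_zpowers_sq (sq g hg) (h1 x hx u hu (n x x1 xg) (n u h2 h3))).resolve_left
        fun e => h4 (mul_left_cancel ((sq x hx).trans e.symm))
    exact mul_left_cancel ((e y hy y1 yg xy).trans (e w hw w1 wg xw).symm)
  have ma : a ∈ closure ({a, b, c} : Set G) := subset_closure (by simp)
  have mb : b ∈ closure ({a, b, c} : Set G) := subset_closure (by simp)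
  have mc : c ∈ closure ({a, b, c} : Set G) := subset_closure (by simp)
  have md := mul_mem ma mb
  have d1 : a * b ≠ 1 := fun e => hne (mul_left_cancel (ha.trans e.symm))
  have da : a ≠ a * b := fun e => b1 (left_eq_mul.1 e)
  have db : b ≠ a * b := fun e => a1 (right_eq_mul.1 e)
  by_contra hn
  push Not at hn
  obtain ⟨ca, cb, cd⟩ := hn
  by_cases e1 : a = g
  · exact cd (key b mb c mc _ md b1 c1 d1 (e1 ▸ hne.symm) (e1 ▸ ca) (e1 ▸ da.symm) cb.symm db)
  by_cases e2 : b = g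
  · exact cd (key a ma c mc _ md a1 c1 d1 e1 (e2 ▸ cb) (e2 ▸ db.symm) ca.symm da)
  by_cases e3 : c = g
  · exact db (key a ma b mb _ md a1 b1 d1 e1 e2 (e3 ▸ cd.symm) hne da)
  · exact cb (key a ma c mc b mb a1 c1 b1 e1 e3 e2 ca.symm hne)

variable [Finite G] {r : ℕ} [hr : Fact r.Prime]

theorem eq_one_of_central (P : Sylow r G) [IsCyclic P] {x : G} (hx : x ∈ (P : Subgroup G))
    (h1 : x ∈ commutator G) (h2 : x ∈ center G) : x = 1 := by
  have h := CL.CF.inf_center_commutator_le (CL.MSS.sylIn_top P) (x := x) ⟨⟨hx, h1⟩, h2⟩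
  rwa [commutator_eq_bot_iff_le_centralizer.2 (le_centralizer _), mem_bot] at h

theorem exists_norm_aux (h2 : r ≠ 2) (hc : OC G) {x z : G} (hx : orderOf x = r)
    (hxc : x ∈ center G) (hz : orderOf z = 2) :
    ∃ T : Subgroup G, IsPGroup 2 T ∧ T ≠ ⊥ ∧ ¬ r ∣ (normalizer (T : Set G)).index := by
  obtain ⟨P, hP⟩ := (IsPGroup.of_card (n := 1) (by rw [Nat.card_zpowers, hx, pow_one]) :
    IsPGroup r (zpowers x)).exists_le_sylow
  have := hc r hr.out h2 P P.isPGroup'
  rcases P.normalizer_le_centralizer_or_le_commutator with h | h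
  · have hK := MonoidHom.ker_transferSylow_isComplement' P h
    set K := (MonoidHom.transferSylow P h).ker
    have hzK : z ∈ K := by
      obtain ⟨k, hk⟩ := IsPGroup.iff_card.1 P.isPGroup'
      have h3 : orderOf (z : G ⧸ K) ∣ r ^ k := by
        rw [← hk, ← hK.symm.index_eq_card]; exact orderOf_dvd_natCard _
      have h4 : orderOf (z : G ⧸ K) ∣ 2 := hz ▸ orderOf_map_dvd (QuotientGroup.mk' K) z
      rw [← QuotientGroup.eq_one_iff, ← orderOf_eq_one_iff]
      exact Nat.eq_one_of_dvd_coprimes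
        (((Nat.coprime_primes hr.out Nat.prime_two).2 h2).pow_left k) h3 h4
    obtain ⟨T, hT⟩ := (IsPGroup.of_card (n := 1) (by
      rw [Nat.card_zpowers, ← orderOf_coe, pow_one]; exact hz) :
        IsPGroup 2 (zpowers (⟨z, hzK⟩ : K))).exists_le_sylow
    refine ⟨(T : Subgroup K).map K.subtype, T.isPGroup'.map _, fun e => ?_, fun e => ?_⟩
    · have : z ∈ (⊥ : Subgroup G) := e ▸ ⟨_, hT (mem_zpowers _), rfl⟩
      rw [mem_bot.1 this] at hz
      simp at hz
    · refine P.not_dvd_index ?_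
      rw [hK.index_eq_card]
      exact e.trans (CL.index_dvd_card_of_sup_eq_top'
        ((sup_comm _ _).trans (Sylow.normalizer_sup_eq_top T)))
  · rw [eq_one_of_central P (hP (mem_zpowers x)) (h (hP (mem_zpowers x))) hxc, orderOf_one] at hx
    exact absurd hx.symm hr.out.ne_one

theorem exists_norm (h2 : r ≠ 2) (hc : OC G) {x z : G} (hx : orderOf x = r)
    (hz : orderOf z = 2) (hxz : z * x = x * z) :
    ∃ T P : Subgroup G, IsPGroup 2 T ∧ T ≠ ⊥ ∧ IsPGroup r P ∧ ¬ r ∣ P.index ∧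
      P ≤ normalizer (T : Set G) := by
  let D := centralizer ({x} : Set G)
  have hD : ¬ r ∣ D.index := by
    obtain ⟨P, hP⟩ := (IsPGroup.of_card (n := 1) (by rw [Nat.card_zpowers, hx, pow_one]) :
      IsPGroup r (zpowers x)).exists_le_sylow
    have := hc r hr.out h2 P P.isPGroup'
    exact fun e => P.not_dvd_index (e.trans (index_dvd_of_le fun g hg =>
      mem_centralizer_singleton_iff.2 (le_centralizer _ (hP (mem_zpowers x)) g hg)))
  obtain ⟨T, h3, h4, h5⟩ := exists_norm_aux (G := D) h2 (hc.of_injective D.subtype_injective)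
    (x := ⟨x, mem_centralizer_singleton_iff.2 rfl⟩) (z := ⟨z, mem_centralizer_singleton_iff.2 hxz⟩)
    ((orderOf_coe _).symm.trans hx)
    (mem_center_iff.2 fun g => Subtype.ext (mem_centralizer_singleton_iff.1 g.2))
    ((orderOf_coe _).symm.trans hz)
  obtain ⟨R⟩ : Nonempty (Sylow r (normalizer (T : Set D))) := inferInstance
  refine ⟨T.map D.subtype, ((R : Subgroup _).map (Subgroup.subtype _)).map D.subtype, h3.map _,
    fun e => h4 ((map_eq_bot_iff_of_injective _ D.subtype_injective).1 e),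
    (R.isPGroup'.map _).map _, ?_,
    (map_mono (map_subtype_le _)).trans (le_normalizer_map _)⟩
  rw [index_map_subtype, index_map_subtype]
  exact fun e => ((hr.out.dvd_mul.1 e).elim
    (fun e => (hr.out.dvd_mul.1 e).elim R.not_dvd_index h5) hD)

theorem exists_inv (h2 : r ≠ 2) (hc : OC G) (hi : CI G) {x z : G} (hx : orderOf x = r)
    (hz : orderOf z = 2) (hxz : z * x = x * z) :
    ∃ u : G, orderOf u = 2 ∧ (¬ r ∣ (centralizer ({u} : Set G)).index ∨ (r = 3 ∧ ∃ v : G,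
      orderOf v = 2 ∧ v ≠ u ∧ v * u = u * v ∧
        ¬ 9 ∣ (centralizer ({u} : Set G) ⊓ centralizer {v}).index)) := by
  obtain ⟨T, P, hT, hT1, hP, hPi, hPT⟩ := exists_norm h2 hc hx hz hxz
  obtain ⟨g, rfl⟩ := (Subgroup.isCyclic_iff_exists_zpowers_eq_top _).1 (hc r hr.out h2 P hP)
  have : Nontrivial T := (nontrivial_iff_ne_bot T).2 hT1
  have := hT.center_nontrivial
  obtain ⟨k, hk0, hk⟩ := (hT.to_subgroup (center T)).nontrivial_iff_card.1 this
  obtain ⟨u₀, hu⟩ := exists_prime_orderOf_dvd_card' (G := center T) 2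
    (hk ▸ dvd_pow_self 2 hk0.ne')
  let I : G → Prop := fun u => u ∈ T ∧ orderOf u = 2 ∧ ∀ t ∈ T, t * u = u * t
  have h0 : I u₀ := ⟨u₀.1.2, by rw [orderOf_coe, orderOf_coe, hu], fun t ht =>
    congrArg Subtype.val (mem_center_iff.1 u₀.2 ⟨t, ht⟩)⟩
  generalize ((u₀ : T) : G) = u at h0
  have hI : ∀ u, I u → I (g * u * g⁻¹) := fun u h => by
    have hg := mem_normalizer_iff.1 (hPT (mem_zpowers g))
    refine ⟨(hg u).1 h.1, (MulAut.conj g).orderOf_eq u ▸ h.2.1, fun t ht => ?_⟩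
    have := h.2.2 (g⁻¹ * t * g) ((hg _).2 (by simpa [mul_assoc] using ht))
    calc t * (g * u * g⁻¹) = g * (g⁻¹ * t * g * u) * g⁻¹ := by group
      _ = _ := by rw [this]; group
  have sq : ∀ u, I u → u * u = 1 := fun u h => by rw [← pow_two, ← h.2.1, pow_orderOf_eq_one]
  have n1 : ∀ u, I u → u ≠ 1 := fun u h e => by simpa [e] using h.2.1
  obtain ⟨j, hj⟩ := IsPGroup.iff_card.1 hP
  rw [Nat.card_zpowers] at hj
  have fix : ∀ m : ℕ, r.Coprime m → g ^ m ∈ centralizer ({u} : Set G) →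
      ¬ r ∣ (centralizer ({u} : Set G)).index := fun m hm h e =>
    hPi (e.trans (index_dvd_of_le (zpowers_le.2 (zpowers_le.2 h
      (mem_zpowers_pow_iff.2 (by rw [hj]; exact (hm.pow_left j).symm))))))
  refine ⟨u, h0.2.1, ?_⟩
  have h1 := hI u h0
  have h2' := hI _ h1
  by_cases e1 : g * u * g⁻¹ = u
  · exact Or.inl (fix 1 (by simp) (mem_centralizer_singleton_iff.2 (by
      rw [pow_one]; exact mul_inv_eq_iff_eq_mul.1 e1)))
  rcases hi.rank (sq _ h0) (sq _ h1) (sq _ h2') (h1.2.2 u h0.1) (h2'.2.2 u h0.1)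
    (h2'.2.2 _ h1.1) (n1 _ h0) (n1 _ h1) (n1 _ h2') (Ne.symm e1) with e | e | e
  · refine Or.inl (fix 2 ((Nat.coprime_primes hr.out Nat.prime_two).2 h2)
      (mem_centralizer_singleton_iff.2 ?_))
    calc g ^ 2 * u = g * (g * u * g⁻¹) * g⁻¹ * g ^ 2 := by simp [pow_succ, mul_assoc]
      _ = _ := by rw [e]
  · exact absurd (mul_left_cancel (mul_right_cancel e)) e1
  have h3 : g ^ 3 * u = u * g ^ 3 := by
    calc g ^ 3 * u = g * (g * (g * u * g⁻¹) * g⁻¹) * g⁻¹ * g ^ 3 := by simp [pow_succ, mul_assoc]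
      _ = (g * u * g⁻¹) * (g * (g * u * g⁻¹) * g⁻¹) * g ^ 3 := by
        conv_lhs => rw [e]
        simp [mul_assoc]
      _ = u * (g * u * g⁻¹ * (g * u * g⁻¹)) * g ^ 3 := by
        rw [e, ← mul_assoc (g * u * g⁻¹), ← h1.2.2 u h0.1, mul_assoc u]
      _ = _ := by rw [sq _ h1, mul_one]
  by_cases e3 : r = 3
  · subst e3
    refine Or.inr ⟨rfl, _, h1.2.1, e1, h0.2.2 _ h1.1, fun e => hPi ?_⟩
    have h4 : zpowers (g ^ 3) ≤ centralizer ({u} : Set G) ⊓ centralizer {g * u * g⁻¹} :=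
      zpowers_le.2 ⟨mem_centralizer_singleton_iff.2 h3, mem_centralizer_singleton_iff.2 (by
        calc g ^ 3 * (g * u * g⁻¹) = g * (g ^ 3 * u) * g⁻¹ := by group
          _ = _ := by rw [h3]; group)⟩
    have h5 := e.trans (index_dvd_of_le h4)
    have h6 : (zpowers (g ^ 3)).index * orderOf (g ^ 3) = (zpowers g).index * orderOf g := by
      rw [← Nat.card_zpowers, ← Nat.card_zpowers, index_mul_card, index_mul_card]
    have h7 : orderOf g ∣ 3 * orderOf (g ^ 3) :=
      orderOf_dvd_of_pow_eq_one (by rw [pow_mul, pow_orderOf_eq_one])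
    obtain ⟨a, ha⟩ := h5
    obtain ⟨b, hb⟩ := h7
    refine ⟨a * b, ?_⟩
    refine Nat.eq_of_mul_eq_mul_left (mul_pos three_pos (orderOf_pos (g ^ 3))) ?_
    rw [ha] at h6
    calc 3 * orderOf (g ^ 3) * (zpowers g).index = (zpowers g).index * orderOf g * b := by
          rw [hb]; ring
      _ = _ := by rw [← h6]; ring
  · exact Or.inl (fix 3 ((Nat.coprime_primes hr.out Nat.prime_three).2 e3)
      (mem_centralizer_singleton_iff.2 h3))

end CL.CycS
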