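import Mathlib

/-! Arithmetic excluding a semidihedral Sylow 2-subgroup when the odd Sylow subgroups are cyclic. -/

set_option autoImplicit false

namespace CL.CycS

theorem pow_succ_dvd_of_sq {p x : ℤ} (hp : Prime p) {j : ℕ} (h : p ^ (2 * j + 1) ∣ x ^ 2) :
    p ^ (j + 1) ∣ x := by
  induction j generalizing x with
  | zero => simpa using hp.dvd_of_dvd_pow (by simpa using h)
  | succ j ih =>
    obtain ⟨y, rfl⟩ : p ∣ x := hp.dvd_of_dvd_pow ((dvd_pow_self p (by omega)).trans h)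
    rw [pow_succ' p (j + 1)]
    refine mul_dvd_mul_left p (ih ?_)
    rw [show 2 * (j + 1) + 1 = 2 + (2 * j + 1) by ring, pow_add, mul_pow] at h
    exact (mul_dvd_mul_iff_left (pow_ne_zero 2 hp.ne_zero)).1 h

theorem exists_mul_of_sq {p Q a n : ℤ} (hp : Prime p) {k : ℕ}
    (hQ : Q = p ^ k ∨ Q = -p ^ k) (ha : a ≠ 0) (hpn : ¬ p ∣ n) (h : Q * a ∣ n * (a - Q) ^ 2) :
    ∃ b, a = Q * b ∧ ¬ p ∣ b := by
  obtain ⟨j, a', hj, rfl⟩ := WfDvdMonoid.max_power_factor ha hp.irreducible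
  have hQ' : p ^ k ∣ Q := by rcases hQ with rfl | rfl <;> simp
  have hn : ¬ p ^ (k + 1) ∣ Q := fun e => by
    have : p ^ (k + 1) ∣ p ^ k * 1 := by rcases hQ with rfl | rfl <;> simpa using e
    rw [pow_succ, mul_dvd_mul_iff_left (pow_ne_zero k hp.ne_zero)] at this
    exact hp.not_dvd_one this
  have h1 : p ^ (k + j) ∣ (p ^ j * a' - Q) ^ 2 := hp.pow_dvd_of_dvd_mul_left _ hpn
    ((by rw [pow_add]; exact mul_dvd_mul hQ' (dvd_mul_right _ _) : p ^ (k + j) ∣ _).trans h)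
  rcases lt_trichotomy j k with hl | rfl | hl
  · have h2 := pow_succ_dvd_of_sq hp ((pow_dvd_pow p (show 2 * j + 1 ≤ k + j by omega)).trans h1)
    have h3 := (dvd_sub_left ((pow_dvd_pow p hl).trans hQ')).1 h2
    rw [pow_succ, mul_dvd_mul_iff_left (pow_ne_zero j hp.ne_zero)] at h3
    exact absurd h3 hj
  · rcases hQ with rfl | rfl
    · exact ⟨a', rfl, hj⟩
    · exact ⟨-a', by ring, by simpa using hj⟩
  · have h2 := pow_succ_dvd_of_sq hp ((pow_dvd_pow p (show 2 * k + 1 ≤ k + j by omega)).trans h1)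
    exact absurd ((dvd_sub_right ((pow_dvd_pow p hl).trans (dvd_mul_right _ _))).1 h2) hn

/-- the finite check -/
def chk : Bool := (List.range 25).all fun i => (List.range 2500).all fun j =>
  let Q : ℤ := 4 * i - 49
  let b : ℤ := j + 2
  let c := b - Q
  decide (Q = -1) || decide ((Q ^ 2 - 1) % c ≠ 0) || decide (c = 0) ||
    decide ((3 * (b - 1) ^ 2) % (((Q + 1) / 2) ^ 2 * (Q - 1) * c) ≠ 0) ||
    decide ((Q * b + Q + 2) % 16 ≠ 0)

theorem chk_true : chk = true := by decide +kernel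

theorem fin_chk {Q b w : ℤ} (hw : Q + 1 = 2 * w) (h2 : 2 ∣ w) (hQ : 3 ≤ |Q|) (hb : 2 ≤ b)
    (hc : b - Q ∣ Q ^ 2 - 1) (hW : w ^ 2 * (Q - 1) * (b - Q) ∣ 3 * (b - 1) ^ 2)
    (h16 : 16 ∣ Q * b + Q + 2) : False := by
  have hQ0 : Q ^ 2 - 1 ≠ 0 := by nlinarith [sq_abs Q]
  have hc0 : b - Q ≠ 0 := fun e => hQ0 (by simpa [e] using hc)
  have hu : 0 < |Q - 1| := abs_pos.2 fun e => by
    rw [show Q = 1 by linarith] at hQ; norm_num at hQ
  have h1 : |b - Q| ≤ |Q - 1| * (2 * |w|) := by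
    have := Int.le_of_dvd (abs_pos.2 hQ0) ((dvd_abs _ _).2 ((abs_dvd _ _).2 hc))
    rwa [show Q ^ 2 - 1 = (Q - 1) * (2 * w) by rw [← hw]; ring, abs_mul, abs_mul, abs_two] at this
  have h3 : |w| ^ 2 * |Q - 1| * |b - Q| ≤ 3 * (|b - Q| + |Q - 1|) ^ 2 := by
    have h := Int.le_of_dvd (by nlinarith) ((abs_dvd _ _).2 hW)
    rw [abs_mul, abs_mul, abs_pow] at h
    have h' : |b - 1| ≤ |b - Q| + |Q - 1| := abs_sub_le _ _ _
    have h'' := pow_le_pow_left₀ (abs_nonneg _) h' 2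
    rw [sq_abs] at h''
    linarith
  have h4 : |Q - 1| ≤ 2 * |w| + 2 := by
    rw [show Q - 1 = 2 * w - 2 by linarith]
    refine (abs_sub _ _).trans ?_
    rw [abs_mul, abs_two]
  have hcp := abs_pos.2 hc0
  have hw24 : |w| ≤ 24 := by
    generalize |w| = x at *
    generalize |Q - 1| = u at *
    generalize |b - Q| = c at *
    by_contra hx
    have hx : 25 ≤ x := by omega
    rcases le_total u c with h | h
    · have h5 : x ^ 2 * u * c ≤ 12 * c * c := by nlinarith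
      have h6 : x ^ 2 * u ≤ 12 * c := le_of_mul_le_mul_right h5 hcp
      have h7 : x * (x * u) ≤ 24 * (x * u) := by nlinarith
      have := le_of_mul_le_mul_right h7 (by positivity)
      omega
    · have h5 : x ^ 2 * c * u ≤ 12 * u * u := by nlinarith
      have h6 : x ^ 2 * c ≤ 12 * u := le_of_mul_le_mul_right h5 hu
      nlinarith
  obtain ⟨h5, h6⟩ := abs_le.1 hw24
  obtain ⟨v, rfl⟩ := h2
  have h7 : |b - Q| ≤ 2400 := by
    have := Int.le_of_dvd (abs_pos.2 hQ0) ((dvd_abs _ _).2 ((abs_dvd _ _).2 hc))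
    refine this.trans (abs_le.2 ⟨by nlinarith, by nlinarith⟩)
  have h8 := (abs_le.1 h7).2
  have hi : ((v + 12).toNat : ℤ) = v + 12 := Int.toNat_of_nonneg (by omega)
  have hj : ((b - 2).toNat : ℤ) = b - 2 := Int.toNat_of_nonneg (by omega)
  have h := List.all_eq_true.1 (List.all_eq_true.1 chk_true (v + 12).toNat
    (List.mem_range.2 (by omega))) (b - 2).toNat (List.mem_range.2 (by omega))
  have e1 : 4 * ((v + 12).toNat : ℤ) - 49 = Q := by omega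
  have e2 : ((b - 2).toNat : ℤ) + 2 = b := by omega
  have e3 : (Q + 1) / 2 = 2 * v := by omega
  simp only [e1, e2, e3, Bool.or_eq_true, decide_eq_true_eq] at h
  rcases h with (((h | h) | h) | h) | h
  · rw [h] at hQ; norm_num at hQ
  · exact h (Int.emod_eq_zero_of_dvd hc)
  · exact hc0 h
  · exact h (Int.emod_eq_zero_of_dvd hW)
  · exact h (Int.emod_eq_zero_of_dvd h16)

theorem dvd_three_mul {W n x : ℤ} (h : W ∣ n * x)
    (hr : ∀ r : ℕ, r.Prime → (r : ℤ) ∣ W → (r : ℤ) ∣ n → r = 3 ∧ ¬ 9 ∣ n) : W ∣ 3 * x := by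
  have key : ∀ n' : ℤ, n' ∣ n → (3 ∣ n' → 3 ∣ W → 9 ∣ n) → IsCoprime W n' := fun n' h1 h2 => by
    refine Int.isCoprime_iff_gcd_eq_one.2 (Nat.coprime_of_dvd' fun r hp e1 e2 => ?_)
    obtain ⟨rfl, h9⟩ := hr r hp (Int.natCast_dvd.2 e1) ((Int.natCast_dvd.2 e2).trans h1)
    exact absurd (h2 (Int.natCast_dvd.2 e2) (Int.natCast_dvd.2 e1)) h9
  by_cases h3 : 3 ∣ n
  · obtain ⟨n', rfl⟩ := h3
    refine (key n' (dvd_mul_left _ _) fun e _ => mul_dvd_mul_left 3 e).dvd_of_dvd_mul_left ?_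
    rwa [mul_left_comm, ← mul_assoc]
  · exact ((key n dvd_rfl fun e _ => absurd e h3).dvd_of_dvd_mul_left h).mul_left 3

theorem arith {p : ℕ} (hp : p.Prime) {k : ℕ} {Q a b n m ε : ℤ} (hε : ε = 1 ∨ ε = -1)
    (hQ : Q = ε * p ^ k) (h3 : 3 ≤ |Q|) (h4 : 4 ∣ Q + 1)
    (deg : (a - Q ^ 2) * (b - Q ^ 2) = Q ^ 2 * (Q ^ 2 - 1))
    (ord : n * (Q * (a - Q) ^ 2) = m ^ 2 * ((Q - 1) * a * (a - 1))) (hm0 : m ≠ 0)
    (hm : Q * (Q + 1) ∣ 2 * m) (sg : 0 < ε * a) (h16 : 16 ∣ a + Q + 2)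
    (hr : ∀ r : ℕ, r.Prime → (r : ℤ) ∣ Q * (Q ^ 2 - 1) → (r : ℤ) ∣ n → r = 3 ∧ ¬ 9 ∣ n * m) :
    False := by
  have hP := Nat.prime_iff_prime_int.1 hp
  have hQ' : Q = p ^ k ∨ Q = -p ^ k := by rcases hε with rfl | rfl <;> simp [hQ]
  have hk : k ≠ 0 := by
    rintro rfl
    rcases hQ' with h | h <;> rw [h] at h3 <;> norm_num at h3
  have hpQ : (p : ℤ) ∣ Q := by
    rcases hQ' with h | h <;> simp [h, dvd_pow_self _ hk]
  have a0 : a ≠ 0 := by rintro rfl; simp at sg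
  have Q0 : Q ≠ 0 := by rintro rfl; norm_num at h3
  have Q1 : Q - 1 ≠ 0 := fun e => by rw [show Q = 1 by linarith] at h3; norm_num at h3
  obtain ⟨v, hv⟩ := h4
  obtain ⟨m', hm'⟩ := hm
  have hm2 : m = Q * (2 * v) * m' := by rw [hv] at hm'; linarith
  have hpn : ¬ (p : ℤ) ∣ n := fun e => by
    obtain ⟨rfl, h9⟩ := hr p hp (hpQ.mul_right _) e
    exact h9 (mul_dvd_mul e (hm2 ▸ (hpQ.mul_right _).mul_right _))
  have e1 : n * (a - Q) ^ 2 = Q * a * ((2 * v * m') ^ 2 * (Q - 1) * (a - 1)) :=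
    mul_left_cancel₀ Q0 (by rw [hm2] at ord; linear_combination ord)
  obtain ⟨d, rfl, hd⟩ := exists_mul_of_sq hP hQ' a0 hpn ⟨_, e1⟩
  have hcop : IsCoprime (d - Q) Q := by
    have h1 : ¬ (p : ℤ) ∣ d - Q := fun e => hd ((dvd_sub_left hpQ).1 e)
    have := ((hP.coprime_iff_not_dvd.2 h1).pow_left (m := k)).symm
    rcases hQ' with h | h
    · rwa [← h] at this
    · exact (IsCoprime.neg_right_iff _ _).1 (by rwa [h, neg_neg, ← h])
  obtain ⟨c, hc⟩ : d - Q ∣ Q ^ 2 - 1 := hcop.dvd_of_dvd_mul_left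
    ⟨b - Q ^ 2, mul_left_cancel₀ Q0 (by linear_combination -deg)⟩
  have e2 : n * (d - 1) ^ 2 = (2 * v) ^ 2 * (Q - 1) * (d - Q) * (m' ^ 2 * d * (Q + c)) :=
    mul_left_cancel₀ (pow_ne_zero 2 Q0) (by
      linear_combination e1 + Q ^ 2 * d * ((2 * v * m') ^ 2 * (Q - 1)) * hc)
  have d0 : 0 < d := by
    have : 0 < (p : ℤ) ^ k := pow_pos (by exact_mod_cast hp.pos) k
    refine pos_of_mul_pos_left (b := (p : ℤ) ^ k) ?_ this.le
    rcases hε with rfl | rfl <;> rw [hQ] at sg <;> linarith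
  have d1 : d ≠ 1 := by
    rintro rfl
    rw [mul_one, sub_self] at ord
    have : m ^ 2 * ((Q - 1) * Q * (Q - 1)) = 0 := by linear_combination -ord
    simp [hm0, Q0, Q1] at this
  refine fin_chk (w := 2 * v) (by linarith) (dvd_mul_right _ _) h3 (by omega) ⟨c, hc⟩
    (dvd_three_mul ⟨_, e2⟩ fun r hr' h1 h2 => ?_) h16
  have hR := Nat.prime_iff_prime_int.1 hr'
  have h5 : (r : ℤ) ∣ Q ^ 2 - 1 := by
    rcases hR.dvd_or_dvd h1 with h | h
    · rw [show Q ^ 2 - 1 = 2 * (2 * v) * (Q - 1) by linear_combination (Q - 1) * hv]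
      rcases hR.dvd_or_dvd h with h | h
      · exact ((hR.dvd_of_dvd_pow h).mul_left _).mul_right _
      · exact h.mul_left _
    · exact h.trans ⟨c, hc⟩
  exact (hr r hr' (h5.mul_left _) h2).imp_right fun h e => h (e.mul_right _)

end CL.CycS
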