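import Cfsg.Agent.FGS.CycSyl
import Cfsg.Agent.FGS.CycSylNum
import Cfsg.Agent.INV.ABG.Block
import Cfsg.Agent.INV.ABG.QGroup
import Cfsg.Agent.INV.GW.DFPgl
import Cfsg.Agent.INV.GW.Defs

/-! A perfect group with cyclic odd Sylow subgroups has no semidihedral Sylow 2-subgroup. -/

set_option autoImplicit false

namespace CL.CycS

open Subgroup CL.ABG CL.PGL2 CL.Dk SemidirectProduct CL.Wr CL.Z2
open scoped MatrixGroups

theorem relIndex_dvd_of_normal {G : Type*} [Group G] [Finite G] (H K : Subgroup G) [K.Normal] :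
    H.relIndex K ∣ H.index := by
  obtain ⟨j, hj⟩ := relIndex_dvd_index_of_normal K H
  have h1 := relIndex_mul_index (inf_le_left : H ⊓ K ≤ H)
  have h2 := relIndex_mul_index (inf_le_right : H ⊓ K ≤ K)
  rw [inf_relIndex_left] at h1
  rw [inf_relIndex_right, hj, ← h1] at h2
  have h3 : K.relIndex H ≠ 0 := index_ne_zero_of_finite
  exact ⟨j, Nat.eq_of_mul_eq_mul_left (Nat.pos_of_ne_zero h3) (by rw [← h2]; ring)⟩

theorem dvd_index_pgl {F : Type*} [Field F] [Finite F] (hF : Odd (Nat.card F)) {ε : ℤ}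
    (hε : ε = 1 ∨ ε = -1) (h4 : 4 ∣ ε * Nat.card F + 1) {g : PGL(2, F)} (hg : orderOf g = 2)
    (hL : g ∉ pslIn F) :
    ε * Nat.card F * (ε * Nat.card F + 1) ∣ 2 * ((centralizer ({g} : Set PGL(2, F))).index : ℤ) := by
  obtain ⟨τ, hτ⟩ := CL.GW.DF.exists_tor_inv hF hg
  obtain ⟨k, e, he, hk, hq⟩ := CL.GW.exists_k_e hF
  have h1 := τ.card_inf_of_not_mem hq he hk hτ hg hL
  have h2 := τ.half hF
  obtain ⟨r, hr, -, hr'⟩ := τ.exists_refl
  have h3 : Nat.card τ.N = 2 * Nat.card τ.T := by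
    have := card_eq_two_mul_of_le_pairN (H := τ.N) le_rfl fun h => hr' (h hr)
    rwa [show pairT _ τ.x τ.y ⊓ τ.N = τ.T from inf_of_le_left τ.le] at this
  obtain ⟨j, hj⟩ : Nat.card (centralizer ({g} : Set PGL(2, F))) ∣ Nat.card τ.N :=
    card_dvd_of_le fun x hx => τ.mem_N hτ (by rintro rfl; simp at hg)
      (mem_centralizer_singleton_iff.1 hx).symm
  have h5 := (centralizer ({g} : Set PGL(2, F))).index_mul_card
  have h6 : 0 < Nat.card (centralizer ({g} : Set PGL(2, F))) := Nat.card_pos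
  have h7 : 1 ≤ Nat.card F ^ 2 := Nat.one_le_pow _ _ Nat.card_pos
  rw [card_PGL2] at h5
  zify [h7] at h2 h3 hj h5 h6
  have h8 : ε = -e := by
    obtain ⟨m, rfl⟩ := hk
    rcases hε with rfl | rfl <;> rcases he with rfl | rfl <;> push_cast at hq <;> omega
  refine ⟨j, mul_left_cancel₀ h6.ne' ?_⟩
  rw [h1] at h2
  rw [h8]
  generalize (Nat.card F : ℤ) = q at *
  subst hq
  rcases he with rfl | rfl
  · linear_combination 2 * h5 + (2 * k + 1) * (2 * k) * (hj - h3 + 2 * h2)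
  · linear_combination 2 * h5 + (2 * k - 1) * (2 * k) * (hj - h3 + 2 * h2)

variable {G : Type*} [Group G] [Finite G] {F : Type*} [Field F] [Finite F] (Λ : Ctx G F)

omit [Finite G] [Finite F] in
theorem exists_surj : ∃ (A : Subgroup Λ.C) (_ : A.Normal) (φ : A →* PGL(2, F)),
    Function.Surjective φ ∧ (∀ x : A, Λ.q.π x = inl (φ x)) ∧
      ∀ x : Λ.C, (Λ.q.π x).right = 1 → x ∈ A := by
  refine ⟨(rightHom.comp Λ.q.π).ker, inferInstance, MonoidHom.mk' (fun x => (Λ.q.π x).left)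
    fun x y => ?_, fun g => ?_, fun x => ?_, fun x h => h⟩
  · have : (Λ.q.π x).right = 1 := x.2
    simp [this]
  · obtain ⟨x, hx⟩ := Λ.q.pgl g
    exact ⟨⟨x, by simp [MonoidHom.mem_ker, hx]⟩, by simp [hx]⟩
  · exact SemidirectProduct.ext rfl x.2

theorem dvd_index (hZ : ∀ x ∈ ctr (Λ.S : Subgroup G), x = 1 ∨ x = Λ.z) {ε : ℤ}
    (hε : ε = 1 ∨ ε = -1) (h4 : 4 ∣ ε * Nat.card F + 1) {t : Λ.C} (ht : orderOf t = 2)
    (hz : (t : G) ≠ Λ.z) :
    ε * Nat.card F * (ε * Nat.card F + 1) ∣ 2 * ((centralizer ({t} : Set Λ.C)).index : ℤ) := by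
  obtain ⟨A, _, φ, h1, h2, h3⟩ := exists_surj Λ
  have tt : t * t = 1 := by rw [← pow_two, ← ht, pow_orderOf_eq_one]
  have zz : Λ.z * Λ.z = 1 := by rw [← pow_two, ← Λ.hz, pow_orderOf_eq_one]
  have split : ∀ (K : Subgroup Λ.C) [K.Normal],
      t ∈ K ⊔ (ctr (Λ.S : Subgroup G)).subgroupOf Λ.C → ∃ l ∈ K, l * l = 1 ∧ l ≠ 1 ∧
        Λ.q.π l = Λ.q.π t := fun K _ h => by
    obtain ⟨l, hl, y, hy, e⟩ := mem_sup_of_normal_left.1 h
    have hy1 : Λ.q.π y = 1 := by
      rw [← MonoidHom.mem_ker, Λ.q.ker]; exact mem_sup_right hy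
    refine ⟨l, hl, ?_, ?_, by rw [← e, map_mul, hy1, mul_one]⟩
    · rcases hZ y hy with h | h
      · rwa [← e, show y = 1 from Subtype.ext h, mul_one] at tt
      · have e1 : y * l = l * y := Subtype.ext (by
          rw [coe_mul, coe_mul, h]; exact (mem_centralizer_singleton_iff.1 l.2).symm)
        have e2 : y * y = 1 := Subtype.ext (by rw [coe_mul, h]; exact zz)
        rwa [← e, mul_assoc, ← mul_assoc y, e1, mul_assoc, e2, mul_one] at tt
    · rintro rfl
      rw [one_mul] at e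
      subst e
      rcases hZ y hy with h | h
      · rw [show y = 1 from Subtype.ext h] at ht; simp at ht
      · exact hz h
  have n1 : Λ.q.π t ≠ 1 := fun e => by
    obtain ⟨l, hl, e1, e2, -⟩ := split (Cfsg.oddCore Λ.C) (Λ.q.ker ▸ e)
    have := Λ.odd_of_π ((QuotientGroup.eq_one_iff l).2 hl)
    rw [orderOf_eq_prime (p := 2) (by rwa [pow_two]) e2] at this
    exact absurd this (by decide)
  have htA : t ∈ A := h3 t (odd_of_not_two_dvd_pow (k := 1) (by
    rw [pow_one, pow_two, ← mul_right, ← map_mul, tt, map_one, one_right]) (Λ.q.odd t))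
  have e0 := h2 ⟨t, htA⟩
  have g2 : orderOf (φ ⟨t, htA⟩) = 2 := orderOf_eq_prime (p := 2) (by
    rw [← map_pow, pow_two, show (⟨t, htA⟩ : A) * ⟨t, htA⟩ = 1 from Subtype.ext tt, map_one])
    fun e => n1 (by rw [e0, e, map_one])
  have gL : φ ⟨t, htA⟩ ∉ pslIn F := fun h => by
    obtain ⟨s, hs⟩ := range_sl2pgl (F := F) ▸ h
    obtain ⟨l, rfl⟩ := Λ.q.lam_surj s
    have := Λ.q.normal
    have h5 : (l : Λ.C)⁻¹ * t ∈ Λ.q.π.ker := by
      rw [MonoidHom.mem_ker, map_mul, map_inv, Λ.q.π_lam, hs, e0, inv_mul_cancel]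
    rw [Λ.q.ker] at h5
    obtain ⟨l', hl, e1, -, e2⟩ := split Λ.q.L (by
      simpa using mul_mem (mem_sup_left l.2) (sup_le_sup_right Λ.q.core_le _ h5))
    refine n1 ?_
    rw [← e2, Λ.q.π_lam ⟨l', hl⟩, sl2pgl_eq_one_iff.2, map_one]
    exact or_iff_not_imp_left.2 (eq_neg_one_of_mul_self (ABG.two_ne_zero_of_odd Λ.hF) (by
      rw [← map_mul, show (⟨l', hl⟩ : Λ.q.L) * ⟨l', hl⟩ = 1 from Subtype.ext e1, map_one]))
  refine (dvd_index_pgl Λ.hF hε h4 g2 gL).trans (mul_dvd_mul_left 2 (Int.natCast_dvd_natCast.2 ?_))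
  rw [← index_comap_of_surjective _ h1]
  refine (index_dvd_of_le fun x hx => ?_).trans (relIndex_dvd_of_normal _ A)
  rw [mem_comap, mem_centralizer_singleton_iff, ← map_mul, ← map_mul]
  exact congrArg φ (Subtype.ext (mem_centralizer_singleton_iff.1 hx))

theorem not_qd {G : Type*} [Group G] [Finite G] (hc : OC G) (hi : CI G)
    (perf : ∀ l : G →* ℂˣ, l = 1) (hG : ∀ H : Subgroup G, H.index ≠ 2) (S : Sylow 2 G) :
    ¬ Cfsg.IsQuasiDihedral (S : Subgroup G) := fun hS => by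
  obtain ⟨n, ⟨c⟩⟩ := CL.QD.exists_coord hS
  have hT := (c.loud_of_no_index_two hG).1.isConj
  have one : ∀ a : G, orderOf a = 2 → IsConj (c.r (hh n)) a := fun a h =>
    (c.isConj_of_orderOf_two h).elim id hT.trans
  have hz := (c.orderOf_r_eq_two_iff _).2 rfl
  have hzc := (c.central_iff (c.r_mem _)).2 (Or.inr rfl)
  obtain ⟨F, _, _, hF, hL⟩ := exists_normal_SL S (Or.inl hS) hG
    (fun a b ha hb => (one a ha).symm.trans (one b hb)) hz
  obtain ⟨q⟩ := exists_qstr_centralizer S (Or.inl hS) hzc hF hL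
  let Λ : Ctx G F := ⟨S, _, hz, c.r_mem _, hzc, q, by rwa [Nat.card_eq_fintype_card], perf⟩
  have hZ : ∀ x ∈ ctr (Λ.S : Subgroup G), x = 1 ∨ x = Λ.z := fun x hx =>
    (c.central_iff hx.1).1 fun a ha => hx.2 a ha
  obtain ⟨B⟩ := Λ.exists_sdBlock hS
  have hε : -PG.δ F = 1 ∨ -PG.δ F = -1 := by rcases PG.δ_cases F with h | h <;> simp [h]
  have loc : ∀ r : ℕ, r.Prime → r ∣ Nat.card Λ.C → r ∣ Λ.C.index → r = 3 ∧ ∃ t : Λ.C,
      orderOf t = 2 ∧ (t : G) ≠ Λ.z ∧
        ¬ 9 ∣ Λ.C.index * (centralizer ({t} : Set Λ.C)).index := fun r hr h1 h2 => by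
    have := Fact.mk hr
    have h3 : r ≠ 2 := by
      rintro rfl
      exact S.not_dvd_index (h2.trans (index_dvd_of_le Λ.le))
    obtain ⟨x, hx⟩ := exists_prime_orderOf_dvd_card' r h1
    obtain ⟨u, hu, h⟩ := exists_inv h3 hc hi ((orderOf_coe x).trans hx) hz
      (mem_centralizer_singleton_iff.1 x.2).symm
    obtain ⟨g, hg⟩ := isConj_iff.1 (one u hu).symm
    have key : ∀ v : G, centralizer {g * v * g⁻¹} =
        (centralizer {v}).comap (MulAut.conj g).symm.toMonoidHom := fun v => by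
      ext y
      simp only [mem_comap, mem_centralizer_singleton_iff]
      refine (MulAut.conj g).symm.injective.eq_iff.symm.trans ?_
      simp [mul_assoc]
    have hs : Function.Surjective (MulAut.conj g).symm.toMonoidHom := (MulAut.conj g).symm.surjective
    have hC : Λ.C = _ := hg ▸ key u
    rcases h with h | ⟨rfl, v, h4, h5, h6, h7⟩
    · exact absurd (by rwa [hC, index_comap_of_surjective _ hs] at h2) h
    · have h8 : g * v * g⁻¹ ∈ Λ.C := by
        rw [hC, mem_comap]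
        simpa [mul_assoc] using mem_centralizer_singleton_iff.2 h6
      refine ⟨rfl, ⟨_, h8⟩, (orderOf_coe _).symm.trans (((MulAut.conj g).orderOf_eq v).trans h4),
        fun e => h5 (mul_left_cancel (mul_right_cancel (e.trans hg.symm))), ?_⟩
      have h9 : centralizer ({⟨_, h8⟩} : Set Λ.C) = (Λ.C ⊓ centralizer {g * v * g⁻¹}).subgroupOf Λ.C := by
        ext y
        simp [mem_subgroupOf, mem_centralizer_singleton_iff, Subtype.ext_iff]
      rwa [h9, mul_comm, ← relIndex, relIndex_mul_index inf_le_left, key, hC, ← comap_inf,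
        index_comap_of_surjective _ hs]
  obtain ⟨A, _, φ, h1, -⟩ := exists_surj Λ
  have hd : Nat.card F * (Nat.card F ^ 2 - 1) ∣ Nat.card Λ.C :=
    card_PGL2 (F := F) ▸ (card_dvd_of_surjective φ h1).trans A.card_subgroup_dvd_card
  obtain ⟨t, ht, htz, h9⟩ : ∃ t : Λ.C, orderOf t = 2 ∧ (t : G) ≠ Λ.z ∧ (3 ∣ Nat.card Λ.C →
      3 ∣ Λ.C.index → ¬ 9 ∣ Λ.C.index * (centralizer ({t} : Set Λ.C)).index) := by
    by_cases h : 3 ∣ Nat.card Λ.C ∧ 3 ∣ Λ.C.index
    · obtain ⟨-, t, h2, h3, h4⟩ := loc 3 Nat.prime_three h.1 h.2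
      exact ⟨t, h2, h3, fun _ _ => h4⟩
    · exact ⟨⟨c.s 0, Λ.le (c.s_mem 0)⟩, (orderOf_coe _).symm.trans
        (c.orderOf_s_of_even (mul_zero _)), c.s_ne_r _ _, fun a b => absurd ⟨a, b⟩ h⟩
  obtain ⟨p, _, k, hp, hk⟩ := FiniteField.card' F
  rw [← Nat.card_eq_fintype_card] at hk
  have ho := B.order t ht htz
  rw [← Λ.C.index_mul_card, ← (centralizer ({t} : Set Λ.C)).index_mul_card] at ho
  have hq : 3 ≤ Nat.card F := by
    have h2 : 1 < Nat.card F := Finite.one_lt_card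
    obtain ⟨m, hm⟩ := Λ.hF
    omega
  have h16 : (16 : ℤ) ∣ Nat.card (S : Subgroup G) := by
    rw [c.card]
    exact_mod_cast pow_dvd_pow 2 (show 4 ≤ n + 1 by have := c.hn; omega)
  have hsq : (-PG.δ F * Nat.card F) ^ 2 = (Nat.card F : ℤ) ^ 2 := by
    rcases hε with h | h <;> simp [h]
  refine arith hp (k := k) (n := Λ.C.index) (m := (centralizer ({t} : Set Λ.C)).index) hε
    (by rw [hk]; push_cast; rfl) ?_ B.four B.deg ?_ (by exact_mod_cast index_ne_zero_of_finite)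
    (dvd_index Λ hZ hε B.four ht htz) B.a_sign (h16.trans B.cong) fun r hr h2 h3 => ?_
  · rcases hε with h | h <;> simpa [h] using hq
  · have h0 : (centralizer ({t} : Set Λ.C)).index *
        (Nat.card (centralizer ({t} : Set Λ.C)) : ℤ) ^ 3 ≠ 0 := by
      simp [index_ne_zero_of_finite, Nat.card_pos.ne']
    refine mul_left_cancel₀ h0 ?_
    push_cast at ho
    linear_combination ho
  · have h4 : r ∣ Nat.card Λ.C := by
      refine Nat.dvd_trans (Int.natCast_dvd_natCast.1 ?_) hd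
      rw [hsq] at h2
      push_cast [Nat.one_le_pow _ _ Nat.card_pos]
      rcases hε with h | h <;> simpa [h] using h2
    obtain rfl := (loc r hr h4 (Int.natCast_dvd_natCast.1 h3)).1
    exact ⟨rfl, by exact_mod_cast h9 h4 (Int.natCast_dvd_natCast.1 h3)⟩

end CL.CycS
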