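/-
The generalised zipper lemma (Flavell; Guralnick and Tracey): if `G` is the subnormal closure of `A`
and the proper subgroups that are subnormal closures of `A` generate a proper subgroup, then `A` lies
in at most one maximal subgroup.
-/
import Mathlib
import Cfsg.Agent.SOLV.Subnormal

set_option autoImplicit false

open Subgroup
open scoped Pointwise

namespace CL.GZ

variable {G : Type*} [Group G]

local notation:70 g " ⋆ " H:71 => MulAut.conj g • H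

theorem cj_cj (g k : G) (H : Subgroup G) : g ⋆ (k ⋆ H) = (g * k) ⋆ H := by
  rw [map_mul, mul_smul]

theorem inv_cj (g : G) (H : Subgroup G) : g⁻¹ ⋆ (g ⋆ H) = H := by
  rw [cj_cj, inv_mul_cancel, map_one, one_smul]

theorem cj_inv (g : G) (H : Subgroup G) : g ⋆ (g⁻¹ ⋆ H) = H := by
  rw [cj_cj, mul_inv_cancel, map_one, one_smul]

theorem cj_mono (g : G) {H K : Subgroup G} (h : H ≤ K) : g ⋆ H ≤ g ⋆ K :=
  pointwise_smul_le_pointwise_smul_iff.2 h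

theorem cj_top (g : G) : g ⋆ (⊤ : Subgroup G) = ⊤ := Normal.conj_smul_eq_self g ⊤

theorem cj_le {g : G} {H K : Subgroup G} (h : H ≤ K) (hg : g ∈ K) : g ⋆ H ≤ K :=
  (cj_mono g h).trans (conj_smul_eq_self_of_mem hg).le

theorem index_cj (g : G) (H : Subgroup G) : (g ⋆ H).index = H.index := by
  rw [conj_smul_eq_map]
  exact index_map_of_bijective (MulAut.conj g).bijective H

theorem isCoatom_cj (g : G) {M : Subgroup G} (h : IsCoatom M) : IsCoatom (g ⋆ M) := by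
  refine ⟨fun e => h.1 (by rw [← inv_cj g M, e, cj_top]), fun K hK => ?_⟩
  have h1 : M < g⁻¹ ⋆ K := lt_of_le_of_ne (by simpa only [inv_cj] using cj_mono g⁻¹ hK.le)
    fun e => hK.ne (by rw [e, cj_inv])
  rw [← cj_inv g K, h.2 _ h1, cj_top]

/-- `H` is the subnormal closure of `A` in `H`. -/
def Gen (A H : Subgroup G) : Prop := A ≤ H ∧ ∀ K, A ≤ K → SnIn H K → K = H

theorem exists_gen [Finite G] {A H : Subgroup G} (h : A ≤ H) : ∃ S, Gen A S ∧ SnIn H S := by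
  obtain ⟨S, hS, hm⟩ := (wellFounded_lt (α := Subgroup G)).has_min {S | A ≤ S ∧ SnIn H S}
    ⟨H, h, SnIn.refl⟩
  exact ⟨S, ⟨hS.1, fun K h1 h2 => by_contra fun e =>
    hm K ⟨h1, hS.2.trans h2⟩ (lt_of_le_of_ne h2.le e)⟩, hS.2⟩

theorem Gen.trans {A H L : Subgroup G} (h : Gen A H) (h' : Gen H L) : Gen A L :=
  ⟨h.1.trans h'.1, fun K h1 h2 => h'.2 K (by
    have h3 := h2.inf_right H
    rw [inf_eq_right.2 h'.1] at h3
    exact inf_eq_right.1 (h.2 _ (le_inf h1 h.1) h3)) h2⟩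

theorem Gen.top_mono {A C : Subgroup G} (h : Gen A ⊤) (h' : A ≤ C) : Gen C ⊤ :=
  ⟨le_top, fun K h1 h2 => h.2 K (h'.trans h1) h2⟩

theorem Gen.top_cj {A : Subgroup G} (h : Gen A ⊤) (g : G) : Gen (g ⋆ A) ⊤ :=
  ⟨le_top, fun K h1 h2 => by
    have h3 := h2.conj_smul g⁻¹
    rw [cj_top] at h3
    rw [← cj_inv g K, h.2 _ (by simpa only [inv_cj] using cj_mono g⁻¹ h1) h3, cj_top]⟩

/-- `M` is a maximal subgroup that contains `B`, not as a subnormal subgroup. -/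
def Bad (B M : Subgroup G) : Prop := IsCoatom M ∧ B ≤ M ∧ ¬ SnIn M B

theorem Bad.cj {B M : Subgroup G} (h : Bad B M) (g : G) : Bad (g ⋆ B) (g ⋆ M) :=
  ⟨isCoatom_cj g h.1, cj_mono g h.2.1, fun h1 => h.2.2 (by
    simpa only [inv_cj] using h1.conj_smul g⁻¹)⟩

/-- the situation of a counterexample. -/
def Cex (A : Subgroup G) : Prop :=
  Gen A ⊤ ∧ (∃ Y, Y ≠ ⊤ ∧ ∀ H, H ≠ ⊤ → Gen A H → H ≤ Y) ∧
    ∃ M N, IsCoatom M ∧ IsCoatom N ∧ M ≠ N ∧ A ≤ M ∧ A ≤ N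

section Main
variable [Finite G] {𝒞 : Set (Subgroup G)} {μ : Subgroup G → Subgroup G}

/-- a conjugation invariant family with a unique bad maximal subgroup over each member. -/
structure Fam (𝒞 : Set (Subgroup G)) (μ : Subgroup G → Subgroup G) : Prop where
  cj : ∀ B ∈ 𝒞, ∀ g : G, g ⋆ B ∈ 𝒞
  gen : ∀ B ∈ 𝒞, Gen B ⊤
  bad : ∀ B ∈ 𝒞, Bad B (μ B)
  uniq : ∀ B ∈ 𝒞, ∀ M, Bad B M → M = μ B
  ih : ∀ B ∈ 𝒞, ∀ B' ∈ 𝒞, B ≠ B' → ¬ Cex (B ⊔ B')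

omit [Finite G] in
theorem Fam.μ_cj (F : Fam 𝒞 μ) {B : Subgroup G} (hB : B ∈ 𝒞) (g : G) : μ (g ⋆ B) = g ⋆ μ B :=
  (F.uniq _ (F.cj B hB g) _ ((F.bad B hB).cj g)).symm

omit [Finite G] in
theorem Fam.sn (F : Fam 𝒞 μ) {B M : Subgroup G} (hB : B ∈ 𝒞) (hM : IsCoatom M) (h : B ≤ M)
    (hne : M ≠ μ B) : SnIn M B :=
  by_contra fun h1 => hne (F.uniq B hB M ⟨hM, h, h1⟩)

theorem Fam.pair (F : Fam 𝒞 μ) {B B' R R' : Subgroup G} (hB : B ∈ 𝒞) (hB' : B' ∈ 𝒞) (hne : B ≠ B')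
    (hR : IsCoatom R) (hR' : IsCoatom R') (hRR : R ≠ R') (h1 : B ≤ R ⊓ R') (h2 : B' ≤ R ⊓ R') :
    B' ≤ μ B ∧ B ≤ μ B' ∧ μ B ≠ μ B' := by
  have hC : B ⊔ B' ≤ R ⊓ R' := sup_le h1 h2
  have key : ∀ H, H ≠ ⊤ → Gen (B ⊔ B') H → H = B ⊔ B' ∨ H ≤ μ B ∨ H ≤ μ B' := fun H hH hg => by
    obtain ⟨T, hT, hHT⟩ := (eq_top_or_exists_le_coatom H).resolve_left hH
    by_cases e : T = μ B
    · exact Or.inr (Or.inl (e ▸ hHT))
    by_cases e' : T = μ B'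
    · exact Or.inr (Or.inr (e' ▸ hHT))
    have h3 := (F.sn hB hT ((le_sup_left.trans hg.1).trans hHT) e).sup
      (F.sn hB' hT ((le_sup_right.trans hg.1).trans hHT) e')
    exact Or.inl (hg.2 _ le_rfl (h3.mono hg.1 hHT)).symm
  have no : ∀ Y, Y ≠ ⊤ → ¬ ∀ H, H ≠ ⊤ → Gen (B ⊔ B') H → H ≤ Y := fun Y hY h =>
    F.ih B hB B' hB' hne ⟨(F.gen B hB).top_mono le_sup_left, ⟨Y, hY, h⟩, R, R', hR, hR', hRR,
      hC.trans inf_le_left, hC.trans inf_le_right⟩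
  have hb := F.bad B hB
  have hb' := F.bad B' hB'
  by_cases c : B' ≤ μ B <;> by_cases c' : B ≤ μ B'
  · refine ⟨c, c', fun e => no (μ B) hb.1.1 fun H hH hg => ?_⟩
    rcases key H hH hg with rfl | h | h
    exacts [sup_le hb.2.1 c, h, e ▸ h]
  · refine (no (μ B) hb.1.1 fun H hH hg => ?_).elim
    rcases key H hH hg with rfl | h | h
    exacts [sup_le hb.2.1 c, h, (c' ((le_sup_left.trans hg.1).trans h)).elim]
  · refine (no (μ B') hb'.1.1 fun H hH hg => ?_).elim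
    rcases key H hH hg with rfl | h | h
    exacts [sup_le c' hb'.2.1, (c ((le_sup_right.trans hg.1).trans h)).elim, h]
  · refine (no R hR.1 fun H hH hg => ?_).elim
    rcases key H hH hg with rfl | h | h
    exacts [hC.trans inf_le_left, (c ((le_sup_right.trans hg.1).trans h)).elim,
      (c' ((le_sup_left.trans hg.1).trans h)).elim]

theorem Fam.triple (F : Fam 𝒞 μ) {B B' X R R' : Subgroup G} (hB : B ∈ 𝒞) (hB' : B' ∈ 𝒞) (hX : X ∈ 𝒞)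
    (hne : B ≠ B') (hR : IsCoatom R) (hR' : IsCoatom R') (hRR : R ≠ R') (h1 : B ≤ R ⊓ R')
    (h2 : B' ≤ R ⊓ R') (h3 : X ≤ R ⊓ R') : X ≤ μ B := by
  by_cases e : B = X
  · exact e ▸ (F.bad B hB).2.1
  · exact (F.pair hB hX e hR hR' hRR h1 h3).1

theorem Fam.final (F : Fam 𝒞 μ) {A B R : Subgroup G} (hA : A ∈ 𝒞) (hB : B ∈ 𝒞) (hAB : A ≤ μ B)
    (hBA : B ≤ μ A) (hμ : μ A ≠ μ B) (hR : IsCoatom R)
    (hP : normalizer ((sSup {X | X ∈ 𝒞 ∧ X ≤ μ A ⊓ μ B} : Subgroup G) : Set G) ≤ R) : R = μ A := by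
  by_contra hRA
  have hne : A ≠ B := fun e => hμ (by rw [e])
  have hM := (F.bad A hA).1
  have hN := (F.bad B hB).1
  have hA' : A ≤ μ A ⊓ μ B := le_inf (F.bad A hA).2.1 hAB
  have hB' : B ≤ μ A ⊓ μ B := le_inf hBA (F.bad B hB).2.1
  have hER : ∀ X ∈ 𝒞, X ≤ μ A ⊓ μ B → X ≤ R := fun X h1 h2 =>
    ((le_sSup (s := {X | X ∈ 𝒞 ∧ X ≤ μ A ⊓ μ B}) ⟨h1, h2⟩).trans le_normalizer).trans hP
  obtain ⟨W, hW⟩ : ∃ W, W = sSup {X | X ∈ 𝒞 ∧ X ≤ μ A ⊓ μ B ∧ μ X ≠ μ A} := ⟨_, rfl⟩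
  have hWle : W ≤ μ A ⊓ μ B := hW ▸ sSup_le fun X hX => hX.2.1
  have hBW : B ≤ W := hW ▸ le_sSup ⟨hB, hB', hμ.symm⟩
  have hNW : ∀ k ∈ μ A, k ∈ normalizer (W : Set G) → k ∈ R := fun k hk hkW => by
    refine hP (conj_smul_eq_iff_mem_normalizer.1 (conj_smul_eq_of_le ?_))
    rw [conj_smul_sSup]
    refine sSup_le_sSup ?_
    rintro _ ⟨X, ⟨hX, hX'⟩, rfl⟩
    have h1 : k ⋆ X ≤ μ A := cj_le (hX'.trans inf_le_left) hk
    have h2 : k ⋆ X ≤ μ (k ⋆ B) := F.μ_cj hB k ▸ cj_mono k (hX'.trans inf_le_right)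
    refine ⟨F.cj X hX k, le_inf h1 ?_⟩
    by_cases e : B = k ⋆ B
    · rwa [← e] at h2
    have h3 : μ A ≠ μ (k ⋆ B) := fun e' => hμ (by
      rw [F.μ_cj hB] at e'
      rw [← inv_cj k (μ B), ← e', conj_smul_eq_self_of_mem (inv_mem hk)])
    refine F.triple hB (F.cj B hB k) (F.cj X hX k) e hM (F.bad _ (F.cj B hB k)).1 h3
      (le_inf hBA ?_) (le_inf (cj_le hBA hk) (F.bad _ (F.cj B hB k)).2.1) (le_inf h1 h2)
    rw [F.μ_cj hB]
    exact (hBW.trans (conj_smul_eq_iff_mem_normalizer.2 hkW).ge).trans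
      (cj_mono k (hWle.trans inf_le_right))
  have hS : ∀ U ∈ {X | X ∈ 𝒞 ∧ X ≤ μ A ∧ μ X ≠ μ A}, ∀ g ∈ μ A,
      g ⋆ U ∈ {X | X ∈ 𝒞 ∧ X ≤ μ A ∧ μ X ≠ μ A} := fun U hU g hg =>
    ⟨F.cj U hU.1 g, cj_le hU.2.1 hg, fun e => hU.2.2 (by
      rw [F.μ_cj hU.1] at e
      rw [← inv_cj g (μ U), e, conj_smul_eq_self_of_mem (inv_mem hg)])⟩
  have hsub : {X | X ∈ 𝒞 ∧ X ≤ μ A ⊓ μ B ∧ μ X ≠ μ A} ⊆ {X | X ∈ 𝒞 ∧ X ≤ μ A ∧ μ X ≠ μ A} :=
    fun X hX => ⟨hX.1, hX.2.1.trans inf_le_left, hX.2.2⟩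
  rcases hsub.eq_or_ssubset with e | e
  · refine hRA (hM.le_iff_eq hR.1 |>.1 fun k hk => hNW k hk ?_)
    refine conj_smul_eq_iff_mem_normalizer.1 (conj_smul_eq_of_le ?_)
    rw [hW, e, conj_smul_sSup]
    refine sSup_le_sSup ?_
    rintro _ ⟨X, hX, rfl⟩
    exact hS X hX k hk
  · obtain ⟨X, hX, hX0, hXW⟩ := SnIn.exists_mem_le_normalizer_sSup (V := μ A)
      (fun U hU => F.sn hU.1 hM hU.2.1 hU.2.2.symm) hS e
    rw [← hW] at hXW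
    have h1 : X ≤ μ A ⊓ R := le_inf hX.2.1 fun k hk => hNW k (hX.2.1 hk) (hXW hk)
    exact hX0 ⟨hX.1, le_inf hX.2.1 (F.triple hB hA hX.1 hne.symm hM hR (Ne.symm hRA)
      (le_inf hBA (hER B hB hB')) (le_inf (F.bad A hA).2.1 (hER A hA hA')) h1), hX.2.2⟩

theorem Fam.eq (F : Fam 𝒞 μ) {A N : Subgroup G} (hA : A ∈ 𝒞) (hN : IsCoatom N) (hAN : A ≤ N) :
    N = μ A := by
  by_contra hne
  have hM := F.bad A hA
  have hnorm : normalizer (A : Set G) ≤ μ A := fun k hk => by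
    have h1 : k ∈ normalizer (μ A : Set G) := conj_smul_eq_iff_mem_normalizer.1 (by
      rw [← F.μ_cj hA, conj_smul_eq_iff_mem_normalizer.2 hk])
    by_contra h2
    have h3 := hM.1.2 (normalizer (μ A : Set G)) (lt_of_le_of_ne le_normalizer fun e => h2 (e ▸ h1))
    exact hM.1.1 ((F.gen A hA).2 _ hM.2.1 (SnIn.of_le_normalizer le_top h3.ge))
  have hsn := F.sn hA hN hAN hne
  have hss : ({A} : Set (Subgroup G)) ⊂ {X | ∃ k ∈ N, X = k ⋆ A} := by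
    refine ⟨?_, fun h => hne (hN.le_iff_eq hM.1.1 |>.1 fun k hk => hnorm ?_).symm⟩
    · rintro _ rfl
      exact ⟨1, one_mem _, by rw [map_one, one_smul]⟩
    · exact conj_smul_eq_iff_mem_normalizer.1 (h ⟨k, hk, rfl⟩)
  obtain ⟨_, ⟨k, hk, rfl⟩, hX0, hX⟩ := SnIn.exists_mem_le_normalizer_sSup (V := N)
    (by
      rintro _ ⟨k, hk, rfl⟩
      exact hsn.conj_smul_of_mem_normalizer (le_normalizer hk))
    (by
      rintro _ ⟨k, hk, rfl⟩ g hg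
      exact ⟨g * k, mul_mem hg hk, cj_cj _ _ _⟩) hss
  rw [sSup_singleton] at hX
  have hB := F.cj A hA k
  obtain ⟨h1, h2, h3⟩ := F.pair hA hB (fun e => hX0 e.symm) hN hM.1 hne (le_inf hAN hM.2.1)
    (le_inf (cj_le hAN hk) (hX.trans hnorm))
  have hP : normalizer ((sSup {X | X ∈ 𝒞 ∧ X ≤ μ A ⊓ μ (k ⋆ A)} : Subgroup G) : Set G) ≠ ⊤ := fun e => by
    have h4 := (F.gen A hA).2 _ (le_sSup (s := {X | X ∈ 𝒞 ∧ X ≤ μ A ⊓ μ (k ⋆ A)})
      ⟨hA, le_inf hM.2.1 h2⟩) (SnIn.of_le_normalizer le_top e.ge)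
    exact hM.1.1 (eq_top_iff.2 (h4.ge.trans (sSup_le fun X hX => hX.2.trans inf_le_left)))
  obtain ⟨R, hR, hPR⟩ := (eq_top_or_exists_le_coatom _).resolve_left hP
  exact h3 ((F.final hA hB h2 h1 h3 hR hPR).symm.trans
    (F.final hB hA h1 h2 h3.symm hR (by rwa [inf_comm])))

end Main

theorem index_lt_of_lt [Finite G] {A C : Subgroup G} (h : A < C) : C.index < A.index := by
  have h1 := A.card_mul_index
  have h2 := C.card_mul_index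
  have h3 : Nat.card A < Nat.card C := by
    refine lt_of_le_of_ne (card_le_of_le h.le) fun e => h.ne (eq_of_le_of_card_ge h.le e.ge)
  by_contra h4
  have h5 : 0 < A.index := Nat.pos_of_ne_zero A.index_ne_zero_of_finite
  have := Nat.mul_lt_mul_of_lt_of_le h3 (not_lt.1 h4) (by omega)
  omega

theorem not_cex [Finite G] (A : Subgroup G) : ¬ Cex A := by
  classical
  induction h : A.index using Nat.strong_induction_on generalizing A with | _ n ih => ?_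
  subst h
  rintro ⟨hA, ⟨Y, hY, hY'⟩, M, N, hM, hN, hMN, hAM, hAN⟩
  by_cases hc : ∀ H, H ≠ ⊤ → Gen A H → H = A
  · obtain ⟨T, hT, -, hT'⟩ := zipper_lemma (A := A) (fun V h1 h2 => by
      obtain ⟨S, h3, h4⟩ := exists_gen h1
      rwa [hc S (fun e => h2 (eq_top_iff.2 (e ▸ h4.le))) h3] at h4)
      fun h1 => hM.1 (eq_top_iff.2 ((hA.2 A le_rfl (SnIn.top_iff.2 h1)).ge.trans hAM))
    exact hMN (((hM.le_iff_eq hT).1 (hT' M hAM hM.1)).symm.trans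
      ((hN.le_iff_eq hT).1 (hT' N hAN hN.1)))
  push Not at hc
  obtain ⟨H₀, h0, h0', h0''⟩ := hc
  obtain ⟨T, hT, hYT⟩ := (eq_top_or_exists_le_coatom Y).resolve_left hY
  have hbad : Bad A T := ⟨hT, (h0'.1.trans (hY' _ h0 h0')).trans hYT, fun h1 =>
    h0'' (h0'.2 A le_rfl (h1.mono h0'.1 ((hY' _ h0 h0').trans hYT))).symm⟩
  have huniq : ∀ T', Bad A T' → T' = T := fun T' h1 => by
    obtain ⟨S, h3, h4⟩ := exists_gen h1.2.1
    have h5 : S ≠ ⊤ := fun e => h1.1.1 (eq_top_iff.2 (e ▸ h4.le))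
    by_contra h6
    exact ih _ (index_lt_of_lt (lt_of_le_of_ne h3.1 fun e => h1.2.2 (e ▸ h4))) S rfl
      ⟨hA.top_mono h3.1, ⟨Y, hY, fun H h7 h8 => hY' H h7 (h3.trans h8)⟩, T', T, h1.1, hT, h6, h4.le,
        (hY' S h5 h3).trans hYT⟩
  have hex : ∀ B : Subgroup G, ∃ T', (∃ g : G, B = g ⋆ A) →
      Bad B T' ∧ ∀ T'', Bad B T'' → T'' = T' := fun B => by
    by_cases hB : ∃ g : G, B = g ⋆ A
    · obtain ⟨g, rfl⟩ := hB
      refine ⟨g ⋆ T, fun _ => ⟨hbad.cj g, fun T'' h1 => ?_⟩⟩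
      rw [← huniq _ (by simpa only [inv_cj] using h1.cj g⁻¹), cj_inv]
    · exact ⟨⊤, fun h => (hB h).elim⟩
  choose μ hμ using hex
  have F : Fam {B | ∃ g : G, B = g ⋆ A} μ := by
    refine ⟨?_, ?_, fun B hB => (hμ B hB).1, fun B hB => (hμ B hB).2, ?_⟩
    · rintro _ ⟨k, rfl⟩ g
      exact ⟨g * k, cj_cj _ _ _⟩
    · rintro _ ⟨k, rfl⟩
      exact hA.top_cj k
    · rintro _ ⟨g, rfl⟩ _ ⟨k, rfl⟩ hne
      refine ih _ ?_ _ rfl
      rw [← index_cj g A]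
      refine index_lt_of_lt (lt_of_le_of_ne le_sup_left fun e => hne ?_)
      have h1 : k ⋆ A ≤ g ⋆ A := le_sup_right.trans e.ge
      by_contra h2
      have := index_lt_of_lt (lt_of_le_of_ne h1 (Ne.symm h2))
      rw [index_cj, index_cj] at this
      exact lt_irrefl _ this
  have hA' : A ∈ {B | ∃ g : G, B = g ⋆ A} := ⟨1, by rw [map_one, one_smul]⟩
  exact hMN ((F.eq hA' hM hAM).trans (F.eq hA' hN hAN).symm)

/-- **The generalised zipper lemma.** -/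
theorem gen_zipper [Finite G] {A Y M N : Subgroup G} (hA : Gen A ⊤) (hY : Y ≠ ⊤)
    (h : ∀ H, H ≠ ⊤ → Gen A H → H ≤ Y) (hM : IsCoatom M) (hN : IsCoatom N) (hAM : A ≤ M)
    (hAN : A ≤ N) : M = N :=
  by_contra fun e => not_cex A ⟨hA, ⟨Y, hY, h⟩, M, N, hM, hN, e, hAM, hAN⟩

end CL.GZ
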