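/-
Guralnick and Tracey: the subnormal closure of an element `x` is generated by `x` and the periodic
points of `c ↦ [c, x]`.
-/
import Mathlib
import Cfsg.Agent.FGS.GenZipper

set_option autoImplicit false

open Subgroup
open scoped Pointwise

namespace CL.GZ

universe u
variable {G : Type*} [Group G]

/-- the commutator map. -/
def cm (x c : G) : G := c * (x * c * x⁻¹)⁻¹

theorem map_cm {X : Type*} [Group X] (f : G →* X) (x c : G) : f (cm x c) = cm (f x) (f c) := by
  simp [cm]

theorem map_cm_iterate {X : Type*} [Group X] (f : G →* X) (x c : G) (n : ℕ) :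
    f ((cm x)^[n] c) = (cm (f x))^[n] (f c) := by
  induction n with
  | zero => rfl
  | succ n ih => rw [Function.iterate_succ_apply', Function.iterate_succ_apply', map_cm, ih]

theorem Gen.subgroup {H : Subgroup G} {x : G} (hx : x ∈ H) (h : Gen (zpowers x) H) :
    Gen (zpowers (⟨x, hx⟩ : H)) ⊤ :=
  ⟨le_top, fun K h1 h2 => by
    have h3 := h2.map H.subtype
    rw [← MonoidHom.range_eq_map, range_subtype] at h3
    have h4 := h.2 _ (zpowers_le.2 (mem_map.2 ⟨_, h1 (mem_zpowers _), rfl⟩)) h3
    exact map_injective H.subtype_injective (by rw [h4, ← MonoidHom.range_eq_map, range_subtype])⟩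

theorem closure_periodic (n : ℕ) : ∀ (G : Type u) [Group G] [Finite G], Nat.card G = n → ∀ x : G,
    Gen (zpowers x) ⊤ → closure (insert x (Function.periodicPts (cm x))) = ⊤ := by
  induction n using Nat.strong_induction_on with | _ n ih => ?_
  intro G _ _ hn x hx
  by_contra hK
  obtain ⟨M, hM, hKM⟩ := (eq_top_or_exists_le_coatom _).resolve_left hK
  have hxM : x ∈ M := hKM (subset_closure (Set.mem_insert _ _))
  have hY : ∀ H, H ≠ ⊤ → Gen (zpowers x) H → H ≤ M := fun H h1 h2 => by
    have h3 : x ∈ H := h2.1 (mem_zpowers x)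
    have h4 := ih _ (hn ▸ card_lt_of_ne_top h1) H rfl ⟨x, h3⟩ (h2.subgroup h3)
    intro g hg
    have h5 : closure (insert (⟨x, h3⟩ : H) (Function.periodicPts (cm ⟨x, h3⟩))) ≤ M.comap H.subtype := by
      rw [closure_le]
      rintro c (rfl | ⟨k, hk, hc⟩)
      · exact hxM
      · refine hKM (subset_closure (Or.inr ⟨k, hk, ?_⟩))
        have := map_cm_iterate H.subtype ⟨x, h3⟩ c k
        rw [hc.eq] at this
        exact this.symm
    exact h5 (h4 ▸ mem_top (⟨g, hg⟩ : H))
  have hf : ∀ g, g ∉ M → cm x g ∉ M := fun g hg h1 => hg (by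
    have h2 : x ∈ MulAut.conj g⁻¹ • M := by
      rw [mem_pointwise_smul_iff_inv_smul_mem, ← map_inv, inv_inv]
      have := M.inv_mem (M.mul_mem h1 hxM)
      have h3 := M.mul_mem h1 hxM
      simpa [cm, mul_assoc] using h3
    have h3 := gen_zipper hx hM.1 hY (isCoatom_cj g⁻¹ hM) hM (zpowers_le.2 h2) (zpowers_le.2 hxM)
    have h4 : g ∈ normalizer (M : Set G) := by
      simpa using inv_mem (conj_smul_eq_iff_mem_normalizer.1 h3)
    by_contra h5
    have h6 := hM.2 (normalizer (M : Set G)) (lt_of_le_of_ne le_normalizer fun e => h5 (e ▸ h4))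
    exact hM.1 (hx.2 _ (zpowers_le.2 hxM) (SnIn.of_le_normalizer le_top h6.ge)))
  obtain ⟨g, hg⟩ : ∃ g, g ∉ M := by
    by_contra h
    push Not at h
    exact hM.1 (eq_top_iff.2 fun g _ => h g)
  have hi : ∀ k, (cm x)^[k] g ∉ M := fun k => by
    induction k with
    | zero => exact hg
    | succ k ih => rw [Function.iterate_succ_apply']; exact hf _ ih
  obtain ⟨a, b, hab, e⟩ := Finite.exists_ne_map_eq_of_infinite fun k => (cm x)^[k] g
  wlog h : a < b generalizing a b
  · exact this b a hab.symm e.symm (by omega)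
  refine hi a (hKM (subset_closure (Or.inr ⟨b - a, by omega, ?_⟩)))
  change (cm x)^[b - a] ((cm x)^[a] g) = _
  rw [← Function.iterate_add_apply, Nat.sub_add_cancel h.le]
  exact e.symm

section Aut
variable (α : MulAut G)

/-- the extension of `G` by the automorphism `α`. -/
abbrev Ext : Type _ := G ⋊[(zpowers α).subtype] zpowers α

/-- the element of the extension that induces `α`. -/
def xe : Ext α := SemidirectProduct.inr ⟨α, mem_zpowers α⟩

instance [Finite G] : Finite (Ext α) := Finite.of_equiv _ SemidirectProduct.equivProd.symm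

theorem xe_conj (c : G) :
    xe α * SemidirectProduct.inl c * (xe α)⁻¹ = SemidirectProduct.inl (α c) := by
  rw [xe, ← map_inv]
  exact (SemidirectProduct.inl_aut (φ := (zpowers α).subtype) ⟨α, mem_zpowers α⟩ c).symm

theorem cm_inl (c : G) :
    cm (xe α) (SemidirectProduct.inl c) = SemidirectProduct.inl (c * (α c)⁻¹) := by
  rw [cm, xe_conj, map_mul, map_inv]

theorem cm_iterate_inl (c : G) (n : ℕ) : (cm (xe α))^[n] (SemidirectProduct.inl c) =
    SemidirectProduct.inl ((fun c : G => c * (α c)⁻¹)^[n] c) := by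
  induction n with
  | zero => rfl
  | succ n ih => rw [Function.iterate_succ_apply', Function.iterate_succ_apply', ih, cm_inl]

theorem gen_xe (hG : closure (Set.range (fun c : G => c * (α c)⁻¹)) = ⊤) : Gen (zpowers (xe α)) ⊤ :=
  ⟨le_top, fun K h1 h2 => by
    by_contra h3
    obtain ⟨W, h4, h5, h6⟩ := h2.exists_lt_normal h3
    have : W.Normal := normalizer_eq_top_iff.1 (eq_top_iff.2 h5)
    have hx : xe α ∈ W := h6.le (h1 (mem_zpowers _))
    have h7 : ∀ c, SemidirectProduct.inl c ∈ W := fun c => by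
      have : closure (Set.range (fun c : G => c * (α c)⁻¹)) ≤ W.comap SemidirectProduct.inl := by
        rw [closure_le]
        rintro _ ⟨d, rfl⟩
        change SemidirectProduct.inl _ ∈ W
        rw [← cm_inl]
        have := W.mul_mem (Normal.conj_mem inferInstance _ hx (SemidirectProduct.inl d)) (W.inv_mem hx)
        simpa [cm, mul_assoc] using this
      exact this (hG ▸ mem_top c)
    refine h4.ne (eq_top_iff.2 fun g _ => ?_)
    rw [← SemidirectProduct.inl_left_mul_inr_right g]
    refine W.mul_mem (h7 _) ?_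
    obtain ⟨_, k, rfl⟩ := g.right
    have := W.zpow_mem hx k
    rwa [xe, ← map_zpow] at this⟩

theorem periodic_xe {w : Ext α} (h : w ∈ Function.periodicPts (cm (xe α))) :
    ∃ c ∈ Function.periodicPts (fun c : G => c * (α c)⁻¹), w = SemidirectProduct.inl c := by
  obtain ⟨k, hk, hw⟩ := h
  obtain ⟨k, rfl⟩ : ∃ j, k = j + 1 := ⟨k - 1, by omega⟩
  have h1 : w.right = 1 := by
    rw [← hw.eq, Function.iterate_succ_apply', ← SemidirectProduct.rightHom_eq_right, map_cm, cm]
    rw [mul_comm' (SemidirectProduct.rightHom (xe α))]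
    simp
  have h2 : w = SemidirectProduct.inl w.left := by
    conv_lhs => rw [← SemidirectProduct.inl_left_mul_inr_right w, h1, map_one, mul_one]
  refine ⟨w.left, ⟨k + 1, hk, SemidirectProduct.inl_injective (φ := (zpowers α).subtype) ?_⟩, h2⟩
  rw [← cm_iterate_inl, ← h2, hw.eq]

/-- an `α`-invariant subgroup containing the periodic points of `c ↦ [c, α]` is everything. -/
theorem eq_top_of_periodic [Finite G] (hG : closure (Set.range (fun c : G => c * (α c)⁻¹)) = ⊤)
    {L : Subgroup G} (hL : ∀ g ∈ L, α g ∈ L)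
    (h : Function.periodicPts (fun c : G => c * (α c)⁻¹) ⊆ L) : L = ⊤ := by
  have h1 : ∀ β : zpowers α, ∀ g ∈ L, (β : MulAut G) g ∈ L := by
    rintro ⟨β, hβ⟩
    obtain ⟨k, rfl⟩ := (mem_powers_iff_mem_zpowers.2 hβ)
    intro g hg
    change (α ^ k) g ∈ L
    induction k with
    | zero => exact hg
    | succ k ih => rw [pow_succ', MulAut.mul_apply]; exact hL _ (ih (pow_mem (mem_zpowers α) k))
  let K : Subgroup (Ext α) :=
    { carrier := {w | w.left ∈ L}
      one_mem' := L.one_mem
      mul_mem' := fun ha hb => L.mul_mem ha (h1 _ _ hb)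
      inv_mem' := fun {a} ha => h1 a.right⁻¹ _ (L.inv_mem ha) }
  have h2 : closure (insert (xe α) (Function.periodicPts (cm (xe α)))) ≤ K := by
    rw [closure_le]
    rintro w (rfl | hw)
    · exact L.one_mem
    · obtain ⟨c, hc, rfl⟩ := periodic_xe α hw
      exact h hc
  rw [closure_periodic _ _ rfl _ (gen_xe α hG)] at h2
  exact eq_top_iff.2 fun g _ => h2 (mem_top (SemidirectProduct.inl g))

end Aut

end CL.GZ
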