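import Cfsg.Agent.SOLV.Hall
import Cfsg.Agent.SOLV.Fitting
import Cfsg.Agent.FGS.SubgroupCount

/-!
Conjugacy of subgroups of equal order: reduction lemmas.
-/

set_option autoImplicit false

open Subgroup Cfsg
open scoped Pointwise

namespace CL.EqAb

universe u

variable {G : Type u} [Group G]

theorem exists_compl [Finite G] (V : Subgroup G) [V.Normal] (H : Subgroup G)
    (h : (Nat.card ↥(H ⊓ V)).Coprime (V.relIndex H)) :
    ∃ Y ≤ H, H ⊓ V ⊔ Y = H ∧ Y ⊓ V = ⊥ ∧ Nat.card Y = V.relIndex H := by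
  obtain ⟨Y, hY⟩ := exists_right_complement'_of_coprime (N := V.subgroupOf H)
    (by rwa [card_subgroupOf_eq, inf_comm])
  refine ⟨Y.map H.subtype, map_subtype_le _, ?_, ?_, ?_⟩
  · have := congrArg (map H.subtype) hY.sup_eq_top
    rwa [Subgroup.map_sup, subgroupOf_map_subtype, ← MonoidHom.range_eq_map, range_subtype,
      inf_comm] at this
  · rw [eq_bot_iff]
    rintro _ ⟨⟨y, hy, rfl⟩, hv⟩
    exact congrArg Subtype.val (disjoint_def.1 hY.disjoint hv hy)
  · rw [card_map_of_injective H.subtype_injective, ← hY.symm.index_eq_card]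
    rfl

theorem card_map_of_disjoint {N Y : Subgroup G} [N.Normal] (h : Y ⊓ N = ⊥) :
    Nat.card (Y.map (QuotientGroup.mk' N)) = Nat.card Y := by
  have := card_map_mk'_mul Y N
  rwa [h, card_bot, mul_one] at this

theorem exists_lift [Finite G] (N : Subgroup G) [N.Normal] (K : Subgroup (G ⧸ N))
    (h : (Nat.card N).Coprime (Nat.card K)) :
    ∃ Y : Subgroup G, Y.map (QuotientGroup.mk' N) = K ∧ Y ⊓ N = ⊥ ∧ Nat.card Y = Nat.card K := by
  have h1 := le_comap_mk' N K
  obtain ⟨Y, -, h2, h3, h4⟩ := exists_compl N (K.comap (QuotientGroup.mk' N))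
    (by rwa [inf_eq_right.2 h1, relIndex_comap_mk'])
  refine ⟨Y, ?_, h3, by rw [h4, relIndex_comap_mk']⟩
  have := congrArg (map (QuotientGroup.mk' N)) h2
  rwa [Subgroup.map_sup, map_comap_mk', (map_mk'_eq_bot_iff _ N).2 inf_le_right, bot_sup_eq] at this

theorem comm_of_disjoint {N Y : Subgroup G} [N.Normal] (h : Y ⊓ N = ⊥)
    (hc : IsMulCommutative (Y.map (QuotientGroup.mk' N))) : IsMulCommutative Y :=
  ⟨⟨fun a b => Subtype.ext (by
    have h1 := congrArg Subtype.val (hc.is_comm.comm ⟨_, a, a.2, rfl⟩ ⟨_, b, b.2, rfl⟩)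
    have h2 : ((a * b : Y) : G)⁻¹ * (b * a : Y) ∈ Y ⊓ N :=
      ⟨Y.mul_mem (Y.inv_mem (a * b).2) (b * a).2, QuotientGroup.eq.1 h1⟩
    rw [h, mem_bot, inv_mul_eq_one] at h2
    exact h2)⟩⟩

theorem exists_lift_pgroup [Finite G] {G' : Type*} [Group G'] {f : G →* G'}
    (hf : Function.Surjective f) {p : ℕ} [Fact p.Prime] {Q : Subgroup G'} (hQ : IsPGroup p Q) :
    ∃ P : Subgroup G, IsPGroup p P ∧ P.map f = Q := by
  have h1 : Function.Surjective (f.subgroupComap Q) := f.subgroupComap_surjective_of_surjective Q hf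
  let S : Sylow p (Q.comap f) := default
  have h2 : (S : Subgroup (Q.comap f)).map (f.subgroupComap Q) = ⊤ := by
    have := (S.mapSurjective h1).is_maximal' (hQ.to_subgroup ⊤) le_top
    exact this.symm
  refine ⟨(S : Subgroup (Q.comap f)).map (Q.comap f).subtype, S.isPGroup'.map _, ?_⟩
  have h3 := congrArg (map Q.subtype) h2
  rwa [map_map, ← MonoidHom.range_eq_map, range_subtype, show Q.subtype.comp (f.subgroupComap Q) =
    f.comp (Q.comap f).subtype from rfl, ← map_map] at h3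

theorem sup_eq_of_map_eq {N H K : Subgroup G} [N.Normal] {g : G}
    (h : MulAut.conj (g : G ⧸ N) • H.map (QuotientGroup.mk' N) = K.map (QuotientGroup.mk' N)) :
    MulAut.conj g • H ⊔ N = K ⊔ N := by
  rw [← comap_map_mk', ← comap_map_mk', map_conj_smul]
  exact congrArg _ h

theorem step [Finite G] {N H K : Subgroup G} [N.Normal] (hs : Group.IsSolvable N)
    (hc : Nat.card H = Nat.card K)
    (hN : (N ≤ H ∧ N ≤ K) ∨ (Nat.card H).Coprime (Nat.card N))
    (ih : Nat.card (H.map (QuotientGroup.mk' N)) = Nat.card (K.map (QuotientGroup.mk' N)) →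
      ∃ g : G ⧸ N, MulAut.conj g • H.map (QuotientGroup.mk' N) = K.map (QuotientGroup.mk' N)) :
    ∃ g : G, MulAut.conj g • H = K := by
  rcases hN with ⟨h1, h2⟩ | h1
  · obtain ⟨g, hg⟩ := ih (by
      have e1 := card_map_mk'_mul H N
      have e2 := card_map_mk'_mul K N
      rw [inf_eq_right.2 h1] at e1
      rw [inf_eq_right.2 h2, ← hc, ← e1] at e2
      exact (Nat.eq_of_mul_eq_mul_right Nat.card_pos e2).symm)
    obtain ⟨g, rfl⟩ := QuotientGroup.mk_surjective g
    have := sup_eq_of_map_eq hg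
    rw [sup_eq_left.2 h2, sup_eq_left.2 (fun n hn => mem_conj_smul_iff.2
      (h1 (Normal.conj_mem' inferInstance n hn g)))] at this
    exact ⟨g, this⟩
  · obtain ⟨g, hg⟩ := ih (by
      rw [card_map_of_disjoint (inf_eq_bot_of_coprime_card h1),
        card_map_of_disjoint (inf_eq_bot_of_coprime_card (hc ▸ h1)), hc])
    obtain ⟨g, rfl⟩ := QuotientGroup.mk_surjective g
    obtain ⟨n, -, hn⟩ := coprime_conj_of_sup_eq N (MulAut.conj g • H) K
      (le_normalizer_of_normal.trans' le_top) (by rwa [card_conj_smul]) (hc ▸ h1)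
      (by rw [sup_comm, sup_eq_of_map_eq hg, sup_comm]) (Or.inr hs)
    exact ⟨n * g, by rw [← conj_smul_conj_smul, hn]⟩

theorem le_of_prime [Finite G] {N H : Subgroup G} {q : ℕ} (hq : q.Prime) (hN : Nat.card N = q)
    (h : ∀ x : G, orderOf x = q → x ∈ N) (hH : q ∣ Nat.card H) : N ≤ H := by
  have := Fact.mk hq
  obtain ⟨x, hx⟩ := exists_prime_orderOf_dvd_card' (G := H) q hH
  have hx' : orderOf (x : G) = q := by simpa using hx
  have : zpowers (x : G) = N := eq_of_le_of_card_ge (zpowers_le_of_mem (h _ hx'))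
    (by rw [Nat.card_zpowers, hN, hx'])
  exact this ▸ zpowers_le_of_mem x.2

theorem step_prime [Finite G] {N H K : Subgroup G} [N.Normal] {q : ℕ} (hq : q.Prime)
    (hN : Nat.card N = q) (h : ∀ x : G, orderOf x = q → x ∈ N) (hc : Nat.card H = Nat.card K)
    (ih : Nat.card (H.map (QuotientGroup.mk' N)) = Nat.card (K.map (QuotientGroup.mk' N)) →
      ∃ g : G ⧸ N, MulAut.conj g • H.map (QuotientGroup.mk' N) = K.map (QuotientGroup.mk' N)) :
    ∃ g : G, MulAut.conj g • H = K := by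
  have := Fact.mk hq
  have := isCyclic_of_prime_card hN
  refine step (isSolvable_of_isMulCommutative N) hc ?_ ih
  by_cases e : q ∣ Nat.card H
  · exact Or.inl ⟨le_of_prime hq hN h e, le_of_prime hq hN h (hc ▸ e)⟩
  · exact Or.inr (hN ▸ ((Nat.Prime.coprime_iff_not_dvd hq).2 e).symm)

theorem card_eq_of_isCyclic [Finite G] {N : Subgroup G} {q : ℕ} (hq : q.Prime) (hne : N ≠ ⊥)
    (hc : IsCyclic N) (h : ∀ x ∈ N, x ^ q = 1) : Nat.card N = q := by
  refine (hq.eq_one_or_self_of_dvd _ ?_).resolve_left fun e => hne (card_eq_one.1 e)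
  rw [← IsCyclic.exponent_eq_card]
  exact Monoid.exponent_dvd_of_forall_pow_eq_one fun x => Subtype.ext (h x x.2)

theorem mem_of_isCyclic [Finite G] {N : Subgroup G} [N.Normal] {q : ℕ} (hq : q.Prime)
    (hN : Nat.card N = q) (h : ∀ Q : Subgroup G, IsPGroup q Q → IsCyclic Q) (x : G)
    (hx : orderOf x = q) : x ∈ N := by
  have := Fact.mk hq
  have h1 : IsPGroup q ↥(zpowers x ⊔ N) :=
    (IsPGroup.of_card (n := 1) (by rw [Nat.card_zpowers, hx, pow_one])).to_sup_of_normal_right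
      (IsPGroup.of_card (n := 1) (by rw [hN, pow_one]))
  have := h _ h1
  have h2 : zpowers x = N := Cnt.eq_of_cyclic_of_card_eq (C := zpowers x ⊔ N) le_sup_left
    le_sup_right (by rw [Nat.card_zpowers, hx, hN])
  exact h2 ▸ mem_zpowers x

theorem isCyclic_quot [Finite G] {G' : Type*} [Group G'] {f : G →* G'}
    (hf : Function.Surjective f) {q : ℕ} (hq : q.Prime)
    (h : ∀ Q : Subgroup G, IsPGroup q Q → IsCyclic Q) (Q : Subgroup G') (hQ : IsPGroup q Q) :
    IsCyclic Q := by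
  have := Fact.mk hq
  obtain ⟨P, hP, rfl⟩ := exists_lift_pgroup hf hQ
  have := h P hP
  exact isCyclic_of_surjective _ (f.subgroupMap_surjective P)

theorem conj_of_cyclic : ∀ (G : Type u) [Group G] [Finite G], Group.IsSolvable G →
    ∀ H K : Subgroup G, Nat.card H = Nat.card K →
      (∀ q, q.Prime → q ∣ Nat.card H → ∀ Q : Subgroup G, IsPGroup q Q → IsCyclic Q) →
      ∃ g : G, MulAut.conj g • H = K := by
  refine card_induction ?_
  intro G _ _ ih hs H K hc h
  rcases subsingleton_or_nontrivial G with h0 | h0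
  · exact ⟨1, Subsingleton.elim _ _⟩
  obtain ⟨N, q, hN, hq, hE, hNq⟩ := exists_isMinNormal_isElementaryAbelian G
  have := hN.normal
  have := Fact.mk hq
  have ih' := fun e => ih (G ⧸ N) (card_quotient_lt hN.ne_bot) inferInstance
    (H.map (QuotientGroup.mk' N)) (K.map (QuotientGroup.mk' N)) e fun r hr hd =>
      isCyclic_quot (QuotientGroup.mk'_surjective N) hr (h r hr (hd.trans (card_map_dvd _ _)))
  by_cases e : q ∣ Nat.card H
  · have h1 := card_eq_of_isCyclic hq hN.ne_bot (h q hq e N hNq) hE.2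
    exact step_prime hq h1 (mem_of_isCyclic hq h1 (h q hq e)) hc ih'
  · obtain ⟨k, hk⟩ := hNq.exists_card_eq
    exact step inferInstance hc
      (Or.inr (hk ▸ ((Nat.Prime.coprime_iff_not_dvd hq).2 e).symm.pow_right k)) ih'

theorem exists_mem_conj {M H K : Subgroup G} (hH : H ≤ M) (hK : K ≤ M)
    (h : ∃ g : M, MulAut.conj g • H.subgroupOf M = K.subgroupOf M) :
    ∃ g ∈ M, MulAut.conj g • H = K := by
  obtain ⟨g, hg⟩ := h
  have := congrArg (map M.subtype) hg
  rw [map_conj_smul, map_subgroupOf_eq_of_le hH, map_subgroupOf_eq_of_le hK] at this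
  exact ⟨g, g.2, this⟩

theorem conj_of_cyclic_in [Finite G] {M H K : Subgroup G} (hM : Group.IsSolvable M) (hH : H ≤ M)
    (hK : K ≤ M) (hc : Nat.card H = Nat.card K)
    (h : ∀ q, q.Prime → q ∣ Nat.card H → ∀ Q ≤ M, IsPGroup q Q → IsCyclic Q) :
    ∃ g ∈ M, MulAut.conj g • H = K := by
  refine exists_mem_conj hH hK (conj_of_cyclic M hM _ _
    (by rw [card_subgroupOf_of_le hH, card_subgroupOf_of_le hK, hc]) fun q hq hd Q hQ => ?_)
  have := h q hq (card_subgroupOf_of_le hH ▸ hd) (Q.map M.subtype) (map_subtype_le _) (hQ.map _)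
  exact isCyclic_of_surjective _ (equivMapOfInjective Q _ M.subtype_injective).symm.surjective

theorem split [Finite G] {V H K : Subgroup G} [V.Normal] (hV : (Nat.card V).Coprime V.index)
    (hc : Nat.card H = Nat.card K)
    (hU : Nat.card ↥(H ⊓ V) = Nat.card ↥(K ⊓ V) → ∃ g : G, MulAut.conj g • (H ⊓ V) = K ⊓ V)
    (hL : ∀ Y Y' : Subgroup G, Y ≤ normalizer ((K ⊓ V : Subgroup G) : Set G) →
      Y' ≤ normalizer ((K ⊓ V : Subgroup G) : Set G) → Nat.card Y = Nat.card Y' →
      (Nat.card Y).Coprime (Nat.card V) →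
      ∃ g ∈ normalizer ((K ⊓ V : Subgroup G) : Set G), MulAut.conj g • Y = Y') :
    ∃ g : G, MulAut.conj g • H = K := by
  have h1 : ∀ X : Subgroup G, Nat.card ↥(X ⊓ V) ∣ Nat.card V := fun X => card_dvd_of_le inf_le_right
  have h2 : ∀ X : Subgroup G, V.relIndex X ∣ V.index := fun X => relIndex_dvd_index_of_normal V X
  have h3 : ∀ X X' : Subgroup G, (Nat.card ↥(X ⊓ V)).Coprime (V.relIndex X') := fun X X' =>
    (hV.coprime_dvd_left (h1 X)).coprime_dvd_right (h2 X')
  have h4 : ∀ X : Subgroup G, Nat.card ↥(X ⊓ V) * V.relIndex X = Nat.card X := fun X => by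
    rw [inf_comm, card_inf_mul_relIndex]
  have h5 : Nat.card ↥(H ⊓ V) = Nat.card ↥(K ⊓ V) := Nat.dvd_antisymm
    ((h3 H K).dvd_of_dvd_mul_right (by rw [h4, ← hc, ← h4 H]; exact dvd_mul_right _ _))
    ((h3 K H).dvd_of_dvd_mul_right (by rw [h4, hc, ← h4 K]; exact dvd_mul_right _ _))
  obtain ⟨g, hg⟩ := hU h5
  obtain ⟨Y, hY, e1, -, c1⟩ := exists_compl V H (h3 H H)
  obtain ⟨Y', hY', e2, -, c2⟩ := exists_compl V K (h3 K K)
  have hn : ∀ X : Subgroup G, X ≤ normalizer ((X ⊓ V : Subgroup G) : Set G) := fun X =>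
    le_normalizer_inf le_normalizer (le_normalizer_of_normal.trans' le_top)
  obtain ⟨n, hn', e3⟩ := hL (MulAut.conj g • Y) Y'
    (by rw [← hg, normalizer_conj_smul]; exact conj_smul_mono g (hY.trans (hn H)))
    (hY'.trans (hn K)) (by
      rw [card_conj_smul, c1, c2]
      have := h4 K
      rw [← hc, ← h4 H, h5] at this
      exact (Nat.eq_of_mul_eq_mul_left Nat.card_pos this).symm)
    (by rw [card_conj_smul, c1]; exact (hV.coprime_dvd_right (h2 H)).symm)
  refine ⟨n * g, ?_⟩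
  rw [← conj_smul_conj_smul, ← e1, smul_sup, smul_sup, hg, e3,
    conj_smul_eq_iff_mem_normalizer.2 hn', e2]

/-- Abelian `p`-subgroups of equal order are conjugate. -/
def Ab (p : ℕ) (G : Type u) [Group G] : Prop :=
  ∀ A B : Subgroup G, IsPGroup p A → IsPGroup p B → IsMulCommutative A → IsMulCommutative B →
    Nat.card A = Nat.card B → ∃ g : G, MulAut.conj g • A = B

theorem Ab.mem [Finite G] {p : ℕ} [Fact p.Prime] (h : Ab p G) {M : Subgroup G} [M.Normal] {m a : G}
    {k : ℕ} (hm : m ∈ M) (h1 : orderOf m = p ^ k) (h2 : orderOf a = p ^ k) : a ∈ M := by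
  obtain ⟨g, hg⟩ := h (zpowers m) (zpowers a) (IsPGroup.of_card (by rw [Nat.card_zpowers, h1]))
    (IsPGroup.of_card (by rw [Nat.card_zpowers, h2])) inferInstance inferInstance
    (by rw [Nat.card_zpowers, Nat.card_zpowers, h1, h2])
  exact conj_smul_le_of_mem_normalizer (zpowers_le_of_mem hm)
    (le_normalizer_of_normal (mem_top g)) (hg ▸ mem_zpowers a)

theorem Ab.mem_prime [Finite G] {p : ℕ} [Fact p.Prime] (h : Ab p G) {M : Subgroup G} [M.Normal]
    (hM : p ∣ Nat.card M) (a : G) (h2 : orderOf a = p) : a ∈ M := by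
  obtain ⟨m, hm⟩ := exists_prime_orderOf_dvd_card' (G := M) p hM
  exact h.mem (k := 1) m.2 (by simpa using hm) (by rw [h2, pow_one])

/-- If there is an elementary abelian subgroup of order `p ^ 2`, there is no element of order
`p ^ 2`. -/
theorem Ab.pow_eq_one [Finite G] {p : ℕ} [hp : Fact p.Prime] (h : Ab p G) {E : Subgroup G}
    (hE : Nat.card E = p ^ 2) (hE' : ∀ x ∈ E, x ^ p = 1) {y : G} {k : ℕ} (hy : y ^ p ^ k = 1) :
    y ^ p = 1 := by
  obtain ⟨j, -, hj⟩ := (Nat.dvd_prime_pow hp.out).1 (orderOf_dvd_of_pow_eq_one hy)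
  rcases Nat.lt_or_ge j 2 with h2 | h2
  · exact orderOf_dvd_iff_pow_eq_one.1 (by
      rw [hj]; exact (pow_dvd_pow p (by omega : j ≤ 1)).trans (by rw [pow_one]))
  exfalso
  have hord : orderOf (y ^ (p ^ (j - 2))) = p ^ 2 := by
    rw [orderOf_pow_of_dvd (pow_ne_zero _ hp.out.ne_zero) (hj ▸ pow_dvd_pow p (by omega)), hj,
      Nat.pow_div (by omega) hp.out.pos]
    congr 1; omega
  obtain ⟨g, hg⟩ := h E (zpowers (y ^ (p ^ (j - 2)))) (IsPGroup.of_card hE)
    (IsPGroup.of_card (by rw [Nat.card_zpowers, hord]))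
    (IsPGroup.isMulCommutative_of_card_eq_prime_sq hE) inferInstance
    (by rw [Nat.card_zpowers, hord, hE])
  have h3 := hE' _ (mem_conj_smul_iff.1 (hg ▸ mem_zpowers (y ^ (p ^ (j - 2)))))
  rw [show g⁻¹ * y ^ p ^ (j - 2) * g = g⁻¹ * y ^ p ^ (j - 2) * g⁻¹⁻¹ by rw [inv_inv], conj_pow,
    conj_eq_one_iff] at h3
  have h5 := Nat.le_of_dvd hp.out.pos (hord ▸ orderOf_dvd_of_pow_eq_one h3)
  nlinarith [hp.out.two_le]

theorem exists_card_sq [Finite G] {p : ℕ} [hp : Fact p.Prime] {N : Subgroup G} (hN : IsPGroup p N)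
    (h0 : N ≠ ⊥) (h1 : Nat.card N ≠ p) : ∃ E ≤ N, Nat.card E = p ^ 2 := by
  obtain ⟨k, hk⟩ := hN.exists_card_eq
  have : 2 ≤ k := by
    by_contra! h
    interval_cases k
    · exact h0 (card_eq_one.1 hk)
    · exact h1 (by rw [hk, pow_one])
  obtain ⟨E, hE⟩ := Sylow.exists_subgroup_card_pow_prime (G := N) p (n := 2)
    (hk ▸ pow_dvd_pow p this)
  exact ⟨E.map N.subtype, map_subtype_le E, by rw [card_map_of_injective N.subtype_injective, hE]⟩

theorem Ab.le_of_noncyclic [Finite G] {p : ℕ} [hp : Fact p.Prime] (h : Ab p G) {N : Subgroup G}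
    [N.Normal] (hN : ∀ x ∈ N, x ^ p = 1) (h0 : N ≠ ⊥) (h1 : Nat.card N ≠ p) {Q : Subgroup G}
    (hQ : IsPGroup p Q) : Q ≤ N := by
  have hNp : IsPGroup p N := fun x => ⟨1, Subtype.ext (by simpa using hN x x.2)⟩
  obtain ⟨E, hE, hEc⟩ := exists_card_sq hNp h0 h1
  intro y hy
  obtain ⟨k, hk⟩ := hQ ⟨y, hy⟩
  have h2 := h.pow_eq_one hEc (fun x hx => hN x (hE hx)) (congrArg Subtype.val hk)
  by_cases e : y = 1
  · exact e ▸ one_mem N
  · exact h.mem_prime ((dvd_pow_self p two_ne_zero).trans (hEc ▸ card_dvd_of_le hE)) y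
      (orderOf_eq_prime h2 e)

theorem coprime_index_of_forall_le [Finite G] {p : ℕ} [hp : Fact p.Prime] {N : Subgroup G}
    (hN : IsPGroup p N) (h : ∀ Q : Subgroup G, IsPGroup p Q → Q ≤ N) :
    (Nat.card N).Coprime N.index := by
  let P : Sylow p G := default
  obtain ⟨k, hk⟩ := hN.exists_card_eq
  rw [hk]
  exact ((Nat.Prime.coprime_iff_not_dvd hp.out).2 fun e =>
    P.not_dvd_index (e.trans (index_dvd_of_le (h P P.isPGroup')))).pow_left k

theorem conj_of_almost_cyclic (r : ℕ) : ∀ (G : Type u) [Group G] [Finite G], Group.IsSolvable G →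
    (∀ p : ℕ, p.Prime → ∀ H K : Subgroup G, IsPGroup p H → IsPGroup p K →
      Nat.card H = Nat.card K → ∃ g : G, MulAut.conj g • H = K) →
    (∀ p : ℕ, p.Prime → p ≠ r → ∀ Q : Subgroup G, IsPGroup p Q → IsCyclic Q) →
    ∀ H K : Subgroup G, Nat.card H = Nat.card K → ∃ g : G, MulAut.conj g • H = K := by
  refine card_induction ?_
  intro G _ _ ih hs hD hcyc H K hc
  rcases subsingleton_or_nontrivial G with h0 | h0
  · exact ⟨1, Subsingleton.elim _ _⟩
  obtain ⟨N, q, hN, hq, hE, hNq⟩ := exists_isMinNormal_isElementaryAbelian G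
  have := hN.normal
  have := Fact.mk hq
  have hAb : Ab q G := fun A B h1 h2 _ _ => hD q hq A B h1 h2
  by_cases e : Nat.card N = q
  · refine step_prime hq e (hAb.mem_prime (e ▸ dvd_rfl)) hc (ih (G ⧸ N) (card_quotient_lt hN.ne_bot)
      inferInstance (fun p hp A B hA hB hAB => ?_)
      (fun p hp hpr => isCyclic_quot (QuotientGroup.mk'_surjective N) hp (hcyc p hp hpr)) _ _)
    have := Fact.mk hp
    have key : ∀ A' B' : Subgroup G, IsPGroup p A' → IsPGroup p B' → Nat.card A' = Nat.card B' →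
        A'.map (QuotientGroup.mk' N) = A → B'.map (QuotientGroup.mk' N) = B →
        ∃ g : G ⧸ N, MulAut.conj g • A = B := by
      rintro A' B' h1 h2 h3 rfl rfl
      obtain ⟨g, rfl⟩ := hD p hp A' B' h1 h2 h3
      exact ⟨g, (map_conj_smul _ g A').symm⟩
    by_cases hpq : p = q
    · subst hpq
      have hk : IsPGroup p (QuotientGroup.mk' N).ker := by rwa [QuotientGroup.ker_mk']
      exact key _ _ (hA.comap_of_ker_isPGroup _ hk) (hB.comap_of_ker_isPGroup _ hk)
        (by rw [card_comap_mk', card_comap_mk', hAB]) (map_comap_mk' N A) (map_comap_mk' N B)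
    · obtain ⟨A', h1, -, h2⟩ := exists_lift N A
        (IsPGroup.coprime_card_of_ne q p (Ne.symm hpq) _ _ hNq hA)
      obtain ⟨B', h3, -, h4⟩ := exists_lift N B
        (IsPGroup.coprime_card_of_ne q p (Ne.symm hpq) _ _ hNq hB)
      obtain ⟨a, ha⟩ := hA.exists_card_eq
      exact key A' B' (IsPGroup.of_card (h2.trans ha)) (IsPGroup.of_card (h4.trans (hAB ▸ ha)))
        (by rw [h2, h4, hAB]) h1 h3
  · have hqr : q = r := by
      by_contra h
      exact e (card_eq_of_isCyclic hq hN.ne_bot (hcyc q hq h N hNq) hE.2)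
    refine split (coprime_index_of_forall_le hNq fun Q => hAb.le_of_noncyclic hE.2 hN.ne_bot e) hc
      (hD q hq _ _ (hNq.to_le inf_le_right) (hNq.to_le inf_le_right)) fun Y Y' h1 h2 h3 h4 =>
        conj_of_cyclic_in inferInstance h1 h2 h3 fun p hp hd Q _ => hcyc p hp ?_ Q
    rintro rfl
    subst hqr
    obtain ⟨k, hk⟩ := hNq.exists_card_eq
    have : k ≠ 0 := fun e => hN.ne_bot (card_eq_one.1 (by rw [hk, e, pow_zero]))
    exact hp.one_lt.ne' (Nat.eq_one_of_dvd_coprimes h4 hd (hk ▸ dvd_pow_self _ this))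

end CL.EqAb
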