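import Mathlib
import Cfsg.Agent.SOLV.PGroupCyclicSCN
import Cfsg.Agent.SOLV.MaxClass
import Cfsg.Agent.PLOC.PNormal
import Cfsg.Agent.SOLV.MinNormal

/-!
# `p`-groups all of whose subgroups of a given order look alike
-/

set_option autoImplicit false
open Cfsg Pointwise
open scoped commutatorElement

namespace CL.FGS.EqOrd

variable {G : Type*} [Group G] [Finite G] {p : ℕ} [hp : Fact p.Prime]

omit hp in
theorem index_centralizer_le_of_mem (x : G) (M : Subgroup G) (h : ∀ g : G, g * x * g⁻¹ * x⁻¹ ∈ M) :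
    (Subgroup.centralizer {x}).index ≤ Nat.card M := by
  let f : G ⧸ Subgroup.centralizer {x} → M := fun q => ⟨q.out * x * q.out⁻¹ * x⁻¹, h _⟩
  refine Nat.card_le_card_of_injective f fun a b hab => ?_
  have h1 : a.out * x * a.out⁻¹ = b.out * x * b.out⁻¹ := mul_right_cancel (congrArg Subtype.val hab)
  rw [← QuotientGroup.out_eq' a, ← QuotientGroup.out_eq' b, QuotientGroup.eq,
    Subgroup.mem_centralizer_singleton_iff]
  calc a.out⁻¹ * b.out * x = a.out⁻¹ * (b.out * x * b.out⁻¹) * b.out := by group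
    _ = x * (a.out⁻¹ * b.out) := by rw [← h1]; group

/-- If one cyclic subgroup of order `p²` makes all abelian subgroups of order `p²` cyclic, a
`p`-subgroup is cyclic, quaternion or of exponent `p`. -/
theorem cyclic_or_quat_or_exp {P : Subgroup G} (hP : IsPGroup p P)
    (h : ∀ A B : Subgroup G, IsMulCommutative A → IsMulCommutative B → Nat.card A = p ^ 2 →
      Nat.card B = p ^ 2 → ∃ g : G, B = A.map (MulAut.conj g).toMonoidHom) :
    IsCyclic P ∨ (p = 2 ∧ ∃ n, Nonempty (P ≃* QuaternionGroup (2 ^ (n + 1)))) ∨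
      ∀ x ∈ P, x ^ p = 1 := by
  rcases CL.PCyc.isCyclic_or_elemAb_or_quaternion hP with h1 | ⟨E, hE, hEc⟩ | h1
  · exact Or.inl h1
  · refine Or.inr (Or.inr fun x hx => ?_)
    by_contra hxp
    obtain ⟨k, hk⟩ := IsPGroup.iff_orderOf.1 hP ⟨x, hx⟩
    rw [Subgroup.orderOf_mk] at hk
    have hd : p ^ 2 ∣ orderOf x := by
      rw [hk]
      refine pow_dvd_pow p ?_
      by_contra hlt
      exact hxp (orderOf_dvd_iff_pow_eq_one.1 (by
        rw [hk]; exact (pow_dvd_pow p (by omega : k ≤ 1)).trans (by rw [pow_one])))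
    set y := x ^ (orderOf x / p ^ 2)
    have hy : orderOf y = p ^ 2 := orderOf_pow_orderOf_div (orderOf_pos x).ne' hd
    have := hE.1
    obtain ⟨g, hg⟩ := h (E.map P.subtype) (Subgroup.zpowers y) inferInstance inferInstance
      (by rw [Subgroup.card_map_of_injective P.subtype_injective, hEc]) (by rw [Nat.card_zpowers, hy])
    obtain ⟨_, ⟨e, he, rfl⟩, hye⟩ : y ∈ (E.map P.subtype).map (MulAut.conj g).toMonoidHom :=
      hg ▸ Subgroup.mem_zpowers y
    have : y ^ p = 1 := by rw [← hye, ← map_pow, ← map_pow, hE.2 e he, map_one, map_one]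
    have h2 := orderOf_dvd_of_pow_eq_one this
    rw [hy] at h2
    have := Nat.le_of_dvd hp.out.pos h2
    have := hp.out.two_le
    nlinarith
  · exact Or.inr (Or.inl h1)

/-- a `p`-group of order at least `p⁴` has an abelian subgroup of order `p³` -/
theorem exists_comm_cube (hG : IsPGroup p G) (h4 : p ^ 4 ≤ Nat.card G) :
    ∃ A : Subgroup G, IsMulCommutative A ∧ Nat.card A = p ^ 3 := by
  have h2 := hp.out.two_le
  have hlt : ∀ M : Subgroup G, Nat.card M < p ^ 4 → M < ⊤ := fun M hM =>
    lt_top_iff_ne_top.2 fun e => by rw [e, Subgroup.card_top] at hM; omega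
  obtain ⟨M, hMn, -, -, hMc, hM⟩ := CL.PN.exists_normal_between hG ⊥ ⊤ (hlt _ (by
    rw [Subgroup.card_bot]; exact Nat.one_lt_pow (by norm_num) h2))
  rw [Subgroup.card_bot, mul_one] at hMc
  obtain ⟨N, hNn, hMN, -, hNc, hN⟩ := CL.PN.exists_normal_between hG M ⊤ (hlt _ (by
    rw [hMc]; calc p = p ^ 1 := (pow_one p).symm
      _ < p ^ 4 := Nat.pow_lt_pow_right h2 (by norm_num)))
  rw [hMc, ← pow_two] at hNc
  obtain ⟨x, hxN, hxM⟩ : ∃ x ∈ N, x ∉ M := by
    by_contra h
    push Not at h
    have := Subgroup.card_le_of_le (show N ≤ M from h)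
    rw [hNc, hMc] at this
    nlinarith
  have hMZ : ∀ z ∈ M, ∀ g : G, g * z = z * g := by
    intro z hz g
    have := hM (Subgroup.commutator_mem_commutator hz (Subgroup.mem_top g))
    rw [Subgroup.mem_bot, commutatorElement_eq_one_iff_mul_comm] at this
    exact this.symm
  have hNeq : N = M ⊔ Subgroup.zpowers x := by
    symm
    refine Subgroup.eq_of_le_of_card_ge (sup_le hMN (Subgroup.zpowers_le.2 hxN)) ?_
    have := CL.PCyc.mul_card_le_of_lt (hG.to_subgroup _) (show M < M ⊔ Subgroup.zpowers x from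
      lt_of_le_of_ne le_sup_left fun e => hxM (e ▸ Subgroup.mem_sup_right (Subgroup.mem_zpowers x)))
    rwa [hMc, ← pow_two, ← hNc] at this
  set C := Subgroup.centralizer {x} with hC
  have hidx : C.index ≤ p := by
    rw [← hMc]
    refine index_centralizer_le_of_mem x M fun g => ?_
    have := hN (Subgroup.commutator_mem_commutator hxN (Subgroup.mem_top g))
    have h3 := M.inv_mem this
    rwa [commutatorElement_inv, commutatorElement_def] at h3
  have hNC : N ≤ C := by
    rw [hNeq]
    refine sup_le (fun z hz => ?_) (Subgroup.zpowers_le.2 ?_)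
    · exact Subgroup.mem_centralizer_singleton_iff.2 (hMZ z hz x).symm
    · exact Subgroup.mem_centralizer_singleton_iff.2 rfl
  have hCc : p ^ 3 ∣ Nat.card C := by
    obtain ⟨k, hk⟩ := IsPGroup.iff_card.1 (hG.to_subgroup C)
    rw [hk]
    refine pow_dvd_pow p ?_
    have h5 := C.card_mul_index
    have h6 : p ^ 4 ≤ p ^ (k + 1) := by
      rw [pow_succ _ k, ← hk]
      exact h4.trans (h5 ▸ Nat.mul_le_mul_left _ hidx)
    have := (Nat.pow_le_pow_iff_right h2).1 h6
    omega
  obtain ⟨K, hKc, hNK⟩ := Sylow.exists_subgroup_card_pow_succ (G := C) (n := 2) hCc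
    (H := N.subgroupOf C) (by rw [CL.card_subgroupOf_of_le hNC, hNc])
  refine ⟨K.map C.subtype, ?_, by rw [Subgroup.card_map_of_injective C.subtype_injective, hKc]⟩
  have : IsMulCommutative K := by
    have hq : Nat.card (K ⧸ (N.subgroupOf C).subgroupOf K) = p := by
      have h7 := ((N.subgroupOf C).subgroupOf K).card_mul_index
      rw [CL.card_subgroupOf_of_le hNK, CL.card_subgroupOf_of_le hNC, hNc, hKc, pow_succ _ 2] at h7
      exact Nat.eq_of_mul_eq_mul_left (pow_pos hp.out.pos 2) h7
    have := isCyclic_of_prime_card hq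
    refine MonoidHom.isMulCommutative_of_isCyclic_of_ker_le_center
      (QuotientGroup.mk' ((N.subgroupOf C).subgroupOf K)) ?_
    rw [QuotientGroup.ker_mk']
    intro z hz
    rw [Subgroup.mem_center_iff]
    intro y
    refine Subtype.ext (Subtype.ext ?_)
    have hz' : ((z : C) : G) ∈ M ⊔ Subgroup.zpowers x := hNeq ▸ hz
    have : M ⊔ Subgroup.zpowers x ≤ Subgroup.centralizer {((y : C) : G)} := by
      refine sup_le (fun w hw => ?_) (Subgroup.zpowers_le.2 ?_)
      · exact Subgroup.mem_centralizer_singleton_iff.2 (hMZ w hw _).symm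
      · exact Subgroup.mem_centralizer_singleton_iff.2
          (Subgroup.mem_centralizer_singleton_iff.1 (y : C).2).symm
    exact (Subgroup.mem_centralizer_singleton_iff.1 (this hz')).symm
  infer_instance

/-- a non-abelian group of exponent `p` has a non-abelian subgroup of order `p³` -/
theorem exists_noncomm_cube (hG : IsPGroup p G) (hexp : ∀ x : G, x ^ p = 1)
    (hna : ¬ IsMulCommutative G) :
    ∃ B : Subgroup G, ¬ IsMulCommutative B ∧ Nat.card B = p ^ 3 := by
  have hZ : Subgroup.center G < ⊤ := lt_top_iff_ne_top.2 fun e =>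
    hna ⟨⟨fun a b => Subgroup.mem_center_iff.1 (e ▸ Subgroup.mem_top b) a⟩⟩
  obtain ⟨N, -, hZN, -, hNc, hN⟩ := CL.PN.exists_normal_between hG (Subgroup.center G) ⊤ hZ
  obtain ⟨x, hxN, hxZ⟩ : ∃ x ∈ N, x ∉ Subgroup.center G := by
    by_contra h
    push Not at h
    have := Subgroup.card_le_of_le (show N ≤ _ from h)
    rw [hNc] at this
    have h1 := Nat.card_pos (α := Subgroup.center G)
    have := hp.out.two_le
    nlinarith
  obtain ⟨y, hy⟩ : ∃ y, y * x ≠ x * y := by
    by_contra h
    push Not at h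
    exact hxZ (Subgroup.mem_center_iff.2 h)
  set z := ⁅x, y⁆ with hz
  have hzZ : z ∈ Subgroup.center G := hN (Subgroup.commutator_mem_commutator hxN (Subgroup.mem_top y))
  have hz1 : z ≠ 1 := fun e => hy (commutatorElement_eq_one_iff_mul_comm.1 e).symm
  have ho : ∀ w : G, w ≠ 1 → orderOf w = p := fun w hw => orderOf_eq_prime (hexp w) hw
  have hx1 : x ≠ 1 := by rintro rfl; exact hxZ (Subgroup.one_mem _)
  have hy1 : y ≠ 1 := by rintro rfl; exact hy (by simp)
  obtain ⟨hE, hEc⟩ := CL.PCyc.elemAb_zpowers_sup hp.out (ho z hz1) (ho x hx1)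
    (Subgroup.mem_center_iff.1 hzZ x).symm (fun h => hxZ (Subgroup.zpowers_le.2 hzZ h))
  set E := Subgroup.zpowers z ⊔ Subgroup.zpowers x with hEdef
  have hxE : x ∈ E := Subgroup.mem_sup_right (Subgroup.mem_zpowers x)
  have hzE : z ∈ E := Subgroup.mem_sup_left (Subgroup.mem_zpowers z)
  have hyE : y ∉ E := fun h => by
    have := hE.1
    exact hy (setLike_mul_comm (s := E) h hxE)
  have hyN : y ∈ Subgroup.normalizer (E : Set G) := by
    refine Subgroup.mem_normalizer_fintype ?_
    have : E ≤ E.comap (MulAut.conj y).toMonoidHom := by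
      refine sup_le (Subgroup.zpowers_le.2 ?_) (Subgroup.zpowers_le.2 ?_)
      · change y * z * y⁻¹ ∈ E
        rw [Subgroup.mem_center_iff.1 hzZ y, mul_inv_cancel_right]; exact hzE
      · change y * x * y⁻¹ ∈ E
        have : y * x * y⁻¹ = z⁻¹ * x := by rw [hz, commutatorElement_def]; group
        rw [this]
        exact E.mul_mem (E.inv_mem hzE) hxE
    exact fun n hn => this hn
  refine ⟨Subgroup.zpowers y ⊔ E, fun h => hy (setLike_mul_comm (s := Subgroup.zpowers y ⊔ E)
    (Subgroup.mem_sup_left (Subgroup.mem_zpowers y)) (Subgroup.mem_sup_right hxE)), ?_⟩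
  rw [CL.card_sup_of_disjoint (Subgroup.zpowers_le.2 hyN), Nat.card_zpowers, ho y hy1, hEc]
  · ring
  · have hc : Nat.card (Subgroup.zpowers y) = p := by rw [Nat.card_zpowers, ho y hy1]
    have := Fact.mk (hc ▸ hp.out : (Nat.card (Subgroup.zpowers y)).Prime)
    rcases (E.subgroupOf (Subgroup.zpowers y)).eq_bot_or_eq_top_of_prime_card with h | h
    · rw [inf_comm]; exact disjoint_iff.1 (Subgroup.subgroupOf_eq_bot.1 h)
    · exact absurd (Subgroup.subgroupOf_eq_top.1 h (Subgroup.mem_zpowers y)) hyE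

end CL.FGS.EqOrd
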