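import Mathlib
import Cfsg.Agent.FGS.TwoSizes
import Cfsg.Agent.SOLV.CoprimeSylow
import Cfsg.Agent.SOLV.Frattini
import Cfsg.Agent.SOLV.MinNormal
import Cfsg.Agent.ODD.BG3.FixDim
import Cfsg.Agent.S0055

/-!
# Fixed points of a coprime automorphism of odd prime order (Flavell)
-/

set_option linter.style.haveILetI false
set_option autoImplicit false

namespace CL.Flav

open Subgroup Cfsg
open scoped commutatorElement Pointwise

universe u

section Basic

variable {G : Type*} [Group G]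

/-- The subgroup generated by the commutators of `h` with the elements of `A`. -/
def cm (A : Subgroup G) (h : G) : Subgroup G := closure {c | ∃ a ∈ A, c = ⁅h, a⁆}

/-- The join of the fixed points in the subgroups `cm A h`. -/
def DD (A K : Subgroup G) : Subgroup G := ⨆ h ∈ K, cm A h ⊓ centralizer (A : Set G)

theorem mem_cm {A : Subgroup G} (h : G) {a : G} (ha : a ∈ A) : ⁅h, a⁆ ∈ cm A h :=
  subset_closure ⟨a, ha, rfl⟩

theorem cm_le {A L : Subgroup G} {h : G} : cm A h ≤ L ↔ ∀ a ∈ A, ⁅h, a⁆ ∈ L := by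
  rw [cm, closure_le]
  exact ⟨fun H a ha => H ⟨a, ha, rfl⟩, fun H c ⟨a, ha, e⟩ => e ▸ H a ha⟩

theorem cm_le_comm {A K : Subgroup G} {h : G} (hh : h ∈ K) : cm A h ≤ ⁅K, A⁆ :=
  cm_le.2 fun _ ha => commutator_mem_commutator hh ha

theorem map_cm {G' : Type*} [Group G'] (f : G →* G') (A : Subgroup G) (h : G) :
    (cm A h).map f = cm (A.map f) (f h) := by
  apply le_antisymm
  · rw [map_le_iff_le_comap, cm_le]
    intro a ha
    rw [mem_comap, map_commutatorElement]
    exact mem_cm _ (mem_map_of_mem f ha)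
  · rw [cm_le]
    rintro _ ⟨a, ha, rfl⟩
    rw [← map_commutatorElement]
    exact mem_map_of_mem f (mem_cm h ha)

theorem le_norm_of {A L : Subgroup G} (h : ∀ a ∈ A, ∀ l ∈ L, a * l * a⁻¹ ∈ L) :
    A ≤ normalizer (L : Set G) := Subgroup.le_normalizer_iff.2 h

theorem norm_cm (A : Subgroup G) (h : G) : A ≤ normalizer (cm A h : Set G) := by
  refine le_norm_of fun b hb l hl => ?_
  have : cm A h ≤ (cm A h).comap (MulAut.conj b).toMonoidHom := by
    rw [cm_le]
    intro a ha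
    change b * ⁅h, a⁆ * b⁻¹ ∈ cm A h
    have e : b * ⁅h, a⁆ * b⁻¹ = ⁅h, b⁆⁻¹ * ⁅h, b * a⁆ := by
      simp only [commutatorElement_def]; group
    rw [e]
    exact mul_mem (inv_mem (mem_cm h hb)) (mem_cm h (mul_mem hb ha))
  exact this hl

theorem le_DD {A K : Subgroup G} {h : G} (hh : h ∈ K) : cm A h ⊓ centralizer (A : Set G) ≤ DD A K :=
  le_iSup₂_of_le (f := fun h (_ : h ∈ K) => cm A h ⊓ centralizer (A : Set G)) h hh le_rfl

theorem DD_le {A K L : Subgroup G} (H : ∀ h ∈ K, cm A h ⊓ centralizer (A : Set G) ≤ L) :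
    DD A K ≤ L := iSup₂_le H

theorem DD_mono {A K K' : Subgroup G} (h : K' ≤ K) : DD A K' ≤ DD A K :=
  DD_le fun _ hh => le_DD (h hh)

theorem comm_le {A K : Subgroup G} (h : A ≤ normalizer (K : Set G)) : ⁅K, A⁆ ≤ K := by
  rw [commutator_le]
  intro k hk a ha
  rw [commutatorElement_def, mul_assoc, mul_assoc, ← mul_assoc a]
  exact mul_mem hk ((mem_normalizer_iff.1 (h ha) _).1 (inv_mem hk))

theorem norm_comm (A K : Subgroup G) : K ≤ normalizer ((⁅K, A⁆ : Subgroup G) : Set G) := by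
  refine le_norm_of fun b hb l hl => ?_
  have : ⁅K, A⁆ ≤ (⁅K, A⁆ : Subgroup G).comap (MulAut.conj b).toMonoidHom := by
    rw [commutator_le]
    intro k hk a ha
    change b * ⁅k, a⁆ * b⁻¹ ∈ ⁅K, A⁆
    have e : b * ⁅k, a⁆ * b⁻¹ = ⁅b * k, a⁆ * ⁅b, a⁆⁻¹ := by
      simp only [commutatorElement_def]; group
    rw [e]
    exact mul_mem (commutator_mem_commutator (mul_mem hb hk) ha)
      (inv_mem (commutator_mem_commutator hb ha))
  exact this hl

theorem cen_le_norm {A L : Subgroup G} (h : L ≤ centralizer (A : Set G)) :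
    A ≤ normalizer (L : Set G) :=
  le_norm_of fun a ha l hl => by
    rw [mem_centralizer_iff.1 (h hl) a ha]; simpa using hl

theorem norm_DD {A K : Subgroup G} :
    K ⊓ centralizer (A : Set G) ≤ normalizer (DD A K : Set G) := by
  refine le_norm_of fun c hc l hl => ?_
  have : DD A K ≤ (DD A K).comap (MulAut.conj c).toMonoidHom := by
    refine DD_le fun h hh d hd => ?_
    refine le_DD (h := c * h * c⁻¹) (mul_mem (mul_mem hc.1 hh) (inv_mem hc.1)) ⟨?_, ?_⟩
    · have h1 : cm A h ≤ (cm A (c * h * c⁻¹)).comap (MulAut.conj c).toMonoidHom := by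
        rw [cm_le]
        intro a ha
        change c * ⁅h, a⁆ * c⁻¹ ∈ cm A (c * h * c⁻¹)
        have h2 : a = c * a * c⁻¹ := by rw [← mem_centralizer_iff.1 hc.2 a ha]; group
        have e : c * ⁅h, a⁆ * c⁻¹ = ⁅c * h * c⁻¹, c * a * c⁻¹⁆ := by
          simp only [commutatorElement_def]; group
        rw [e, ← h2]
        exact mem_cm _ ha
      exact h1 hd.1
    · have h1 : c ∈ centralizer (A : Set G) := hc.2
      have h2 : d ∈ centralizer (A : Set G) := hd.2
      exact (centralizer (A : Set G)).mul_mem (mul_mem h1 h2) (inv_mem h1)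
  exact this hl

theorem normal_of {K A L : Subgroup G} (htop : K ⊔ A = ⊤) (hK : K ≤ normalizer (L : Set G))
    (hA : A ≤ normalizer (L : Set G)) : L.Normal := by
  rw [← normalizer_eq_top_iff, eq_top_iff, ← htop]
  exact sup_le hK hA

theorem norm_of_comm_le {K L : Subgroup G} (h : ⁅K, L⁆ ≤ L) : K ≤ normalizer (L : Set G) :=
  le_norm_of fun k hk l hl => by
    rw [CL.PG.conj_eq_commutator_mul]
    exact mul_mem (h (commutator_mem_commutator hk hl)) hl

/-- A central element of the derived subgroup lying in a Sylow subgroup lies in its derived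
subgroup. -/
theorem mem_comm_sylow [Finite G] {q : ℕ} [hq : Fact q.Prime] (S : Sylow q G) {z : G}
    (hz : z ∈ center G) (hc : z ∈ _root_.commutator G) (hS : z ∈ (S : Subgroup G)) :
    z ∈ ⁅(S : Subgroup G), (S : Subgroup G)⁆ := by
  have key : ∀ (k : ℕ) (g₀ : G), g₀⁻¹ * z ^ k * g₀ ∈ (S : Subgroup G) →
      g₀⁻¹ * z ^ k * g₀ = z ^ k := by
    intro k g _
    rw [mul_assoc, ← mem_center_iff.1 (pow_mem hz k) g]; group
  have h1 := MonoidHom.transfer_eq_pow (Abelianization.of (G := (S : Subgroup G))) z key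
  have h2 : MonoidHom.transfer (Abelianization.of (G := (S : Subgroup G))) z = 1 :=
    Abelianization.commutator_subset_ker _ hc
  rw [h2, eq_comm, ← MonoidHom.mem_ker, Abelianization.ker_of] at h1
  have h3 : z ^ (S : Subgroup G).index ∈ ⁅(S : Subgroup G), (S : Subgroup G)⁆ := by
    rw [← map_subtype_commutator]
    exact ⟨_, h1, rfl⟩
  obtain ⟨k, hk⟩ := S.isPGroup' ⟨z, hS⟩
  have hk' : z ^ q ^ k = 1 := congrArg Subtype.val hk
  exact CL.CS.mem_of_pow_mem_of_coprime
    ((hq.out.coprime_iff_not_dvd.2 S.not_dvd_index).symm.pow_right k) h3 (hk' ▸ one_mem _)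

theorem cen_le_der [Finite G] {K A : Subgroup G} [K.Normal] (hcop : (Nat.card A).Coprime (Nat.card K))
    (hKA : ⁅K, A⁆ = K) : K ⊓ centralizer (A : Set G) ≤ ⁅K, K⁆ := by
  let f := QuotientGroup.mk' ⁅K, K⁆
  haveI : IsMulCommutative (K.map f) := by
    refine ⟨⟨?_⟩⟩
    rintro ⟨_, a, ha, rfl⟩ ⟨_, b, hb, rfl⟩
    apply Subtype.ext
    change f a * f b = f b * f a
    rw [← commutatorElement_eq_one_iff_mul_comm, ← map_commutatorElement]
    exact (QuotientGroup.eq_one_iff _).2 (commutator_mem_commutator ha hb)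
  have h := (Cfsg.Agent.S0055.result (A.map f) (K.map f)
    (CL.map_le_normalizer_map f le_normalizer_of_normal)
    ((hcop.coprime_dvd_left (card_map_dvd A f)).coprime_dvd_right (card_map_dvd K f))).1
  rw [← map_commutator, hKA] at h
  intro c hc
  have : f c ∈ (K.map f ⊓ centralizer ((A.map f : Subgroup _) : Set _)) ⊓ K.map f := by
    refine ⟨⟨mem_map_of_mem f hc.1, ?_⟩, mem_map_of_mem f hc.1⟩
    rintro _ ⟨a, ha, rfl⟩
    rw [← map_mul, ← map_mul, mem_centralizer_iff.1 hc.2 a ha]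
  rw [h, mem_bot] at this
  exact (QuotientGroup.eq_one_iff _).1 this

end Basic

/-- The data of a minimal counterexample. -/
structure Cex {G : Type*} [Group G] (p q : ℕ) (K A E : Subgroup G) : Prop where
  hp : p.Prime
  hp2 : p ≠ 2
  hq : q.Prime
  hA : Nat.card A = p
  hcop : (Nat.card A).Coprime (Nat.card K)
  hs : Group.IsSolvable K
  htop : K ⊔ A = ⊤
  hKA : ⁅K, A⁆ = K
  hE : E ≤ centralizer (A : Set G)
  hEc : ∀ c ∈ K ⊓ centralizer (A : Set G), ∀ d ∈ K ⊓ centralizer (A : Set G), ⁅c, d⁆ ∈ E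
  hEq : ∀ c ∈ K ⊓ centralizer (A : Set G), c ^ q ∈ E
  hK : K ≠ ⊥
  h2 : ∀ N : Subgroup G, N.Normal → N ≤ K → N ≠ ⊥ → N ⊓ centralizer (A : Set G) ≤ E → False
  h3 : ∀ K' < K, A ≤ normalizer (K' : Set G) → ⁅K', A⁆ ⊓ centralizer (A : Set G) ≤ E
  h4 : ∀ h ∈ K, cm A h ⊓ centralizer (A : Set G) ≤ E

namespace Cex

variable {G : Type*} [Group G] [Finite G] {p q : ℕ} {K A E : Subgroup G} [K.Normal]
  (X : Cex p q K A E)
include X

omit [Finite G] [K.Normal] in
theorem cop {U : Subgroup G} (h : U ≤ K) : (Nat.card A).Coprime (Nat.card U) :=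
  X.hcop.coprime_dvd_right (card_dvd_of_le h)

omit [Finite G] [K.Normal] in
theorem sol {U : Subgroup G} (h : U ≤ K) : Group.IsSolvable A ∨ Group.IsSolvable U :=
  Or.inr (CL.isSolvable_of_le h X.hs)

omit [Finite G] [K.Normal] in
theorem L_cen {U : Subgroup G} (hU : U < K) (hA : A ≤ normalizer (U : Set G)) :
    (⁅U, A⁆ ⊔ E ⊓ U) ⊓ centralizer (A : Set G) ≤ E := by
  rintro g ⟨hg, hgc⟩
  obtain ⟨s, hs, e, he, rfl⟩ := (CL.mem_sup_of_le_normalizer'
    (inf_le_right.trans (norm_comm A U))).1 hg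
  exact mul_mem (X.h3 U hU hA ⟨hs, (mul_mem_cancel_right (X.hE he.1)).1 hgc⟩) he.1

omit [K.Normal] in
theorem L_der {U : Subgroup G} (hU : U ≤ K) (hA : A ≤ normalizer (U : Set G)) :
    ⁅U, U⁆ ≤ ⁅U, A⁆ ⊔ E ⊓ U := by
  rw [commutator_le]
  intro k hk k' hk'
  obtain ⟨s, hs, c, hc, rfl⟩ := CL.coprime_exists_commutator_mul_centralizer A U hA (X.cop hU)
    (X.sol hU) k hk
  obtain ⟨s', hs', c', hc', rfl⟩ := CL.coprime_exists_commutator_mul_centralizer A U hA (X.cop hU)
    (X.sol hU) k' hk'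
  have hn : ∀ g ∈ U, ∀ t ∈ (⁅U, A⁆ : Subgroup G), g * t * g⁻¹ ∈ (⁅U, A⁆ : Subgroup G) :=
    fun g hg t ht => (mem_normalizer_iff.1 (norm_comm A U hg) t).1 ht
  have hcc : ⁅c, c'⁆ ∈ U := by
    rw [commutatorElement_def]
    exact mul_mem (mul_mem (mul_mem hc.1 hc'.1) (inv_mem hc.1)) (inv_mem hc'.1)
  have e : ⁅s * c, s' * c'⁆ = (s * (c * s' * c⁻¹) * ((c * c' * c⁻¹) * s⁻¹ * (c * c' * c⁻¹)⁻¹) *
      (⁅c, c'⁆ * s'⁻¹ * ⁅c, c'⁆⁻¹)) * ⁅c, c'⁆ := by
    simp only [commutatorElement_def]; group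
  rw [e]
  refine mul_mem (mem_sup_left ?_) (mem_sup_right ⟨X.hEc c ⟨hU hc.1, hc.2⟩ c' ⟨hU hc'.1, hc'.2⟩, hcc⟩)
  exact mul_mem (mul_mem (mul_mem hs (hn c hc.1 _ hs'))
    (hn _ (mul_mem (mul_mem hc.1 hc'.1) (inv_mem hc.1)) _ (inv_mem hs))) (hn _ hcc _ (inv_mem hs'))

omit [Finite G] [K.Normal] in
theorem L_norm {U : Subgroup G} (hA : A ≤ normalizer (U : Set G)) :
    A ≤ normalizer ((⁅U, A⁆ ⊔ E ⊓ U : Subgroup G) : Set G) :=
  CL.le_normalizer_sup (CL.le_normalizer_commutator hA le_normalizer)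
    (cen_le_norm (inf_le_left.trans X.hE))

omit [K.Normal] in
theorem L_inf {U W : Subgroup G} (hU : U < K) (hA : A ≤ normalizer (U : Set G))
    (hW : W ≤ K) (hAW : A ≤ normalizer (W : Set G)) :
    (⁅U, A⁆ ⊔ E ⊓ U) ⊓ W ≤ ⁅W, A⁆ ⊔ E ⊓ W := by
  have h := CL.coprime_commutator_sup_centralizer A ((⁅U, A⁆ ⊔ E ⊓ U) ⊓ W)
    (CL.le_normalizer_inf (X.L_norm hA) hAW) (X.cop (inf_le_right.trans hW))
    (X.sol (inf_le_right.trans hW))
  rw [← h]
  refine sup_le_sup (commutator_mono inf_le_right le_rfl) ?_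
  exact fun g hg => ⟨X.L_cen hU hA ⟨hg.1.1, hg.2⟩, hg.1.2⟩

omit [Finite G] [K.Normal] in
theorem eq_bot_of_ne {r : ℕ} [hr : Fact r.Prime] (hrq : r ≠ q) {N : Subgroup G} (hN : N.Normal)
    (hNK : N ≤ K) (hp : IsPGroup r N) : N = ⊥ := by
  by_contra hne
  refine X.h2 N hN hNK hne fun c hc => ?_
  obtain ⟨k, hk⟩ := hp ⟨c, hc.1⟩
  have hk' : c ^ r ^ k = 1 := congrArg Subtype.val hk
  exact CL.CS.mem_of_pow_mem_of_coprime
    (((Nat.coprime_primes X.hq hr.out).2 hrq.symm).pow_right k) (X.hEq c ⟨hNK hc.1, hc.2⟩)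
    (hk' ▸ one_mem _)

omit [Finite G] [K.Normal] in
/-- The elements acting trivially modulo an invariant subgroup containing `[K, K]`. -/
theorem mem_of_cm_le {M : Subgroup G} (hM : M < K) (hder : ⁅K, K⁆ ≤ M)
    (hAM : A ≤ normalizer (M : Set G))
    (hmax : ∀ L, M ≤ L → L < K → A ≤ normalizer (L : Set G) → L ≤ M) {h : G} (hh : h ∈ K)
    (hc : cm A h ≤ M) : h ∈ M := by
  have hKM : K ≤ normalizer (M : Set G) :=
    norm_of_comm_le ((commutator_mono le_rfl hM.le).trans hder)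
  let F : Subgroup G :=
    { carrier := {g | g ∈ K ∧ ∀ a ∈ A, ⁅g, a⁆ ∈ M}
      one_mem' := ⟨one_mem _, fun a _ => by simp⟩
      mul_mem' := fun {g g'} hg hg' => ⟨mul_mem hg.1 hg'.1, fun a ha => by
        rw [commutatorElement_mul_left_eq_conj_mul]
        exact mul_mem ((mem_normalizer_iff.1 (hKM hg.1) _).1 (hg'.2 a ha)) (hg.2 a ha)⟩
      inv_mem' := fun {g} hg => ⟨inv_mem hg.1, fun a ha => by
        have e : ⁅g⁻¹, a⁆ = g⁻¹ * ⁅g, a⁆⁻¹ * g⁻¹⁻¹ := by simp only [commutatorElement_def]; group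
        rw [e]
        exact (mem_normalizer_iff.1 (hKM (inv_mem hg.1)) _).1 (inv_mem (hg.2 a ha))⟩ }
  have hMF : M ≤ F := fun m hm => ⟨hM.le hm, fun a ha =>
    comm_le hAM (commutator_mem_commutator hm ha)⟩
  refine hmax F hMF (lt_of_le_of_ne (fun g hg => hg.1) fun e => ?_) ?_ ⟨hh, cm_le.1 hc⟩
  · refine hM.not_ge ?_
    rw [← X.hKA, commutator_le]
    intro g hg a ha
    exact (show g ∈ F from e ▸ hg).2 a ha
  · refine norm_of_comm_le ?_
    rw [commutator_comm, commutator_le]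
    exact fun g hg a ha => hMF (hg.2 a ha)

theorem caseA {N : Subgroup G} (hN : CL.IsMinNormal N) (hNK : N ≤ K)
    (hc : ¬ K ≤ centralizer (N : Set G)) : False := by
  haveI := hN.normal
  haveI : Fact q.Prime := ⟨X.hq⟩
  haveI : Fact p.Prime := ⟨X.hp⟩
  have hAK : A ≤ normalizer (K : Set G) := le_normalizer_of_normal
  have hAN : A ≤ normalizer (N : Set G) := le_normalizer_of_normal
  have hNs : Group.IsSolvable N := CL.isSolvable_of_le hNK X.hs
  haveI hNc := hN.isMulCommutative_of_isSolvable hNs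
  have hNN : N ≤ centralizer (N : Set G) := le_centralizer N
  have hNq : IsPGroup q N := by
    obtain ⟨r, hr, h⟩ := hN.exists_isPGroup_of_isSolvable hNs
    haveI : Fact r.Prime := ⟨hr⟩
    by_contra hne
    exact hN.ne_bot (X.eq_bot_of_ne (r := r) (fun e => hne (e ▸ h)) hN.normal hNK h)
  have hNlt : N < K := lt_of_le_of_ne hNK fun e => hc (e ▸ hNN)
  set N₀ := ⁅N, A⁆ ⊔ E ⊓ N with hN₀
  have hN₀lt : ¬ N ≤ N₀ := fun h => X.h2 N hN.normal hNK hN.ne_bot fun g hg =>
    X.L_cen hNlt hAN ⟨h hg.1, hg.2⟩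
  have hT : ∀ U, N ≤ U → U < K → A ≤ normalizer (U : Set G) → ⁅U, N⁆ ≤ N₀ := by
    intro U hNU hU hAU
    refine le_trans (le_inf ?_ (commutator_le_right _ _)) (X.L_inf hU hAU hNK hAN)
    exact (commutator_mono le_rfl hNU).trans (X.L_der hU.le hAU)
  have hcen : ∀ J : Subgroup G, J.Normal → ⁅J, N⁆ ≤ N₀ → J ≤ centralizer (N : Set G) := by
    intro J hJ h
    rw [← commutator_eq_bot_iff_le_centralizer]
    rcases hN.eq_bot_or_eq ⁅J, N⁆ inferInstance (commutator_le_right _ _) with e | e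
    · exact e
    · exact absurd (e ▸ h) hN₀lt
  have hnc : ∀ U : Subgroup G, U ≤ N → U ≤ centralizer (K : Set G) →
      A ≤ normalizer (U : Set G) → U = ⊥ := by
    intro U hUN hU hAU
    rcases hN.eq_bot_or_eq U (normal_of X.htop (cen_le_norm hU) hAU) hUN with e | e
    · exact e
    · exact absurd (le_centralizer_iff.1 (e ▸ hU)) hc
  set Cn := K ⊓ centralizer (N : Set G) with hCn
  haveI hCnn : Cn.Normal := inferInstance
  have hCnlt : Cn < K := lt_of_le_of_ne inf_le_left fun e => hc (inf_eq_left.1 e)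
  have hNCn : N ≤ Cn := le_inf hNK hNN
  have hder : ⁅K, K⁆ ≤ Cn := by
    refine le_inf (commutator_le_left _ _) ?_
    by_cases hlt : ⁅K, K⁆ ⊔ N < K
    · exact le_sup_left.trans (hcen _ inferInstance (hT _ le_sup_right hlt le_normalizer_of_normal))
    · exfalso
      have he : ⁅K, K⁆ ⊔ N = K :=
        eq_of_le_of_not_lt (sup_le (commutator_le_left _ _) hNK) hlt
      let f := QuotientGroup.mk' N
      haveI := X.hs
      haveI := CL.isSolvable_map K f
      have h1 : ⁅K.map f, K.map f⁆ = K.map f := by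
        rw [← map_commutator]
        conv_rhs => rw [← he, Subgroup.map_sup, QuotientGroup.map_mk'_self, sup_bot_eq]
      have h2 : K.map f = ⊥ := by
        by_contra hne
        haveI := (Subgroup.nontrivial_iff_ne_bot _).2 hne
        have h3 := Group.IsSolvable.commutator_lt_top_of_nontrivial (K.map f)
        apply h3.ne
        apply Subgroup.map_injective (K.map f).subtype_injective
        rw [map_subtype_commutator, h1, ← MonoidHom.range_eq_map, range_subtype]
      rw [Subgroup.map_eq_bot_iff, QuotientGroup.ker_mk'] at h2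
      exact hNlt.not_ge h2
  have hover : ∀ L, Cn ≤ L → L < K → A ≤ normalizer (L : Set G) → L ≤ Cn := by
    intro L hL hLK hAL
    have hLn : L.Normal := normal_of X.htop
      (norm_of_comm_le (((commutator_mono le_rfl hLK.le).trans hder).trans hL)) hAL
    exact le_inf hLK.le (hcen L hLn (hT L (hNCn.trans hL) hLK hAL))
  obtain ⟨r, hr, R, hRK, hRp, hAR, hRn⟩ : ∃ r : ℕ, r.Prime ∧ ∃ R : Subgroup G, R ≤ K ∧
      IsPGroup r R ∧ A ≤ normalizer (R : Set G) ∧ ¬ R ≤ Cn := by
    by_contra hcon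
    refine hCnlt.not_ge (CL.le_of_exists_sylow_le fun r hr => ?_)
    obtain ⟨P, hP⟩ := CL.coprime_exists_invariant_sylow A K hAK X.hcop (X.sol le_rfl) r
    refine ⟨P, ?_⟩
    by_contra hn
    exact hcon ⟨r, hr.out, _, map_subtype_le _, P.isPGroup'.map _, hP, hn⟩
  haveI : Fact r.Prime := ⟨hr⟩
  have hCR : Cn ⊔ R = K := by
    refine eq_of_le_of_not_lt (sup_le hCnlt.le hRK) fun hlt => hRn ?_
    exact le_sup_right.trans
      (hover _ le_sup_left hlt (CL.le_normalizer_sup le_normalizer_of_normal hAR))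
  have hNR0 : N ⊓ centralizer (R : Set G) = ⊥ := by
    refine hnc _ inf_le_left ?_ (CL.le_normalizer_inf hAN (CL.le_normalizer_centralizer hAR))
    rw [le_centralizer_iff, ← hCR]
    exact sup_le (inf_le_right.trans (centralizer_le inf_le_left))
      (le_centralizer_iff.1 inf_le_right)
  have hrq : r ≠ q := by
    rintro rfl
    exact CL.inf_centralizer_ne_bot_of_isPGroup hNq hRp le_normalizer_of_normal hN.ne_bot hNR0
  have hNR : N ⊔ R = K := by
    refine eq_of_le_of_not_lt (sup_le hNK hRK) fun hlt => hc (hcen K inferInstance ?_)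
    have h1 := hT _ le_sup_left hlt (CL.le_normalizer_sup hAN hAR)
    rw [commutator_le]
    intro k hk n hn
    rw [← hCR] at hk
    obtain ⟨c, hc, s, hs, rfl⟩ := mem_sup_of_normal_left.1 hk
    have h2 : ⁅s, n⁆ ∈ N₀ := h1 (commutator_mem_commutator (mem_sup_right hs) hn)
    have h3 : ⁅s, n⁆ ∈ N := commutator_le_right K N (commutator_mem_commutator (hRK hs) hn)
    have h4 := mem_centralizer_iff.1 hc.2
    rw [commutatorElement_mul_left_eq_conj_mul, ← h4 _ h3,
      commutatorElement_eq_one_iff_mul_comm.2 (h4 n hn).symm]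
    simpa using h2
  have hRN0 : R ⊓ centralizer (N : Set G) = ⊥ := by
    refine X.eq_bot_of_ne hrq (normal_of X.htop ?_ ?_) (inf_le_left.trans hRK) hRp.to_inf_left
    · rw [← hNR]
      exact sup_le (cen_le_norm inf_le_right)
        (CL.le_normalizer_inf le_normalizer le_normalizer_of_normal)
    · exact CL.le_normalizer_inf hAR le_normalizer_of_normal
  have hCnN : Cn = N := by
    refine le_antisymm (fun c hc => ?_) hNCn
    obtain ⟨n, hn, s, hs, rfl⟩ := mem_sup_of_normal_left.1 (hNR ▸ hc.1 : c ∈ N ⊔ R)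
    have h1 : s ∈ R ⊓ centralizer (N : Set G) :=
      ⟨hs, (mul_mem_cancel_left (hNN hn)).1 hc.2⟩
    rw [hRN0, mem_bot] at h1
    rw [h1, mul_one]; exact hn
  rw [hCnN] at hder hover hRn
  have hcopNR : (Nat.card N).Coprime (Nat.card R) :=
    IsPGroup.coprime_card_of_ne q r hrq.symm _ _ hNq hRp
  have hNiR : N ⊓ R = ⊥ := (disjoint_of_coprime_natCard hcopNR).eq_bot
  have hgen : ∀ e ∈ A, e ≠ 1 → zpowers e = A := by
    intro e he he1
    refine eq_of_le_of_card_ge (zpowers_le.2 he) ?_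
    have h1 : Nat.card (zpowers e) ∣ p := X.hA ▸ card_dvd_of_le (zpowers_le.2 he)
    rcases (Nat.dvd_prime X.hp).1 h1 with h | h
    · exact absurd (zpowers_eq_bot.1 (eq_bot_of_card_eq _ h)) he1
    · rw [h, X.hA]
  have hreg : ∀ x ∈ A, x ≠ 1 → R ⊓ centralizer {x} = ⊥ := by
    intro x hx hx1
    rw [eq_bot_iff, ← hNiR]
    refine fun u hu => ⟨X.mem_of_cm_le hNlt hder hAN hover (hRK hu.1) (cm_le.2 fun a ha => ?_), hu.1⟩
    have h1 : u ∈ centralizer (A : Set G) := by
      rw [← hgen x hx hx1, CL.CS.cen_zpowers]; exact hu.2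
    rw [commutatorElement_eq_one_iff_mul_comm.2 (mem_centralizer_iff.1 h1 a ha).symm]
    exact one_mem _
  have hW := CL.BG3.wielandt_frobenius (K := R) (R := A) (M := N) hAR hreg le_normalizer_of_normal
    hAN hNs hcopNR (X.cop hNK).symm
  have h0 : N ⊓ centralizer ((R ⊔ A : Subgroup G) : Set G) = ⊥ := by
    rw [eq_bot_iff, ← hNR0]
    exact inf_le_inf_left _ (centralizer_le (show R ≤ R ⊔ A from le_sup_left))
  rw [h0, hNR0, card_bot, one_pow, one_mul, mul_one, X.hA] at hW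
  obtain ⟨k, hkR, hkN⟩ := SetLike.not_le_iff_exists.1 hRn
  have hdec : ∀ n ∈ N, ∃ c ∈ N ⊓ centralizer (A : Set G), ∃ d ∈ N ⊓ centralizer (A : Set G),
      n = c * (k * d * k⁻¹) := by
    intro n hn
    have hh : n * k ∈ K := mul_mem (hNK hn) (hRK hkR)
    have hJK : cm A (n * k) ≤ K := (cm_le_comm hh).trans (comm_le hAK)
    have hJ : N ⊔ cm A (n * k) = K := by
      refine eq_of_le_of_not_lt (sup_le hNK hJK) fun hlt => hkN ?_
      have h1 := hover _ le_sup_left hlt (CL.le_normalizer_sup hAN (norm_cm _ _))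
      exact (mul_mem_cancel_left hn).1
        (X.mem_of_cm_le hNlt hder hAN hover hh (le_sup_right.trans h1))
    have hJN : N ⊓ cm A (n * k) = ⊥ := by
      have h1 : (N ⊓ cm A (n * k)).Normal := by
        refine normal_of X.htop ?_ (CL.le_normalizer_inf hAN (norm_cm _ _))
        conv_lhs => rw [← hJ]
        exact sup_le (cen_le_norm (inf_le_left.trans hNN))
          (CL.le_normalizer_inf le_normalizer_of_normal le_normalizer)
      rcases hN.eq_bot_or_eq _ h1 inf_le_left with e | e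
      · exact e
      · exact (X.h2 N hN.normal hNK hN.ne_bot fun g hg =>
          X.h4 _ hh ⟨(inf_eq_left.1 e) hg.1, hg.2⟩).elim
    have hcard : Nat.card (cm A (n * k)) = Nat.card R := by
      have h1 := CL.card_sup_of_disjoint (H := cm A (n * k)) (K := N) le_normalizer_of_normal
        (by rw [inf_comm]; exact hJN)
      have h2 := CL.card_sup_of_disjoint (H := R) (K := N) le_normalizer_of_normal
        (by rw [inf_comm]; exact hNiR)
      rw [sup_comm, hJ] at h1
      rw [sup_comm, hNR, h1] at h2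
      exact Nat.eq_of_mul_eq_mul_right Nat.card_pos h2
    obtain ⟨g, hg, hgJ⟩ := CL.coprime_conj_of_sup_eq N R (cm A (n * k)) le_normalizer_of_normal
      hcopNR.symm (hcard ▸ hcopNR.symm) (hNR.trans hJ.symm) (Or.inr hNs)
    obtain ⟨c, hc, hcJ⟩ := CL.coprime_invariant_conj_trans A N hAN (X.cop hNK) (X.sol hNK) R hAR
      g hg (hgJ ▸ norm_cm _ _)
    rw [hgJ] at hcJ
    refine ⟨c, hc, k⁻¹ * (c⁻¹ * n) * k, ⟨?_, ?_⟩, by group⟩
    · simpa using hN.normal.conj_mem _ (mul_mem (inv_mem hc.1) hn) k⁻¹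
    · refine mem_centralizer_iff.2 fun a ha => ?_
      have h1 : ⁅n * k, a⁆ ∈ MulAut.conj c • R := hcJ ▸ mem_cm _ ha
      rw [mem_pointwise_smul_iff_inv_smul_mem] at h1
      have hca := mem_centralizer_iff.1 hc.2 a ha
      have h2 : c⁻¹ * ⁅n * k, a⁆ * c * ⁅k, a⁆⁻¹ ∈ R :=
        mul_mem (by rw [← map_inv] at h1; simpa only [MulAut.smul_def, MulAut.conj_apply, inv_inv] using h1) (inv_mem (comm_le hAR (commutator_mem_commutator hkR ha)))
      have e : c⁻¹ * ⁅n * k, a⁆ * c * ⁅k, a⁆⁻¹ = ⁅c⁻¹ * n, k * a * k⁻¹⁆ := by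
        have : a⁻¹ * c = c * a⁻¹ := by
          rw [inv_mul_eq_iff_eq_mul, ← mul_assoc, hca]; group
        calc c⁻¹ * ⁅n * k, a⁆ * c * ⁅k, a⁆⁻¹
            = c⁻¹ * n * k * a * k⁻¹ * n⁻¹ * (a⁻¹ * c) * a * k * a⁻¹ * k⁻¹ := by
              simp only [commutatorElement_def]; group
          _ = _ := by rw [this]; simp only [commutatorElement_def]; group
      rw [e] at h2
      have h3 : ⁅c⁻¹ * n, k * a * k⁻¹⁆ ∈ N ⊓ R := ⟨commutator_le_left N ⊤
        (commutator_mem_commutator (mul_mem (inv_mem hc.1) hn) (mem_top _)), h2⟩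
      rw [hNiR, mem_bot, commutatorElement_eq_one_iff_mul_comm] at h3
      calc a * (k⁻¹ * (c⁻¹ * n) * k) = k⁻¹ * (k * a * k⁻¹ * (c⁻¹ * n)) * k := by group
        _ = _ := by rw [← h3]; group
  set C := N ⊓ centralizer (A : Set G) with hC
  have hle : Nat.card N ≤ Nat.card C * Nat.card C := by
    rw [← Nat.card_prod]
    refine Nat.card_le_card_of_surjective (fun x : C × C => (⟨x.1 * (k * x.2 * k⁻¹),
      mul_mem x.1.2.1 (hN.normal.conj_mem _ x.2.2.1 k)⟩ : N)) ?_
    intro n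
    obtain ⟨c, hc, d, hd, e⟩ := hdec n n.2
    exact ⟨(⟨c, hc⟩, ⟨d, hd⟩), Subtype.ext e.symm⟩
  have h3 : 3 ≤ p := by have := X.hp.two_le; have := X.hp2; omega
  have hN1 : 1 < Nat.card N := one_lt_card_iff_ne_bot _ |>.2 hN.ne_bot
  have hC1 : 1 < Nat.card C := by
    by_contra h
    have : Nat.card C = 1 := by have := Nat.card_pos (α := C); omega
    rw [this] at hle; omega
  rw [hW, ← pow_two] at hle
  have := (Nat.pow_le_pow_iff_right hC1).1 hle
  omega

theorem caseB2 (hKq : IsPGroup q K) : False := by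
  haveI : Fact q.Prime := ⟨X.hq⟩
  have hAK : A ≤ normalizer (K : Set G) := le_normalizer_of_normal
  have hnil : Group.IsNilpotent K := hKq.isNilpotent
  have hdlt : ⁅K, K⁆ < K := CL.commutator_lt_of_isNilpotent hnil le_rfl le_rfl le_normalizer X.hK
  have hAd : A ≤ normalizer ((⁅K, K⁆ : Subgroup G) : Set G) := le_normalizer_of_normal
  have hCd := cen_le_der X.hcop X.hKA
  set L := ⁅⁅K, K⁆, A⁆ ⊔ E ⊓ ⁅K, K⁆ with hL
  have hLn : ∀ M, ⁅K, K⁆ ≤ M → M < K → A ≤ normalizer (M : Set G) →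
      M ≤ normalizer (L : Set G) := by
    intro M h1 h2 h3
    refine norm_of_comm_le (le_trans (le_inf ?_ ?_) (X.L_inf h2 h3 hdlt.le hAd))
    · refine le_trans (commutator_mono le_rfl ?_) (X.L_der h2.le h3)
      exact sup_le ((comm_le hAd).trans h1) (inf_le_right.trans h1)
    · exact commutator_mono h2.le (sup_le ((comm_le hAd).trans hdlt.le) (inf_le_right.trans hdlt.le))
  by_cases hKL : K ≤ normalizer (L : Set G)
  · have hL0 : L = ⊥ := by
      by_contra hne
      exact X.h2 L (normal_of X.htop hKL (X.L_norm hAd))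
        (sup_le ((comm_le hAd).trans hdlt.le) (inf_le_right.trans hdlt.le)) hne (X.L_cen hdlt hAd)
    have hdA : ⁅K, K⁆ ≤ centralizer (A : Set G) := by
      rw [← commutator_eq_bot_iff_le_centralizer, eq_bot_iff, ← hL0]; exact le_sup_left
    have hdK : K ≤ centralizer ((⁅K, K⁆ : Subgroup G) : Set G) := by
      conv_lhs => rw [← X.hKA]
      exact (commutator_mono le_top (le_centralizer_iff.1 hdA)).trans (commutator_le_right _ _)
    have hz : ∀ u ∈ K, ∀ w ∈ K, ∀ g ∈ K ⊔ A, Commute g ⁅u, w⁆ := by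
      intro u hu w hw g hg
      have : K ⊔ A ≤ centralizer ((⁅K, K⁆ : Subgroup G) : Set G) :=
        sup_le hdK (le_centralizer_iff.1 hdA)
      exact (mem_centralizer_iff.1 (this hg) _ (commutator_mem_commutator hu hw)).symm
    rw [X.htop] at hz
    have hcj : ∀ a : G, ∀ w ∈ K, a * w * a⁻¹ ∈ K := fun a w hw => Normal.conj_mem inferInstance w hw a
    have hml : ∀ u ∈ K, ∀ v ∈ K, ∀ w ∈ K, ⁅u * v, w⁆ = ⁅u, w⁆ * ⁅v, w⁆ := by
      intro u hu v hv w hw
      rw [CL.PG.commutator_mul_left_of_commute (hz v hv w hw u (mem_top _)),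
        (hz v hv w hw _ (mem_top _)).eq]
    have hmr : ∀ u ∈ K, ∀ v ∈ K, ∀ w ∈ K, ⁅u, v * w⁆ = ⁅u, v⁆ * ⁅u, w⁆ := fun u hu v hv w hw =>
      CL.PG.commutator_mul_right_of_commute (hz u hu w hw v (mem_top _))
    have hinv : ∀ a : G, ∀ u ∈ K, ∀ w ∈ K, ⁅a * u * a⁻¹, a * w * a⁻¹⁆ = ⁅u, w⁆ := by
      intro a u hu w hw
      rw [← conjugate_commutatorElement, (hz u hu w hw a (mem_top _)).eq]; group
    -- every element commutes with its conjugates under `A`
    have hself : ∀ a ∈ A, a ≠ 1 → ∀ g ∈ K, ⁅g, a * g * a⁻¹⁆ = 1 := by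
      intro a ha ha1 g hg
      have hgen : zpowers a = A := by
        refine eq_of_le_of_card_ge (zpowers_le.2 ha) ?_
        have h1 : Nat.card (zpowers a) ∣ p := X.hA ▸ card_dvd_of_le (zpowers_le.2 ha)
        rcases (Nat.dvd_prime X.hp).1 h1 with h | h
        · exact absurd (zpowers_eq_bot.1 (eq_bot_of_card_eq _ h)) ha1
        · rw [h, X.hA]
      let f := QuotientGroup.mk' ⁅K, K⁆
      have hf : ∀ h ∈ K, ∀ u ∈ K, f (h * u * h⁻¹) = f u := by
        intro h hh u hu
        rw [CL.PG.conj_eq_commutator_mul, map_mul,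
          show f ⁅h, u⁆ = 1 from (QuotientGroup.eq_one_iff _).2 (commutator_mem_commutator hh hu),
          one_mul]
      have hca : ∀ h ∈ K, ⁅h, a⁆ ∈ K := fun h hh => comm_le hAK (commutator_mem_commutator hh ha)
      let V : Subgroup G :=
        { carrier := {g | ∃ h ∈ K, f g = f ⁅h, a⁆}
          one_mem' := ⟨1, one_mem _, by simp⟩
          mul_mem' := by
            rintro g g' ⟨h, hh, e⟩ ⟨h', hh', e'⟩
            refine ⟨h' * h, mul_mem hh' hh, ?_⟩
            rw [commutatorElement_mul_left_eq_conj_mul, map_mul, map_mul f _ ⁅h', a⁆, e, e',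
              hf h' hh' _ (hca h hh)]
          inv_mem' := by
            rintro g ⟨h, hh, e⟩
            refine ⟨h⁻¹, inv_mem hh, ?_⟩
            have e1 : ⁅h⁻¹, a⁆ = h⁻¹ * ⁅h, a⁆⁻¹ * h⁻¹⁻¹ := by
              simp only [commutatorElement_def]; group
            rw [e1, hf _ (inv_mem hh) _ (inv_mem (hca h hh)), map_inv, map_inv, e] }
      have hV : K ≤ V := by
        rw [← X.hKA, commutator_le]
        intro h hh b hb
        rw [← hgen, ← mem_powers_iff_mem_zpowers] at hb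
        obtain ⟨i, rfl⟩ := hb
        induction i with
        | zero => simp
        | succ i ih =>
          have e : ⁅h, a ^ (i + 1)⁆ = ⁅h, a ^ i⁆ * ⁅a ^ i * h * (a ^ i)⁻¹, a⁆ := by
            simp only [commutatorElement_def]; group
          change ⁅h, a ^ (i + 1)⁆ ∈ V
          rw [e]
          exact mul_mem ih ⟨_, hcj _ h hh, rfl⟩
      obtain ⟨h, hh, e⟩ := hV hg
      obtain ⟨n, hn, rfl⟩ := (QuotientGroup.mk'_eq_mk' _).1 e.symm
      have hnK : n ∈ K := hdlt.le hn
      have hn1 : ∀ u ∈ K, ∀ m ∈ (⁅K, K⁆ : Subgroup G), ⁅u, m⁆ = 1 := fun u hu m hm =>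
        commutatorElement_eq_one_iff_mul_comm.2 (mem_centralizer_iff.1 (hdK hu) m hm).symm
      have hn2 : ∀ u ∈ K, ∀ m ∈ (⁅K, K⁆ : Subgroup G), ⁅m, u⁆ = 1 := fun u hu m hm =>
        commutatorElement_eq_one_iff_mul_comm.2 (mem_centralizer_iff.1 (hdK hu) m hm)
      have e2 : a * (⁅h, a⁆ * n) * a⁻¹ = (a * ⁅h, a⁆ * a⁻¹) * (a * n * a⁻¹) := by group
      have hv := hca h hh
      rw [e2, hml _ hv _ hnK _ (mul_mem (hcj _ _ hv) (hcj _ _ hnK)),
        hn2 _ (mul_mem (hcj _ _ hv) (hcj _ _ hnK)) _ hn, mul_one,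
        hmr _ hv _ (hcj _ _ hv) _ (hcj _ _ hnK),
        hn1 _ hv _ (Normal.conj_mem inferInstance n hn a), mul_one, ← mem_bot (G := G), ← hL0]
      have h1 : ⁅⁅h, a⁆, a * ⁅h, a⁆ * a⁻¹⁆ ∈ ⁅K, K⁆ := commutator_mem_commutator hv (hcj _ _ hv)
      refine mem_sup_right ⟨X.h4 h hh ⟨?_, hdA h1⟩, h1⟩
      have h2 := mem_cm (A := A) h ha
      have h3 := (mem_normalizer_iff.1 (norm_cm A h ha) _).1 h2
      rw [commutatorElement_def ⁅h, a⁆]
      exact (cm A h).mul_mem (mul_mem (mul_mem h2 h3) (inv_mem h2)) (inv_mem h3)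
    have hsq : ∀ a ∈ A, ∀ u ∈ K, ∀ w ∈ K, ⁅u, a ^ 2 * w * (a ^ 2)⁻¹⁆ = ⁅u, w⁆ := by
      intro a ha u hu w hw
      by_cases ha1 : a = 1
      · simp [ha1]
      have key : ∀ w ∈ K, ⁅u, a * w * a⁻¹⁆ = ⁅a * u * a⁻¹, w⁆ := by
        intro w hw
        have h1 := hself a ha ha1 (u * w) (mul_mem hu hw)
        have e : a * (u * w) * a⁻¹ = (a * u * a⁻¹) * (a * w * a⁻¹) := by group
        rw [e, hml _ hu _ hw _ (mul_mem (hcj _ _ hu) (hcj _ _ hw)),
          hmr _ hu _ (hcj _ _ hu) _ (hcj _ _ hw), hmr _ hw _ (hcj _ _ hu) _ (hcj _ _ hw),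
          hself a ha ha1 u hu, hself a ha ha1 w hw, one_mul, mul_one, mul_eq_one_iff_eq_inv,
          commutatorElement_inv] at h1
        exact h1
      have e : a ^ 2 * w * (a ^ 2)⁻¹ = a * (a * w * a⁻¹) * a⁻¹ := by rw [pow_two]; group
      rw [e, key _ (hcj _ _ hw), hinv a u hu w hw]
    have hab : K ≤ centralizer (K : Set G) := by
      conv_lhs => rw [← X.hKA]
      rw [commutator_le]
      intro w hw b hb
      rw [mem_centralizer_iff]
      intro u hu
      obtain ⟨m, hm⟩ := X.hp.odd_of_ne_two X.hp2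
      have hbp : b ^ p = 1 := by
        have := pow_card_eq_one' (G := A) (x := ⟨b, hb⟩)
        rw [X.hA] at this
        exact congrArg Subtype.val this
      have hb2 : (b ^ (m + 1)) ^ 2 = b := by
        rw [← pow_mul, show (m + 1) * 2 = p + 1 by omega, pow_succ, hbp, one_mul]
      have h1 := hsq (b ^ (m + 1)) (pow_mem hb _) u hu w⁻¹ (inv_mem hw)
      rw [hb2] at h1
      rw [← commutatorElement_eq_one_iff_mul_comm,
        show ⁅w, b⁆ = w * (b * w⁻¹ * b⁻¹) by simp only [commutatorElement_def]; group,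
        hmr _ hu _ hw _ (hcj _ _ (inv_mem hw)), h1, ← hmr _ hu _ hw _ (inv_mem hw)]
      simp
    rw [commutator_eq_bot_iff_le_centralizer.2 hab] at hCd
    exact X.h2 K inferInstance le_rfl X.hK (hCd.trans bot_le)
  · set M := K ⊓ normalizer (L : Set G) with hM
    have hMlt : M < K := lt_of_le_of_ne inf_le_left fun e => hKL (inf_eq_left.1 e)
    have hmax : ∀ U, ⁅K, K⁆ ≤ U → U < K → A ≤ normalizer (U : Set G) → U ≤ M :=
      fun U h1 h2 h3 => le_inf h2.le (hLn U h1 h2 h3)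
    have hdM : ⁅K, K⁆ ≤ M := hmax _ le_rfl hdlt hAd
    have hAM : A ≤ normalizer (M : Set G) :=
      CL.le_normalizer_inf hAK (CL.le_normalizer_normalizer (X.L_norm hAd))
    obtain ⟨h, hh, hhM⟩ := SetLike.exists_of_lt hMlt
    have hJK : cm A h ≤ K := (cm_le_comm hh).trans (comm_le hAK)
    have hJ : ⁅K, K⁆ ⊔ cm A h = K := by
      refine eq_of_le_of_not_lt (sup_le hdlt.le hJK) fun hlt => hhM ?_
      exact X.mem_of_cm_le hMlt hdM hAM (fun U h1 => hmax U (hdM.trans h1)) hh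
        (le_sup_right.trans (hmax _ le_sup_left hlt (CL.le_normalizer_sup hAd (norm_cm _ _))))
    have hJ' : cm A h = K := by
      refine CL.eq_of_sup_eq_of_le_map_frattini (N := ⁅K, K⁆) hJK ?_ hJ.ge
      rw [← map_subtype_commutator]
      exact map_mono (CL.commutator_le_frattini_of_isNilpotent K)
    exact X.h2 K inferInstance le_rfl X.hK (hJ' ▸ X.h4 h hh)

theorem false : False := by
  haveI : Fact q.Prime := ⟨X.hq⟩
  have hAK : A ≤ normalizer (K : Set G) := le_normalizer_of_normal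
  obtain ⟨N, hN, hNK⟩ := CL.exists_isMinNormal_le K X.hK
  haveI := hN.normal
  by_cases hc : K ≤ centralizer (N : Set G)
  swap
  · exact X.caseA hN hNK hc
  obtain ⟨P, hP⟩ := CL.coprime_exists_invariant_sylow A K hAK X.hcop (X.sol le_rfl) q
  by_cases hS : (P : Subgroup K).map K.subtype = K
  · exact X.caseB2 (hS ▸ P.isPGroup'.map _)
  have hlt : (P : Subgroup K).map K.subtype < K := lt_of_le_of_ne (map_subtype_le _) hS
  have hNq : IsPGroup q N := by
    obtain ⟨r, hr, h⟩ := hN.exists_isPGroup_of_isSolvable (CL.isSolvable_of_le hNK X.hs)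
    haveI : Fact r.Prime := ⟨hr⟩
    by_contra hne
    exact hN.ne_bot (X.eq_bot_of_ne (r := r) (fun e => hne (e ▸ h)) hN.normal hNK h)
  have hNP := CL.le_map_sylow_of_le_normalizer hNK hNq le_normalizer_of_normal P
  refine X.h2 N hN.normal hNK hN.ne_bot fun z hz => X.L_cen hlt hP ⟨X.L_der hlt.le hP ?_, hz.2⟩
  have h1 := cen_le_der X.hcop X.hKA ⟨hNK hz.1, hz.2⟩
  rw [← map_commutator]
  refine ⟨⟨z, hNK hz.1⟩, mem_comm_sylow P ?_ ?_ ?_, rfl⟩
  · rw [mem_center_iff]
    intro g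
    exact Subtype.ext (mem_centralizer_iff.1 (hc g.2) z hz.1).symm
  · rw [← map_subtype_commutator] at h1
    obtain ⟨y, hy, e⟩ := h1
    rwa [← show y = ⟨z, hNK hz.1⟩ from Subtype.ext e]
  · obtain ⟨y, hy, e⟩ := hNP hz.1
    rwa [← show y = ⟨z, hNK hz.1⟩ from Subtype.ext e]

end Cex

theorem step {G : Type u} [Group G] [Finite G] {p : ℕ} (hp : p.Prime) (hp2 : p ≠ 2)
    {K A : Subgroup G} [K.Normal] (htop : K ⊔ A = ⊤) (hA : Nat.card A ∣ p)
    (hcop : (Nat.card K).Coprime p) (hs : Group.IsSolvable K)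
    (ih : ∀ (G' : Type u) [Group G'] [Finite G'] (K' A' : Subgroup G'), Nat.card K' < Nat.card K →
      A' ≤ normalizer (K' : Set G') → Nat.card A' ∣ p → (Nat.card K').Coprime p →
      Group.IsSolvable K' → ⁅K', A'⁆ ⊓ centralizer (A' : Set G') ≤ DD A' K') :
    ⁅K, A⁆ ⊓ centralizer (A : Set G) ≤ DD A K := by
  have hAK : A ≤ normalizer (K : Set G) := le_normalizer_of_normal
  have hcop' : (Nat.card A).Coprime (Nat.card K) := hcop.symm.coprime_dvd_left hA
  have h3 : ∀ K' < K, A ≤ normalizer (K' : Set G) →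
      ⁅K', A⁆ ⊓ centralizer (A : Set G) ≤ DD A K := fun K' h hn =>
    (ih G K' A (CL.card_lt_of_lt h) hn hA (hcop.coprime_dvd_left (card_dvd_of_le h.le))
      (CL.isSolvable_of_le h.le hs)).trans (DD_mono h.le)
  by_cases hKA : ⁅K, A⁆ = K
  swap
  · have := h3 _ (lt_of_le_of_ne (comm_le hAK) hKA) (CL.le_normalizer_commutator hAK le_normalizer)
    rwa [CL.coprime_commutator_commutator A K hAK hcop' (Or.inr hs)] at this
  rcases (Nat.dvd_prime hp).1 hA with h1 | h1
  · rw [eq_bot_of_card_eq _ h1, commutator_bot_right, bot_inf_eq]; exact bot_le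
  rw [hKA]
  by_contra hne
  set C := K ⊓ centralizer (A : Set G) with hC
  have hDC : DD A K ≤ C := DD_le fun h hh =>
    inf_le_inf_right _ ((cm_le_comm hh).trans (comm_le hAK))
  haveI := CL.normal_subgroupOf_of_le_normalizer (norm_DD (A := A) (K := K))
  haveI : Group.IsSolvable C := CL.isSolvable_of_le inf_le_left hs
  haveI : Nontrivial (C ⧸ (DD A K).subgroupOf C) := by
    rw [QuotientGroup.nontrivial_iff, Ne, subgroupOf_eq_top]; exact hne
  obtain ⟨M, hMn, hMp⟩ := CL.exists_normal_index_prime (C ⧸ (DD A K).subgroupOf C)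
  set E' := M.comap (QuotientGroup.mk' ((DD A K).subgroupOf C)) with hE'
  have hE'i : E'.index = M.index := index_comap_of_surjective _ (QuotientGroup.mk'_surjective _)
  have hDE : DD A K ≤ E'.map C.subtype := fun d hd => ⟨⟨d, hDC hd⟩, by
    rw [hE', SetLike.mem_coe, mem_comap,
      show QuotientGroup.mk' _ (⟨d, hDC hd⟩ : C) = 1 from (QuotientGroup.eq_one_iff _).2 hd]
    exact one_mem _, rfl⟩
  have hCE : ¬ C ≤ E'.map C.subtype := by
    intro h
    have : E' = ⊤ := by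
      rw [eq_top_iff]
      intro c _
      obtain ⟨y, hy, e⟩ := h c.2
      rwa [← show y = c from Subtype.ext e]
    rw [← hE'i, this, index_top] at hMp
    exact Nat.not_prime_one hMp
  refine Cex.false (p := p) (q := M.index) (K := K) (A := A) (E := E'.map C.subtype)
    ⟨hp, hp2, hMp, h1, hcop', hs, htop, hKA, (map_subtype_le _).trans inf_le_right, ?_, ?_, ?_, ?_,
      fun K' h hn => (h3 K' h hn).trans hDE, fun h hh => (le_DD hh).trans hDE⟩
  · intro c hc d hd
    refine ⟨⁅(⟨c, hc⟩ : C), ⟨d, hd⟩⁆, ?_, rfl⟩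
    haveI : Fact E'.index.Prime := ⟨hE'i ▸ hMp⟩
    haveI : IsCyclic (C ⧸ E') := isCyclic_of_prime_card (p := E'.index) rfl
    rw [SetLike.mem_coe, ← QuotientGroup.eq_one_iff]
    change QuotientGroup.mk' E' _ = 1
    rw [map_commutatorElement, commutatorElement_eq_one_iff_mul_comm]
    exact mul_comm' _ _
  · intro c hc
    exact ⟨(⟨c, hc⟩ : C) ^ M.index, hE'i ▸ E'.pow_index_mem _, rfl⟩
  · rintro rfl
    exact hne (inf_le_left.trans bot_le)
  · intro N hNn hNK hN0 hNE
    apply hCE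
    intro c hc
    let f := QuotientGroup.mk' N
    have hker : f.ker = N := QuotientGroup.ker_mk' N
    have hlt : Nat.card (K.map f) < Nat.card K := by
      have h2 := CL.card_map_mk'_mul K N
      rw [inf_of_le_right hNK] at h2
      rw [← h2]
      exact lt_mul_of_one_lt_right Nat.card_pos ((one_lt_card_iff_ne_bot _).2 hN0)
    haveI := hs
    have h4 := ih _ (K.map f) (A.map f) hlt (CL.map_le_normalizer_map f hAK)
      ((card_map_dvd A f).trans hA) (hcop.coprime_dvd_left (card_map_dvd K f))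
      (CL.isSolvable_map K f)
    have h5 : DD (A.map f) (K.map f) ≤ (DD A K).map f := by
      refine DD_le ?_
      rintro _ ⟨h, hh, rfl⟩
      have hJK : cm A h ≤ K := (cm_le_comm hh).trans (comm_le hAK)
      have e : (cm A h).map f = (cm A h ⊔ N).map f := by
        rw [Subgroup.map_sup, QuotientGroup.map_mk'_self, sup_bot_eq]
      rw [← map_cm, e, CL.inf_centralizer_map_of_coprime f A _ (hker.le.trans le_sup_right)
        (hcop'.coprime_dvd_right (card_dvd_of_le (hker.le.trans hNK)))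
        (Or.inr (CL.isSolvable_of_le (hker.le.trans hNK) hs))]
      rintro _ ⟨g, ⟨hg, hgc⟩, rfl⟩
      obtain ⟨x, hx, y, hy, rfl⟩ := mem_sup_of_normal_right.1 hg
      obtain ⟨x', hx', y', hy', e'⟩ := CL.coprime_centralizer_mul A (cm A h) N (norm_cm _ _)
        le_normalizer_of_normal
        (hcop'.coprime_dvd_right (card_dvd_of_le (inf_le_right.trans hNK)))
        (Or.inr (CL.isSolvable_of_le (inf_le_right.trans hNK) hs)) x hx y hy hgc
      refine ⟨x', le_DD hh hx', ?_⟩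
      rw [e', map_mul, show f y' = 1 from (QuotientGroup.eq_one_iff _).2 hy'.1, mul_one]
    have h6 : f c ∈ (DD A K).map f := by
      refine h5 (h4 ⟨?_, ?_⟩)
      · rw [← map_commutator, hKA]; exact mem_map_of_mem f hc.1
      · rintro _ ⟨a, ha, rfl⟩
        rw [← map_mul, ← map_mul, mem_centralizer_iff.1 hc.2 a ha]
    obtain ⟨d, hd, e⟩ := h6
    obtain ⟨n, hn, rfl⟩ := (QuotientGroup.mk'_eq_mk' _).1 e
    exact mul_mem (hDE hd) (hNE ⟨hn, ((centralizer (A : Set G)).mul_mem_cancel_left (hDC hd).2).1 hc.2⟩)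

theorem main {p : ℕ} (hp : p.Prime) (hp2 : p ≠ 2) : ∀ (n : ℕ) (G : Type u) [Group G] [Finite G]
    (K A : Subgroup G), Nat.card K = n → A ≤ normalizer (K : Set G) → Nat.card A ∣ p →
    (Nat.card K).Coprime p → Group.IsSolvable K →
    ⁅K, A⁆ ⊓ centralizer (A : Set G) ≤ DD A K := by
  intro n
  induction n using Nat.strong_induction_on with
  | _ n ih =>
    intro G _ _ K A hn hAK hA hcop hs
    set T := K ⊔ A with hT
    haveI : (K.subgroupOf T).Normal :=
      CL.normal_subgroupOf_of_le_normalizer (sup_le le_normalizer hAK)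
    have hK : Nat.card (K.subgroupOf T) = Nat.card K := CL.card_subgroupOf_of_le le_sup_left
    have h := step (G := T) hp hp2 (K := K.subgroupOf T) (A := A.subgroupOf T)
      (by rw [← subgroupOf_sup le_sup_left le_sup_right, subgroupOf_self])
      (by rwa [CL.card_subgroupOf_of_le le_sup_right]) (by rwa [hK])
      (CL.isSolvable_subgroupOf hs T)
      (fun G' _ _ K' A' hlt => ih _ (by rwa [← hn, ← hK]) G' K' A' rfl)
    have eK : (K.subgroupOf T).map T.subtype = K := map_subgroupOf_eq_of_le le_sup_left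
    have eA : (A.subgroupOf T).map T.subtype = A := map_subgroupOf_eq_of_le le_sup_right
    rintro c ⟨hc, hcA⟩
    rw [← eK, ← eA, ← map_commutator] at hc
    obtain ⟨c, hc, rfl⟩ := hc
    have h1 : DD (A.subgroupOf T) (K.subgroupOf T) ≤ (DD A K).comap T.subtype := by
      refine DD_le fun g hg d hd => le_DD (h := (g : G)) hg ⟨?_, ?_⟩
      · rw [← eA]
        change _ ∈ cm _ (T.subtype g)
        rw [← map_cm]
        exact mem_map_of_mem _ hd.1
      · intro a ha
        exact congrArg Subtype.val (hd.2 ⟨a, mem_sup_right ha⟩ ha)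
    exact h1 (h ⟨hc, fun a ha => Subtype.ext (hcA a ha)⟩)

end CL.Flav
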