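import Mathlib
import Cfsg.Agent.TECH.SylIn

/-!
Homogeneous groups: every isomorphism between subgroups extends to an automorphism.
Basic extension tools.
-/

set_option autoImplicit false

namespace CL.Homog

open Subgroup CL.MSS

/-- every isomorphism between subgroups extends to an automorphism -/
def Hom (G : Type*) [Group G] : Prop :=
  ∀ (A B : Subgroup G) (e : A ≃* B), ∃ φ : G ≃* G, ∀ a : A, φ (a : G) = (e a : G)

variable {G : Type*} [Group G]

theorem Hom.glue (h : Hom G) {X : Type*} [Group X] (f₁ f₂ : X →* G)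
    (hk : ∀ x, f₁ x = 1 ↔ f₂ x = 1) : ∃ φ : G ≃* G, ∀ x, φ (f₁ x) = f₂ x := by
  have hker : f₁.ker = f₂.ker := by
    ext x; simp only [MonoidHom.mem_ker]; exact hk x
  obtain ⟨φ, hφ⟩ := h f₁.range f₂.range ((QuotientGroup.quotientKerEquivRange f₁).symm.trans
    ((QuotientGroup.quotientMulEquivOfEq hker).trans (QuotientGroup.quotientKerEquivRange f₂)))
  refine ⟨φ, fun x => ?_⟩
  have h1 := hφ ⟨f₁ x, x, rfl⟩
  have h2 : (QuotientGroup.quotientKerEquivRange f₁).symm ⟨f₁ x, x, rfl⟩ = (x : X ⧸ f₁.ker) := by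
    rw [MulEquiv.symm_apply_eq]; rfl
  rw [h1]
  simp only [MulEquiv.trans_apply, h2]
  rfl

theorem Hom.of_equiv {H : Type*} [Group H] (h : Hom G) (e : G ≃* H) : Hom H := by
  intro A B f
  obtain ⟨φ, hφ⟩ := h.glue (e.symm.toMonoidHom.comp A.subtype)
    (e.symm.toMonoidHom.comp (B.subtype.comp f.toMonoidHom)) (fun x => by simp)
  refine ⟨e.symm.trans (φ.trans e), fun a => ?_⟩
  have := hφ a
  simp only [MulEquiv.toMonoidHom_eq_coe, MonoidHom.coe_comp, MonoidHom.coe_coe, coe_subtype,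
    Function.comp_apply] at this
  simp [this]

theorem mem_of_map_mem [Finite G] {K : Subgroup G} {φ : G ≃* G} (h : ∀ x ∈ K, φ x ∈ K) {x : G}
    (hx : φ x ∈ K) : x ∈ K := by
  have : Function.Surjective (fun a : K => (⟨φ a, h a a.2⟩ : K)) := by
    refine Finite.surjective_of_injective fun a b hab => ?_
    exact Subtype.ext (φ.injective (congrArg Subtype.val hab))
  obtain ⟨a, ha⟩ := this ⟨φ x, hx⟩
  have := φ.injective (congrArg Subtype.val ha)
  exact this ▸ a.2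

theorem symm_mem [Finite G] {K : Subgroup G} {φ : G ≃* G} (h : ∀ x ∈ K, φ x ∈ K) {x : G}
    (hx : x ∈ K) : φ.symm x ∈ K :=
  mem_of_map_mem h (by simpa using hx)

/-- restriction of an automorphism to an invariant subgroup -/
def res [Finite G] (K : Subgroup G) (φ : G ≃* G) (h : ∀ x ∈ K, φ x ∈ K) : K ≃* K where
  toFun a := ⟨φ a, h a a.2⟩
  invFun a := ⟨φ.symm a, symm_mem h a.2⟩
  left_inv a := by ext; simp
  right_inv a := by ext; simp
  map_mul' a b := by ext; simp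

theorem res_apply [Finite G] (K : Subgroup G) (φ : G ≃* G) (h : ∀ x ∈ K, φ x ∈ K) (a : K) :
    (res K φ h a : G) = φ a := rfl

theorem map_eq_of_mem [Finite G] {K : Subgroup G} {φ : G ≃* G} (h : ∀ x ∈ K, φ x ∈ K) :
    K.map φ.toMonoidHom = K := by
  refine le_antisymm ?_ fun x hx => ⟨φ.symm x, symm_mem h hx, by simp⟩
  rintro _ ⟨x, hx, rfl⟩
  exact h x hx

theorem Hom.subgroup [Finite G] (h : Hom G) (K : Subgroup G)
    (hK : ∀ φ : G ≃* G, ∀ x ∈ K, φ x ∈ K) : Hom K := by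
  intro A B f
  obtain ⟨φ, hφ⟩ := h.glue (K.subtype.comp A.subtype)
    (K.subtype.comp (B.subtype.comp f.toMonoidHom)) (fun x => by simp)
  exact ⟨res K φ (hK φ), fun a => Subtype.ext (hφ a)⟩

theorem char_mem {K : Subgroup G} [hK : K.Characteristic] (φ : G ≃* G) {x : G} (hx : x ∈ K) :
    φ x ∈ K := by
  have := (characteristic_iff_le_comap.1 hK) φ hx
  exact this

theorem Hom.char [Finite G] (h : Hom G) (K : Subgroup G) [K.Characteristic] : Hom K :=
  h.subgroup K fun φ _ hx => char_mem φ hx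

/-- extension by one centralizing element -/
theorem Hom.ext1 (h : Hom G) (φ : G ≃* G) (Y : Subgroup G) {x x' : G}
    (hx : ∀ y ∈ Y, Commute x y) (hx' : ∀ y ∈ Y, Commute x' (φ y))
    (hk : ∀ i : ℤ, ∀ y ∈ Y, x ^ i * y = 1 ↔ x' ^ i * φ y = 1) :
    ∃ ψ : G ≃* G, ψ x = x' ∧ ∀ y ∈ Y, ψ y = φ y := by
  obtain ⟨ψ, hψ⟩ := h.glue (X := Multiplicative ℤ × Y)
    ((zpowersHom G x).noncommCoprod Y.subtype fun i y => (hx y y.2).zpow_left _)
    ((zpowersHom G x').noncommCoprod (φ.toMonoidHom.comp Y.subtype)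
      fun i y => (hx' y y.2).zpow_left _)
    (fun a => hk a.1.toAdd a.2 a.2.2)
  refine ⟨ψ, ?_, fun y hy => ?_⟩
  · have : ψ (x ^ (1 : ℤ) * 1) = x' ^ (1 : ℤ) * φ 1 := hψ (Multiplicative.ofAdd 1, 1)
    simpa using this
  · have : ψ (x ^ (0 : ℤ) * y) = x' ^ (0 : ℤ) * φ y := hψ (1, ⟨y, hy⟩)
    simpa using this

theorem Hom.exists_map (h : Hom G) {x x' : G} (ho : orderOf x = orderOf x') :
    ∃ φ : G ≃* G, φ x = x' := by
  obtain ⟨ψ, h1, -⟩ := h.ext1 (MulEquiv.refl G) ⊥ (x := x) (x' := x')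
    (fun y hy => by rw [mem_bot.1 hy]; exact Commute.one_right _)
    (fun y hy => by rw [mem_bot.1 hy]; exact Commute.one_right _)
    (fun i y hy => by
      rw [mem_bot.1 hy]
      simp only [mul_one, map_one, ← orderOf_dvd_iff_zpow_eq_one, ho])
  exact ⟨ψ, h1⟩

theorem Hom.mem_of_order (h : Hom G) {K : Subgroup G} (hK : ∀ φ : G ≃* G, ∀ x ∈ K, φ x ∈ K)
    {x y : G} (hx : x ∈ K) (ho : orderOf x = orderOf y) : y ∈ K := by
  obtain ⟨φ, rfl⟩ := h.exists_map ho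
  exact hK φ x hx

theorem zpow_mul_zpow_eq_one {a b : G} (hab : zpowers a ⊓ zpowers b = ⊥) {i j : ℤ} :
    a ^ i * b ^ j = 1 ↔ a ^ i = 1 ∧ b ^ j = 1 := by
  refine ⟨fun h => ?_, fun h => by rw [h.1, h.2, one_mul]⟩
  have h1 : a ^ i = (b ^ j)⁻¹ := eq_inv_of_mul_eq_one_left h
  have h2 : a ^ i ∈ zpowers a ⊓ zpowers b :=
    ⟨zpow_mem_zpowers _ _, h1 ▸ (zpowers b).inv_mem (zpow_mem_zpowers _ _)⟩
  rw [hab, mem_bot] at h2
  rw [h2, one_mul] at h
  exact ⟨h2, h⟩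

theorem Hom.exists_pair (h : Hom G) {a b a' b' : G} (ha : orderOf a = orderOf a')
    (hb : orderOf b = orderOf b') (hc : Commute a b) (hc' : Commute a' b')
    (hi : zpowers a ⊓ zpowers b = ⊥) (hi' : zpowers a' ⊓ zpowers b' = ⊥) :
    ∃ φ : G ≃* G, φ a = a' ∧ φ b = b' := by
  obtain ⟨φ, hφ⟩ := h.exists_map hb
  obtain ⟨ψ, h1, h2⟩ := h.ext1 φ (zpowers b) (x := a) (x' := a')
    (by rintro _ ⟨j, rfl⟩; exact hc.zpow_right j)
    (by rintro _ ⟨j, rfl⟩; simp only [map_zpow, hφ]; exact hc'.zpow_right j)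
    (by
      rintro i _ ⟨j, rfl⟩
      simp only [map_zpow, hφ, zpow_mul_zpow_eq_one hi, zpow_mul_zpow_eq_one hi',
        ← orderOf_dvd_iff_zpow_eq_one, ha, hb])
  exact ⟨ψ, h1, (h2 b (mem_zpowers b)).trans hφ⟩

theorem inf_eq_bot_of_prime {a b : G} {p : ℕ} (hp : p.Prime) (hb : orderOf b = p)
    (h : b ∉ zpowers a) : zpowers a ⊓ zpowers b = ⊥ := by
  have := Fact.mk hp
  rw [eq_bot_iff]
  rintro x ⟨hxa, hxb⟩
  by_contra hx
  apply h
  have h1 : x ≠ 1 := by simpa using hx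
  have h2 : Nat.card (zpowers b) = p := by rw [Nat.card_zpowers, hb]
  have h3 := mem_zpowers_of_prime_card h2 (g := ⟨x, hxb⟩) (g' := ⟨b, mem_zpowers b⟩)
    (fun h => h1 (congrArg Subtype.val h))
  obtain ⟨k, hk⟩ := h3
  have h4 : x ^ k = b := congrArg Subtype.val hk
  exact h4 ▸ (zpowers a).zpow_mem hxa k

/-- Twisting by `y` on the elements outside a subgroup of index two. -/
theorem Hom.twist (h : Hom G) {W H : Subgroup G} (hHW : H ≤ W)
    (h2 : ∀ x ∈ W, ∀ z ∈ W, x ∉ H → z ∉ H → x * z ∈ H) {y : G} (hy : y ∈ H)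
    (hin : ∀ x ∈ H, x * y = y * x) (hout : ∀ x ∈ W, x ∉ H → y * x * y = x) :
    ∃ φ : G ≃* G, (∀ x ∈ H, φ x = x) ∧ ∀ x ∈ W, x ∉ H → φ x = x * y := by
  classical
  let f : W →* G := MonoidHom.mk' (fun x => if (x : G) ∈ H then (x : G) else x * y) (by
    intro a b
    by_cases ha : (a : G) ∈ H <;> by_cases hb : (b : G) ∈ H
    · simp [ha, hb, H.mul_mem ha hb]
    · have : ¬ (a : G) * b ∈ H := fun h => hb ((H.mul_mem_cancel_left ha).1 h)
      simp [ha, hb, this, mul_assoc]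
    · have : ¬ (a : G) * b ∈ H := fun h => ha ((H.mul_mem_cancel_right hb).1 h)
      simp [ha, hb, this, mul_assoc, hin _ hb]
    · have h3 := hout b b.2 hb
      simp only [coe_mul, h2 _ a.2 _ b.2 ha hb, ha, hb, if_true, if_false]
      rw [mul_assoc, ← mul_assoc y, h3])
  obtain ⟨φ, hφ⟩ := h.glue W.subtype f (fun x => by
    by_cases hx : (x : G) ∈ H
    · simp [f, hx]
    · have h3 : (x : G) ≠ 1 := fun h => hx (h ▸ H.one_mem)
      have h4 : (x : G) * y ≠ 1 := fun h => hx (by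
        rw [eq_inv_of_mul_eq_one_left h]; exact H.inv_mem hy)
      simp only [coe_subtype, f, MonoidHom.mk'_apply, hx, if_false, h3, h4])
  refine ⟨φ, fun x hx => ?_, fun x hx hx' => ?_⟩
  · simpa [f, hx] using hφ ⟨x, hHW hx⟩
  · simpa [f, hx'] using hφ ⟨x, hx⟩

/-- `H` has index at most two in `W` -/
def Two (H W : Subgroup G) : Prop :=
  H ≤ W ∧ ∀ x ∈ W, ∀ z ∈ W, x ∉ H → z ∉ H → x * z ∈ H

/-- Separation by subgroups of index two. -/
theorem exists_two [Finite G] {A W : Subgroup G} (hA : A ≤ W) (hsq : ∀ y ∈ W, y * y ∈ A) {x : G}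
    (hxA : x ∉ A) : ∃ H, Two H W ∧ A ≤ H ∧ x ∉ H := by
  obtain ⟨H, ⟨h1, h2, h3⟩, hm⟩ := Set.Finite.exists_maximal
    (s := {H : Subgroup G | A ≤ H ∧ H ≤ W ∧ x ∉ H}) (Set.toFinite _) ⟨A, le_rfl, hA, hxA⟩
  have key : ∀ y ∈ W, y ∉ H → y⁻¹ * x ∈ H := by
    intro y hy hyH
    have hyy := h1 (hsq y hy)
    have hcj : ∀ g ∈ H, y⁻¹ * g * y ∈ H := fun g hg => by
      have h4 := h1 (hsq _ (W.mul_mem hy (h2 hg)))
      have : y⁻¹ * g * y = (y * y)⁻¹ * (y * g * (y * g)) * g⁻¹ := by group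
      rw [this]
      exact H.mul_mem (H.mul_mem (H.inv_mem hyy) h4) (H.inv_mem hg)
    let H' : Subgroup G :=
      { carrier := {g | g ∈ H ∨ y⁻¹ * g ∈ H}
        one_mem' := Or.inl H.one_mem
        mul_mem' := by
          rintro a b (ha | ha) (hb | hb)
          · exact Or.inl (H.mul_mem ha hb)
          · right
            have : y⁻¹ * (a * b) = (y⁻¹ * a * y) * (y⁻¹ * b) := by group
            rw [this]; exact H.mul_mem (hcj a ha) hb
          · right
            rw [← mul_assoc]; exact H.mul_mem ha hb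
          · left
            have : a * b = (y * y) * (y⁻¹ * (y⁻¹ * a) * y) * (y⁻¹ * b) := by group
            rw [this]; exact H.mul_mem (H.mul_mem hyy (hcj _ ha)) hb
        inv_mem' := by
          rintro a (ha | ha)
          · exact Or.inl (H.inv_mem ha)
          · right
            have : y⁻¹ * a⁻¹ = (y⁻¹ * (y⁻¹ * a)⁻¹ * y) * (y * y)⁻¹ := by group
            rw [this]; exact H.mul_mem (hcj _ (H.inv_mem ha)) (H.inv_mem hyy) }
    by_contra hc
    have hle : H ≤ H' := fun g hg => Or.inl hg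
    have h5 : H' ≤ H := hm ⟨h1.trans hle, ?_, ?_⟩ hle
    · exact hyH (h5 (Or.inr (by simp)))
    · rintro g (hg | hg)
      · exact h2 hg
      · exact (W.mul_mem_cancel_left (W.inv_mem hy)).1 (h2 hg)
    · rintro (hg | hg)
      · exact h3 hg
      · exact hc hg
  refine ⟨H, ⟨h2, fun y hy z hz hyH hzH => ?_⟩, h1, h3⟩
  have : y * z = (y * y) * ((y⁻¹ * x) * (z⁻¹ * x)⁻¹) := by group
  rw [this]
  exact H.mul_mem (h1 (hsq y hy)) (H.mul_mem (key y hy hyH) (H.inv_mem (key z hz hzH)))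

/-- A proper subgroup of a `2`-group lies in a subgroup of index two. -/
theorem exists_two_of_lt [Finite G] {A W : Subgroup G} (hW : IsPGroup 2 W) (hA : A < W) :
    ∃ H, Two H W ∧ A ≤ H ∧ ∃ x ∈ W, x ∉ H := by
  obtain ⟨H, ⟨h1, h2⟩, hm⟩ := Set.Finite.exists_maximal
    (s := {H : Subgroup G | A ≤ H ∧ H < W}) (Set.toFinite _) ⟨A, le_rfl, hA⟩
  have hco : IsCoatom (H.subgroupOf W) := by
    refine ⟨fun h => h2.not_ge (subgroupOf_eq_top.1 h), fun B hB => ?_⟩
    by_contra hne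
    have h3 : H ≤ B.map W.subtype := by
      intro g hg
      exact ⟨⟨g, h2.le hg⟩, hB.le hg, rfl⟩
    have h4 : B.map W.subtype < W := by
      refine lt_of_le_of_ne (map_subtype_le _) fun h => hne ?_
      rw [eq_top_iff]
      intro g _
      have : (g : G) ∈ B.map W.subtype := by rw [h]; exact g.2
      obtain ⟨b, hb, e⟩ := this
      exact (Subtype.ext e : b = g) ▸ hb
    have h5 := hm ⟨h1.trans h3, h4⟩ h3
    exact hB.not_ge fun g hg => h5 ⟨g, hg, rfl⟩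
  have := hW.isNilpotent
  have hn : (H.subgroupOf W).Normal :=
    NormalizerCondition.normal_of_coatom _ (Group.normalizerCondition_of_isNilpotent) hco
  obtain ⟨x, hx, hxH⟩ := SetLike.exists_of_lt h2
  have hsq : ∀ y ∈ W, y * y ∈ H := by
    intro y hy
    by_contra hc
    have hlt : H.subgroupOf W < H.subgroupOf W ⊔ zpowers (⟨y, hy⟩ * ⟨y, hy⟩ : W) := by
      refine lt_of_le_of_ne le_sup_left fun h => hc ?_
      have : (⟨y, hy⟩ * ⟨y, hy⟩ : W) ∈ H.subgroupOf W := by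
        rw [h]; exact mem_sup_right (mem_zpowers _)
      exact this
    have htop := hco.2 _ hlt
    have hq := hW.to_quotient (H.subgroupOf W)
    set π := QuotientGroup.mk' (H.subgroupOf W)
    have h6 : π ⟨y, hy⟩ ∈ zpowers (π ⟨y, hy⟩ * π ⟨y, hy⟩) := by
      have : (⟨y, hy⟩ : W) ∈ H.subgroupOf W ⊔ zpowers (⟨y, hy⟩ * ⟨y, hy⟩ : W) := by
        rw [htop]; trivial
      have h7 := mem_map_of_mem π this
      rw [Subgroup.map_sup, MonoidHom.map_zpowers, map_mul,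
        (Subgroup.map_eq_bot_iff _).2 (by rw [QuotientGroup.ker_mk']), bot_sup_eq] at h7
      exact h7
    obtain ⟨k, hk⟩ := h6
    obtain ⟨n, hn'⟩ := IsPGroup.iff_orderOf.1 hq (π ⟨y, hy⟩)
    have h8 : π ⟨y, hy⟩ ^ (2 * k - 1) = 1 := by
      rw [zpow_sub_one, zpow_mul, zpow_two]
      simp only at hk
      rw [hk, mul_inv_cancel]
    rw [← orderOf_dvd_iff_zpow_eq_one, hn'] at h8
    have h9 : n = 0 := by
      by_contra h
      have : (2 : ℤ) ∣ 2 * k - 1 := (by exact_mod_cast dvd_pow_self 2 h : (2 : ℤ) ∣ ((2 ^ n : ℕ) : ℤ)).trans h8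
      omega
    rw [h9, pow_zero, orderOf_eq_one_iff] at hn'
    have h10 : (⟨y, hy⟩ : W) ∈ H.subgroupOf W := (QuotientGroup.eq_one_iff _).1 hn'
    exact hc (H.mul_mem h10 h10)
  obtain ⟨H', h3, h4, h5⟩ := exists_two h2.le hsq hxH
  exact ⟨H', h3, h1.trans h4, x, hx, h5⟩

/-- Frattini adjustment of an automorphism. -/
theorem frattini_aut [Finite G] {p : ℕ} [Fact p.Prime] {W D : Subgroup G} (hW : SylIn p W D)
    {φ : G ≃* G} (hD : ∀ x ∈ D, φ x ∈ D) : ∃ d ∈ D, ∀ w ∈ W, d * φ w * d⁻¹ ∈ W := by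
  obtain ⟨d, hd, h⟩ := hW.exists_conj_le (hW.pgroup.map φ.toMonoidHom)
    (by rintro _ ⟨x, hx, rfl⟩; exact hD x (hW.le hx))
  exact ⟨d, hd, fun w hw => h ⟨φ w, ⟨w, hw, rfl⟩, rfl⟩⟩

end CL.Homog
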