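import Mathlib
import Cfsg.Agent.FGS.Homog1
import Cfsg.Agent.FGS.Homog2
import Cfsg.Agent.S3776

/-!
Homogeneous groups: Sylow `2`-subgroups of centralizers of elementary abelian subgroups.
-/

set_option autoImplicit false

namespace CL.Homog

open Subgroup CL.MSS

variable {G : Type*} [Group G]

theorem exists_coprime_pow [Finite G] (p : ℕ) [hp : Fact p.Prime] (x : G) :
    ∃ m : ℕ, ¬ p ∣ m ∧ IsPGroup p (zpowers (x ^ m)) := by
  obtain ⟨k, m, hm, e⟩ := Nat.exists_eq_pow_mul_and_not_dvd (orderOf_pos x).ne' p hp.out.ne_one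
  refine ⟨m, hm, ?_⟩
  have : (x ^ m) ^ p ^ k = 1 := by rw [← pow_mul, mul_comm, ← e, pow_orderOf_eq_one]
  rintro ⟨_, j, rfl⟩
  refine ⟨k, Subtype.ext ?_⟩
  simp only [SubmonoidClass.coe_pow, OneMemClass.coe_one]
  rw [← zpow_natCast, ← zpow_mul, mul_comm, zpow_mul, zpow_natCast, this, one_zpow]

theorem conj_pow_of_sq {n w : G} (h : n * n * w * (n * n)⁻¹ = w) {m : ℕ} (hm : ¬ 2 ∣ m) :
    n ^ m * w * (n ^ m)⁻¹ = n * w * n⁻¹ := by
  obtain ⟨k, rfl⟩ : ∃ k, m = 2 * k + 1 := ⟨m / 2, by omega⟩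
  have h1 : Commute (n * n) w := by
    rw [Commute, SemiconjBy, ← mul_inv_eq_iff_eq_mul.1 h]
  have h2 : ((n * n) ^ k) * w * ((n * n) ^ k)⁻¹ = w := by
    rw [(h1.pow_left k).eq, mul_inv_cancel_right]
  rw [pow_succ', pow_mul, sq, mul_inv_rev]
  calc n * (n * n) ^ k * w * (((n * n) ^ k)⁻¹ * n⁻¹)
      = n * ((n * n) ^ k * w * ((n * n) ^ k)⁻¹) * n⁻¹ := by group
    _ = _ := by rw [h2]

theorem mem_normalizer_of_conj [Finite G] {W : Subgroup G} {n : G}
    (h : ∀ w ∈ W, n * w * n⁻¹ ∈ W) : n ∈ normalizer (W : Set G) :=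
  mem_normalizer_fintype h

/-- An automorphism of order at most two of a Sylow `2`-subgroup induced by the group is inner. -/
theorem exists_inner [Finite G] {W D : Subgroup G} (hW : SylIn 2 W D) {n : G} (hn : n ∈ D)
    (h : ∀ w ∈ W, n * w * n⁻¹ ∈ W) (h2 : ∀ w ∈ W, n * n * w * (n * n)⁻¹ = w) :
    ∃ w₀ ∈ W, ∀ w ∈ W, w₀ * w * w₀⁻¹ = n * w * n⁻¹ := by
  obtain ⟨m, hm, hp⟩ := exists_coprime_pow 2 n
  refine ⟨n ^ m, hW.le_of_normalizes hp (zpowers_le.2 (D.pow_mem hn m))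
    (zpowers_le.2 (pow_mem (mem_normalizer_of_conj h) m)) (mem_zpowers _),
    fun w hw => conj_pow_of_sq (h2 w hw) hm⟩

theorem mem_sup_zp {A : Subgroup G} {y : G} (hy : y * y = 1) (hc : ∀ a ∈ A, a * y = y * a)
    {x : G} (hx : x ∈ A ⊔ zpowers y) : x ∈ A ∨ y * x ∈ A := by
  let B : Subgroup G :=
    { carrier := {g | g ∈ A ∨ y * g ∈ A}
      one_mem' := Or.inl A.one_mem
      mul_mem' := by
        rintro a b (ha | ha) (hb | hb)
        · exact Or.inl (A.mul_mem ha hb)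
        · right
          rw [← mul_assoc, ← hc a ha, mul_assoc]; exact A.mul_mem ha hb
        · right
          rw [← mul_assoc]; exact A.mul_mem ha hb
        · left
          have := A.mul_mem ha hb
          rwa [← mul_assoc, hc _ ha, ← mul_assoc, hy, one_mul] at this
      inv_mem' := by
        rintro a (ha | ha)
        · exact Or.inl (A.inv_mem ha)
        · right
          have h1 := A.inv_mem ha
          have h2 := hc _ h1
          rw [mul_inv_rev, mul_assoc, inv_mul_cancel, mul_one] at h2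
          rw [h2, ← mul_assoc, hy, one_mul, ← mul_inv_rev]
          exact h1 }
  have : A ⊔ zpowers y ≤ B :=
    sup_le (fun a ha => Or.inl ha) (zpowers_le.2 (Or.inr (by rw [hy]; exact A.one_mem)))
  exact this hx

theorem mem_zp {y x : G} (hy : y * y = 1) (hx : x ∈ zpowers y) : x = 1 ∨ x = y := by
  rcases mem_sup_zp (A := ⊥) hy (fun a ha => by rw [mem_bot.1 ha, one_mul, mul_one])
    (mem_sup_right hx) with h | h
  · exact Or.inl (mem_bot.1 h)
  · right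
    rw [← mul_right_inj y, mem_bot.1 h, hy]

/-- elementary abelian `2`-subgroup -/
def El (V : Subgroup G) : Prop := ∀ x ∈ V, x * x = 1

theorem El.comm {V : Subgroup G} (h : El V) {x y : G} (hx : x ∈ V) (hy : y ∈ V) :
    x * y = y * x :=
  comm_of_sq (h x hx) (h y hy) (h _ (V.mul_mem hx hy))

theorem El.le_cent {V : Subgroup G} (h : El V) : V ≤ centralizer (V : Set G) :=
  fun _ hx _ hy => h.comm hy hx

theorem El.isPGroup {V : Subgroup G} (h : El V) : IsPGroup 2 V :=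
  fun x => ⟨1, Subtype.ext (by simpa [sq] using h x x.2)⟩

theorem El.inv {V : Subgroup G} (h : El V) {x : G} (hx : x ∈ V) : x⁻¹ = x :=
  inv_eq_of_mul_eq_one_right (h x hx)

/-- `φ` maps `V` into itself -/
def Pres (φ : G ≃* G) (V : Subgroup G) : Prop := ∀ x ∈ V, φ x ∈ V

theorem Pres.cent [Finite G] {φ : G ≃* G} {V : Subgroup G} (h : Pres φ V) :
    Pres φ (centralizer (V : Set G)) := by
  intro x hx v hv
  have := congrArg φ (hx _ (symm_mem h hv))
  simpa using this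

theorem Pres.trans {φ ψ : G ≃* G} {V : Subgroup G} (h : Pres φ V) (h' : Pres ψ V) :
    Pres (φ.trans ψ) V := fun x hx => h' _ (h x hx)

theorem Hom.tv (hG : Hom G) {V H : Subgroup G} (hV : El V) (hH : Two H V) {u : G} (hu : u ∈ H) :
    ∃ φ : G ≃* G, Pres φ V ∧ (∀ x ∈ H, φ x = x) ∧ ∀ x ∈ V, x ∉ H → φ x = x * u := by
  obtain ⟨φ, h1, h2⟩ := hG.twist hH.1 hH.2 hu (fun x hx => hV.comm (hH.1 hx) (hH.1 hu))
    (fun x hx _ => by rw [hV.comm (hH.1 hu) hx, mul_assoc, hV _ (hH.1 hu), mul_one])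
  refine ⟨φ, fun x hx => ?_, h1, h2⟩
  by_cases h : x ∈ H
  · rwa [h1 x h]
  · rw [h2 x hx h]; exact V.mul_mem hx (hH.1 hu)

theorem Two.mul {H W : Subgroup G} (h : Two H W) {x y : G} (hx : x ∈ W) (hy : y ∈ W)
    (hx' : x ∉ H) (hy' : y ∉ H) : x * y ∈ H := h.2 x hx y hy hx' hy'

theorem Hom.move [Finite G] (hG : Hom G) {V A : Subgroup G} (hV : El V) (hA : A ≤ V) {v v' : G}
    (hv : v ∈ V) (hv' : v' ∈ V) (h1 : v ∉ A) (h2 : v' ∉ A) :
    ∃ φ : G ≃* G, Pres φ V ∧ (∀ a ∈ A, φ a = a) ∧ φ v = v' := by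
  have hvv := V.mul_mem hv hv'
  obtain ⟨H, h3, h4, h5⟩ := exists_two (A := A ⊔ zpowers (v * v')) (W := V)
    (sup_le hA (zpowers_le.2 hvv)) (fun y hy => by rw [hV y hy]; exact one_mem _) (x := v) (by
      intro h
      rcases mem_sup_zp (hV _ hvv) (fun a ha => hV.comm (hA ha) hvv) h with h | h
      · exact h1 h
      · rw [mul_assoc, hV.comm hv' hv, ← mul_assoc, hV v hv, one_mul] at h
        exact h2 h)
  obtain ⟨φ, h6, h7, h8⟩ := hG.tv hV h3 (h4 (mem_sup_right (mem_zpowers _)))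
  refine ⟨φ, h6, fun a ha => h7 a (h4 (mem_sup_left ha)), ?_⟩
  rw [h8 v hv h5, ← mul_assoc, hV v hv, one_mul]

theorem Hom.move2 [Finite G] (hG : Hom G) {V : Subgroup G} (hV : El V) {c c' v v' : G}
    (hc : c ∈ V) (hc' : c' ∈ V) (hv : v ∈ V) (hv' : v' ∈ V) (c1 : c ≠ 1) (c1' : c' ≠ 1)
    (v1 : v ≠ 1) (v1' : v' ≠ 1) (h : v ≠ c) (h' : v' ≠ c') :
    ∃ φ : G ≃* G, Pres φ V ∧ φ c = c' ∧ φ v = v' := by
  obtain ⟨φ, h1, -, h2⟩ := hG.move hV bot_le hc hc' (by simpa) (by simpa)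
  obtain ⟨ψ, h3, h4, h5⟩ := hG.move hV (zpowers_le.2 hc') (h1 v hv) hv'
    (fun hx => by
      rcases mem_zp (hV _ hc') hx with h6 | h6
      · exact v1 (by simpa using h6)
      · exact h (φ.injective (h6.trans h2.symm)))
    (fun hx => by rcases mem_zp (hV _ hc') hx with h6 | h6 <;> contradiction)
  exact ⟨φ.trans ψ, h1.trans h3, by simp [h2, h4 _ (mem_zpowers c')], by simp [h5]⟩

theorem zpow_mem_iff {V : Subgroup G} {x : G} (h1 : x ∉ V) (h2 : x * x ∈ V) {i : ℤ} :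
    x ^ i ∈ V ↔ Even i := by
  rcases Int.even_or_odd' i with ⟨k, rfl | rfl⟩
  · simp only [even_two, Even.mul_right, iff_true]
    rw [zpow_mul, zpow_two]; exact V.zpow_mem h2 k
  · have : ¬ Even (2 * k + 1) := by simp
    simp only [this, iff_false]
    intro h
    rw [zpow_add_one, zpow_mul, zpow_two] at h
    exact h1 ((V.mul_mem_cancel_left (V.zpow_mem h2 k)).1 h)

theorem Hom.tr4 (hG : Hom G) {V : Subgroup G} {φ : G ≃* G} (hφ : Pres φ V) {x x' : G}
    (hx : x ∈ centralizer (V : Set G)) (hx' : x' ∈ centralizer (V : Set G)) (h1 : x ∉ V)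
    (h1' : x' ∉ V) (h2 : x * x ∈ V) (e : φ (x * x) = x' * x') :
    ∃ ψ : G ≃* G, ψ x = x' ∧ ∀ v ∈ V, ψ v = φ v := by
  have h2' : x' * x' ∈ V := e ▸ hφ _ h2
  refine hG.ext1 φ V (fun y hy => (hx y hy).symm) (fun y hy => (hx' _ (hφ y hy)).symm)
    fun i y hy => ?_
  rcases Int.even_or_odd' i with ⟨k, rfl | rfl⟩
  · rw [zpow_mul, zpow_two, zpow_mul, zpow_two, ← e, ← map_zpow, ← map_mul, map_eq_one_iff _ φ.injective]
  · have h3 : ¬ Even (2 * k + 1) := by simp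
    refine iff_of_false (fun h => h3 ((zpow_mem_iff h1 h2).1 ?_))
      (fun h => h3 ((zpow_mem_iff h1' h2').1 ?_))
    · rw [eq_inv_of_mul_eq_one_left h]; exact V.inv_mem hy
    · rw [eq_inv_of_mul_eq_one_left h]; exact V.inv_mem (hφ y hy)

/-- `x` is conjugate to `x * u` in the centralizer of `V` -/
def J (V : Subgroup G) (x u : G) : Prop := ∃ d ∈ centralizer (V : Set G), d * x * d⁻¹ = x * u

theorem J.map [Finite G] {V : Subgroup G} {x u : G} (h : J V x u) {φ : G ≃* G} (hφ : Pres φ V) :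
    J V (φ x) (φ u) := by
  obtain ⟨d, hd, e⟩ := h
  exact ⟨φ d, hφ.cent d hd, by rw [← map_inv, ← map_mul, ← map_mul, e, map_mul]⟩

theorem J.mul {V : Subgroup G} {x u v : G} (h : J V x u) (h' : J V x v) (hv : v ∈ V) :
    J V x (u * v) := by
  obtain ⟨d, hd, e⟩ := h
  obtain ⟨d', hd', e'⟩ := h'
  refine ⟨d * d', mul_mem hd hd', ?_⟩
  calc d * d' * x * (d * d')⁻¹ = d * (d' * x * d'⁻¹) * d⁻¹ := by group
    _ = d * x * d⁻¹ * (d * v * d⁻¹) := by rw [e']; group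
    _ = _ := by rw [e, ← hd v hv]; group

theorem comm_mem {V W : Subgroup G} (hsq : ∀ w ∈ W, w * w ∈ V) {x s : G} (hx : x ∈ W)
    (hs : s ∈ W) : x⁻¹ * (s * x * s⁻¹) ∈ V := by
  have : x⁻¹ * (s * x * s⁻¹) = (x * x)⁻¹ * (x * s * (x * s)) * (s * s)⁻¹ := by group
  rw [this]
  exact V.mul_mem (V.mul_mem (V.inv_mem (hsq x hx)) (hsq _ (W.mul_mem hx hs)))
    (V.inv_mem (hsq s hs))

theorem J.syl [Finite G] {V W : Subgroup G} (hV : El V) (hW : SylIn 2 W (centralizer (V : Set G)))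
    (hsq : ∀ w ∈ W, w * w ∈ V) {x u : G} (hx : x ∈ W) (hu : u ∈ V) (h : J V x u) :
    ∃ w ∈ W, w * x * w⁻¹ = x * u := by
  have hm : ∀ a ∈ centralizer (V : Set G), ∀ b : G, x⁻¹ * (b * x * b⁻¹) ∈ V →
      x⁻¹ * (a * b * x * (a * b)⁻¹) = x⁻¹ * (a * x * a⁻¹) * (x⁻¹ * (b * x * b⁻¹)) := by
    intro a ha b hb
    have := ha _ hb
    calc x⁻¹ * (a * b * x * (a * b)⁻¹) = x⁻¹ * (a * x) * (x⁻¹ * (b * x * b⁻¹) * a⁻¹) := by group
      _ = _ := by
        have h5 : x⁻¹ * (b * x * b⁻¹) * a⁻¹ = a⁻¹ * (x⁻¹ * (b * x * b⁻¹)) := by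
          rw [eq_inv_mul_iff_mul_eq, ← mul_assoc, ← this, mul_inv_cancel_right]
        rw [h5]
        group
  let X : Subgroup G :=
    { carrier := {g | g ∈ centralizer (V : Set G) ∧ x⁻¹ * (g * x * g⁻¹) ∈ V}
      one_mem' := ⟨one_mem _, by simp⟩
      mul_mem' := by
        rintro a b ⟨ha, ha'⟩ ⟨hb, hb'⟩
        exact ⟨mul_mem ha hb, by rw [hm a ha b hb']; exact V.mul_mem ha' hb'⟩
      inv_mem' := by
        rintro a ⟨ha, ha'⟩
        refine ⟨inv_mem ha, ?_⟩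
        have := hm a⁻¹ (inv_mem ha) a ha'
        simp only [inv_mul_cancel, one_mul, inv_one, mul_one] at this
        rw [eq_inv_of_mul_eq_one_left this.symm]
        exact V.inv_mem ha' }
  let f : X →* G := MonoidHom.mk' (fun g => x⁻¹ * (g * x * (g : G)⁻¹))
    (fun a b => hm a a.2.1 b b.2.2)
  have hWX : W ≤ X := fun w hw => ⟨hW.le hw, comm_mem hsq hx hw⟩
  have h1 := ((hW.of_le hWX (fun _ h => h.1)).subgroupOf le_rfl).map f
  have h2 := h1.eq_of_isPGroup (hV.isPGroup.to_le (by rintro _ ⟨g, -, rfl⟩; exact g.2.2))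
  obtain ⟨d, hd, e⟩ := h
  have hd' : d ∈ X := ⟨hd, by rw [e]; simpa⟩
  have : f ⟨d, hd'⟩ ∈ (W.subgroupOf X).map f := by
    rw [h2]; exact ⟨⟨d, hd'⟩, hd', rfl⟩
  obtain ⟨w, hw, e'⟩ := this
  refine ⟨w, hw, ?_⟩
  rw [← e]
  exact mul_left_cancel (a := x⁻¹) e'

/-- maximal elementary abelian `2`-subgroup -/
structure MaxE (V : Subgroup G) : Prop where
  el : El V
  max : ∀ x ∈ centralizer (V : Set G), x * x = 1 → x ∈ V

theorem exists_ne_of_card [Finite G] {V : Subgroup G} (h : 2 < Nat.card V) (c : G) :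
    ∃ v ∈ V, v ≠ 1 ∧ v ≠ c := by
  by_contra hc
  push Not at hc
  have h1 : (V : Set G) ⊆ {1, c} := fun v hv => by
    by_cases h : v = 1
    · exact Or.inl h
    · exact Or.inr (hc v hv h)
  have h2 := Set.ncard_le_ncard h1
  have h3 : ({1, c} : Set G).ncard ≤ 2 := (Set.ncard_insert_le _ _).trans (by simp)
  have h4 : Nat.card V = (V : Set G).ncard := rfl
  omega

/-- In the special case every non-central element has full commutator group. -/
theorem Hom.tri [Finite G] (hG : Hom G) {V W : Subgroup G} (hV : MaxE V) (h4 : 2 < Nat.card V)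
    (hW : SylIn 2 W (centralizer (V : Set G))) (hsq : ∀ w ∈ W, w * w ∈ V)
    (hZ : ∀ w ∈ W, (∀ s ∈ W, s * w = w * s) → w ∈ V) {x : G} (hx : x ∈ W) (hxV : x ∉ V) {u : G}
    (hu : u ∈ V) : ∃ w ∈ W, w * x * w⁻¹ = x * u := by
  have hne : ∀ y ∈ W, y ∉ V → y * y ≠ 1 := fun y hy h h' => h (hV.max y (hW.le hy) h')
  refine J.syl hV.el hW hsq hx hu ?_
  by_cases hA : ∃ y ∈ W, y ∉ V ∧ ∃ v ∈ V, v ≠ 1 ∧ v ≠ y * y ∧ J V y v
  · obtain ⟨y, hy, hyV, v, hv, v1, v2, hJ⟩ := hA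
    have key : ∀ v' ∈ V, v' ≠ 1 → v' ≠ x * x → J V x v' := by
      intro v' hv' v1' v2'
      obtain ⟨φ, h1, h2, h3⟩ := hG.move2 hV.el (hsq y hy) (hsq x hx) hv hv' (hne y hy hyV)
        (hne x hx hxV) v1 v1' v2 v2'
      obtain ⟨ψ, h5, h6⟩ := hG.tr4 h1 (hW.le hy) (hW.le hx) hyV hxV (hsq y hy) h2
      have := hJ.map (φ := ψ) (fun a ha => by rw [h6 a ha]; exact h1 a ha)
      rwa [h5, h6 v hv, h3] at this
    by_cases u1 : u = 1
    · exact ⟨1, one_mem _, by simp [u1]⟩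
    by_cases u2 : u = x * x
    · obtain ⟨v', hv', v1', v2'⟩ := exists_ne_of_card h4 (x * x)
      have h5 := V.mul_mem hv' hu
      have := (key v' hv' v1' v2').mul (key _ h5 (fun h => v2' (by
        rw [eq_inv_of_mul_eq_one_left h, hV.el.inv hu, u2])) (fun h => v1' (by
        rw [← u2] at h; simpa using h))) h5
      rwa [← mul_assoc, hV.el v' hv', one_mul] at this
    · exact key u hu u1 u2
  exfalso
  have hB : ∀ y ∈ W, y ∉ V → ∀ s ∈ W, s * y * s⁻¹ = y ∨ s * y * s⁻¹ = y * (y * y) := by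
    intro y hy hyV s hs
    by_contra hc
    push Not at hc
    refine hA ⟨y, hy, hyV, _, comm_mem hsq hy hs, fun h => hc.1 ?_, fun h => hc.2 ?_,
      s, hW.le hs, by group⟩
    · exact (inv_mul_eq_one.1 h).symm
    · exact inv_mul_eq_iff_eq_mul.1 h
  obtain ⟨s, hs, hsx⟩ : ∃ s ∈ W, s * x ≠ x * s := by
    by_contra hc
    push Not at hc
    exact hxV (hZ x hx hc)
  have hsV : s ∉ V := fun h => hsx (hW.le hx s h)
  have hc := hsq x hx
  have e1 : s * x * s⁻¹ = x * (x * x) :=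
    (hB x hx hxV s hs).resolve_left fun h => hsx (mul_inv_eq_iff_eq_mul.1 h)
  have e2 : x * s * x⁻¹ = s * (s * s) :=
    (hB s hs hsV x hx).resolve_left fun h => hsx (mul_inv_eq_iff_eq_mul.1 h).symm
  obtain ⟨c', hc', c1, c2⟩ := exists_ne_of_card h4 (x * x)
  obtain ⟨φ, h1, -, h2⟩ := hG.move hV.el bot_le hc hc' (by simpa using hne x hx hxV) (by simpa)
  obtain ⟨d, hd, hdW⟩ := frattini_aut hW h1.cent
  obtain ⟨w, hw⟩ : ∃ w, w = d * φ x * d⁻¹ := ⟨_, rfl⟩
  have hwW : w ∈ W := hw ▸ hdW x hx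
  have hww : w * w = c' := by
    calc w * w = d * φ (x * x) * d⁻¹ := by rw [hw, map_mul]; group
      _ = c' := by rw [h2, ← hd c' hc']; group
  have hwV : w ∉ V := fun h => c1 (hww ▸ hV.el w h)
  have cen : ∀ y ∈ W, ∀ v ∈ V, v * y = y * v := fun y hy v hv => hW.le hy v hv
  have key : ∀ y ∈ W, y ∉ V → y * y ≠ c' → w * y = y * w := by
    intro y hy hyV hyc
    rcases hB y hy hyV w hwW with h | h
    · exact mul_inv_eq_iff_eq_mul.1 h
    rcases hB w hwW hwV y hy with h' | h'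
    · exact (mul_inv_eq_iff_eq_mul.1 h').symm
    exfalso
    apply hyc
    have h5 : w * y = y * w * (y * y) := by
      rw [mul_inv_eq_iff_eq_mul.1 h, mul_assoc, cen w hwW _ (hsq y hy), ← mul_assoc]
    have h6 : y * w = w * y * c' := by
      rw [mul_inv_eq_iff_eq_mul.1 h', hww, mul_assoc, cen y hy _ hc', ← mul_assoc]
    rw [h6, mul_assoc, left_eq_mul] at h5
    rw [eq_inv_of_mul_eq_one_right h5, hV.el.inv hc']
  have e3 : s * s = x * x := by
    have h5 : s * x = x * s * (x * x) := by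
      rw [mul_inv_eq_iff_eq_mul.1 e1, mul_assoc, cen s hs _ hc, ← mul_assoc]
    have h6 : x * s = s * x * (s * s) := by
      rw [mul_inv_eq_iff_eq_mul.1 e2, mul_assoc, cen x hx _ (hsq s hs), ← mul_assoc]
    rw [h6, mul_assoc, left_eq_mul] at h5
    rw [eq_inv_of_mul_eq_one_left h5, hV.el.inv hc]
  have k1 := key x hx hxV c2.symm
  have k2 := key s hs hsV (e3 ▸ c2.symm)
  have e4 : x * w * (x * w) = x * x * c' := by
    rw [← hww, mul_assoc, ← mul_assoc w, k1]; group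
  have hxw : x * w ∉ V := fun h => c2 (by
    have := hV.el _ h
    rw [e4] at this
    rw [eq_inv_of_mul_eq_one_right this, hV.el.inv hc])
  have e5 : s * (x * w) * s⁻¹ = x * w * (x * x) := by
    calc s * (x * w) * s⁻¹ = s * x * s⁻¹ * (s * w * s⁻¹) := by group
      _ = _ := by rw [e1, ← k2, mul_inv_cancel_right, mul_assoc, cen w hwW _ hc, ← mul_assoc]
  rcases hB _ (W.mul_mem hx hwW) hxw s hs with h | h
  · rw [e5, mul_eq_left] at h
    exact hne x hx hxV h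
  · rw [e5, e4, mul_right_inj, left_eq_mul] at h
    exact c1 h

end CL.Homog
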