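import Mathlib
import Cfsg.Agent.FGS.Homog3

/-!
Homogeneous groups: central automorphisms of Sylow `2`-subgroups.
-/

set_option autoImplicit false

namespace CL.Homog

open Subgroup CL.MSS
open scoped commutatorElement IsMulCommutative

variable {G : Type*} [Group G]

theorem res_zpow [Finite G] (K : Subgroup G) (φ : MulAut G) (h : ∀ x ∈ K, φ x ∈ K) (k : ℤ)
    (a : K) : (((res K φ h : MulAut K) ^ k) a : G) = (φ ^ k) a := by
  induction k using Int.induction_on generalizing a with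
  | zero => rfl
  | succ k ih => rw [zpow_add_one, zpow_add_one, MulAut.mul_apply, MulAut.mul_apply, ih]; rfl
  | pred k ih => rw [zpow_sub_one, zpow_sub_one, MulAut.mul_apply, MulAut.mul_apply, ih]; rfl

theorem zpow_congr [Finite G] {K : Subgroup G} {φ ψ : MulAut G} (h : ∀ x ∈ K, φ x ∈ K)
    (e : ∀ x ∈ K, ψ x = φ x) (k : ℤ) {a : G} (ha : a ∈ K) : (ψ ^ k) a = (φ ^ k) a := by
  have h' : ∀ x ∈ K, ψ x ∈ K := fun x hx => e x hx ▸ h x hx
  have : res K ψ h' = res K φ h := by ext x; exact e x x.2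
  rw [← res_zpow K φ h k ⟨a, ha⟩, ← res_zpow K ψ h' k ⟨a, ha⟩, this]

/-- `φ` generates a group transitive on the non-identity elements of `U` -/
def Sing (φ : MulAut G) (U : Subgroup G) : Prop :=
  ∀ x ∈ U, ∀ y ∈ U, x ≠ 1 → y ≠ 1 → ∃ k : ℤ, (φ ^ k) x = y

theorem Hom.exists_sing [Finite G] (hG : Hom G) {U : Subgroup G} (hU : El U) :
    ∃ φ : MulAut G, Pres φ U ∧ Sing φ U := by
  obtain ⟨σ, hσ⟩ := exists_singer (p := 2) (V := U) (fun x y => Subtype.ext (hU.comm x.2 y.2))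
    (fun x => Subtype.ext (by simpa [sq] using hU x x.2))
  obtain ⟨φ, hφ⟩ := hG U U σ
  have h1 : Pres φ U := fun x hx => by rw [hφ ⟨x, hx⟩]; exact (σ ⟨x, hx⟩).2
  have h2 : res U φ h1 = σ := by ext x; exact hφ x
  refine ⟨φ, h1, fun x hx y hy x1 y1 => ?_⟩
  obtain ⟨k, hk⟩ := hσ ⟨x, hx⟩ ⟨y, hy⟩ (fun h => x1 (congrArg Subtype.val h))
    (fun h => y1 (congrArg Subtype.val h))
  exact ⟨k, by rw [← res_zpow U φ h1 k ⟨x, hx⟩, h2, hk]⟩

theorem special [Finite G] {U W : Subgroup G} (hW : IsPGroup 2 W) (hUW : U ≤ W) (hU : El U)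
    (hmax : ∀ x ∈ W, x * x = 1 → x ∈ U) (h4 : 2 < Nat.card U) {φ : MulAut G} (hφ : Pres φ W)
    (hS : Sing φ U) (hna : ∃ x ∈ W, ∃ y ∈ W, x * y ≠ y * x) :
    (∀ w ∈ W, w * w ∈ U) ∧ ∀ w ∈ W, (∀ s ∈ W, s * w = w * s) → w ∈ U := by
  obtain ⟨a, ha, a1, -⟩ := exists_ne_of_card h4 1
  obtain ⟨b, hb, b1, hab⟩ := exists_ne_of_card h4 a
  obtain ⟨h1, h2, h3⟩ := Cfsg.Agent.S3776.result hW (by
      obtain ⟨x, hx, y, hy, h⟩ := hna
      intro hc
      exact h (congrArg Subtype.val (hc.is_comm.comm (⟨x, hx⟩ : W) ⟨y, hy⟩)))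
    ⟨⟨b, hUW hb⟩, ⟨a, hUW ha⟩, fun h => hab (congrArg Subtype.val h),
      fun h => b1 (congrArg Subtype.val h), Subtype.ext (by simpa [sq] using hU b hb),
      fun h => a1 (congrArg Subtype.val h), Subtype.ext (by simpa [sq] using hU a ha)⟩
    ⟨zpowers (res W φ hφ : MulAut W), inferInstance, fun x y x1 x2 y1 y2 => by
      obtain ⟨k, hk⟩ := hS x (hmax x x.2 (by simpa [sq] using congrArg Subtype.val x2)) y
        (hmax y y.2 (by simpa [sq] using congrArg Subtype.val y2))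
        (fun h => x1 (Subtype.ext h)) (fun h => y1 (Subtype.ext h))
      exact ⟨_, zpow_mem_zpowers _ k, Subtype.ext ((res_zpow W φ hφ k x).trans hk)⟩⟩
  have hz : ∀ w ∈ W, (∀ s ∈ W, s * w = w * s) → w ∈ U := fun w hw h => by
    have := (h3 ⟨w, hw⟩).1 (mem_center_iff.2 fun s => Subtype.ext (h s s.2))
    exact hmax w hw (by simpa [sq] using congrArg Subtype.val this)
  refine ⟨fun w hw => hz _ (W.mul_mem hw hw) fun s hs => ?_, hz⟩
  have h5 : ⁅(⟨s, hs⟩ : W), ⟨w, hw⟩⁆ ∈ center W := by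
    rw [← h2, ← h1]; exact commutator_mem_commutator (mem_top _) (mem_top _)
  have h6 : s * w * s⁻¹ * w⁻¹ * (s * w * s⁻¹ * w⁻¹) = 1 := by
    simpa [sq, commutatorElement_def] using congrArg Subtype.val ((h3 _).1 h5)
  have h7 : w * (s * w * s⁻¹ * w⁻¹) = s * w * s⁻¹ * w⁻¹ * w :=
    congrArg Subtype.val (mem_center_iff.1 h5 ⟨w, hw⟩)
  calc s * (w * w) = s * w * s⁻¹ * w⁻¹ * (w * (s * w * s⁻¹ * w⁻¹)) * w * s := by group
    _ = (s * w * s⁻¹ * w⁻¹ * (s * w * s⁻¹ * w⁻¹)) * w * w * s := by rw [h7]; group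
    _ = w * w * s := by rw [h6, one_mul]

open Classical in
theorem Hom.comm_twist [Finite G] (hG : Hom G) {W H : Subgroup G} (hH : Two H W) {u σ : G}
    (hu : u ∈ H) (hu2 : u * u = 1) (hc : ∀ w ∈ W, w * u = u * w)
    (hσ : ∀ w ∈ W, σ * w * σ⁻¹ ∈ W) (hu' : σ * u * σ⁻¹ ∈ H) :
    ∃ n : G, ∀ w ∈ W, n * w * n⁻¹ =
      w * (if w ∈ H then 1 else u) * (if σ⁻¹ * w * σ ∈ H then 1 else σ * u * σ⁻¹) := by
  obtain ⟨α, h1, h2⟩ := hG.twist hH.1 hH.2 hu (fun x hx => hc x (hH.1 hx))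
    (fun x hx _ => by rw [← hc x hx, mul_assoc, hu2, mul_one])
  have h3 : ∀ w ∈ W, α w = w * (if w ∈ H then 1 else u) := fun w hw => by
    split_ifs with h
    · rw [h1 w h, mul_one]
    · exact h2 w hw h
  have hσ' : ∀ w ∈ W, σ⁻¹ * w * σ ∈ W := fun w hw => by
    simpa using (mem_normalizer_iff.1 (inv_mem (mem_normalizer_of_conj hσ)) w).1 hw
  refine ⟨α σ * σ⁻¹, fun w hw => ?_⟩
  have h4 : α (σ⁻¹ * w * σ * (if σ⁻¹ * w * σ ∈ H then 1 else u)) = σ⁻¹ * w * σ := by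
    split_ifs with h
    · rw [mul_one, h1 _ h]
    · rw [map_mul, h2 _ (hσ' w hw) h, h1 u hu, mul_assoc, hu2, mul_one]
  calc α σ * σ⁻¹ * w * (α σ * σ⁻¹)⁻¹ = α σ * (σ⁻¹ * w * σ) * (α σ)⁻¹ := by group
    _ = α (σ * (σ⁻¹ * w * σ * (if σ⁻¹ * w * σ ∈ H then 1 else u)) * σ⁻¹) := by
      rw [map_mul, map_mul, h4, map_inv]
    _ = α (w * (if σ⁻¹ * w * σ ∈ H then 1 else σ * u * σ⁻¹)) := by
      congr 1
      split_ifs <;> group
    _ = _ := by
      rw [map_mul, h3 w hw]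
      congr 1
      split_ifs
      · exact map_one α
      · exact h1 _ hu'

theorem card_le_four {V : Subgroup G} {a b c d : G} (h : ∀ v ∈ V, v = a ∨ v = b ∨ v = c ∨ v = d) :
    Nat.card V ≤ 4 := by
  have h1 : (V : Set G) ⊆ {a, b, c, d} := fun v hv => by simpa using h v hv
  have h2 := Set.ncard_le_ncard h1
  have h3 : ({a, b, c, d} : Set G).ncard ≤ 4 :=
    (Set.ncard_insert_le _ _).trans (Nat.succ_le_succ ((Set.ncard_insert_le _ _).trans
      (Nat.succ_le_succ ((Set.ncard_insert_le _ _).trans (by simp)))))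
  exact h2.trans h3

/-- inner version of `comm_twist` -/
theorem Hom.inner_twist [Finite G] (hG : Hom G) {W H E : Subgroup G} (hH : Two H W) (hE : E ≤ H)
    (hW : SylIn 2 W (centralizer (E : Set G))) {u σ : G} (hu : u ∈ E) (hu2 : u * u = 1)
    (hσ : ∀ w ∈ W, σ * w * σ⁻¹ ∈ W) (hσE : ∀ w ∈ E, σ * w * σ⁻¹ ∈ E) :
    ∃ w₀ ∈ W, ∀ w ∈ W, (w ∈ H → σ⁻¹ * w * σ ∈ H → w₀ * w * w₀⁻¹ = w) ∧
      (w ∉ H → σ⁻¹ * w * σ ∈ H → w₀ * w * w₀⁻¹ = w * u) ∧
      (w ∈ H → σ⁻¹ * w * σ ∉ H → w₀ * w * w₀⁻¹ = w * (σ * u * σ⁻¹)) ∧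
      (w ∉ H → σ⁻¹ * w * σ ∉ H → w₀ * w * w₀⁻¹ = w * (u * (σ * u * σ⁻¹))) := by
  classical
  have cen : ∀ w ∈ W, ∀ e ∈ E, w * e = e * w := fun w hw e he => (hW.le hw e he).symm
  have hu' := hσE u hu
  obtain ⟨n, hn⟩ := hG.comm_twist hH (hE hu) hu2 (fun w hw => cen w hw u hu) hσ (hE hu')
  have hσ' : ∀ w ∈ E, σ⁻¹ * w * σ ∈ E := fun w hw => by
    simpa using (mem_normalizer_iff.1 (inv_mem (mem_normalizer_of_conj hσE)) w).1 hw
  have h1 : ∀ e ∈ E, n * e * n⁻¹ = e := fun e he => by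
    rw [hn e (hH.1 (hE he)), if_pos (hE he), if_pos (hE (hσ' e he)), mul_one, mul_one]
  have h2 : ∀ w ∈ W, ∃ e ∈ E, e * e = 1 ∧ n * w * n⁻¹ = w * e := fun w hw => by
    have h3 : σ * u * σ⁻¹ * (σ * u * σ⁻¹) = 1 := by
      calc _ = σ * (u * u) * σ⁻¹ := by group
        _ = 1 := by rw [hu2]; group
    rw [hn w hw, mul_assoc]
    refine ⟨_, ?_, ?_, rfl⟩
    · split_ifs <;> simp [hu, hu', E.mul_mem]
    · split_ifs
      · simp
      · rw [one_mul, h3]
      · rw [mul_one, hu2]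
      · rw [mul_assoc, ← mul_assoc _ u, cen _ (hH.1 (hE hu')) u hu, mul_assoc, h3, mul_one, hu2]
  obtain ⟨w₀, hw₀, h⟩ := exists_inner hW (n := n)
    (fun e he => by rw [← mul_inv_eq_iff_eq_mul.1 (h1 e he)])
    (fun w hw => by
      obtain ⟨e, he, -, h⟩ := h2 w hw
      rw [h]; exact W.mul_mem hw (hH.1 (hE he)))
    (fun w hw => by
      obtain ⟨e, he, h3, h⟩ := h2 w hw
      calc n * n * w * (n * n)⁻¹ = n * (n * w * n⁻¹) * n⁻¹ := by group
        _ = n * (w * e) * n⁻¹ := by rw [h]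
        _ = n * w * n⁻¹ * (n * e * n⁻¹) := by group
        _ = w := by rw [h, h1 e he, mul_assoc, h3, mul_one])
  refine ⟨w₀, hw₀, fun w hw => ?_⟩
  rw [h w hw, hn w hw]
  refine ⟨fun a b => ?_, fun a b => ?_, fun a b => ?_, fun a b => ?_⟩
  · rw [if_pos a, if_pos b, mul_one, mul_one]
  · rw [if_neg a, if_pos b, mul_one]
  · rw [if_pos a, if_neg b, mul_one]
  · rw [if_neg a, if_neg b, mul_assoc]

theorem Hom.syl_eq [Finite G] (hG : Hom G) {E U : Subgroup G} (hE2 : IsPGroup 2 E)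
    (hEc : E ≤ centralizer (E : Set G)) (hUE : U ≤ E) (hU : El U)
    (hmax : ∀ x ∈ centralizer (E : Set G), x * x = 1 → x ∈ U) (h4 : 2 < Nat.card U)
    {φ : MulAut G} (hφ : Pres φ E) (hS : Sing φ U) (hφU : Pres φ U) {σ u : G}
    (hσ : ∀ x ∈ E, σ * x * σ⁻¹ ∈ E) (hu : u ∈ U) (hne : σ * u * σ⁻¹ ≠ u)
    (hc : E ≠ U ∨ 4 < Nat.card U) {W : Subgroup G} (hW : SylIn 2 W (centralizer (E : Set G))) :
    W = E := by
  have hEW : E ≤ W := hW.le_of_normalized hE2 hEc (hW.le.trans (centralizer_le_normalizer _))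
  by_contra hne'
  obtain ⟨H, hH, hEH, x, hx, hxH⟩ := exists_two_of_lt hW.pgroup (lt_of_le_of_ne hEW (Ne.symm hne'))
  have hσ1 : Pres (MulAut.conj σ) E := hσ
  obtain ⟨d, hd, hdW⟩ := frattini_aut hW hσ1.cent
  have e1 : ∀ y ∈ E, d * σ * y * (d * σ)⁻¹ = σ * y * σ⁻¹ := fun y hy => by
    calc d * σ * y * (d * σ)⁻¹ = d * (σ * y * σ⁻¹) * d⁻¹ := by group
      _ = _ := by rw [← hd _ (hσ y hy), mul_inv_cancel_right]
  obtain ⟨w₀, hw₀, h⟩ := hG.inner_twist hH hEH hW (σ := d * σ) (hUE hu) (hU u hu)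
    (fun w hw => by simpa [mul_assoc] using hdW w hw) (fun y hy => e1 y hy ▸ hσ y hy)
  rw [e1 u (hUE hu)] at h
  have u1 : u ≠ 1 := fun h => hne (by simp [h])
  have hna : w₀ * x ≠ x * w₀ := by
    rw [Ne, ← mul_inv_eq_iff_eq_mul]
    by_cases h1 : (d * σ)⁻¹ * x * (d * σ) ∈ H
    · rw [(h x hx).2.1 hxH h1, mul_eq_left]; exact u1
    · rw [(h x hx).2.2.2 hxH h1, mul_eq_left]
      exact fun h2 => hne (by rw [eq_inv_of_mul_eq_one_right h2, hU.inv hu])
  obtain ⟨d', hd', hdW'⟩ := frattini_aut hW hφ.cent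
  have hS' : Sing (MulAut.conj d' * φ) U := fun a ha b hb a1 b1 => by
    obtain ⟨k, hk⟩ := hS a ha b hb a1 b1
    refine ⟨k, (zpow_congr hφU (fun y hy => ?_) k ha).trans hk⟩
    rw [MulAut.mul_apply, MulAut.conj_apply, ← hd' _ (hUE (hφU y hy)), mul_inv_cancel_right]
  obtain ⟨hsq, hZ⟩ := special hW.pgroup (hUE.trans hEW) hU (fun y hy => hmax y (hW.le hy)) h4
    (φ := MulAut.conj d' * φ) hdW' hS' ⟨w₀, hw₀, x, hx, hna⟩
  have hEU : E = U := le_antisymm (fun e he => hZ e (hEW he) fun s hs => (hW.le hs e he).symm) hUE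
  subst hEU
  have h5 := hc.resolve_left (by simp)
  have hw₀E : w₀ ∉ E := fun h => hna (hW.le hx w₀ h)
  refine absurd (card_le_four (a := 1) (b := u) (c := σ * u * σ⁻¹) (d := u * (σ * u * σ⁻¹))
    fun v hv => ?_) (not_le.2 h5)
  obtain ⟨w, hw, e⟩ := hG.tri ⟨hU, hmax⟩ h4 hW hsq hZ hw₀ hw₀E hv
  have e2 : w₀ * w * w₀⁻¹ = w * v := by
    have h6 : w * w₀ = w₀ * w * v := by
      rw [mul_inv_eq_iff_eq_mul.1 e, mul_assoc, hW.le hw v hv, mul_assoc]
    rw [mul_inv_eq_iff_eq_mul, mul_assoc, hW.le hw₀ v hv, ← mul_assoc, h6, mul_assoc, hU v hv,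
      mul_one]
  rw [← mul_right_inj w, ← mul_right_inj w (b := v), ← mul_right_inj w (b := v),
    ← mul_right_inj w (b := v), ← e2, mul_one]
  have := h w hw
  tauto

theorem not_dvd_of_compl [Finite G] (hp : commutator G = ⊤) {p : ℕ} [Fact p.Prime]
    (P : Sylow p G) {N : Subgroup G} [N.Normal] (h : N.IsComplement' P) : (P : Subgroup G) = ⊥ := by
  have h1 : IsPGroup p (G ⧸ N) := by
    obtain ⟨n, hn⟩ := IsPGroup.iff_card.1 P.isPGroup'
    exact IsPGroup.of_card (n := n) (by rw [← hn, ← h.symm.index_eq_card]; rfl)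
  have := h1.isNilpotent
  have h2 : (⊤ : Subgroup (G ⧸ N)) = ⊥ := eq_bot_of_solvable (by
    have := congrArg (map (QuotientGroup.mk' N)) hp
    rwa [commutator_def, map_commutator, map_top_of_surjective _ (QuotientGroup.mk'_surjective N)]
      at this) inferInstance
  have h3 : N = ⊤ := by
    rw [eq_top_iff]
    intro x _
    rw [← QuotientGroup.eq_one_iff, ← mem_bot, ← h2]; trivial
  have := h.disjoint
  rwa [h3, top_disjoint] at this

theorem eq_one_of_central [Finite G] (hp : commutator G = ⊤) {p : ℕ} [Fact p.Prime]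
    (P : Sylow p G) (hc : ∀ x ∈ (P : Subgroup G), ∀ y ∈ (P : Subgroup G), x * y = y * x) {z : G}
    (hz : z ∈ (P : Subgroup G)) (hz' : z ∈ center G) : z = 1 := by
  have : IsMulCommutative (P : Subgroup G) := ⟨⟨fun a b => Subtype.ext (hc a a.2 b b.2)⟩⟩
  have h1 := MonoidHom.transfer_eq_pow (MonoidHom.id (P : Subgroup G)) z (fun k g _ => by
    rw [mul_assoc, ← mem_center_iff.1 (pow_mem hz' k) g, inv_mul_cancel_left])
  have h2 : z ∈ (MonoidHom.transfer (MonoidHom.id (P : Subgroup G))).ker :=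
    Abelianization.commutator_subset_ker _ (hp ▸ mem_top z)
  rw [MonoidHom.mem_ker, h1] at h2
  have h3 : z ^ (P : Subgroup G).index = 1 := congrArg Subtype.val h2
  obtain ⟨k, hk⟩ := P.isPGroup' ⟨z, hz⟩
  have h4 : z ^ p ^ k = 1 := congrArg Subtype.val hk
  have h5 : ((P : Subgroup G).index).Coprime (p ^ k) :=
    (((Fact.out : p.Prime).coprime_iff_not_dvd.2 P.not_dvd_index).symm).pow_right k
  rw [← pow_gcd_eq_one.2 ⟨h3, h4⟩, h5, pow_one]

/-- A perfect homogeneous group whose involutions are central has at most one involution. -/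
theorem Hom.star [Finite G] (hG : Hom G) (hp : commutator G = ⊤)
    (hZ : ∀ x : G, x * x = 1 → x ∈ center G) {a b : G} (ha : a * a = 1) (hb : b * b = 1)
    (a1 : a ≠ 1) (b1 : b ≠ 1) : a = b := by
  by_contra hab
  let V : Subgroup G :=
    { carrier := {x | x * x = 1}
      one_mem' := mul_one 1
      mul_mem' := fun {x y} hx hy => by
        change x * y * (x * y) = 1
        rw [mul_assoc, ← mul_assoc y, mem_center_iff.1 (hZ x hx) y, mul_assoc, hy, mul_one, hx]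
      inv_mem' := fun {x} hx => by
        change x⁻¹ * x⁻¹ = 1
        rw [← mul_inv_rev, hx, inv_one] }
  have hV : MaxE V := ⟨fun _ h => h, fun _ _ h => h⟩
  have hVZ : V ≤ center G := hZ
  have hC : ∀ g, g ∈ centralizer (V : Set G) := fun g v hv => (mem_center_iff.1 (hZ v hv) g).symm
  have h4 : 2 < Nat.card V := by
    have h1 : ({1, a, b} : Set G) ⊆ V := by
      rintro x (rfl | rfl | rfl)
      exacts [V.one_mem, ha, hb]
    have h2 := Set.ncard_le_ncard h1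
    rw [Set.ncard_eq_three.2 ⟨1, a, b, a1.symm, b1.symm, hab, rfl⟩] at h2
    exact h2
  obtain ⟨P⟩ : Nonempty (Sylow 2 G) := inferInstance
  have hW : SylIn 2 (P : Subgroup G) (centralizer (V : Set G)) := sylIn_sylow P fun g _ => hC g
  have hVW : V ≤ P := hW.le_of_normalized hV.el.isPGroup hV.el.le_cent
    (hW.le.trans (centralizer_le_normalizer _))
  by_cases hna : ∃ x ∈ (P : Subgroup G), ∃ y ∈ (P : Subgroup G), x * y ≠ y * x
  swap
  · push Not at hna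
    exact a1 (eq_one_of_central hp P hna (hVW ha) (hZ a ha))
  obtain ⟨φ, hφ, hS⟩ := hG.exists_sing hV.el
  obtain ⟨d', hd', hdW'⟩ := frattini_aut hW hφ.cent
  have hS' : Sing (MulAut.conj d' * φ) V := fun a ha b hb a1 b1 => by
    obtain ⟨k, hk⟩ := hS a ha b hb a1 b1
    refine ⟨k, (zpow_congr hφ (fun y hy => ?_) k ha).trans hk⟩
    rw [MulAut.mul_apply, MulAut.conj_apply, ← hd' _ (hφ y hy), mul_inv_cancel_right]
  obtain ⟨hsq, hZ'⟩ := special hW.pgroup hVW hV.el (fun y _ h => h) h4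
    (φ := MulAut.conj d' * φ) hdW' hS' hna
  have key : ∀ σ : G, (∀ w ∈ (P : Subgroup G), σ * w * σ⁻¹ ∈ (P : Subgroup G)) →
      ∀ w ∈ (P : Subgroup G), w⁻¹ * (σ⁻¹ * w * σ) ∈ V := by
    intro σ hσ w hw
    have hσ' : σ⁻¹ * w * σ ∈ (P : Subgroup G) := by
      simpa using (mem_normalizer_iff.1 (inv_mem (mem_normalizer_of_conj hσ)) w).1 hw
    by_contra hc
    obtain ⟨H, hH, hVH, hx⟩ := exists_two hVW hsq hc
    have e0 : ∀ v ∈ V, σ * v * σ⁻¹ = v := fun v hv => by rw [← hC σ v hv, mul_inv_cancel_right]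
    obtain ⟨w₀, hw₀, h⟩ := hG.inner_twist hH hVH hW (σ := σ) (u := a) ha ha hσ
      (fun v hv => (e0 v hv).symm ▸ hv)
    rw [e0 a ha, ha] at h
    have h5 : w₀ * w * w₀⁻¹ = w * a := by
      by_cases h6 : w ∈ H
      · exact (h w hw).2.2.1 h6 fun h7 => hx (H.mul_mem (H.inv_mem h6) h7)
      · refine (h w hw).2.1 h6 ?_
        by_contra h7
        exact hx (hH.mul (inv_mem hw) hσ' (by simpa using h6) h7)
    have hw₀V : w₀ ∉ V := fun h6 => a1 (by
      rwa [hC w w₀ h6, mul_inv_cancel_right, left_eq_mul] at h5)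
    obtain ⟨v, hv, v1, v2⟩ := exists_ne_of_card h4 a
    obtain ⟨s, hs, e⟩ := hG.tri hV h4 hW hsq hZ' hw₀ hw₀V hv
    have e2 : w₀ * s * w₀⁻¹ = s * v := by
      have h6 : s * w₀ = w₀ * s * v := by
        rw [mul_inv_eq_iff_eq_mul.1 e, mul_assoc, hC s v hv, mul_assoc]
      rw [mul_inv_eq_iff_eq_mul, mul_assoc, hC w₀ v hv, ← mul_assoc, h6, mul_assoc, hV.el v hv,
        mul_one]
    have := h s hs
    rw [e2] at this
    simp only [mul_eq_left, mul_right_inj, mul_one] at this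
    tauto
  have : V.Normal := normal_of_le_center hVZ
  set π := QuotientGroup.mk' V
  have hπ : Function.Surjective π := QuotientGroup.mk'_surjective V
  set Q := P.mapSurjective hπ
  have hQ : normalizer ((Q : Subgroup (G ⧸ V)) : Set (G ⧸ V)) ≤
      centralizer ((Q : Subgroup (G ⧸ V)) : Set (G ⧸ V)) := by
    intro g hg
    obtain ⟨σ, rfl⟩ := hπ g
    rintro _ ⟨w, hw, rfl⟩
    have := key σ (fun y hy => by
      obtain ⟨z, hz, e⟩ := (mem_normalizer_iff.1 hg (π y)).1 ⟨y, hy, rfl⟩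
      rw [← map_inv, ← map_mul, ← map_mul] at e
      have h1 : z⁻¹ * (σ * y * σ⁻¹) ∈ V := QuotientGroup.eq.1 e
      exact ((P : Subgroup G).mul_mem_cancel_left (inv_mem hz)).1 (hVW h1)) w hw
    have h2 : π w = π (σ⁻¹ * w * σ) := QuotientGroup.eq.2 this
    rw [map_mul, map_mul, map_inv, mul_assoc, eq_inv_mul_iff_mul_eq] at h2
    exact h2.symm
  have h6 := not_dvd_of_compl (by
    have := congrArg (map π) hp
    rwa [commutator_def, map_commutator, map_top_of_surjective _ hπ] at this) Q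
    (MonoidHom.ker_transferSylow_isComplement' Q hQ)
  obtain ⟨x, hx, y, hy, hxy⟩ := hna
  have h7 : π x ∈ (Q : Subgroup (G ⧸ V)) := ⟨x, hx, rfl⟩
  rw [h6, mem_bot] at h7
  exact hxy (hC y x ((QuotientGroup.eq_one_iff x).1 h7))

end CL.Homog
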