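import Mathlib
import Cfsg.Agent.FGS.Homog4

/-!
Homogeneous groups of `2`-rank at least three: a maximal elementary abelian `2`-subgroup is
central in its normalizer.
-/

set_option autoImplicit false

namespace CL.Homog

open Subgroup CL.MSS

variable {G : Type*} [Group G]

/-- the automorphisms of `V` induced by conjugation -/
def ind (V : Subgroup G) : Subgroup (MulAut V) where
  carrier := {α | ∃ k : G, ∀ v : V, k * v * k⁻¹ = α v}
  one_mem' := ⟨1, fun v => by simp⟩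
  mul_mem' := by
    rintro α β ⟨a, ha⟩ ⟨b, hb⟩
    refine ⟨a * b, fun v => ?_⟩
    rw [MulAut.mul_apply, ← ha, ← hb]; group
  inv_mem' := by
    rintro α ⟨a, ha⟩
    refine ⟨a⁻¹, fun v => ?_⟩
    have := ha (α⁻¹ v)
    rw [MulAut.apply_inv_self] at this
    rw [← this]; group

theorem Hom.ind_normal (hG : Hom G) (V : Subgroup G) : (ind V).Normal := by
  constructor
  rintro α ⟨a, ha⟩ β
  obtain ⟨φ, hφ⟩ := hG V V β
  refine ⟨φ a, fun v => ?_⟩
  have h1 := hφ (β⁻¹ v)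
  rw [show β (β⁻¹ v) = v from MulAut.apply_inv_self _ β v] at h1
  rw [MulAut.mul_apply, MulAut.mul_apply, ← hφ, ← ha, map_mul, map_mul, map_inv, h1]

theorem Hom.full [Finite G] (hG : Hom G) {V : Subgroup G} (hV : El V) (h8 : 4 < Nat.card V)
    {σ u : G} (hσ : ∀ x ∈ V, σ * x * σ⁻¹ ∈ V) (hu : u ∈ V) (hne : σ * u * σ⁻¹ ≠ u) {φ : G ≃* G}
    (hφ : Pres φ V) : ∃ k : G, ∀ v ∈ V, k * v * k⁻¹ = φ v := by
  have := hG.ind_normal V
  have h1 := aut_two_normal (V := V) (fun x => Subtype.ext (hV x x.2)) h8 (ind V) (fun h => by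
    have h2 : (res V (MulAut.conj σ) hσ : MulAut V) ∈ ind V := ⟨σ, fun v => rfl⟩
    rw [h, mem_bot] at h2
    exact hne (congrArg (fun α : MulAut V => (α ⟨u, hu⟩ : G)) h2))
  have h2 : (res V φ hφ : MulAut V) ∈ ind V := by rw [h1]; trivial
  obtain ⟨k, hk⟩ := h2
  exact ⟨k, fun v hv => hk ⟨v, hv⟩⟩

theorem syl_hom [Finite G] {p : ℕ} [Fact p.Prime] {W X : Subgroup G} (hW : SylIn p W X)
    {Y : Type*} [Group Y] (f : X →* Y) (hf : IsPGroup p f.range) (x : X) :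
    ∃ w : X, (w : G) ∈ W ∧ f w = f x := by
  have := Finite.of_surjective _ f.rangeRestrict_surjective
  have h1 := (hW.subgroupOf le_rfl).map f.rangeRestrict
  have h2 := h1.eq_of_isPGroup (hf.to_subgroup _)
  have : f.rangeRestrict x ∈ (W.subgroupOf X).map f.rangeRestrict := by
    rw [h2]; exact ⟨x, x.2, rfl⟩
  obtain ⟨w, hw, e⟩ := this
  exact ⟨w, hw, congrArg Subtype.val e⟩

theorem Pres.norm [Finite G] {φ : G ≃* G} {V : Subgroup G} (h : Pres φ V) :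
    Pres φ (normalizer (V : Set G)) := by
  intro x hx
  refine mem_normalizer_of_conj fun v hv => ?_
  have := h _ ((mem_normalizer_iff.1 hx _).1 (symm_mem h hv))
  simpa using this

theorem Hom.tv' [Finite G] (hG : Hom G) {V A : Subgroup G} (hV : El V) (hA : A ≤ V) {x u : G}
    (hx : x ∈ V) (hxA : x ∉ A) (hu : u ∈ A) : ∃ φ : G ≃* G,
      (∀ U ≤ V, u ∈ U → Pres φ U) ∧ (∀ a ∈ A, φ a = a) ∧ φ x = x * u := by
  obtain ⟨H, h3, h4, h5⟩ := exists_two hA (fun y hy => by rw [hV y hy]; exact one_mem _) hxA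
  obtain ⟨φ, -, h7, h8⟩ := hG.tv hV h3 (h4 hu)
  refine ⟨φ, fun U hU hu' y hy => ?_, fun a ha => h7 a (h4 ha), h8 x hx h5⟩
  by_cases h : y ∈ H
  · rwa [h7 y h]
  · rw [h8 y (hU hy) h]; exact U.mul_mem hy hu'

/-- the configuration: a hyperplane `U` of `V` and a Sylow subgroup `Q` of `N(V) ∩ C(U)` -/
structure St (V U Q : Subgroup G) (v : G) : Prop where
  hom : Hom G
  el : El V
  sc : SylIn 2 V (centralizer (V : Set G))
  two : Two U V
  mem : v ∈ V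
  nmem : v ∉ U
  card : 2 < Nat.card U
  syl : SylIn 2 Q (normalizer (V : Set G) ⊓ centralizer (U : Set G))
  le : V ≤ Q
  full : ∀ φ : G ≃* G, Pres φ V → ∃ k : G, ∀ x ∈ V, k * x * k⁻¹ = φ x

/-- the centre of the transvection induced by `t` -/
def ctr (v t : G) : G := v * (t * v * t⁻¹)

namespace St

variable {V U Q : Subgroup G} {v : G} (h : St V U Q v)
include h

theorem elU : El U := fun x hx => h.el x (h.two.1 hx)

theorem vv : v * v = 1 := h.el v h.mem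

theorem cen {t u : G} (ht : t ∈ Q) (hu : u ∈ U) : u * t = t * u := (h.syl.le ht).2 u hu

theorem ctr_mem {t : G} (ht : t ∈ normalizer (V : Set G) ⊓ centralizer (U : Set G)) :
    ctr v t ∈ U := by
  refine h.two.mul h.mem ((mem_normalizer_iff.1 ht.1 v).1 h.mem) h.nmem fun h1 => h.nmem ?_
  have := ht.2 _ h1
  rw [inv_mul_cancel_right, mul_right_inj] at this
  exact this ▸ h1

theorem conj_eq {t : G} (ht : t ∈ normalizer (V : Set G) ⊓ centralizer (U : Set G)) {x : G}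
    (hx : x ∈ V) (hx' : x ∉ U) : t * x * t⁻¹ = x * ctr v t := by
  have h1 := h.two.mul h.mem hx h.nmem hx'
  have h2 : x = v * (v * x) := by rw [← mul_assoc, h.vv, one_mul]
  have h3 : t * (v * x) * t⁻¹ = v * x := by rw [← ht.2 _ h1, mul_inv_cancel_right]
  calc t * x * t⁻¹ = t * v * t⁻¹ * (t * (v * x) * t⁻¹) := by
        conv_lhs => rw [h2]
        group
    _ = v * ctr v t * (v * x) := by rw [h3, ctr, ← mul_assoc v, h.vv, one_mul]
    _ = x * ctr v t := by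
      rw [mul_assoc, h.elU.comm (h.ctr_mem ht) h1, ← mul_assoc, ← h2]

theorem ctr_mul {t s : G} (ht : t ∈ normalizer (V : Set G) ⊓ centralizer (U : Set G))
    (hs : s ∈ normalizer (V : Set G) ⊓ centralizer (U : Set G)) :
    ctr v (t * s) = ctr v t * ctr v s := by
  have h1 := h.conj_eq hs h.mem h.nmem
  calc ctr v (t * s) = v * (t * (s * v * s⁻¹) * t⁻¹) := by rw [ctr]; group
    _ = v * (t * v * t⁻¹) * (t * ctr v s * t⁻¹) := by rw [h1]; group
    _ = _ := by rw [← ht.2 _ (h.ctr_mem hs), mul_inv_cancel_right]; rfl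

theorem ctr_of_mem {t : G} (ht : t ∈ V) : ctr v t = 1 := by
  rw [ctr, h.el.comm ht h.mem, mul_inv_cancel_right, h.vv]

theorem ctr_inv {t : G} (ht : t ∈ Q) : ctr v t⁻¹ = ctr v t := by
  have h1 := h.ctr_mul (h.syl.le ht) (h.syl.le (Q.inv_mem ht))
  rw [mul_inv_cancel, h.ctr_of_mem V.one_mem] at h1
  rw [eq_inv_of_mul_eq_one_right h1.symm, h.elU.inv (h.ctr_mem (h.syl.le ht))]

theorem mem_of_comm {t : G} (ht : IsPGroup 2 (zpowers t)) (h1 : t ∈ centralizer (U : Set G))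
    (h2 : v * t = t * v) : t ∈ V := by
  have h3 : t ∈ centralizer (V : Set G) := fun x hx => by
    by_cases hx' : x ∈ U
    · exact h1 x hx'
    · have h4 := h1 _ (h.two.mul h.mem hx h.nmem hx')
      rw [mul_assoc, ← mul_assoc t, ← h2, mul_assoc, mul_right_inj] at h4
      exact h4
  exact h.sc.le_of_normalizes ht (zpowers_le.2 h3)
    (zpowers_le.2 (centralizer_le_normalizer _ h3)) (mem_zpowers t)

theorem mem_of_ctr {t : G} (ht : t ∈ Q) (h1 : ctr v t = 1) : t ∈ V := by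
  refine h.mem_of_comm (h.syl.pgroup.to_le (zpowers_le.2 ht)) (h.syl.le ht).2 ?_
  have := h.conj_eq (h.syl.le ht) h.mem h.nmem
  rw [h1, mul_one, mul_inv_eq_iff_eq_mul] at this
  exact this.symm

theorem sq_mem {t : G} (ht : t ∈ Q) : t * t ∈ U := by
  have h1 : t * t ∈ V := h.mem_of_ctr (Q.mul_mem ht ht) (by
    rw [h.ctr_mul (h.syl.le ht) (h.syl.le ht), h.elU _ (h.ctr_mem (h.syl.le ht))])
  by_contra h2
  have h3 := h.conj_eq (h.syl.le ht) h1 h2
  rw [mul_assoc, mul_inv_cancel_right, left_eq_mul] at h3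
  exact h2 (h.el t (h.mem_of_ctr ht h3) ▸ U.one_mem)

theorem sq_mul_U {t u : G} (ht : t ∈ Q) (hu : u ∈ U) : t * u * (t * u) = t * t := by
  rw [mul_assoc, ← mul_assoc u, h.cen ht hu, mul_assoc, h.elU u hu, mul_one]

theorem sq_mul_V {t x : G} (ht : t ∈ Q) (hx : x ∈ V) (hx' : x ∉ U) :
    t * x * (t * x) = t * t * ctr v t := by
  have h1 := h.conj_eq (h.syl.le (Q.inv_mem ht)) hx hx'
  rw [h.ctr_inv ht] at h1
  calc t * x * (t * x) = t * t * (t⁻¹ * x * t⁻¹⁻¹) * x := by group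
    _ = _ := by
      rw [h1, h.el.comm hx (h.two.1 (h.ctr_mem (h.syl.le ht))), mul_assoc (t * t),
        mul_assoc (ctr v t), h.el x hx, mul_one]

theorem inv_mul_mem {t s : G} (ht : t ∈ Q) (hs : s ∈ Q) (e : ctr v t = ctr v s) :
    t⁻¹ * s ∈ V :=
  h.mem_of_ctr (Q.mul_mem (Q.inv_mem ht) hs) (by
    rw [h.ctr_mul (h.syl.le (Q.inv_mem ht)) (h.syl.le hs), h.ctr_inv ht, e,
      h.elU _ (h.ctr_mem (h.syl.le hs))])

theorem inv_mul_mem_U {t s : G} (ht : t ∈ Q) (hs : s ∈ Q) (e : ctr v t = ctr v s)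
    (h1 : ctr v t ≠ 1) (e' : t * t = s * s) : t⁻¹ * s ∈ U := by
  by_contra hc
  have := h.sq_mul_V ht (h.inv_mul_mem ht hs e) hc
  rw [mul_inv_cancel_left, ← e', left_eq_mul] at this
  exact h1 this

variable [Finite G]

theorem exists_ctr {u : G} (hu : u ∈ U) : ∃ t ∈ Q, ctr v t = u := by
  obtain ⟨φ, h1, h2, h3⟩ := h.hom.tv h.el h.two hu
  obtain ⟨k, hk⟩ := h.full φ h1
  have h4 : k ∈ normalizer (V : Set G) ⊓ centralizer (U : Set G) :=
    ⟨mem_normalizer_of_conj fun x hx => by rw [hk x hx]; exact h1 x hx, fun x hx => by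
      have := hk x (h.two.1 hx)
      rw [h2 x hx, mul_inv_eq_iff_eq_mul] at this
      exact this.symm⟩
  let f : ↥(normalizer (V : Set G) ⊓ centralizer (U : Set G)) →* G :=
    MonoidHom.mk' (fun g => ctr v g) fun a b => h.ctr_mul a.2 b.2
  obtain ⟨w, hw, e⟩ := syl_hom h.syl f
    (h.elU.isPGroup.to_le (by rintro _ ⟨g, rfl⟩; exact h.ctr_mem g.2)) ⟨k, h4⟩
  refine ⟨w, hw, e.trans ?_⟩
  change v * (k * v * k⁻¹) = u
  rw [hk v h.mem, h3 v h.mem h.nmem, ← mul_assoc, h.vv, one_mul]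

theorem adjust {φ : G ≃* G} (h1 : Pres φ V) (h2 : Pres φ U) :
    ∃ d ∈ normalizer (V : Set G) ⊓ centralizer (U : Set G), ∀ w ∈ Q, d * φ w * d⁻¹ ∈ Q :=
  frattini_aut h.syl fun x hx => ⟨h1.norm x hx.1, h2.cent x hx.2⟩

theorem adjust' {φ : G ≃* G} (h1 : Pres φ V) (h2 : Pres φ U) :
    ∃ ψ : G ≃* G, Pres ψ Q ∧ Pres ψ U ∧ (∀ u ∈ U, ψ u = φ u) ∧
      ∀ t ∈ Q, ctr v (ψ t) = ψ (ctr v t) := by
  obtain ⟨d, hd, h3⟩ := h.adjust h1 h2
  have h4 : ∀ u ∈ U, d * φ u * d⁻¹ = φ u := fun u hu => by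
    rw [← hd.2 _ (h2 u hu), mul_inv_cancel_right]
  have h5 : Pres (φ.trans (MulAut.conj d)) U := fun u hu => by
    change d * φ u * d⁻¹ ∈ U
    rw [h4 u hu]; exact h2 u hu
  refine ⟨φ.trans (MulAut.conj d), h3, h5, h4, fun t ht => ?_⟩
  have h6 := h.conj_eq (h.syl.le (h3 t ht)) (x := φ.trans (MulAut.conj d) v)
    ((mem_normalizer_iff.1 hd.1 _).1 (h1 v h.mem)) fun hc => h.nmem (mem_of_map_mem h5 hc)
  have h7 := congrArg (φ.trans (MulAut.conj d)) (h.conj_eq (h.syl.le ht) h.mem h.nmem)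
  rw [map_mul, map_mul, map_mul, map_inv] at h7
  exact mul_left_cancel (h6.symm.trans h7)

theorem exists_move {a b : G} (ha : a ∈ U) (hb : b ∈ U) (a1 : a ≠ 1) (b1 : b ≠ 1) :
    ∃ φ : G ≃* G, Pres φ V ∧ Pres φ U ∧ φ a = b := by
  have hab := U.mul_mem ha hb
  obtain ⟨φ, h1, -, h2⟩ := h.hom.tv' h.el (A := zpowers (a * b)) (zpowers_le.2 (h.two.1 hab))
    (h.two.1 ha) (fun hc => by
      rcases mem_zp (h.elU _ hab) hc with h3 | h3
      · exact a1 h3
      · exact b1 (left_eq_mul.1 h3)) (mem_zpowers _)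
  exact ⟨φ, h1 V le_rfl (h.two.1 hab), h1 U h.two.1 hab, by
    rw [h2, ← mul_assoc, h.elU a ha, one_mul]⟩

theorem exists_swap {a u w : G} (ha : a ∈ U) (hu : u ∈ U) (hw : w ∈ U) (a1 : a ≠ 1) (u1 : u ≠ 1)
    (w1 : w ≠ 1) (hne : w ≠ a * u) : ∃ φ : G ≃* G, Pres φ V ∧ Pres φ U ∧ φ a = u ∧ φ u = a ∧
      φ w = u * (a * w) := by
  have hau := U.mul_mem ha hu
  have haw := U.mul_mem ha hw
  have hle : zpowers (a * u) ≤ U := zpowers_le.2 hau
  obtain ⟨φ, h1, h3, h2⟩ := h.hom.tv' h.el (A := zpowers (a * u) ⊔ zpowers (a * w))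
    ((sup_le hle (zpowers_le.2 haw)).trans h.two.1) (h.two.1 ha) (fun hc => by
      rcases mem_sup_zp (h.elU _ haw) (fun x hx => h.elU.comm (hle hx) haw) hc with h3 | h3
      · rcases mem_zp (h.elU _ hau) h3 with h3 | h3
        · exact a1 h3
        · exact u1 (left_eq_mul.1 h3)
      · rw [h.elU.comm ha hw, mul_assoc, h.elU a ha, mul_one] at h3
        rcases mem_zp (h.elU _ hau) h3 with h3 | h3
        · exact w1 h3
        · exact hne h3) (mem_sup_left (mem_zpowers _))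
  rw [← mul_assoc, h.elU a ha, one_mul] at h2
  refine ⟨φ, h1 V le_rfl (h.two.1 hau), h1 U h.two.1 hau, h2, ?_, ?_⟩
  · have := h3 _ (mem_sup_left (mem_zpowers _))
    rw [map_mul, h2, h.elU.comm ha hu, mul_right_inj] at this
    exact this
  · have := h3 _ (mem_sup_right (mem_zpowers _))
    rw [map_mul, h2] at this
    rw [← this, ← mul_assoc, h.elU u hu, one_mul]

theorem sq_cases {t : G} (ht : t ∈ Q) : t * t = 1 ∨ t * t = ctr v t := by
  by_contra hc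
  push Not at hc
  obtain ⟨u1, hua⟩ := hc
  have ha := h.ctr_mem (h.syl.le ht)
  have hu := h.sq_mem ht
  have a1 : ctr v t ≠ 1 := fun h1 => u1 (h.el t (h.mem_of_ctr ht h1))
  obtain ⟨φ₀, p1, p2, p3, p4, -⟩ := h.exists_swap ha hu ha a1 u1 a1
    (fun h1 => u1 (left_eq_mul.1 h1))
  obtain ⟨ψ₀, q1, -, q2, q3⟩ := h.adjust' p1 p2
  obtain ⟨t', ht'e⟩ : ∃ t', t' = ψ₀ t := ⟨_, rfl⟩
  have ht' : t' ∈ Q := ht'e ▸ q1 t ht
  have c1 : ctr v t' = t * t := by rw [ht'e, q3 t ht, q2 _ ha, p3]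
  have s1 : t' * t' = ctr v t := by rw [ht'e, ← map_mul, q2 _ hu, p4]
  have htt := Q.mul_mem ht ht'
  have c2 : ctr v (t * t') = ctr v t * (t * t) := by
    rw [h.ctr_mul (h.syl.le ht) (h.syl.le ht'), c1]
  have au1 : ctr v t * (t * t) ≠ 1 := fun h1 => hua (by
    rw [eq_inv_of_mul_eq_one_right h1, h.elU.inv ha])
  have hw : t * t' * (t * t') ≠ 1 ∧ t * t' * (t * t') ≠ ctr v t * (t * t) := by
    obtain ⟨φ, r1, r2, r3⟩ := h.exists_move (U.mul_mem ha hu) ha au1 a1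
    obtain ⟨ψ, r4, -, r5, r6⟩ := h.adjust' r1 r2
    have c3 : ctr v (ψ (t * t')) = ctr v t := by rw [r6 _ htt, c2, r5 _ (U.mul_mem ha hu), r3]
    have h5 := h.inv_mul_mem (r4 _ htt) ht c3
    have h6 : t * t = ψ (t * t' * (t * t')) ∨ t * t = ψ (t * t' * (t * t')) * ctr v t := by
      by_cases h7 : (ψ (t * t'))⁻¹ * t ∈ U
      · left
        rw [map_mul, ← h.sq_mul_U (r4 _ htt) h7, mul_inv_cancel_left]
      · right
        rw [map_mul, ← c3, ← h.sq_mul_V (r4 _ htt) h5 h7, mul_inv_cancel_left]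
    constructor
    · intro h7
      rw [h7, map_one, one_mul] at h6
      tauto
    · intro h7
      rw [h7, r5 _ (U.mul_mem ha hu), r3, h.elU _ ha] at h6
      tauto
  obtain ⟨φ, r1, r2, r3, r4, r5⟩ := h.exists_swap ha hu (h.sq_mem htt) a1 u1 hw.1 hw.2
  obtain ⟨ψ, r6, -, r7, r8⟩ := h.adjust' r1 r2
  have m1 := h.inv_mul_mem_U ht' (r6 t ht) (by rw [c1, r8 t ht, r7 _ ha, r3]) (c1 ▸ u1)
    (by rw [s1, ← map_mul, r7 _ hu, r4])
  have m2 := h.inv_mul_mem_U ht (r6 t' ht') (by rw [r8 t' ht', c1, r7 _ hu, r4]) a1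
    (by rw [← map_mul, s1, r7 _ ha, r3])
  have m3 := comm_mem (fun w hw => h.sq_mem hw) ht' (Q.inv_mem ht)
  have e : ψ (t * t') = t * t' * (t'⁻¹ * (t⁻¹ * t' * t⁻¹⁻¹) * (t'⁻¹ * ψ t) * (t⁻¹ * ψ t')) := by
    calc ψ (t * t') = t' * ((t'⁻¹ * ψ t) * t) * (t⁻¹ * ψ t') := by rw [map_mul]; group
      _ = _ := by rw [h.cen ht m1]; group
  have e2 := h.sq_mul_U htt (U.mul_mem (U.mul_mem m3 m1) m2)
  rw [← e, ← map_mul, r7 _ (h.sq_mem htt), r5, ← mul_assoc, mul_eq_right,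
    h.elU.comm hu ha] at e2
  exact au1 e2

theorem self_cent {s : G} (hs : s ∈ centralizer (U : Set G)) (hs2 : s * s = 1) (hsU : s ∉ U)
    {x : G} (hx : IsPGroup 2 (zpowers x)) (h1 : x ∈ centralizer (U : Set G))
    (h2 : s * x = x * s) : x ∈ U ∨ s * x ∈ U := by
  have key : ∀ {a : G}, a * a = 1 → a ∉ U → ∀ i : ℤ, ∀ y ∈ U,
      (a ^ i * y = 1 ↔ Even i ∧ y = 1) := by
    intro a a2 ha i y hy
    have h3 : a * a ∈ U := a2 ▸ U.one_mem
    have h4 : Even i → a ^ i = 1 := by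
      rintro ⟨k, rfl⟩
      rw [← two_mul, zpow_mul, zpow_two, a2, one_zpow]
    refine ⟨fun h5 => ?_, fun h5 => by rw [h4 h5.1, h5.2, one_mul]⟩
    have h6 := (zpow_mem_iff ha h3 (i := i)).1 (by
      rw [eq_inv_of_mul_eq_one_left h5]; exact U.inv_mem hy)
    rw [h4 h6, one_mul] at h5
    exact ⟨h6, h5⟩
  obtain ⟨ψ, e1, e2⟩ := h.hom.ext1 (MulEquiv.refl G) U (x := s) (x' := v)
    (fun y hy => (hs y hy).symm) (fun y hy => h.el.comm h.mem (h.two.1 hy))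
    (fun i y hy => by rw [key hs2 hsU i y hy, MulEquiv.refl_apply, key h.vv h.nmem i y hy])
  have hp : Pres ψ U := fun y hy => by rw [e2 y hy]; exact hy
  have h3 : ψ x ∈ V := h.mem_of_comm (by
      have := hx.map ψ.toMonoidHom
      rwa [MonoidHom.map_zpowers] at this) (hp.cent x h1)
    (by rw [← e1, ← map_mul, h2, map_mul])
  by_cases h4 : ψ x ∈ U
  · exact Or.inl (mem_of_map_mem hp h4)
  · refine Or.inr (mem_of_map_mem hp ?_)
    rw [map_mul, e1]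
    exact h.two.mul h.mem h3 h.nmem h4

theorem sq_mul_v {t : G} (ht : t ∈ Q) (h1 : t * t ≠ 1) : t * v * (t * v) = 1 := by
  rw [h.sq_mul_V ht h.mem h.nmem, ← (h.sq_cases ht).resolve_left h1, h.elU _ (h.sq_mem ht)]

/-- the homocyclic subgroup of index two in `Q` -/
def E : Subgroup G where
  carrier := {t | t ∈ Q ∧ (t ∈ U ∨ t * t ≠ 1)}
  one_mem' := ⟨Q.one_mem, Or.inl U.one_mem⟩
  mul_mem' := by
    rintro t s ⟨ht, h1 | h1⟩ ⟨hs, h2 | h2⟩ <;> refine ⟨Q.mul_mem ht hs, ?_⟩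
    · exact Or.inl (U.mul_mem h1 h2)
    · right
      rwa [h.cen hs h1, h.sq_mul_U hs h1]
    · right
      rwa [h.sq_mul_U ht h2]
    have e1 := (h.sq_cases ht).resolve_left h1
    have e2 := (h.sq_cases hs).resolve_left h2
    by_cases e : ctr v t = ctr v s
    · left
      have := U.mul_mem (h.sq_mem ht) (h.inv_mul_mem_U ht hs e (e1 ▸ h1) (by rw [e1, e2, e]))
      rwa [mul_assoc, mul_inv_cancel_left] at this
    right
    intro h3
    have hv := h.le h.mem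
    have ht' := Q.mul_mem ht hv
    have hs' := Q.mul_mem hs hv
    have c1 : ctr v (t * v) = ctr v t := by
      rw [h.ctr_mul (h.syl.le ht) (h.syl.le hv), h.ctr_of_mem h.mem, mul_one]
    have c2 : ctr v (s * v) = ctr v s := by
      rw [h.ctr_mul (h.syl.le hs) (h.syl.le hv), h.ctr_of_mem h.mem, mul_one]
    have e3 : t * v * (s * v) = t * s * ctr v s := by
      have := h.conj_eq (h.syl.le (Q.inv_mem hs)) h.mem h.nmem
      rw [h.ctr_inv hs] at this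
      calc t * v * (s * v) = t * s * (s⁻¹ * v * s⁻¹⁻¹) * v := by group
        _ = _ := by
          rw [this, h.el.comm h.mem (h.two.1 (h.ctr_mem (h.syl.le hs))), mul_assoc (t * s),
            mul_assoc (ctr v s), h.vv, mul_one]
    have h4 := comm_of_sq (h.sq_mul_v ht h1) (h.sq_mul_v hs h2) (by
      rw [e3, h.sq_mul_U (Q.mul_mem ht hs) (h.ctr_mem (h.syl.le hs)), h3])
    rcases h.self_cent (h.syl.le ht').2 (h.sq_mul_v ht h1)
      (fun h5 => h1 (by rw [e1, ← c1, h.ctr_of_mem (h.two.1 h5)]))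
      (h.syl.pgroup.to_le (zpowers_le.2 hs')) (h.syl.le hs').2 h4 with h5 | h5
    · exact h2 (by rw [e2, ← c2, h.ctr_of_mem (h.two.1 h5)])
    · have := h.ctr_of_mem (h.two.1 h5)
      rw [h.ctr_mul (h.syl.le ht') (h.syl.le hs'), c1, c2] at this
      exact e (by rw [eq_inv_of_mul_eq_one_left this, h.elU.inv (h.ctr_mem (h.syl.le hs))])
  inv_mem' := by
    rintro t ⟨ht, h1 | h1⟩ <;> refine ⟨Q.inv_mem ht, ?_⟩
    · exact Or.inl (U.inv_mem h1)
    · right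
      rwa [← mul_inv_rev, Ne, inv_eq_one]

theorem U_le_E : U ≤ h.E := fun _ hu => ⟨h.le (h.two.1 hu), Or.inl hu⟩

theorem v_inv {t : G} (ht : t ∈ h.E) : t * v * t = v := by
  rcases ht.2 with h1 | h1
  · rw [h.el.comm (h.two.1 h1) h.mem, mul_assoc, h.elU t h1, mul_one]
  · have := h.sq_mul_v ht.1 h1
    rw [← mul_assoc, mul_eq_one_iff_eq_inv, h.el.inv h.mem] at this
    exact this

theorem E_comm : h.E ≤ centralizer (h.E : Set G) := by
  intro t ht s hs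
  have h1 := h.v_inv (h.E.mul_mem hs ht)
  have h2 : s * (t * v * t) * s = v := by rw [h.v_inv ht, h.v_inv hs]
  have h3 : s * t * v * (s * t) = s * t * v * (t * s) := h1.trans (h2.symm.trans (by group))
  exact mul_left_cancel h3

theorem mul_v_mem {x : G} (hx : x ∈ Q) (hx' : x ∉ h.E) : x * v ∈ h.E := by
  have h1 : x ∉ U := fun h1 => hx' ⟨hx, Or.inl h1⟩
  have h2 : x * x = 1 := by
    by_contra h2
    exact hx' ⟨hx, Or.inr h2⟩
  refine ⟨Q.mul_mem hx (h.le h.mem), ?_⟩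
  by_cases h3 : ctr v x = 1
  · exact Or.inl (h.two.mul (h.mem_of_ctr hx h3) h.mem h1 h.nmem)
  · right
    rwa [h.sq_mul_V hx h.mem h.nmem, h2, one_mul]

theorem two_E : Two h.E Q := by
  refine ⟨fun _ hx => hx.1, fun x hx z hz hx' hz' => ?_⟩
  have := h.E.mul_mem (h.mul_v_mem hx hx') (h.E.inv_mem (h.mul_v_mem (Q.inv_mem hz)
    fun h1 => hz' (by simpa using h1)))
  simpa [mul_assoc] using this

theorem v_not_mem : v ∉ h.E := fun h1 => h1.2.elim h.nmem fun h2 => h2 h.vv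

theorem exists_root {u : G} (hu : u ∈ U) (u1 : u ≠ 1) : ∃ y ∈ h.E, y * y = u := by
  obtain ⟨t, ht, e⟩ := h.exists_ctr hu
  rcases h.sq_cases ht with h1 | h1
  · have h2 : t * v * (t * v) = u := by rw [h.sq_mul_V ht h.mem h.nmem, h1, one_mul, e]
    exact ⟨t * v, ⟨Q.mul_mem ht (h.le h.mem), Or.inr (h2 ▸ u1)⟩, h2⟩
  · exact ⟨t, ⟨ht, Or.inr (by rwa [h1, e])⟩, h1.trans e⟩

theorem pres_E {ψ : G ≃* G} (h1 : Pres ψ Q) (h2 : Pres ψ U) : Pres ψ h.E := by
  rintro t ⟨ht, h3 | h3⟩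
  · exact ⟨h1 t ht, Or.inl (h2 t h3)⟩
  · exact ⟨h1 t ht, Or.inr (by rwa [← map_mul, Ne, map_eq_one_iff _ ψ.injective])⟩

theorem false : False := by
  obtain ⟨a, ha, a1, -⟩ := exists_ne_of_card h.card 1
  obtain ⟨b, hb, b1, hab⟩ := exists_ne_of_card h.card a
  obtain ⟨y, hy, hya⟩ := h.exists_root ha a1
  have hEc := h.E_comm
  have hmax : ∀ x ∈ centralizer (h.E : Set G), x * x = 1 → x ∈ U := by
    intro x hx x2
    by_contra hc
    have hx' : x ∈ centralizer (U : Set G) := centralizer_le h.U_le_E hx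
    rcases h.self_cent hx' x2 hc (h.syl.pgroup.to_le (zpowers_le.2 hy.1)) (h.syl.le hy.1).2
      (hx y hy).symm with h1 | h1
    · exact a1 (hya ▸ h.elU y h1)
    · have := h.elU _ h1
      rw [mul_assoc, ← mul_assoc y, hx y hy, mul_assoc, ← mul_assoc, x2, one_mul, hya] at this
      exact a1 this
  -- Singer cycle
  obtain ⟨φ, hφ, hS⟩ := h.hom.exists_sing h.elU
  obtain ⟨φ', f1, f2⟩ := h.hom.ext1 φ U (x := v) (x' := v)
    (fun y hy => h.el.comm h.mem (h.two.1 hy)) (fun y hy => h.el.comm h.mem (h.two.1 (hφ y hy)))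
    (fun i y hy => by
      have h3 : v * v ∈ U := h.vv ▸ U.one_mem
      rcases Int.even_or_odd' i with ⟨k, rfl | rfl⟩
      · rw [zpow_mul, zpow_two, h.vv, one_zpow, one_mul, one_mul, map_eq_one_iff _ φ.injective]
      · have h4 : ¬ Even (2 * k + 1) := by simp
        refine iff_of_false (fun h5 => h4 ((zpow_mem_iff h.nmem h3).1 ?_))
          (fun h5 => h4 ((zpow_mem_iff h.nmem h3).1 ?_))
        · rw [eq_inv_of_mul_eq_one_left h5]; exact U.inv_mem hy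
        · rw [eq_inv_of_mul_eq_one_left h5]; exact U.inv_mem (hφ y hy))
  have f3 : Pres φ' U := fun y hy => by rw [f2 y hy]; exact hφ y hy
  have f4 : Pres φ' V := fun x hx => by
    by_cases h1 : x ∈ U
    · exact h.two.1 (f3 x h1)
    · have := h.two.1 (f3 _ (h.two.mul h.mem hx h.nmem h1))
      rw [map_mul, f1] at this
      exact (V.mul_mem_cancel_left h.mem).1 this
  obtain ⟨ψ, g1, g2, g3, -⟩ := h.adjust' f4 f3
  have hS' : Sing ψ U := fun a ha b hb a1 b1 => by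
    obtain ⟨k, hk⟩ := hS a ha b hb a1 b1
    exact ⟨k, (zpow_congr hφ (fun y hy => (g3 y hy).trans (f2 y hy)) k ha).trans hk⟩
  -- an element moving `a`
  obtain ⟨χ, k1, k2, k3⟩ := h.exists_move ha hb a1 b1
  obtain ⟨k, hk⟩ := h.full χ k1
  have k4 : Pres (MulAut.conj k) V := fun x hx => by
    rw [MulAut.conj_apply, hk x hx]; exact k1 x hx
  have k5 : Pres (MulAut.conj k) U := fun x hx => by
    rw [MulAut.conj_apply, hk x (h.two.1 hx)]; exact k2 x hx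
  obtain ⟨d, hd, hdQ⟩ := h.adjust k4 k5
  obtain ⟨σ, hσ⟩ : ∃ σ, σ = d * k := ⟨_, rfl⟩
  have s1 : Pres (MulAut.conj σ) Q := fun x hx => by simpa [hσ, mul_assoc] using hdQ x hx
  have s0 : ∀ x ∈ U, σ * x * σ⁻¹ = χ x := fun x hx => by
    calc σ * x * σ⁻¹ = d * (k * x * k⁻¹) * d⁻¹ := by rw [hσ]; group
      _ = _ := by rw [hk x (h.two.1 hx), ← hd.2 _ (k2 x hx), mul_inv_cancel_right]
  have s2 : Pres (MulAut.conj σ) U := fun x hx => by
    rw [MulAut.conj_apply, s0 x hx]; exact k2 x hx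
  have s3 := h.pres_E s1 s2
  have s4 : σ * a * σ⁻¹ = b := by rw [s0 a ha, k3]
  obtain ⟨W, hW⟩ := exists_sylIn 2 (centralizer (h.E : Set G))
  have hWE := h.hom.syl_eq (h.syl.pgroup.to_le h.two_E.1) hEc h.U_le_E h.elU hmax h.card
    (h.pres_E g1 g2) hS' g2 s3 ha (s4 ▸ hab)
    (Or.inl fun h1 => a1 (hya ▸ h.elU y (h1 ▸ hy))) hW
  rw [hWE] at hW
  -- the twist by `y`
  obtain ⟨α, t1, t2⟩ := h.hom.twist h.two_E.1 h.two_E.2 hy (fun x hx => hEc hy x hx)
    (fun x hx hx' => by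
      have h1 := h.mul_v_mem hx hx'
      calc y * x * y = y * (x * v) * v * y := by
            rw [mul_assoc y (x * v), mul_assoc x, h.vv, mul_one]
        _ = x * v * (y * v * y) := by rw [← hEc hy _ h1]; group
        _ = x := by rw [h.v_inv hy, mul_assoc, h.vv, mul_one])
  have s5 : ∀ x, σ * x * σ⁻¹ ∈ h.E → x ∈ h.E := fun x hx => mem_of_map_mem s3 hx
  have s6 : ∀ x, σ * x * σ⁻¹ ∈ Q → x ∈ Q := fun x hx => mem_of_map_mem s1 hx
  obtain ⟨r, hr⟩ : ∃ r, r = α σ * σ⁻¹ := ⟨_, rfl⟩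
  have r0 : ∀ x z, α z = σ⁻¹ * x * σ → r * x * r⁻¹ = α (σ * z * σ⁻¹) := fun x z e => by
    rw [map_mul, map_mul, map_inv, e, hr]; group
  have r1 : r ∈ centralizer (h.E : Set G) := fun e he => by
    have := r0 e (σ⁻¹ * e * σ) (t1 _ (s5 _ (by simpa [mul_assoc] using he)))
    rw [show σ * (σ⁻¹ * e * σ) * σ⁻¹ = e by group, t1 e he, mul_inv_eq_iff_eq_mul] at this
    exact this.symm
  have hy' : σ * y⁻¹ * σ⁻¹ ∈ h.E := s3 _ (h.E.inv_mem hy)
  obtain ⟨z, hz⟩ : ∃ z, z = y * (σ * y⁻¹ * σ⁻¹) := ⟨_, rfl⟩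
  have hzE : z ∈ h.E := hz ▸ h.E.mul_mem hy hy'
  have r2 : r * v * r⁻¹ = v * z := by
    have := r0 v (σ⁻¹ * v * σ * y⁻¹) (by
      rw [map_mul, t1 _ (h.E.inv_mem hy), t2 _ (s6 _ (by simpa [mul_assoc] using h.le h.mem))
        (fun h1 => h.v_not_mem (by simpa [mul_assoc] using s3 _ h1)), mul_inv_cancel_right])
    rw [this, show σ * (σ⁻¹ * v * σ * y⁻¹) * σ⁻¹ = v * (σ * y⁻¹ * σ⁻¹) by group, map_mul,
      t1 _ hy', t2 v (h.le h.mem) h.v_not_mem, hz, mul_assoc]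
  have z2 : z * z = a * b⁻¹ := by
    calc z * z = y * ((σ * y⁻¹ * σ⁻¹) * y) * (σ * y⁻¹ * σ⁻¹) := by rw [hz]; group
      _ = y * y * (σ * (y * y) * σ⁻¹)⁻¹ := by rw [hEc hy _ hy']; group
      _ = _ := by rw [hya, s4]
  have r3 : ∀ m : ℕ, r ^ m * v * (r ^ m)⁻¹ = v * z ^ m := by
    intro m
    induction m with
    | zero => simp
    | succ m ih =>
      calc r ^ (m + 1) * v * (r ^ (m + 1))⁻¹ = r * (r ^ m * v * (r ^ m)⁻¹) * r⁻¹ := by
            rw [pow_succ']; group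
        _ = r * v * r⁻¹ * (r * z ^ m * r⁻¹) := by rw [ih]; group
        _ = _ := by rw [r2, ← r1 _ (pow_mem hzE m), mul_inv_cancel_right, pow_succ', mul_assoc]
  obtain ⟨m, hm, hp⟩ := exists_coprime_pow 2 r
  have r4 : r ^ m ∈ h.E := hW.le_of_normalizes hp (zpowers_le.2 (pow_mem r1 m))
    (zpowers_le.2 (centralizer_le_normalizer _ (pow_mem r1 m))) (mem_zpowers _)
  have r5 : z ^ m = (r ^ m * r ^ m)⁻¹ := by
    have h1 := h.v_inv r4
    have h2 := r3 m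
    rw [show r ^ m * v * (r ^ m)⁻¹ = (r ^ m * v * r ^ m) * (r ^ m * r ^ m)⁻¹ by group, h1,
      mul_right_inj] at h2
    exact h2.symm
  have r6 : (z * z) ^ m = 1 := by
    rw [← sq, ← pow_mul, mul_comm, pow_mul, sq, r5, ← mul_inv_rev, h.elU _ (h.sq_mem r4.1), inv_one]
  obtain ⟨j, rfl⟩ : ∃ j, m = 2 * j + 1 := ⟨m / 2, by omega⟩
  rw [pow_succ, pow_mul, sq, h.elU _ (h.sq_mem hzE.1), one_pow, one_mul, z2, mul_inv_eq_one] at r6
  exact hab r6.symm

end St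

theorem Hom.norm_cent [Finite G] (hG : Hom G) {V : Subgroup G} (hV : MaxE V) (h8 : 4 < Nat.card V)
    {σ u : G} (hσ : ∀ x ∈ V, σ * x * σ⁻¹ ∈ V) (hu : u ∈ V) : σ * u * σ⁻¹ = u := by
  by_contra hne
  obtain ⟨φ, hφ, hS⟩ := hG.exists_sing hV.el
  obtain ⟨W, hW⟩ := exists_sylIn 2 (centralizer (V : Set G))
  have hWV := hG.syl_eq hV.el.isPGroup hV.el.le_cent le_rfl hV.el hV.max (by omega) hφ hS hφ hσ
    hu hne (Or.inr h8) hW
  rw [hWV] at hW
  have u1 : u ∉ (⊥ : Subgroup G) := fun h => hne (by simp [mem_bot.1 h])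
  obtain ⟨U, hU, -, huU⟩ := exists_two (bot_le : ⊥ ≤ V) (fun y hy => hV.el y hy) u1
  obtain ⟨Q, hQ, hVQ⟩ := exists_sylIn_ge hV.el.isPGroup
    (H := normalizer (V : Set G) ⊓ centralizer (U : Set G))
    (le_inf le_normalizer (hV.el.le_cent.trans (centralizer_le hU.1)))
  refine St.false ⟨hG, hV.el, hW, hU, hu, huU, ?_, hQ, hVQ, fun φ h => hG.full hV.el h8 hσ hu hne h⟩
  by_contra hc
  obtain ⟨c, hc'⟩ : ∃ c, ∀ x ∈ U, x = 1 ∨ x = c := by
    by_contra h1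
    push Not at h1
    obtain ⟨a, ha, a1, -⟩ := h1 1
    obtain ⟨b, hb, b1, hab⟩ := h1 a
    have h2 : ({1, a, b} : Set G) ⊆ U := by
      rintro x (rfl | rfl | rfl)
      exacts [U.one_mem, ha, hb]
    have h3 := Set.ncard_le_ncard h2
    rw [Set.ncard_eq_three.2 ⟨1, a, b, a1.symm, b1.symm, hab.symm, rfl⟩] at h3
    exact hc h3
  refine absurd (card_le_four (a := 1) (b := c) (c := u⁻¹) (d := u⁻¹ * c) fun x hx => ?_)
    (not_le.2 h8)
  by_cases h1 : x ∈ U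
  · have := hc' x h1
    tauto
  · rcases hc' _ (hU.mul hu hx huU h1) with h2 | h2
    · exact Or.inr (Or.inr (Or.inl (eq_inv_of_mul_eq_one_right h2)))
    · exact Or.inr (Or.inr (Or.inr (eq_inv_mul_of_mul_eq h2)))

end CL.Homog
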