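import Mathlib
import Cfsg.Agent.FGS.Homog5
import Cfsg.Agent.SOLV.Core
import Cfsg.Agent.PERM.MinNormal
import Cfsg.Agent.S0204
import Cfsg.Agent.S0205
import Cfsg.Agent.S0215
import Cfsg.Agent.S1947

/-!
The normal structure of a perfect homogeneous group.
-/

set_option autoImplicit false

namespace CL.Homog

open Subgroup CL.MSS Cfsg

variable {G : Type*} [Group G]

/-- invariant under all automorphisms -/
def Inv (K : Subgroup G) : Prop := ∀ φ : G ≃* G, ∀ x ∈ K, φ x ∈ K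

theorem Inv.normal {K : Subgroup G} (h : Inv K) : K.Normal :=
  ⟨fun x hx g => h (MulAut.conj g) x hx⟩

theorem inv_char (K : Subgroup G) [K.Characteristic] : Inv K := fun φ _ hx => char_mem φ hx

theorem Inv.cent [Finite G] {K : Subgroup G} (h : Inv K) : Inv (centralizer (K : Set G)) :=
  fun φ => Pres.cent (h φ)

theorem Inv.map_subtype [Finite G] {K : Subgroup G} (h : Inv K) {N : Subgroup K} (hN : Inv N) :
    Inv (N.map K.subtype) := by
  rintro φ _ ⟨x, hx, rfl⟩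
  exact ⟨res K φ (h φ) x, hN _ x hx, rfl⟩

theorem exists_elab [Finite G] {N : Subgroup G} (h0 : N ≠ ⊥) (hN : Inv N)
    (hs : Group.IsSolvable N) : ∃ p : ℕ, p.Prime ∧ ∃ V ≤ N, V ≠ ⊥ ∧ Inv V ∧
      (∀ x ∈ V, ∀ y ∈ V, x * y = y * x) ∧ ∀ x ∈ V, x ^ p = 1 := by
  obtain ⟨V, ⟨h1, h2, h3⟩, hmin⟩ := (wellFounded_lt (α := Subgroup G)).has_min
    {V | V ≤ N ∧ V ≠ ⊥ ∧ Inv V} ⟨N, le_rfl, h0, hN⟩
  have key : ∀ W ≤ V, Inv W → W = ⊥ ∨ W = V := fun W hW hi => by
    by_contra hc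
    push Not at hc
    exact hmin W ⟨hW.trans h1, hc.1, hi⟩ (lt_of_le_of_ne hW hc.2)
  have := h3.normal
  have hc : ⁅V, V⁆ = ⊥ := by
    refine (key _ (commutator_le_left _ _) fun φ x hx => ?_).resolve_right fun e => h2 ?_
    · have h4 : (⁅V, V⁆ : Subgroup G).map φ.toMonoidHom = ⁅V, V⁆ := by
        rw [map_commutator, map_eq_of_mem (h3 φ)]
      rw [← h4]; exact ⟨x, hx, rfl⟩
    · exact eq_bot_of_solvable e (Group.isSolvable_of_isSolvable_injective
        (inclusion_injective h1))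
  have hc' : ∀ x ∈ V, ∀ y ∈ V, x * y = y * x := fun x hx y hy =>
    (commutator_eq_bot_iff_le_centralizer.1 hc hy x hx)
  obtain ⟨p, hp, hd⟩ := Nat.exists_prime_and_dvd (mt card_eq_one.1 h2)
  have := Fact.mk hp
  obtain ⟨x, hx⟩ := exists_prime_orderOf_dvd_card' p hd
  let W : Subgroup G :=
    { carrier := {y | y ∈ V ∧ y ^ p = 1}
      one_mem' := ⟨V.one_mem, one_pow p⟩
      mul_mem' := fun {a b} ha hb => ⟨V.mul_mem ha.1 hb.1, by
        rw [Commute.mul_pow (hc' a ha.1 b hb.1), ha.2, hb.2, mul_one]⟩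
      inv_mem' := fun {a} ha => ⟨V.inv_mem ha.1, by rw [inv_pow, ha.2, inv_one]⟩ }
  have hW : W = V := (key W (fun _ h => h.1) fun φ y hy =>
    ⟨h3 φ y hy.1, by rw [← map_pow, hy.2, map_one]⟩).resolve_left fun e => by
      have h5 : (x : G) ∈ W := ⟨x.2, by rw [← coe_pow, ← hx, pow_orderOf_eq_one, coe_one]⟩
      rw [e, mem_bot, OneMemClass.coe_eq_one] at h5
      rw [h5, orderOf_one] at hx
      exact hp.one_lt.ne hx
  exact ⟨p, hp, V, h1, h2, h3, hc', fun y hy => (hW ▸ hy : y ∈ W).2⟩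

theorem ind_perfect (hp : commutator G = ⊤) (V : Subgroup G) [V.Normal] :
    ⁅ind V, ind V⁆ = ind V := by
  have h1 : ind V = (⊤ : Subgroup G).map MulAut.conjNormal := by
    ext α
    constructor
    · rintro ⟨k, hk⟩
      exact ⟨k, trivial, MulEquiv.ext fun v => Subtype.ext (hk v)⟩
    · rintro ⟨k, -, rfl⟩
      exact ⟨k, fun v => rfl⟩
  rw [h1, ← map_commutator, ← commutator_def, hp]

theorem central_of_ind {V : Subgroup G} [V.Normal] (h : ind V = ⊥) : V ≤ center G := by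
  intro v hv
  rw [mem_center_iff]
  intro g
  have h1 : (MulAut.conjNormal g : MulAut V) ∈ ind V := ⟨g, fun v => rfl⟩
  rw [h, mem_bot] at h1
  have h2 : g * v * g⁻¹ = v := congrArg (fun α : MulAut V => (α ⟨v, hv⟩ : G)) h1
  exact mul_inv_eq_iff_eq_mul.1 h2

theorem Hom.all_mem (hG : Hom G) {V : Subgroup G} (h0 : V ≠ ⊥) (hV : Inv V) {p : ℕ}
    [Fact p.Prime] (he : ∀ x ∈ V, x ^ p = 1) {y : G} (hy : y ^ p = 1) : y ∈ V := by
  obtain ⟨⟨x, hx⟩, x1⟩ := ne_bot_iff_exists_ne_one.1 h0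
  by_cases y1 : y = 1
  · rw [y1]; exact one_mem _
  refine hG.mem_of_order hV hx ?_
  rw [orderOf_eq_prime (he x hx) (fun h => x1 (Subtype.ext h)), orderOf_eq_prime hy y1]

theorem exists_pow_prime {p : ℕ} {x : G} (hx : ∃ k, x ^ p ^ k = 1) (x1 : x ≠ 1) :
    ∃ n, x ^ n ≠ 1 ∧ (x ^ n) ^ p = 1 := by
  classical
  have h0 : Nat.find hx ≠ 0 := fun h => x1 (by simpa [h] using Nat.find_spec hx)
  obtain ⟨k, hk⟩ := Nat.exists_eq_succ_of_ne_zero h0
  refine ⟨p ^ k, Nat.find_min hx (by omega), ?_⟩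
  have := Nat.find_spec hx
  rwa [hk, pow_succ, pow_mul] at this

theorem Hom.syl_le_cent [Finite G] (hG : Hom G) {p : ℕ} [hp : Fact p.Prime] (h2 : p ≠ 2)
    {V : Subgroup G} (h0 : V ≠ ⊥) (hV : Inv V) (hc : ∀ x ∈ V, ∀ y ∈ V, x * y = y * x)
    (he : ∀ x ∈ V, x ^ p = 1) (P : Sylow p G) : (P : Subgroup G) ≤ centralizer (V : Set G) := by
  have hn := hV.normal
  have hCn := hV.cent.normal
  let f : V →* G := MonoidHom.mk' (fun x => (x : G)⁻¹) fun a b => by
    rw [coe_mul, hc _ a.2 _ b.2, mul_inv_rev]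
  obtain ⟨φ, hφ⟩ := hG.glue V.subtype f fun x => by simp [f]
  have hφ' : ∀ v ∈ V, φ v = v⁻¹ := fun v hv => hφ ⟨v, hv⟩
  have key : ∀ ψ : G ≃* G, (∀ v ∈ V, ψ v = v⁻¹) → ∀ g, g⁻¹ * ψ g ∈ centralizer (V : Set G) := by
    intro ψ hψ g v hv
    have h1 := hψ _ (hn.conj_mem _ (V.inv_mem hv) g)
    rw [map_mul, map_mul, hψ _ (V.inv_mem hv), inv_inv, map_inv] at h1
    calc v * (g⁻¹ * ψ g) = g⁻¹ * (g * v⁻¹ * g⁻¹)⁻¹ * ψ g := by group
      _ = _ := by rw [← h1]; group
  have hD : ∀ x ∈ (P : Subgroup G) ⊔ centralizer (V : Set G),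
      φ x ∈ (P : Subgroup G) ⊔ centralizer (V : Set G) := fun x hx => by
    simpa using mul_mem hx (mem_sup_right (key φ hφ' x))
  obtain ⟨d, hd, hdP⟩ := frattini_aut (sylIn_sylow P le_sup_left) hD
  obtain ⟨w, hw, c, hc', rfl⟩ := mem_sup_of_normal_right.1 hd
  let ψ : G ≃* G := φ.trans (MulAut.conj c)
  have hψ : ∀ v ∈ V, ψ v = v⁻¹ := fun v hv => by
    change c * φ v * c⁻¹ = v⁻¹
    rw [hφ' v hv, ← hc' _ (V.inv_mem hv), mul_inv_cancel_right]
  have hψP : ∀ x ∈ (P : Subgroup G), ψ x ∈ (P : Subgroup G) := fun x hx => by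
    have := mul_mem (mul_mem (inv_mem hw) (hdP x hx)) hw
    change c * φ x * c⁻¹ ∈ _
    convert this using 1
    group
  let F : P → P := fun x => ⟨(x : G)⁻¹ * ψ x, mul_mem (inv_mem x.2) (hψP x x.2)⟩
  have hF : Function.Injective F := by
    intro x y e
    have e1 : (x : G)⁻¹ * ψ x = (y : G)⁻¹ * ψ y := congrArg Subtype.val e
    have e2 : ψ (y * (x : G)⁻¹) = y * (x : G)⁻¹ := by
      rw [map_mul, map_inv]
      calc ψ y * (ψ x)⁻¹ = y * ((y : G)⁻¹ * ψ y) * (ψ x)⁻¹ := by group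
        _ = _ := by rw [← e1]; group
    by_contra hne
    obtain ⟨k, hk⟩ := P.isPGroup' (y * x⁻¹)
    obtain ⟨n, n1, n2⟩ := exists_pow_prime (p := p) (x := (y : G) * (x : G)⁻¹)
      ⟨k, congrArg Subtype.val hk⟩ fun h => hne (Subtype.ext (mul_inv_eq_one.1 h).symm)
    have h3 := hψ _ (hG.all_mem h0 hV he n2)
    rw [map_pow, e2, eq_inv_iff_mul_eq_one, ← sq] at h3
    have h4 := Nat.dvd_gcd (orderOf_dvd_of_pow_eq_one n2) (orderOf_dvd_of_pow_eq_one h3)
    rw [(Nat.coprime_primes hp.out Nat.prime_two).2 h2, Nat.dvd_one, orderOf_eq_one_iff] at h4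
    exact n1 h4
  intro x hx
  obtain ⟨y, hy⟩ := Finite.surjective_of_injective hF ⟨x, hx⟩
  have : (y : G)⁻¹ * ψ y = x := congrArg Subtype.val hy
  exact this ▸ key ψ hψ y

theorem Hom.not_odd [Finite G] (hG : Hom G) (hper : commutator G = ⊤) {p : ℕ} [hp : Fact p.Prime]
    (h2 : p ≠ 2) {V : Subgroup G} (h0 : V ≠ ⊥) (hV : Inv V)
    (hc : ∀ x ∈ V, ∀ y ∈ V, x * y = y * x) (he : ∀ x ∈ V, x ^ p = 1) : False := by
  have hn := hV.normal
  have := hG.ind_normal V
  have h1 : ind V = ⊥ := by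
    refine aut_odd_normal h2 (fun x y => Subtype.ext (hc x x.2 y y.2))
      (fun x => Subtype.ext (he x x.2)) _ (ind_perfect hper V) fun hd => ?_
    obtain ⟨⟨σ, g, hg⟩, hσ⟩ := exists_prime_orderOf_dvd_card' p hd
    rw [← orderOf_coe] at hσ
    obtain ⟨m, hm, hm'⟩ := exists_coprime_pow p g
    obtain ⟨P, hP⟩ := hm'.exists_le_sylow
    have h3 := hG.syl_le_cent h2 h0 hV hc he P (hP (mem_zpowers _))
    have h4 : σ = MulAut.conjNormal g := MulEquiv.ext fun v => Subtype.ext (hg v).symm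
    refine hm (hσ ▸ orderOf_dvd_of_pow_eq_one ?_)
    change σ ^ m = 1
    rw [h4, ← map_pow]
    refine MulEquiv.ext fun v => Subtype.ext ?_
    change g ^ m * v * (g ^ m)⁻¹ = v
    rw [← h3 v v.2, mul_inv_cancel_right]
  obtain ⟨P, N, hN, hPN⟩ := Cfsg.Agent.S1947.result (G := G) (p := p) 1 fun a ha => by
    rw [Subgroup.upperCentralSeries_one]
    exact central_of_ind h1 (hG.all_mem h0 hV he (ha.resolve_right fun h => h2 h.1))
  have h5 := not_dvd_of_compl hper P hPN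
  exact h0 (le_bot_iff.1 (h5 ▸ IsPGroup.le_sylow_of_normal
    (fun x => ⟨1, Subtype.ext (by simpa using he x x.2)⟩) P))

theorem Hom.oddCore_eq_bot [Finite G] (hG : Hom G) (hper : commutator G = ⊤) :
    oddCore G = ⊥ := by
  by_contra h0
  have hc := coprime_card_pPrimeCore 2 G
  obtain ⟨p, hp, V, h1, h2, h3, h4, h5⟩ := exists_elab h0 (inv_char _)
    (Cfsg.Agent.S0205.result (Nat.coprime_two_right.1 hc))
  have := Fact.mk hp
  refine hG.not_odd hper (fun e => h2 ?_) h2 h3 h4 h5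
  subst e
  exact eq_bot_of_isPGroup_of_not_dvd (fun x => ⟨1, Subtype.ext (by simpa using h5 x x.2)⟩) h1
    (not_dvd_card_pPrimeCore 2 G)

theorem exists_maxE [Finite G] {A : Subgroup G} (hA : El A) : ∃ V, A ≤ V ∧ MaxE V := by
  obtain ⟨V, ⟨h1, h2⟩, hmax⟩ := (wellFounded_gt (α := Subgroup G)).has_min
    {V | A ≤ V ∧ El V} ⟨A, le_rfl, hA⟩
  refine ⟨V, h1, h2, fun x hx hx2 => ?_⟩
  by_contra hxV
  refine hmax (V ⊔ zpowers x) ⟨h1.trans le_sup_left, fun y hy => ?_⟩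
    (lt_of_le_of_ne le_sup_left fun e => hxV (e ▸ mem_sup_right (mem_zpowers x)))
  rcases mem_sup_zp hx2 hx hy with h | h
  · exact h2 y h
  · have h3 := h2 _ h
    have h4 : x * y * x = y := by rw [hx _ h, ← mul_assoc, hx2, one_mul]
    rwa [← mul_assoc, h4] at h3

theorem el_of {A : Subgroup G} (h : ∀ a ∈ A, a ^ 2 = 1) : El A := fun a ha => sq a ▸ h a ha

theorem card_le_of_rank {k : ℕ} (hr : PRankLE 2 k G) {A : Subgroup G} (hA : El A) :
    Nat.card A ≤ 2 ^ k :=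
  hr A ⟨⟨fun x y => Subtype.ext (hA.comm x.2 y.2)⟩⟩ fun a ha => (sq a).trans (hA a ha)

theorem Hom.rank_one [Finite G] (hG : Hom G) (hper : commutator G = ⊤) {u : G} (hu : u * u = 1)
    (u1 : u ≠ 1) (hZ : u ∈ center G) : PRankLE 2 1 G := by
  have h0 : ∀ x : G, x * x = 1 → x ∈ center G := fun x hx => by
    by_cases x1 : x = 1
    · rw [x1]; exact one_mem _
    refine hG.mem_of_order (inv_char _) hZ ?_
    rw [orderOf_eq_prime ((sq u).trans hu) u1, orderOf_eq_prime ((sq x).trans hx) x1]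
  intro A _ hA
  have h1 : (A : Set G) ⊆ {1, u} := fun a ha => by
    by_cases a1 : a = 1
    · exact Or.inl a1
    · exact Or.inr (hG.star hper h0 (el_of hA a ha) hu a1 u1)
  exact (Set.ncard_le_ncard h1).trans ((Set.ncard_insert_le _ _).trans (by simp))

theorem Hom.rank_two [Finite G] (hG : Hom G) (hper : commutator G = ⊤) : PRankLE 2 2 G := by
  intro A hA' hA
  by_contra h8
  obtain ⟨V, hAV, hV⟩ := exists_maxE (el_of hA)
  have h9 : 4 < Nat.card V := lt_of_lt_of_le (not_le.1 h8) (card_le_of_le hAV)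
  obtain ⟨S, hS, hVS⟩ := exists_sylIn_ge hV.el.isPGroup hV.el.le_cent
  have hN : normalizer (S : Set G) ≤ centralizer (V : Set G) := fun n hn v hv => by
    have := hG.norm_cent hV h9 (σ := n) (fun x hx => hV.max _
      (hS.le ((mem_normalizer_iff.1 hn x).1 (hVS hx))) (by
        rw [conj_mul, hV.el x hx, mul_one, mul_inv_cancel])) hv
    exact (mul_inv_eq_iff_eq_mul.1 this).symm
  have hS' : SylIn 2 S ⊤ := hS.of_normalizer_le le_top (inf_le_right.trans hN)
  obtain ⟨u, hu, u1, -⟩ := exists_ne_of_card (V := V) (by omega) 1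
  obtain ⟨N, hNn, hNo, hN'⟩ := Cfsg.Agent.S0215.result hS'.toSylowTop u
    (orderOf_eq_prime ((sq u).trans (hV.el u hu)) u1) (hVS hu) fun g hg => by
      have hw : g * u * g⁻¹ ∈ V := hV.max _ (hS.le hg) (by
        rw [conj_mul, hV.el u hu, mul_one, mul_inv_cancel])
      have c1 : SylIn 2 S (centralizer {g * u * g⁻¹}) := hS'.of_le (fun s hs => by
        rw [mem_centralizer_singleton_iff]; exact (hS.le hs _ hw).symm) le_top
      have c2 : SylIn 2 (g •ᶜ S) (centralizer {g * u * g⁻¹}) :=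
        (hS'.cj_of_mem (mem_top g)).of_le (fun s hs => by
          obtain ⟨t, ht, rfl⟩ := mem_cj'.1 hs
          rw [mem_centralizer_singleton_iff, conj_mul, conj_mul, hS.le ht u hu]) le_top
      obtain ⟨c, hc, e⟩ := c2.exists_conj c1
      rw [mem_centralizer_singleton_iff] at hc
      have h3 := hN (x := c * g) (mem_normalizer_of_conj fun s hs => by
        have : c * (g * s * g⁻¹) * c⁻¹ ∈ S := e ▸ mem_cj'.2 ⟨_, mem_cj'.2 ⟨_, hs, rfl⟩, rfl⟩
        convert this using 1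
        group) u hu
      calc g * u * g⁻¹ = c * (g * u * g⁻¹) * c⁻¹ := by rw [hc, mul_inv_cancel_right]
        _ = c * g * u * (c * g)⁻¹ := by group
        _ = u := by rw [← h3, mul_inv_cancel_right]
  have hN0 : N = ⊥ := le_bot_iff.1
    (hG.oddCore_eq_bot hper ▸ le_pPrimeCore (Nat.coprime_two_right.2 hNo))
  have hZ : u ∈ center G := mem_center_iff.2 fun g => by
    have := hN' g
    rw [hN0, mem_bot, mul_inv_eq_one, mul_inv_eq_iff_eq_mul] at this
    exact this.symm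
  have := card_le_of_rank (hG.rank_one hper (hV.el u hu) u1 hZ) hV.el
  omega

theorem mem_of_four [Finite G] (hr : PRankLE 2 2 G) {E : Subgroup G} (hE : El E)
    (h4 : Nat.card E = 4) {w : G} (hw : w * w = 1) (hc : ∀ e ∈ E, e * w = w * e) : w ∈ E := by
  obtain ⟨V, h1, h2⟩ := exists_maxE hE
  have h3 : E = V := eq_of_le_of_card_ge h1 ((card_le_of_rank hr h2.el).trans h4.ge)
  subst h3
  exact h2.max w hc hw

theorem pres_of_min [Finite G] (hr : PRankLE 2 2 G) {M T E : Subgroup G} (hE : El E)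
    (h4 : Nat.card E = 4) (hET : E ≤ T) (hTM : T ≤ M) (hn : ∀ m ∈ M, ∀ t ∈ T, m * t * m⁻¹ ∈ T)
    (hmin : ∀ L ≤ T, (∀ m ∈ M, ∀ t ∈ L, m * t * m⁻¹ ∈ L) → L = ⊥ ∨ L = T) (hM : Inv M) :
    Inv T := by
  intro φ
  have hn' : ∀ m ∈ M, ∀ t ∈ T.map φ.toMonoidHom, m * t * m⁻¹ ∈ T.map φ.toMonoidHom := by
    rintro m hm _ ⟨t, ht, rfl⟩
    exact ⟨_, hn _ (hM φ.symm m hm) t ht, by simp⟩
  rcases hmin (T ⊓ T.map φ.toMonoidHom) inf_le_left
    (fun m hm t ht => ⟨hn m hm t ht.1, hn' m hm t ht.2⟩) with h | h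
  · exfalso
    obtain ⟨e, he, e1, -⟩ := exists_ne_of_card (V := E) (by omega) 1
    have h1 : φ e ∈ T.map φ.toMonoidHom := ⟨e, hET he, rfl⟩
    have h2 : φ e ∈ E := mem_of_four hr hE h4 (by rw [← map_mul, hE e he, map_one]) fun x hx => by
      have h3 : x * φ e * x⁻¹ * (φ e)⁻¹ ∈ T ⊓ T.map φ.toMonoidHom := by
        refine mem_inf.2 ⟨?_, mul_mem (hn' x (hTM (hET hx)) _ h1) (inv_mem h1)⟩
        have := mul_mem (hET hx) (hn _ (hM φ e (hTM (hET he))) _ (inv_mem (hET hx)))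
        simpa only [mul_assoc] using this
      rwa [h, mem_bot, mul_inv_eq_one, mul_inv_eq_iff_eq_mul] at h3
    have h3 : φ e ∈ T ⊓ T.map φ.toMonoidHom := ⟨hET h2, h1⟩
    rw [h, mem_bot, map_eq_one_iff _ φ.injective] at h3
    exact e1 h3
  · have h1 : T = T.map φ.toMonoidHom := eq_of_le_of_card_ge (inf_eq_left.1 h)
      (card_map_of_injective φ.injective).le
    intro x hx
    rw [h1]; exact ⟨x, hx, rfl⟩

theorem Hom.rank_one_of_solvable [Finite G] (hG : Hom G) (hper : commutator G = ⊤)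
    {N : Subgroup G} (h0 : N ≠ ⊥) (hN : Inv N) (hs : Group.IsSolvable N) : PRankLE 2 1 G := by
  obtain ⟨p, hp, V, -, h2, h3, h4, h5⟩ := exists_elab h0 hN hs
  have := Fact.mk hp
  by_cases e : p = 2
  swap
  · exact (hG.not_odd hper e h2 h3 h4 h5).elim
  subst e
  have := h3.normal
  obtain ⟨n, hn, ⟨f⟩⟩ := exists_autGL (p := 2) (V := V) (fun x y => Subtype.ext (h4 x x.2 y y.2))
    fun x => Subtype.ext (h5 x x.2)
  have h6 := card_le_of_rank (hG.rank_two hper) (el_of h5)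
  rw [hn, Nat.pow_le_pow_iff_right (by norm_num)] at h6
  have h7 : Squarefree (Nat.card (MulAut V)) := by
    rw [Nat.card_congr f.toEquiv, Matrix.card_GL_field]
    interval_cases n <;> simp [Fin.prod_univ_succ] <;> decide +kernel
  have := IsZGroup.of_squarefree h7
  have h8 := central_of_ind (eq_bot_of_solvable (ind_perfect hper V) inferInstance)
  obtain ⟨⟨u, hu⟩, u1⟩ := ne_bot_iff_exists_ne_one.1 h2
  exact hG.rank_one hper (el_of h5 u hu) (fun h => u1 (Subtype.ext h)) (h8 hu)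

theorem Hom.cases [Finite G] [Nontrivial G] (hG : Hom G) (hper : commutator G = ⊤) :
    PRankLE 2 1 G ∨ ∃ N : Subgroup G, Inv N ∧ IsSimpleGroup N ∧ ¬ IsMulCommutative N := by
  obtain ⟨M, hM, M0, -, hmin⟩ := CL.Perm.exists_minimal_normal_le (⊤ : Subgroup G) top_ne_bot
  obtain ⟨T, m, hT, hTs, -, ⟨e⟩⟩ := CL.Perm.exists_mulEquiv_pi_of_minimal_normal M M0 hmin
  by_cases hc : IsMulCommutative T
  · left
    have hp : (Nat.card T).Prime :=
      @IsSimpleGroup.prime_card T { (inferInstance : Group T) with mul_comm := hc.is_comm.comm } hTs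
    have := Fact.mk hp
    have h1 : IsPGroup (Nat.card T) M := fun x => ⟨1, e.injective (by
      rw [map_pow, map_one, pow_one]
      exact funext fun i => pow_card_eq_one')⟩
    have := (isPGroup_pCore (Nat.card T) G).isNilpotent
    exact hG.rank_one_of_solvable hper (N := pCore (Nat.card T) G)
      (fun h => M0 (le_bot_iff.1 (h ▸ le_pCore h1))) (inv_char _) inferInstance
  right
  have hr := hG.rank_two hper
  obtain ⟨E, hE⟩ := Cfsg.Agent.S0204.result (G := T) fun h => hc inferInstance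
  have hinj : Function.Injective (M.subtype.comp T.subtype) :=
    Subtype.val_injective.comp Subtype.val_injective
  have e1 : El (E.map (M.subtype.comp T.subtype)) := by
    rintro _ ⟨x, hx, rfl⟩
    rw [← map_mul, show x * x = 1 from congrArg Subtype.val (IsKleinFour.mul_self (⟨x, hx⟩ : E)),
      map_one]
  have e2 : Nat.card (E.map (M.subtype.comp T.subtype)) = 4 := by
    rw [card_map_of_injective hinj, hE.card_four]
  have e3 : E.map (M.subtype.comp T.subtype) ≤ T.map M.subtype := by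
    rintro _ ⟨x, -, rfl⟩
    exact ⟨x, x.2, rfl⟩
  have hMi : Inv M := pres_of_min hr e1 e2 (e3.trans (map_subtype_le _)) le_top
    (fun m _ t ht => hM.conj_mem t ht m) (fun L hL h => hmin L ⟨fun t ht g => h g trivial t ht⟩ hL)
    fun _ _ _ => trivial
  have f := T.equivMapOfInjective M.subtype Subtype.val_injective
  have hs : IsSimpleGroup (T.map M.subtype) := f.symm.isSimpleGroup
  refine ⟨T.map M.subtype, pres_of_min hr e1 e2 e3 (map_subtype_le _) ?_ (fun L hL h => ?_) hMi,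
    hs, fun h => hc ⟨⟨fun x y => f.injective (by rw [map_mul, map_mul, h.is_comm.comm])⟩⟩⟩
  · rintro m hm _ ⟨t, ht, rfl⟩
    exact ⟨_, hT.conj_mem t ht ⟨m, hm⟩, rfl⟩
  · have := hs.eq_bot_or_eq_top_of_normal (L.subgroupOf (T.map M.subtype))
      ⟨fun x hx g => h g (map_subtype_le _ g.2) x hx⟩
    rw [subgroupOf_eq_bot, subgroupOf_eq_top] at this
    exact this.imp (fun h => h.eq_bot_of_le hL) fun h => le_antisymm hL h

end CL.Homog
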