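import Mathlib
import Cfsg.Agent.FGS.Homog6
import Cfsg.Agent.CLAS.U3Syl
import Cfsg.Agent.SPOR.Ord11c
import Cfsg.Agent.S2060

/-!
Groups that are not homogeneous: `L₃(q)`, `U₃(q)`, `A₇`, `2.A₇`, `M₁₁`.
-/

set_option autoImplicit false

namespace CL.Homog

open Subgroup CL.MSS Cfsg
open scoped MatrixGroups

variable {G : Type*} [Group G]

theorem Hom.conj_pair (hG : Hom G) {p : ℕ} (hp : p.Prime) {a b c : G} (hb : b ^ p = 1)
    (hc : c ^ p = 1) (hab : Commute a b) (hac : Commute a c) (h1 : b ∉ zpowers a)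
    (h2 : c ∉ zpowers a) (h : IsConj a b) : IsConj a c := by
  have := Fact.mk hp
  have ob : orderOf b = p := orderOf_eq_prime hb fun e => h1 (e ▸ one_mem _)
  have oc : orderOf c = p := orderOf_eq_prime hc fun e => h2 (e ▸ one_mem _)
  obtain ⟨φ, e1, e2⟩ := hG.exists_pair rfl (ob.trans oc.symm) hab hac
    (inf_eq_bot_of_prime hp ob h1) (inf_eq_bot_of_prime hp oc h2)
  have := φ.toMonoidHom.map_isConj h
  simpa [e1, e2] using this

theorem eq_of_pow {H : Type*} [Group H] (π : H →* G) {p : ℕ} (hk : ∀ x, π x = 1 → x ∈ center H)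
    (hk' : ∀ x, π x = 1 → x ^ p = 1 → x = 1) {x y : H} (hx : x ^ p = 1) (hy : y ^ p = 1)
    (e : π x = π y) : x = y := by
  have h1 : π (x⁻¹ * y) = 1 := by rw [map_mul, map_inv, e, inv_mul_cancel]
  have h2 : Commute x (x⁻¹ * y) := mem_center_iff.1 (hk _ h1) x
  have h3 := h2.mul_pow p
  rw [mul_inv_cancel_left, hx, hy, one_mul] at h3
  exact inv_mul_eq_one.1 (hk' _ h1 h3.symm)

theorem Hom.down (hG : Hom G) {H : Type*} [Group H] (π : H →* G) (hs : Function.Surjective π)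
    {p : ℕ} (hp : p.Prime) (hk : ∀ x, π x = 1 → x ∈ center H)
    (hk' : ∀ x, π x = 1 → x ^ p = 1 → x = 1) {a b c : H} (ha : a ^ p = 1) (hb : b ^ p = 1)
    (hc : c ^ p = 1) (hab : Commute a b) (hac : Commute a c) (h1 : b ∉ zpowers a)
    (h2 : c ∉ zpowers a) (h : IsConj a b) : IsConj a c := by
  have key : ∀ x, x ^ p = 1 → x ∉ zpowers a → π x ∉ zpowers (π a) := by
    rintro x hx hxa ⟨k, e⟩
    refine hxa ⟨k, eq_of_pow π hk hk' ?_ hx ((map_zpow π a k).trans e)⟩
    change (a ^ k) ^ p = 1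
    rw [← zpow_natCast, ← zpow_mul, mul_comm, zpow_mul, zpow_natCast, ha, one_zpow]
  obtain ⟨g, hg⟩ := isConj_iff.1 (hG.conj_pair hp (by rw [← map_pow, hb, map_one])
    (by rw [← map_pow, hc, map_one]) (hab.map π) (hac.map π) (key b hb h1) (key c hc h2)
    (π.map_isConj h))
  obtain ⟨g, rfl⟩ := hs g
  exact isConj_iff.2 ⟨g, eq_of_pow π hk hk' (by rw [conj_pow, ha, mul_one, mul_inv_cancel]) hc
    (by simpa using hg)⟩

theorem not_hom_unip {H R : Type*} [Group H] [Finite H] [Ring R] (π : H →* G)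
    (hs : Function.Surjective π) {p : ℕ} (hp : p.Prime) (hk : ∀ x, π x = 1 → x ∈ center H)
    (hk' : ∀ x, π x = 1 → x ^ p = 1 → x = 1) (ρ : H →* R) {y z s : H} (hy : y ^ p = 1)
    (hz : z ^ p = 1) (z1 : z ≠ 1) (hc : Commute y z) (e : s * y * s⁻¹ = y * z)
    (h1 : (ρ z - 1) ^ 2 = 0) (h2 : (ρ y - 1) ^ 2 ≠ 0) : ¬ Hom G := by
  intro hG
  have := Fact.mk hp
  have h3 : ∀ n : ℕ, ρ z ^ n - 1 = n • (ρ z - 1) := fun n => by
    induction n with
    | zero => simp
    | succ n ih =>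
      have : ρ z ^ (n + 1) - 1 = (ρ z ^ n - 1) * (ρ z - 1) + (ρ z ^ n - 1) + (ρ z - 1) := by
        noncomm_ring
      rw [this, ih, smul_mul_assoc, ← sq, h1, smul_zero, zero_add, succ_nsmul]
  have h4 : y ∉ zpowers z := fun h => by
    obtain ⟨n, rfl⟩ := (mem_powers_iff_mem_zpowers.2 h : y ∈ Submonoid.powers z)
    apply h2
    change (ρ (z ^ n) - 1) ^ 2 = 0
    rw [map_pow, h3, smul_pow, h1, smul_zero]
  have h5 : z ∉ zpowers y := fun h => z1 (mem_bot.1 (inf_eq_bot_of_prime hp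
    (orderOf_eq_prime hy fun e => h4 (e ▸ one_mem _)) h4 ▸ mem_inf.2 ⟨mem_zpowers z, h⟩))
  obtain ⟨g, hg⟩ := isConj_iff.1 (hG.down π hs hp hk hk' hy
    (by rw [hc.mul_pow, hy, hz, mul_one]) hz ((Commute.refl y).mul_right hc) hc
    (fun h => h5 (by simpa using mul_mem (inv_mem (mem_zpowers y)) h)) h5
    (isConj_iff.2 ⟨s, e⟩)).symm
  have g1 : ρ g * ρ g⁻¹ = 1 := by rw [← map_mul, mul_inv_cancel, map_one]
  have g2 : ρ g⁻¹ * ρ g = 1 := by rw [← map_mul, inv_mul_cancel, map_one]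
  have h6 : ρ y - 1 = ρ g * (ρ z - 1) * ρ g⁻¹ := by
    rw [← hg, map_mul, map_mul, mul_sub, sub_mul, mul_one, g1]
  apply h2
  rw [h6, sq]
  calc _ = ρ g * ((ρ z - 1) * (ρ g⁻¹ * ρ g) * (ρ z - 1)) * ρ g⁻¹ := by simp only [mul_assoc]
    _ = 0 := by rw [g2, mul_one, ← sq, h1, mul_zero, zero_mul]

theorem unip_pow {R : Type*} [Ring R] (p : ℕ) [hp : Fact p.Prime] [CharP R p] {x : R} {k : ℕ}
    (hk : k ≤ p) (h : (x - 1) ^ k = 0) : x ^ p = 1 := by
  have h1 := sub_pow_char_of_commute p (Commute.one_right x)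
  rwa [pow_eq_zero_of_le hk h, one_pow, eq_comm, sub_eq_zero] at h1

theorem SL_center {n : ℕ} {F : Type*} [Field F] (p : ℕ) [hp : Fact p.Prime] [CharP F p]
    {x : SL(n + 1, F)} (hx : x ∈ center SL(n + 1, F)) (h : x ^ p = 1) : x = 1 := by
  obtain ⟨r, -, hr⟩ := Matrix.SpecialLinearGroup.mem_center_iff.1 hx
  have h1 : (x : Matrix (Fin (n + 1)) (Fin (n + 1)) F) ^ p = 1 := by
    rw [← Matrix.SpecialLinearGroup.coe_pow, h, Matrix.SpecialLinearGroup.coe_one]
  rw [← hr, ← map_pow, ← map_one (Matrix.scalar (Fin (n + 1))), Matrix.scalar_inj] at h1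
  have h2 : r = 1 := frobenius_inj F p (by simpa [frobenius_def] using h1)
  apply Subtype.ext
  rw [← hr, h2, map_one]
  rfl

theorem exists_char (F : Type*) [Field F] [Fintype F] (h : Odd (Fintype.card F)) :
    ∃ p : ℕ, p.Prime ∧ CharP F p ∧ 3 ≤ p := by
  obtain ⟨p, hc, n, hp, hn⟩ := FiniteField.card' F
  refine ⟨p, hp, hc, ?_⟩
  rcases hp.eq_two_or_odd' with rfl | h1
  · rw [hn] at h
    exact absurd ((Nat.odd_pow_iff n.2.ne').1 h) (by decide)
  · have := hp.two_le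
    obtain ⟨k, hk⟩ := h1
    omega

theorem not_hom_PSL3 (F : Type) [Field F] [Fintype F] (h : Odd (Fintype.card F)) :
    ¬ Hom PSL(3, F) := by
  obtain ⟨p, hp, hc, h3⟩ := exists_char F h
  have := Fact.mk hp
  let y : SL(3, F) := ⟨!![1, 1, 0; 0, 1, 1; 0, 0, 1], by simp [Matrix.det_fin_three]⟩
  let z : SL(3, F) := ⟨!![1, 0, 1; 0, 1, 0; 0, 0, 1], by simp [Matrix.det_fin_three]⟩
  let s : SL(3, F) := ⟨!![1, 1, 0; 0, 1, 0; 0, 0, 1], by simp [Matrix.det_fin_three]⟩
  have e1 : (y : Matrix (Fin 3) (Fin 3) F) - 1 = !![0, 1, 0; 0, 0, 1; 0, 0, 0] := by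
    ext i j; fin_cases i <;> fin_cases j <;> simp [y]
  have e2 : (z : Matrix (Fin 3) (Fin 3) F) - 1 = !![0, 0, 1; 0, 0, 0; 0, 0, 0] := by
    ext i j; fin_cases i <;> fin_cases j <;> simp [z]
  have e3 : ((z : Matrix (Fin 3) (Fin 3) F) - 1) ^ 2 = 0 := by
    rw [e2, sq]; ext i j; fin_cases i <;> fin_cases j <;> simp [Matrix.mul_apply, Fin.sum_univ_three]
  have e4 : ((y : Matrix (Fin 3) (Fin 3) F) - 1) ^ 2 = !![0, 0, 1; 0, 0, 0; 0, 0, 0] := by
    rw [e1, sq]; ext i j; fin_cases i <;> fin_cases j <;> simp [Matrix.mul_apply, Fin.sum_univ_three]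
  refine not_hom_unip (QuotientGroup.mk' _) (QuotientGroup.mk'_surjective _) hp
    (fun x hx => (QuotientGroup.eq_one_iff x).1 hx)
    (fun x hx => SL_center p ((QuotientGroup.eq_one_iff x).1 hx)) (slToMat 3 F)
    (y := y) (z := z) (s := s) (Subtype.ext ?_) (Subtype.ext ?_) (fun h => ?_) (Subtype.ext ?_)
    (mul_inv_eq_iff_eq_mul.2 (Subtype.ext ?_)) e3 fun h => ?_
  · refine unip_pow p h3 ?_
    rw [pow_succ, e4, e1]
    ext i j; fin_cases i <;> fin_cases j <;> simp [Matrix.mul_apply, Fin.sum_univ_three]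
  · exact unip_pow p hp.two_le e3
  · have := congrArg (fun x : SL(3, F) => x 0 2) h
    simp [z] at this
  · change y.1 * z.1 = z.1 * y.1
    simp [y, z]
  · change s.1 * y.1 = y.1 * z.1 * s.1
    simp [y, z, s]
  · have := congrArg (fun x : Matrix (Fin 3) (Fin 3) F => x 0 2) (e4.symm.trans h)
    simp at this

theorem SU_center {F : Type*} [Field F] [Fintype F] {q : ℕ} (hF : Fintype.card F = q ^ 2) {p : ℕ}
    (hp : p.Coprime (Nat.gcd 3 (q + 1))) {x : SU 3 F q} (hx : x ∈ center (SU 3 F q))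
    (h : x ^ p = 1) : x = 1 := by
  have h2 := Subgroup.orderOf_dvd_natCard _ hx
  rw [CL.Uni.card_center_SU hF (by norm_num)] at h2
  exact orderOf_eq_one_iff.1 (Nat.eq_one_of_dvd_coprimes hp (orderOf_dvd_of_pow_eq_one h) h2)

open CL.U3 CL.Uni CL.Witt CL.SqField in
theorem not_hom_PSU3 (F : Type) [Field F] [Fintype F] {q : ℕ} (hF : Fintype.card F = q ^ 2)
    (h : Odd q) : ¬ Hom (PSU 3 F q) := by
  obtain ⟨p, hp, hc, h3⟩ := exists_char F (hF ▸ h.pow)
  have := Fact.mk hp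
  have hf := std_nondeg hF (Fin 3)
  obtain ⟨u, hu0, hu⟩ := exists_isotropic (sig_ne_id hF) hf (by simp)
  obtain ⟨w, z, hw, huw, huz, hwz, hz⟩ := exists_triple hf (by simp) hu hu0
  let φ : S hF →* SU 3 F q := (suEquiv hF 3).symm.toMonoidHom.comp
    ((emb hu huz hz).codRestrict _ fun x => Form.U_le_SO _ u (emb_mem_U hu huz hz x))
  have hφ : Function.Injective φ := (suEquiv hF 3).symm.injective.comp
    ((MonoidHom.injective_codRestrict _ _ _).2
      (emb_injective hu huz hz huw (Form.B_eq_zero_symm _ hwz)))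
  let ρ : SU 3 F q →* Module.End F (Fin 3 → F) :=
    (LinearEquiv.automorphismGroup.toLinearMapMonoidHom.comp (Subgroup.subtype _)).comp
      (suEquiv hF 3).toMonoidHom
  have hρ : ∀ x v, (ρ (φ x) - 1) v = ((std hF (Fin 3)).B u v * x.a) • z -
      (x.a ^ q * (std hF (Fin 3)).B z v + x.b * (std hF (Fin 3)).B u v) • u := fun x v => by
    have : ρ (φ x) v = emb hu huz hz x v := by simp [ρ, φ]
    rw [LinearMap.sub_apply, this, emb_apply_apply, Module.End.one_apply]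
    abel
  have h2 : (2 : F) ≠ 0 := fun e => by
    have := Nat.le_of_dvd two_pos ((CharP.cast_eq_zero_iff F p 2).1 (by exact_mod_cast e))
    omega
  have hexp : ∀ x : S hF, x ^ p = 1 := fun x => by
    have e : ∀ n : ℕ, 2 * (x ^ n).b = 2 * n * x.b + n * (n - 1) * (x.a ^ q * x.a) := fun n => by
      induction n with
      | zero => simp
      | succ n ih =>
        rw [pow_succ', S.mul_b, S.pow_a, mul_add, mul_add, ih]
        push_cast
        ring
    refine S.ext (by rw [S.pow_a, CharP.cast_eq_zero, zero_mul, S.one_a]) ?_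
    have := e p
    rw [CharP.cast_eq_zero] at this
    exact mul_left_cancel₀ h2 (by simpa using this)
  obtain ⟨t, ht⟩ : ∃ t : F, t ^ q ≠ t := by
    by_contra hc
    push Not at hc
    exact sig_ne_id hF (RingHom.ext hc)
  obtain ⟨y, hy⟩ := S.exists_a hF 1
  obtain ⟨s, hs⟩ := S.exists_a hF t
  have z0 : (y⁻¹ * (s * y * s⁻¹)).a = 0 := by simp
  have huu := Form.B_self_eq_zero _ hu
  have hzu := Form.B_eq_zero_symm _ huz
  refine not_hom_unip (QuotientGroup.mk' _) (QuotientGroup.mk'_surjective _) hp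
    (fun x hx => (QuotientGroup.eq_one_iff x).1 hx)
    (fun x hx => SU_center hF ?_ ((QuotientGroup.eq_one_iff x).1 hx)) ρ
    (y := φ y) (z := φ (y⁻¹ * (s * y * s⁻¹))) (s := φ s) (by rw [← map_pow, hexp, map_one])
    (by rw [← map_pow, hexp, map_one]) (fun e => ht ?_)
    (Commute.map (mem_center_iff.1 (S.mem_center_iff.2 z0) y) φ) (by simp) ?_ fun e => hu0 ?_
  · exact Nat.Coprime.coprime_dvd_right (Nat.gcd_dvd_right _ _) ((Nat.Prime.coprime_iff_not_dvd hp).2
      fun h => hp.one_lt.ne' (Nat.dvd_one.1 ((Nat.dvd_add_right (dvd_q hF p)).1 h)))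
  · rw [map_eq_one_iff _ hφ, inv_mul_eq_one, eq_mul_inv_iff_mul_eq, S.commute_iff, hy, hs] at e
    simpa using e.symm
  · refine LinearMap.ext fun v => ?_
    rw [sq, Module.End.mul_apply, hρ, hρ, z0]
    simp [huu, zero_pow_q hF]
  · have := LinearMap.congr_fun e w
    rw [sq, Module.End.mul_apply, hρ, hρ, hy] at this
    have hzz : (std hF (Fin 3)).B z z = 1 := hz
    simpa [huu, hzu, huz, huw, hzz, Form.B_eq_zero_symm _ hwz] using this

theorem trace_eq_of_conj {H n R : Type*} [Group H] [Fintype n] [DecidableEq n] [CommRing R]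
    (ρ : H →* Matrix n n R) {a b : H} (h : IsConj a b) : (ρ a).trace = (ρ b).trace := by
  obtain ⟨g, rfl⟩ := isConj_iff.1 h
  rw [map_mul, Matrix.trace_mul_comm, ← map_mul, inv_mul_cancel_left]

/-- diagonal elements of `SU₃(4)` -/
def dg {F : Type*} [Field F] (l : F) (hl : l ^ 5 = 1) (d : Fin 3 → ℕ) (h : 5 ∣ d 0 + d 1 + d 2) :
    SU 3 F 4 :=
  ⟨⟨Matrix.diagonal fun i => l ^ d i, by
    obtain ⟨k, hk⟩ := h
    rw [Matrix.det_diagonal, Fin.prod_univ_three, ← pow_add, ← pow_add, hk, pow_mul, hl, one_pow]⟩,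
    fun u v => Finset.sum_congr rfl fun i _ => by
      change (Matrix.diagonal _).mulVec u i * ((Matrix.diagonal _).mulVec v i) ^ 4 = _
      rw [Matrix.mulVec_diagonal, Matrix.mulVec_diagonal]
      calc _ = (l ^ 5) ^ d i * (u i * v i ^ 4) := by ring
        _ = _ := by rw [hl, one_pow, one_mul]⟩

theorem not_hom_PSU34 (F : Type) [Field F] [Fintype F] (hF : Fintype.card F = 16) :
    ¬ Hom (PSU 3 F 4) := by
  classical
  intro hG
  have := Fact.mk Nat.prime_five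
  obtain ⟨l, hl⟩ := exists_prime_orderOf_dvd_card' (G := Fˣ) 5 (by
    rw [Nat.card_units, Nat.card_eq_fintype_card, hF]; norm_num)
  have l5 : (l : F) ^ 5 = 1 := by rw [← Units.val_pow_eq_pow_val, ← hl, pow_orderOf_eq_one]; rfl
  have l1 : ∀ i j : ℕ, (l : F) ^ i = l ^ j → i ≡ j [MOD 5] := fun i j e => by
    rw [← hl, ← pow_eq_pow_iff_modEq]
    exact Units.ext (by simpa using e)
  have h2 : (2 : F) = 0 := by
    have := FiniteField.cast_card_eq_zero F
    rw [hF] at this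
    exact pow_eq_zero_iff (n := 4) (by norm_num) |>.1 (by push_cast at this; linear_combination this)
  have c1 : ∀ d h, dg (l : F) l5 d h ^ 5 = 1 := fun d h => by
    refine Subtype.ext (Subtype.ext ?_)
    change Matrix.diagonal _ ^ 5 = 1
    rw [Matrix.diagonal_pow, ← Matrix.diagonal_one]
    congr 1
    funext i
    rw [Pi.pow_apply, ← pow_mul, mul_comm, pow_mul, l5, one_pow]
  have c2 : ∀ d h d' h', Commute (dg (l : F) l5 d h) (dg l l5 d' h') := fun d h d' h' =>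
    Subtype.ext (Subtype.ext (Matrix.commute_diagonal _ _).eq)
  have c3 : ∀ d h, ¬ d 0 ≡ d 1 [MOD 5] →
      dg (l : F) l5 d h ∉ zpowers (dg (l : F) l5 ![1, 1, 3] (by decide)) := fun d h hd hm => by
    obtain ⟨n, hn⟩ := (mem_powers_iff_mem_zpowers.2 hm : _ ∈ Submonoid.powers _)
    have e : Matrix.diagonal (fun i => (l : F) ^ (![1, 1, 3] : Fin 3 → ℕ) i) ^ n =
        Matrix.diagonal fun i => (l : F) ^ d i := congrArg (fun x : SU 3 F 4 => x.1.1) hn
    rw [Matrix.diagonal_pow, Matrix.diagonal_eq_diagonal_iff] at e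
    exact hd (l1 _ _ ((e 0).symm.trans (e 1)))
  let g : SU 3 F 4 := ⟨⟨!![0, 0, 1; 1, 0, 0; 0, 1, 0], by simp [Matrix.det_fin_three]⟩, fun u v => by
    change hermForm 3 F 4 (Matrix.mulVec !![0, 0, 1; 1, 0, 0; 0, 1, 0] u)
      (Matrix.mulVec !![0, 0, 1; 1, 0, 0; 0, 1, 0] v) = _
    simp [hermForm, Fin.sum_univ_three, Matrix.mulVec, dotProduct]
    ring⟩
  have := trace_eq_of_conj ((slToMat 3 F).comp (Subgroup.subtype _)) (hG.down (QuotientGroup.mk' _)
    (QuotientGroup.mk'_surjective _) Nat.prime_five (fun x hx => (QuotientGroup.eq_one_iff x).1 hx)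
    (fun x hx => SU_center (q := 4) hF (by norm_num) ((QuotientGroup.eq_one_iff x).1 hx))
    (b := dg l l5 ![3, 1, 1] (by decide)) (c := dg l l5 ![2, 4, 4] (by decide))
    (c1 _ _) (c1 _ _) (c1 _ _) (c2 _ _ _ _) (c2 _ _ _ _) (c3 _ _ (by decide)) (c3 _ _ (by decide))
    (isConj_iff.2 ⟨g, mul_inv_eq_iff_eq_mul.2 (Subtype.ext (Subtype.ext (by
      change !![0, 0, 1; 1, 0, 0; 0, 1, 0] * Matrix.diagonal _ =
        Matrix.diagonal _ * !![0, 0, 1; 1, 0, 0; 0, 1, 0]
      ext i j; fin_cases i <;> fin_cases j <;> simp)))⟩))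
  change (Matrix.diagonal _).trace = (Matrix.diagonal _).trace at this
  rw [Matrix.trace_diagonal, Matrix.trace_diagonal, Fin.sum_univ_three, Fin.sum_univ_three] at this
  refine absurd (l1 3 2 ?_) (by decide)
  simp at this
  linear_combination this + ((l : F) ^ 4 - l) * h2

theorem not_hom_A7 (π : G →* alternatingGroup (Fin 7)) (hs : Function.Surjective π)
    (hk : ∀ x, π x = 1 → x ∈ center G) (hk2 : ∀ x, π x = 1 → x ^ 2 = 1) : ¬ Hom G := by
  intro hG
  have hk' : ∀ x, π x = 1 → x ^ 3 = 1 → x = 1 := fun x h h3 => by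
    rwa [pow_succ, hk2 x h, one_mul] at h3
  have lift : ∀ a, a ^ 3 = 1 → ∃ x, π x = a ∧ x ^ 3 = 1 := fun a ha => by
    obtain ⟨x, rfl⟩ := hs a
    refine ⟨x ^ 4, by rw [map_pow, pow_succ, ha, one_mul], ?_⟩
    calc _ = ((x ^ 3) ^ 2) ^ 2 := by group
      _ = 1 := by rw [hk2 (x ^ 3) (by rw [map_pow, ha]), one_pow]
  let a : alternatingGroup (Fin 7) := ⟨Equiv.swap 0 1 * Equiv.swap 1 2, by simp⟩
  let b : alternatingGroup (Fin 7) := ⟨Equiv.swap 3 4 * Equiv.swap 4 5, by simp⟩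
  let g : alternatingGroup (Fin 7) :=
    ⟨Equiv.swap 0 6 * Equiv.swap 0 3 * (Equiv.swap 1 4 * Equiv.swap 2 5), by simp⟩
  obtain ⟨x, hx, x3⟩ := lift a (by decide)
  obtain ⟨y, hy, y3⟩ := lift b (by decide)
  obtain ⟨k, hk0⟩ := hs g
  have key : ∀ c : G, (π c : Equiv.Perm (Fin 7)) 3 ≠ 3 → c ∉ zpowers x := by
    rintro _ h ⟨n, rfl⟩
    apply h
    change (π (x ^ n) : Equiv.Perm (Fin 7)) 3 = 3
    rw [map_zpow, hx, coe_zpow]
    exact Equiv.Perm.zpow_apply_eq_self_of_apply_eq_self (by decide) n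
  have hc : Commute x y := mul_inv_eq_iff_eq_mul.1 (eq_of_pow π hk hk'
    (by rw [conj_pow, y3, mul_one, mul_inv_cancel]) y3 (by
      rw [map_mul, map_mul, map_inv, hx, hy]; decide))
  have h1 := hG.conj_pair Nat.prime_three y3 (c := x * y) (by rw [hc.mul_pow, x3, y3, mul_one]) hc
    ((Commute.refl x).mul_right hc) (key y (by rw [hy]; decide))
    (key _ (by rw [map_mul, hx, hy]; decide)) (isConj_iff.2 ⟨k, eq_of_pow π hk hk'
      (by rw [conj_pow, x3, mul_one, mul_inv_cancel]) y3 (by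
        rw [map_mul, map_mul, map_inv, hx, hy, hk0]; decide)⟩)
  obtain ⟨c, hc⟩ := isConj_iff.1 (((alternatingGroup (Fin 7)).subtype.comp π).map_isConj h1)
  have h2 := congrArg (fun σ : Equiv.Perm (Fin 7) => σ.support.card) hc
  simp only [Equiv.Perm.card_support_conj, MonoidHom.comp_apply, map_mul π, hx, hy] at h2
  revert h2
  decide

theorem not_hom_cover_A7 [Finite G] (h : IsNonsplitDoubleCover G (alternatingGroup (Fin 7))) :
    ¬ Hom G := by
  obtain ⟨h1, ⟨e⟩, -⟩ := h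
  have h2 : ∀ x, (e.toMonoidHom.comp (QuotientGroup.mk' _)) x = 1 → x ∈ center G := fun x hx =>
    (QuotientGroup.eq_one_iff x).1 ((map_eq_one_iff _ e.injective).1 hx)
  refine not_hom_A7 _ (e.surjective.comp (QuotientGroup.mk'_surjective _)) h2 fun x hx => ?_
  rw [← h1]
  exact congrArg Subtype.val (pow_card_eq_one' (x := (⟨x, h2 x hx⟩ : center G)))

theorem cent_of_pow [Finite G] {p : ℕ} [hp : Fact p.Prime] (P : Sylow p G)
    (hc : (P : Subgroup G) ≤ centralizer (P : Set G)) {m : G}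
    (hm : m ∈ normalizer (P : Set G)) (h : m ^ p ∈ centralizer (P : Set G)) :
    m ∈ centralizer (P : Set G) := by
  obtain ⟨k, hk, hk'⟩ := exists_coprime_pow p m
  have h1 := hc ((sylIn_top P).le_of_normalizes hk' le_top (zpowers_le.2 (pow_mem hm k))
    (mem_zpowers _))
  obtain ⟨a, b, e⟩ := Nat.isCoprime_iff_coprime.2 ((Nat.Prime.coprime_iff_not_dvd hp.out).2 hk)
  have := mul_mem (zpow_mem h a) (zpow_mem h1 b)
  rwa [← zpow_natCast, ← zpow_natCast, ← zpow_mul, ← zpow_mul, ← zpow_add, mul_comm _ a,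
    mul_comm _ b, e, zpow_one] at this

theorem not_hom_M11 [Finite G] (h : IsM11 G) : ¬ Hom G := by
  intro hG
  have := h.1
  obtain ⟨e⟩ := CL.Ord.iso_M11 h.2
  have hin : ∀ φ : G ≃* G, ∃ m, ∀ x, m * x * m⁻¹ = φ x := fun φ => by
    have := (Nat.card_eq_one_iff_unique.1 Cfsg.Agent.S2060.result).1
    obtain ⟨m, hm⟩ := (QuotientGroup.eq_one_iff (N := Inn _) (e.symm.trans (φ.trans e))).1
      (Subsingleton.elim _ _)
    refine ⟨e.symm m, fun x => e.injective ?_⟩
    simpa using DFunLike.congr_fun hm (e x)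
  have := Fact.mk Nat.prime_three
  obtain ⟨P⟩ : Nonempty (Sylow 3 G) := inferInstance
  have h9 : Nat.card P = 3 ^ 2 := by
    rw [P.card_eq_multiplicity, h.2]
    congr 1
    have h1 := (Nat.prime_three.pow_dvd_iff_le_factorization (k := 2) (n := 7920) (by norm_num)).1
      (by norm_num)
    have h2 := mt (Nat.prime_three.pow_dvd_iff_le_factorization (k := 3) (n := 7920)
      (by norm_num)).2 (by norm_num)
    omega
  have hc := (IsPGroup.isMulCommutative_of_card_eq_prime_sq h9).is_comm.comm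
  have h3 : 3 ∣ Nat.card (MulAut P) := by
    by_cases hcyc : IsCyclic P
    · rw [IsCyclic.card_mulAut, h9]; decide
    obtain ⟨n, hn, ⟨f⟩⟩ := exists_autGL (p := 3) hc fun x => by
      have h1 := orderOf_dvd_natCard x
      rw [h9, Nat.dvd_prime_pow Nat.prime_three] at h1
      obtain ⟨i, hi, h1⟩ := h1
      have h2 : i ≠ 2 := fun h2 => hcyc (isCyclic_of_orderOf_eq_card x (by rw [h1, h2, h9]))
      exact orderOf_dvd_iff_pow_eq_one.1 (h1 ▸ (pow_dvd_pow 3 (by omega : i ≤ 1)))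
    obtain rfl : n = 2 := Nat.pow_right_injective (by norm_num : 2 ≤ 3) (hn.symm.trans h9)
    rw [Nat.card_congr f.toEquiv, Matrix.card_GL_field]
    simp [Fin.prod_univ_succ]
  obtain ⟨σ, hσ⟩ := exists_prime_orderOf_dvd_card' 3 h3
  obtain ⟨φ, hφ⟩ := hG P P σ
  obtain ⟨m, hm⟩ := hin φ
  have h4 : ∀ x : P, m * x * m⁻¹ = σ x := fun x => (hm x).trans (hφ x)
  have h5 := cent_of_pow P (fun x hx y hy => congrArg Subtype.val (hc ⟨y, hy⟩ ⟨x, hx⟩)) (m := m)
    (mem_normalizer_of_conj fun x hx => by rw [h4 ⟨x, hx⟩]; exact (σ _).2) fun x hx => by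
      have h6 : (σ (σ (σ ⟨x, hx⟩)) : G) = x := by
        have : σ ^ 3 = 1 := orderOf_dvd_iff_pow_eq_one.1 hσ.dvd
        exact congrArg (fun α : MulAut P => (α ⟨x, hx⟩ : G)) this
      rw [← h4, ← h4, ← h4] at h6
      calc x * m ^ 3 = m * (m * (m * x * m⁻¹) * m⁻¹) * m⁻¹ * m ^ 3 := by rw [h6]
        _ = _ := by simp only [pow_succ, pow_zero, one_mul, mul_assoc, inv_mul_cancel_left,
          inv_mul_cancel, mul_one]
  have h6 : σ = 1 := MulEquiv.ext fun x => Subtype.ext (by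
    rw [← h4, ← h5 x x.2, mul_inv_cancel_right]; rfl)
  rw [h6, orderOf_one] at hσ
  exact absurd hσ (by decide)

end CL.Homog
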