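import Mathlib
import Cfsg.Agent.FGS.Homog7
import Cfsg.Agent.INV.GW.DFAut
import Cfsg.Agent.SIG.Quasisimple
import Cfsg.Agent.S2429

/-!
Homogeneity of `SL₂(q)` and `L₂(q)`, `q` odd.
-/

set_option autoImplicit false

namespace CL.Homog

open Subgroup CL.MSS Cfsg
open scoped MatrixGroups commutatorElement

variable {G : Type*} [Group G] {F : Type*} [Field F]

/-- upper unitriangular matrices -/
def uE (s : F) : SL(2, F) := ⟨!![1, s; 0, 1], by simp [Matrix.det_fin_two]⟩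

theorem uE_add (s t : F) : uE (s + t) = uE s * uE t := by
  refine Subtype.ext ?_
  change (uE (s + t)).1 = (uE s).1 * (uE t).1
  simp [uE, add_comm]

theorem uE_zero : uE (0 : F) = 1 := Subtype.ext (by
  ext i j; fin_cases i <;> fin_cases j <;> simp [uE])

theorem uE_pow (s : F) (n : ℕ) : uE s ^ n = uE (n * s) := by
  induction n with
  | zero => simp [uE_zero]
  | succ n ih => rw [pow_succ, ih, ← uE_add]; congr 1; push_cast; ring

theorem uE_inj {s t : F} (h : uE s = uE t) : s = t := by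
  simpa [uE] using congrArg (fun x : SL(2, F) => x 0 1) h

theorem center_sq {x : SL(2, F)} (hx : x ∈ center SL(2, F)) : x ^ 2 = 1 := by
  obtain ⟨r, h1, hr⟩ := Matrix.SpecialLinearGroup.mem_center_iff.1 hx
  apply Subtype.ext
  rw [Matrix.SpecialLinearGroup.coe_pow, ← hr, ← map_pow]
  rw [Fintype.card_fin] at h1
  rw [h1, map_one]; rfl

theorem odd_ker {n : ℕ} (hn : Odd n) {x : SL(2, F)} (hx : x ∈ center SL(2, F)) (h : x ^ n = 1) :
    x = 1 := by
  obtain ⟨k, rfl⟩ := hn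
  rwa [pow_succ, pow_mul, center_sq hx, one_pow, one_mul] at h

theorem two_ne {p : ℕ} [CharP F p] (h3 : 3 ≤ p) : (2 : F) ≠ 0 := fun e => by
  have := Nat.le_of_dvd two_pos ((CharP.cast_eq_zero_iff F p 2).1 (by exact_mod_cast e))
  omega

theorem Hom.prime_field [Fintype F] (hG : Hom G) (ho : Odd (Fintype.card F)) (π : SL(2, F) →* G)
    (hs : Function.Surjective π) (hk : ∀ x, π x = 1 → x ∈ center SL(2, F)) (t : F) :
    t ∈ (⊥ : Subfield F) := by
  by_contra ht
  obtain ⟨p, hp, hc, h3⟩ := exists_char F ho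
  have h2 := two_ne (F := F) h3
  obtain ⟨b, hb⟩ : ∃ b : F, b * b ∉ (⊥ : Subfield F) := by
    by_contra h
    push Not at h
    apply ht
    have h1 : t = ((t + 1) * (t + 1) - t * t - 1) / (2 : ℕ) := by push_cast; field_simp; ring
    rw [h1]
    exact div_mem (sub_mem (sub_mem (h _) (h _)) (one_mem _)) (natCast_mem _ _)
  have b0 : b ≠ 0 := fun e => hb (by rw [e, mul_zero]; exact zero_mem _)
  obtain ⟨c, hc1, hc2⟩ : ∃ c : F, ¬ IsSquare c ∧ c ∉ (⊥ : Subfield F) := by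
    obtain ⟨c, hc⟩ := FiniteField.exists_nonsquare (F := F) (by
      rw [ringChar.eq F p]; omega)
    by_cases h : c ∈ (⊥ : Subfield F)
    · have c0 : c ≠ 0 := fun e => hc (e ▸ IsSquare.zero)
      refine ⟨c * (b * b), fun ⟨r, hr⟩ => hc ⟨r / b, ?_⟩, fun h' => hb ?_⟩
      · field_simp; linear_combination hr
      · simpa [c0] using mul_mem (inv_mem h) h'
    · exact ⟨c, hc, h⟩
  have e1 : ∀ s : F, uE s ^ p = 1 := fun s => by
    rw [uE_pow, CharP.cast_eq_zero, zero_mul, uE_zero]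
  have e2 : ∀ s t : F, Commute (uE s) (uE t) := fun s t => by
    change _ = _
    rw [← uE_add, ← uE_add, add_comm]
  have e3 : ∀ s : F, s ∉ (⊥ : Subfield F) → uE s ∉ zpowers (uE (1 : F)) := fun s h hm => by
    obtain ⟨n, hn⟩ := (mem_powers_iff_mem_zpowers.2 hm : _ ∈ Submonoid.powers _)
    have : uE ((n : F) * 1) = uE s := (uE_pow _ _).symm.trans hn
    rw [← uE_inj this, mul_one] at h
    exact h (natCast_mem _ _)
  let d : SL(2, F) := ⟨!![b, 0; 0, b⁻¹], by simp [Matrix.det_fin_two, b0]⟩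
  obtain ⟨g, hg⟩ := isConj_iff.1 (hG.down π hs hp hk
    (fun x hx => odd_ker (hp.odd_of_ne_two (by omega)) (hk x hx)) (e1 _) (e1 _) (e1 _) (e2 _ _)
    (e2 _ _) (e3 _ hb) (e3 _ hc2) (isConj_iff.2 ⟨d, mul_inv_eq_iff_eq_mul.2 (Subtype.ext (by
      change d.1 * (uE (1 : F)).1 = (uE (b * b)).1 * d.1
      simp [d, uE, b0]))⟩))
  have h4 : g.1 * (uE (1 : F)).1 = (uE c).1 * g.1 :=
    congrArg (fun x : SL(2, F) => x.1) (mul_inv_eq_iff_eq_mul.1 hg)
  have h5 := congrFun (congrFun h4 0) 1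
  have h6 := congrFun (congrFun h4 1) 1
  have h7 := g.2
  simp [uE, Matrix.mul_apply, Fin.sum_univ_two] at h5 h6
  rw [Matrix.det_fin_two, h6] at h7
  exact hc1 ⟨g.1 0 0, by linear_combination (-c) * h7 - g.1 0 0 * h5⟩

/-- conjugation by an invertible matrix -/
def cjG (g : GL (Fin 2) F) : SL(2, F) →* SL(2, F) :=
  MonoidHom.mk' (fun x => ⟨g.1 * x.1 * (g⁻¹).1, by
    rw [Matrix.det_mul, Matrix.det_mul, x.2, mul_one, ← Matrix.det_mul, Units.mul_inv,
      Matrix.det_one]⟩) fun x y => Subtype.ext (by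
    change g.1 * (x.1 * y.1) * (g⁻¹).1 = g.1 * x.1 * (g⁻¹).1 * (g.1 * y.1 * (g⁻¹).1)
    simp only [mul_assoc, Units.inv_mul_cancel_left])

theorem toGL_cjG (g : GL (Fin 2) F) (x : SL(2, F)) :
    Matrix.SpecialLinearGroup.toGL (cjG g x) = g * Matrix.SpecialLinearGroup.toGL x * g⁻¹ :=
  Units.ext rfl

theorem trace_cjG (g : GL (Fin 2) F) (x : SL(2, F)) : (cjG g x).1.trace = x.1.trace := by
  change (g.1 * x.1 * (g⁻¹).1).trace = _
  rw [Matrix.trace_mul_comm, Units.inv_mul_cancel_left]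

/-- every automorphism is induced by an invertible matrix -/
def AutGL (π : SL(2, F) →* G) : Prop :=
  ∀ θ : G ≃* G, ∃ g : GL (Fin 2) F, ∀ x, θ (π x) = π (cjG g x)

theorem autGL_PSL [Finite F] (h : ∀ t : F, t ∈ (⊥ : Subfield F)) :
    AutGL (QuotientGroup.mk' (center SL(2, F))) := by
  intro θ
  obtain ⟨g, hg⟩ := CL.GW.DF.exists_iP_of_sg (F := F) (a := θ) (RingEquiv.ext fun t =>
    (bot_le (a := RingHom.eqLocusField (CL.GW.DF.sg (F := F) θ : F →+* F) (RingHom.id F)) (h t)))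
  obtain ⟨g, rfl⟩ := CL.GW.DF.exists_mk g
  refine ⟨g, fun x => ?_⟩
  rw [← hg, CL.GW.DF.iP_mk]
  exact CL.AutPSL.gam_mk (by rw [CL.AutInd.conjAut_inl, toGL_cjG]; rfl)

theorem eq_of_central {H K : Type*} [Group H] [Group K] (hp : commutator H = ⊤) (f g : H →* K)
    (h : ∀ x, (f x)⁻¹ * g x ∈ center K) (x : H) : f x = g x := by
  have h1 : commutator H ≤ f.eqLocus g := commutator_le.2 fun a _ b _ => by
    change f ⁅a, b⁆ = g ⁅a, b⁆
    have ha := mem_center_iff.1 (h a)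
    have hb := mem_center_iff.1 (h b)
    obtain ⟨z, hz⟩ : ∃ z, z = (f a)⁻¹ * g a := ⟨_, rfl⟩
    obtain ⟨w, hw⟩ : ∃ w, w = (f b)⁻¹ * g b := ⟨_, rfl⟩
    rw [← hz] at ha
    rw [← hw] at hb
    rw [map_commutatorElement, map_commutatorElement, ← inv_mul_eq_iff_eq_mul.1 hz.symm |>.symm,
      ← inv_mul_eq_iff_eq_mul.1 hw.symm |>.symm, commutatorElement_def, commutatorElement_def]
    calc _ = f a * (f b * z) * z⁻¹ * ((f a)⁻¹ * w) * (f b * w)⁻¹ := by group
      _ = _ := by rw [ha (f b), hb (f a)⁻¹, mul_assoc _ z⁻¹, ← mul_assoc z⁻¹, hb z⁻¹]; group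
  exact h1 (hp ▸ mem_top x)

theorem SL_perfect [Fintype F] (h : 3 < Fintype.card F) : commutator SL(2, F) = ⊤ := by
  obtain ⟨a, ha, ha'⟩ := CL.SL.exists_sq_ne_one_of_four_le_card (F := F)
    (by rwa [Nat.card_eq_fintype_card])
  exact CL.SL.commutator_eq_top_of_sq_ne_one ha ha'

theorem autGL_SL [Fintype F] (h3 : 3 < Fintype.card F) (h : ∀ t : F, t ∈ (⊥ : Subfield F)) :
    AutGL (MonoidHom.id SL(2, F)) := by
  intro θ
  obtain ⟨g, hg⟩ := autGL_PSL h (QuotientGroup.congr _ _ θ (map_eq_of_mem (inv_char _ θ)))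
  exact ⟨g, eq_of_central (SL_perfect h3) θ.toMonoidHom (cjG g) fun x =>
    QuotientGroup.eq.1 (hg x)⟩

theorem ch (x : SL(2, F)) : x.1 * x.1 = x.1.trace • x.1 - 1 := by
  have h := x.2
  rw [Matrix.det_fin_two] at h
  ext i j
  fin_cases i <;> fin_cases j <;> simp [Matrix.mul_apply, Fin.sum_univ_two, Matrix.trace_fin_two]
  · linear_combination -h
  · ring
  · ring
  · linear_combination -h

theorem trace_sq (x : SL(2, F)) : (x ^ 2).1.trace = x.1.trace ^ 2 - 2 := by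
  rw [Matrix.SpecialLinearGroup.coe_pow, sq, ch, Matrix.trace_sub, Matrix.trace_smul,
    Matrix.trace_one, sq]
  simp

theorem pow_of_trace (p : ℕ) [hp : Fact p.Prime] [CharP F p] {x : SL(2, F)} (h : x.1.trace = 2) :
    x ^ p = 1 := by
  refine Subtype.ext (unip_pow p hp.out.two_le ?_)
  rw [sq, sub_mul, mul_sub, mul_sub, ch, h, two_smul]
  simp only [mul_one, one_mul]
  abel

theorem Hom.dvd_three [Fintype F] (hG : Hom G) {π : SL(2, F) →* G}
    (hk : ∀ x, π x = 1 → x ∈ center SL(2, F)) (ha : AutGL π) {x : SL(2, F)}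
    (ho : Odd (orderOf x)) (hc : (orderOf x).Coprime (Fintype.card F)) : orderOf x ∣ 3 := by
  obtain ⟨p, hF, n, hp, hn⟩ := FiniteField.card' F
  have := Fact.mk hp
  obtain ⟨θ, hθ⟩ := hG.exists_map (x := π x) (x' := π x ^ 2) (Nat.Coprime.orderOf_pow
    (Nat.coprime_two_right.2 (ho.of_dvd_nat (orderOf_map_dvd π x)))).symm
  obtain ⟨g, hg⟩ := ha θ
  have h1 : cjG g x = x ^ 2 := eq_of_pow π hk (fun y hy => odd_ker ho (hk y hy))
    (by rw [← map_pow, pow_orderOf_eq_one, map_one])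
    (by rw [← pow_mul, mul_comm, pow_mul, pow_orderOf_eq_one, one_pow]) (by
      rw [← hg, hθ, map_pow])
  have h2 := trace_cjG g x
  rw [h1, trace_sq] at h2
  have h3 : (x.1.trace - 2) * (x.1.trace + 1) = 0 := by linear_combination h2
  rcases mul_eq_zero.1 h3 with h | h
  · have h4 := orderOf_dvd_of_pow_eq_one (pow_of_trace p (sub_eq_zero.1 h))
    rw [Nat.eq_one_of_dvd_coprimes hc dvd_rfl (h4.trans (hn ▸ dvd_pow_self p n.2.ne'))]
    exact one_dvd _
  · refine orderOf_dvd_of_pow_eq_one (Subtype.ext ?_)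
    rw [Matrix.SpecialLinearGroup.coe_pow, pow_succ, sq, ch, sub_mul, smul_mul_assoc, ch,
      eq_neg_of_add_eq_zero_left h]
    simp

theorem exists_nonsplit [Fintype F] (ho : Odd (Fintype.card F)) :
    ∃ y : SL(2, F), orderOf y = Fintype.card F + 1 := by
  obtain ⟨T, h1, h2, -⟩ := Cfsg.Agent.S2429.result ho
  obtain ⟨y, hy⟩ := IsCyclic.exists_ofOrder_eq_natCard (α := T)
  exact ⟨y, by rw [orderOf_coe, hy, h2]⟩

theorem exists_split [Fintype F] : ∃ y : SL(2, F), orderOf y = Fintype.card F - 1 := by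
  obtain ⟨a, ha⟩ := IsCyclic.exists_ofOrder_eq_natCard (α := Fˣ)
  let f : Fˣ →* SL(2, F) := MonoidHom.mk'
    (fun a => ⟨!![(a : F), 0; 0, (a⁻¹ : Fˣ)], by simp [Matrix.det_fin_two]⟩) fun a b =>
      Subtype.ext (by
        change _ = !![(a : F), 0; 0, (a⁻¹ : Fˣ)] * !![(b : F), 0; 0, (b⁻¹ : Fˣ)]
        simp [mul_comm])
  refine ⟨f a, ?_⟩
  rw [orderOf_injective f fun a b e => Units.ext
    (congrArg (fun x : SL(2, F) => x.1 0 0) e), ha, Nat.card_units,
    Nat.card_eq_fintype_card]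

theorem Hom.card_cases [Fintype F] (hG : Hom G) (ho : Odd (Fintype.card F))
    (h3 : 3 < Fintype.card F) {π : SL(2, F) →* G} (hk : ∀ x, π x = 1 → x ∈ center SL(2, F))
    (ha : AutGL π) : Fintype.card F = 5 ∨ Fintype.card F = 7 := by
  obtain ⟨k, hk'⟩ := ho
  rcases Nat.even_or_odd' k with ⟨m, rfl | rfl⟩
  · obtain ⟨y, hy⟩ := exists_nonsplit (F := F) ⟨_, hk'⟩
    have h1 : orderOf (y ^ 2) = 2 * m + 1 := by
      rw [orderOf_pow_of_dvd two_ne_zero (by omega)]; omega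
    have h2 := hG.dvd_three hk ha (x := y ^ 2) (h1 ▸ odd_two_mul_add_one m) (by
      rw [h1]
      exact Nat.Coprime.coprime_dvd_left (m := 2 * m + 1) (k := Fintype.card F + 1)
        ⟨2, by omega⟩ (by simp))
    have := Nat.le_of_dvd (by norm_num) h2
    omega
  · obtain ⟨y, hy⟩ := exists_split (F := F)
    have h1 : orderOf (y ^ 2) = 2 * m + 1 := by
      rw [orderOf_pow_of_dvd two_ne_zero (by omega)]; omega
    have h2 := hG.dvd_three hk ha (x := y ^ 2) (h1 ▸ odd_two_mul_add_one m) (by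
      rw [h1, show Fintype.card F = 1 + (2 * m + 1) * 2 by omega]
      simp)
    have := Nat.le_of_dvd (by norm_num) h2
    omega

theorem not_hom_SL7 [Fintype F] (h7 : Fintype.card F = 7) : ¬ Hom SL(2, F) := by
  intro hG
  have ho : Odd (Fintype.card F) := h7 ▸ by decide
  have hp : Fact (Nat.Prime 7) := ⟨by norm_num⟩
  have : CharP F 7 := charP_of_card_eq_prime h7
  obtain ⟨y, hy⟩ := exists_nonsplit ho
  rw [h7] at hy
  obtain ⟨θ, hθ⟩ := hG.exists_map (x := y) (x' := y ^ 3)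
    (Nat.Coprime.orderOf_pow (by rw [hy]; norm_num)).symm
  obtain ⟨g, hg⟩ := autGL_SL (by omega)
    (hG.prime_field ho (MonoidHom.id _) Function.surjective_id fun x hx =>
      (show x = 1 from hx) ▸ one_mem _) θ
  have h2 := trace_cjG g y
  rw [← show θ y = cjG g y from hg y, hθ, Matrix.SpecialLinearGroup.coe_pow, pow_succ, sq, ch,
    sub_mul, smul_mul_assoc, one_mul, Matrix.trace_sub, Matrix.trace_smul, ← sq,
    ← Matrix.SpecialLinearGroup.coe_pow, trace_sq, smul_eq_mul] at h2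
  have h3 : y.1.trace * ((y ^ 2).1.trace - 2) = 0 := by rw [trace_sq]; linear_combination h2
  rcases mul_eq_zero.1 h3 with h | h
  · have h4 : y ^ 4 = 1 := Subtype.ext (by
      rw [Matrix.SpecialLinearGroup.coe_pow, show 4 = 2 * 2 by rfl, pow_mul, sq y.1, ch, h]
      simp)
    exact absurd (hy ▸ orderOf_dvd_of_pow_eq_one h4) (by decide)
  · have h4 := pow_of_trace 7 (sub_eq_zero.1 h)
    rw [← pow_mul] at h4
    exact absurd (hy ▸ orderOf_dvd_of_pow_eq_one h4) (by decide)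

theorem AutGL.sq {π : SL(2, F) →* G} (hs : Function.Surjective π) (ha : AutGL π) (θ : G ≃* G) :
    ∃ k, ∀ x, θ (k * θ (k * x * k⁻¹) * k⁻¹) = x := by
  obtain ⟨g, hg⟩ := ha θ
  let s : SL(2, F) := ⟨(g⁻¹).1 * !![0, 1; -g.1.det, 0], by
    rw [Matrix.det_mul, Matrix.det_fin_two_of]
    simp [g.det_ne_zero]⟩
  obtain ⟨d, hd⟩ : ∃ d, d = g * Matrix.SpecialLinearGroup.toGL s := ⟨_, rfl⟩
  have h1 : d.1 = !![0, 1; -g.1.det, 0] := by rw [hd]; exact Units.mul_inv_cancel_left _ _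
  have h2 : ∀ x : GL (Fin 2) F, d * d * x = x * (d * d) := fun x => Units.ext (by
    have : d.1 * d.1 = (-g.1.det) • 1 := by
      rw [h1]; ext i j; fin_cases i <;> fin_cases j <;> simp
    rw [Units.val_mul, Units.val_mul, Units.val_mul, Units.val_mul, this]
    simp)
  refine ⟨π s, fun x => ?_⟩
  obtain ⟨x, rfl⟩ := hs x
  simp only [← map_inv, ← map_mul, hg]
  congr 1
  apply Matrix.SpecialLinearGroup.toGL_injective
  simp only [toGL_cjG, map_mul, map_inv]
  calc _ = d * d * Matrix.SpecialLinearGroup.toGL x * (d * d)⁻¹ := by rw [hd]; group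
    _ = _ := by rw [h2, mul_inv_cancel_right]

end CL.Homog
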