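import Mathlib
import Cfsg.Agent.FGS.Homog8
import Cfsg.Agent.S0482
import Cfsg.Agent.S3099

/-!
Classification of the non-solvable homogeneous groups.
-/

set_option autoImplicit false

namespace CL.Homog

open Subgroup CL.MSS Cfsg
open scoped MatrixGroups commutatorElement

variable {G : Type*} [Group G]

/-- the properties of `SL₂(5)`, `L₂(5)`, `L₂(7)` that are needed to split them off -/
structure Good (K : Type*) [Group K] : Prop where
  qs : IsQuasisimple K
  zsq : ∀ z ∈ center K, z * z = 1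
  four : center K = ⊥ ∨ ∃ y : K, orderOf y = 4
  aut : ∀ θ : K ≃* K, ∃ k, ∀ x, θ (k * θ (k * x * k⁻¹) * k⁻¹) = x

theorem Good.of_equiv {K : Type*} [Group K] (h : Good K) (e : G ≃* K) : Good G where
  qs := h.qs.of_mulEquiv e.symm
  zsq z hz := e.injective (by
    rw [map_mul, map_one]
    exact h.zsq _ (mem_center_iff.2 fun y => e.symm.injective (by
      simpa using mem_center_iff.1 hz (e.symm y))))
  four := h.four.imp (fun h0 => eq_bot_iff.2 fun z hz => by
    have : e z ∈ center K := mem_center_iff.2 fun y => e.symm.injective (by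
      simpa using mem_center_iff.1 hz (e.symm y))
    rwa [h0, mem_bot, map_eq_one_iff _ e.injective] at this)
    fun ⟨y, hy⟩ => ⟨e.symm y, by rwa [MulEquiv.orderOf_eq]⟩
  aut θ := by
    obtain ⟨k, hk⟩ := h.aut (e.symm.trans (θ.trans e))
    exact ⟨e.symm k, fun x => e.injective (by simpa using hk (e x))⟩

theorem Hom.sl {F : Type*} [Field F] [Fintype F] (hG : Hom SL(2, F)) (ho : Odd (Fintype.card F))
    (h3 : 3 < Fintype.card F) : Fintype.card F = 5 ∧ Good SL(2, F) := by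
  have hk : ∀ x, MonoidHom.id SL(2, F) x = 1 → x ∈ center SL(2, F) := fun x hx =>
    (show x = 1 from hx) ▸ one_mem _
  have ha := autGL_SL h3 (hG.prime_field ho _ Function.surjective_id hk)
  refine ⟨(hG.card_cases ho h3 hk ha).resolve_right fun h => not_hom_SL7 h hG,
    ⟨⟨SL_perfect h3⟩, CL.SL.psl_isSimpleGroup_of_perfect (SL_perfect h3)⟩,
    fun z hz => (sq z).symm.trans (center_sq hz), Or.inr ?_, ha.sq Function.surjective_id⟩
  obtain ⟨p, hp, hc, h4⟩ := exists_char F ho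
  let y : SL(2, F) := ⟨!![0, 1; -1, 0], by simp [Matrix.det_fin_two]⟩
  have h1 : (y ^ 2).1 = -1 := by
    rw [Matrix.SpecialLinearGroup.coe_pow, sq, ch]
    simp [y, Matrix.trace_fin_two]
  refine ⟨y, orderOf_eq_prime_pow (p := 2) (n := 1) (fun h => two_ne (F := F) h4 ?_)
    (Subtype.ext ?_)⟩
  · rw [pow_one] at h
    rw [h] at h1
    have := congrFun (congrFun h1 0) 0
    simp at this
    linear_combination this
  · rw [pow_succ 2 1, pow_one, pow_mul, Matrix.SpecialLinearGroup.coe_pow, h1]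
    simp

theorem Hom.psl {F : Type*} [Field F] [Fintype F] (hG : Hom PSL(2, F))
    (ho : Odd (Fintype.card F)) (h3 : 3 < Fintype.card F) :
    (Fintype.card F = 5 ∨ Fintype.card F = 7) ∧ Good PSL(2, F) := by
  have hk : ∀ x, QuotientGroup.mk' (center SL(2, F)) x = 1 → x ∈ center SL(2, F) := fun x hx =>
    (QuotientGroup.eq_one_iff x).1 hx
  have hs := QuotientGroup.mk'_surjective (center SL(2, F))
  have ha := autGL_PSL (hG.prime_field ho _ hs hk)
  have := CL.SL.psl_isSimpleGroup_of_perfect (SL_perfect h3)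
  have : Group.IsPerfect SL(2, F) := ⟨SL_perfect h3⟩
  have h0 : center PSL(2, F) = ⊥ := Group.IsPerfect.center_quotient_center_eq_bot _
  refine ⟨hG.card_cases ho h3 hk ha,
    CL.Comp.isQuasisimple_of_isSimpleGroup (Group.IsPerfect.not_isMulCommutative _),
    fun z hz => ?_, Or.inl h0, ha.sq hs⟩
  rw [h0, mem_bot] at hz
  rw [hz, mul_one]

/-- `K` is `SL₂(5)`, `L₂(5)` or `L₂(7)` -/
def Three (K : Type*) [Group K] : Prop :=
  Good K ∧ ∃ (F : Type) (_ : Field F) (_ : Fintype F),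
    (Fintype.card F = 5 ∧ Nonempty (K ≃* SL(2, F))) ∨
      ((Fintype.card F = 5 ∨ Fintype.card F = 7) ∧ Nonempty (K ≃* PSL(2, F)))

theorem Three.of_equiv {K : Type*} [Group K] (h : Three K) (e : G ≃* K) : Three G := by
  obtain ⟨h1, F, i1, i2, h2⟩ := h
  exact ⟨h1.of_equiv e, F, i1, i2, h2.imp (fun ⟨h, ⟨f⟩⟩ => ⟨h, ⟨e.trans f⟩⟩)
    fun ⟨h, ⟨f⟩⟩ => ⟨h, ⟨e.trans f⟩⟩⟩

theorem even_of_not_solvable [Finite G] (h : ¬ Group.IsSolvable G) : Even (Nat.card G) :=
  Nat.not_odd_iff_even.1 fun ho => h (Cfsg.Agent.S0205.result ho)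

theorem Hom.three_of_rank_one [Finite G] [Nontrivial G] (hG : Hom G) (hp : commutator G = ⊤)
    (hr : PRankLE 2 1 G) : Three G := by
  have : Group.IsPerfect G := ⟨hp⟩
  have e : G ≃* G ⧸ oddCore G := QuotientGroup.quotientBot.symm.trans
    (QuotientGroup.quotientMulEquivOfEq (hG.oddCore_eq_bot hp).symm)
  rcases Cfsg.Agent.S3099.result ‹_› hr (even_of_not_solvable (Group.IsPerfect.not_isSolvable G))
    with ⟨F, i1, i2, ho, h3, ⟨f⟩⟩ | h
  · obtain ⟨h5, hg⟩ := (hG.of_equiv (e.trans f)).sl ho h3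
    exact ⟨hg.of_equiv (e.trans f), F, i1, i2, Or.inl ⟨h5, ⟨e.trans f⟩⟩⟩
  · exact (not_hom_cover_A7 h (hG.of_equiv e)).elim

theorem Hom.three_of_simple [Finite G] [IsSimpleGroup G] (hG : Hom G)
    (hc : ¬ IsMulCommutative G) : Three G := by
  rcases Cfsg.Agent.S0482.result hc
    (hG.rank_two (CL.Comp.isPerfect_of_isSimpleGroup hc).commutator_eq_top) with
    ⟨F, i1, i2, ho, h3, ⟨f⟩⟩ | ⟨F, i1, i2, ho, ⟨f⟩⟩ | ⟨F, i1, i2, q, hq, ho, ⟨f⟩⟩ |
    ⟨F, i1, i2, hq, ⟨f⟩⟩ | ⟨⟨f⟩⟩ | h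
  · obtain ⟨h5, hg⟩ := (hG.of_equiv f).psl ho (by omega)
    exact ⟨hg.of_equiv f, F, i1, i2, Or.inr ⟨h5, ⟨f⟩⟩⟩
  · exact (not_hom_PSL3 F ho (hG.of_equiv f)).elim
  · exact (not_hom_PSU3 F hq ho (hG.of_equiv f)).elim
  · exact (not_hom_PSU34 F hq (hG.of_equiv f)).elim
  · exact (not_hom_A7 (MonoidHom.id _) Function.surjective_id
      (fun x hx => (show x = 1 from hx) ▸ one_mem _)
      (fun x hx => by rw [show x = 1 from hx, one_pow]) (hG.of_equiv f)).elim
  · exact (not_hom_M11 h hG).elim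

theorem Hom.exists_three_of_perfect [Finite G] [Nontrivial G] (hG : Hom G)
    (hp : commutator G = ⊤) : ∃ N : Subgroup G, Inv N ∧ Three N := by
  rcases hG.cases hp with h | ⟨N, h1, h2, h3⟩
  · exact ⟨⊤, inv_char _, (hG.three_of_rank_one hp h).of_equiv topEquiv⟩
  · exact ⟨N, h1, (hG.subgroup N h1).three_of_simple h3⟩

theorem Hom.exists_three [Finite G] (hG : Hom G) (hs : ¬ Group.IsSolvable G) :
    ∃ N : Subgroup G, Inv N ∧ Three N := by
  obtain ⟨_, ⟨n, rfl⟩, h⟩ := WellFounded.has_min (wellFounded_lt (α := Subgroup G))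
    (Set.range (derivedSeries G)) ⟨_, 0, rfl⟩
  have h1 := (commutator_le_left _ _).lt_or_eq.resolve_left (h _ ⟨n + 1, rfl⟩)
  have := (nontrivial_iff_ne_bot (derivedSeries G n)).2 fun h0 => hs ⟨n, h0⟩
  obtain ⟨N, h2, h3⟩ := (hG.char (derivedSeries G n)).exists_three_of_perfect
    (isPerfect_iff.2 h1).commutator_eq_top
  exact ⟨_, (inv_char _).map_subtype h2,
    h3.of_equiv (N.equivMapOfInjective _ Subtype.val_injective).symm⟩

theorem Hom.three_of_quasisimple [Finite G] (hG : Hom G) (hq : IsQuasisimple G) : Three G := by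
  obtain ⟨N, h1, h2⟩ := hG.exists_three hq.not_isSolvable
  rcases hq.normal_top_or_le_center N h1.normal with rfl | h
  · exact h2.of_equiv topEquiv.symm
  · exact (h2.1.qs.not_isMulCommutative
      ⟨⟨fun x y => Subtype.ext (mem_center_iff.1 (h y.2) x)⟩⟩).elim

theorem Hom.split [Finite G] (hG : Hom G) {K : Subgroup G} (hK : Inv K) (hg : Good K) :
    ∃ H : Subgroup G, Inv H ∧ Odd (Nat.card H) ∧ H ⊔ K = ⊤ ∧
      (Nat.card H).Coprime (Nat.card K) := by
  obtain ⟨t, ht⟩ := exists_prime_orderOf_dvd_card' 2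
    (even_of_not_solvable hg.qs.not_isSolvable).two_dvd
  have h2 : ∀ x : G, x * x = 1 → x ∈ K := fun x hx => by
    by_cases x1 : x = 1
    · rw [x1]; exact one_mem _
    exact hG.mem_of_order hK t.2 (by rw [orderOf_coe, ht, orderOf_eq_prime ((sq x).trans hx) x1])
  have hZ : ∀ x (hx : x ∈ K), x ∈ centralizer (K : Set G) → (⟨x, hx⟩ : K) ∈ center K :=
    fun x hx hc => mem_center_iff.2 fun y => Subtype.ext (hc y y.2)
  have h4 : ∀ x : G, x * x ∈ centralizer (K : Set G) → x * x * (x * x) = 1 → x ∈ K := by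
    intro x hx hx4
    by_cases h : x * x = 1
    · exact h2 x h
    rcases hg.four with h0 | ⟨y, hy⟩
    · have := hZ _ (h2 _ hx4) hx
      rw [h0, mem_bot] at this
      exact (h (congrArg Subtype.val this)).elim
    · refine hG.mem_of_order hK y.2 ?_
      rw [orderOf_coe, hy, orderOf_eq_prime_pow (p := 2) (n := 1) (by rwa [pow_one, sq])
        (by rw [← hx4]; simp [pow_succ, mul_assoc])]
      rfl
  have h5 : ∀ k : ℕ, ∀ c ∈ centralizer (K : Set G), c ^ 2 ^ k = 1 → c * c = 1 := by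
    intro k
    induction k with
    | zero => intro c _ h; rw [pow_zero, pow_one] at h; rw [h, mul_one]
    | succ k ih =>
      intro c hc h
      have h6 := h4 c (mul_mem hc hc) (ih _ (mul_mem hc hc) (by rwa [← sq, ← pow_mul, ← pow_succ']))
      exact congrArg Subtype.val (hg.zsq _ (hZ c h6 hc))
  have h6 : centralizer (K : Set G) ⊔ K = ⊤ := eq_top_iff.2 fun g _ => by
    obtain ⟨k, hk⟩ := hg.aut (res K (MulAut.conj g) (hK _))
    have h7 : (g * k) ^ 2 ∈ centralizer (K : Set G) := fun x hx => by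
      have : g * (k * (g * (k * x * (k : G)⁻¹) * g⁻¹) * (k : G)⁻¹) * g⁻¹ = x :=
        congrArg Subtype.val (hk ⟨x, hx⟩)
      calc x * (g * k) ^ 2
          = g * (k * (g * (k * x * (k : G)⁻¹) * g⁻¹) * (k : G)⁻¹) * g⁻¹ * (g * k) ^ 2 := by
            rw [this]
        _ = _ := by simp only [sq, mul_assoc, inv_mul_cancel_left, inv_mul_cancel, mul_one]
    obtain ⟨m, hm, hm'⟩ := exists_coprime_pow 2 (g * k)
    obtain ⟨j, rfl⟩ : Odd m := Nat.odd_iff.2 (Nat.two_dvd_ne_zero.1 hm)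
    obtain ⟨w, hw⟩ : ∃ w, w = (g * k) ^ (2 * j + 1) := ⟨_, rfl⟩
    have h8 : w * w ∈ centralizer (K : Set G) := by
      rw [hw, ← sq, ← pow_mul, mul_comm, pow_mul]; exact pow_mem h7 _
    obtain ⟨n, hn⟩ := hm' ⟨w * w, hw ▸ mul_mem (mem_zpowers _) (mem_zpowers _)⟩
    have h9 := h4 w h8 (h5 n _ h8 (congrArg Subtype.val hn))
    have : g = (((g * k) ^ 2) ^ j)⁻¹ * (w * (k : G)⁻¹) := by rw [hw]; group
    rw [this]
    exact mul_mem (mem_sup_left (inv_mem (pow_mem h7 j))) (mem_sup_right (mul_mem h9 (inv_mem k.2)))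
  obtain ⟨P, N, hN, hPN⟩ := Cfsg.Agent.S1947.result (G := centralizer (K : Set G)) (p := 2) 1
    fun a ha => by
      rw [Subgroup.upperCentralSeries_one]
      have h7 : (a : G) ^ 2 ^ 2 = 1 := by
        rcases ha with h | h
        · rw [sq 2, pow_mul, ← coe_pow, h, coe_one, one_pow]
        · exact congrArg Subtype.val h.2
      exact mem_center_iff.2 fun y => Subtype.ext (y.2 _ (h2 _ (h5 2 _ a.2 h7))).symm
  have hodd : Odd (Nat.card ((oddCore (centralizer (K : Set G))).map (Subgroup.subtype _))) :=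
    Nat.coprime_two_right.1 (coprime_card_map_pPrimeCore _)
  refine ⟨_, hK.cent.map_subtype (inv_char _), hodd, eq_top_iff.2 (h6 ▸ sup_le (fun c hc => ?_)
    le_sup_right), Nat.coprime_of_dvd fun r hr d1 d2 => ?_⟩
  · obtain ⟨⟨n, s⟩, e⟩ := hPN.2 ⟨c, hc⟩
    rw [← show ((n : centralizer (K : Set G)) : G) * (s : centralizer (K : Set G)) = c from
      congrArg Subtype.val e]
    obtain ⟨k, hk⟩ := P.isPGroup' s
    refine mul_mem (mem_sup_left ⟨n, le_pPrimeCore ?_ n.2, rfl⟩)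
      (mem_sup_right (h2 _ (h5 k _ s.1.2 (congrArg (fun x : P => (x.1 : G)) hk))))
    rw [← hPN.index_eq_card]
    exact ((Nat.Prime.coprime_iff_not_dvd Nat.prime_two).2 P.not_dvd_index).symm
  · have := Fact.mk hr
    obtain ⟨x, hx⟩ := exists_prime_orderOf_dvd_card' r d1
    obtain ⟨y, hy⟩ := exists_prime_orderOf_dvd_card' r d2
    have h7 : (x : G) ∈ K := hG.mem_of_order hK y.2 (by rw [orderOf_coe, orderOf_coe, hx, hy])
    have h8 : (x : G) * x = 1 := congrArg Subtype.val (hg.zsq _ (hZ _ h7 (map_subtype_le _ x.2)))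
    have h9 : r ∣ 2 := hx ▸ orderOf_dvd_of_pow_eq_one (Subtype.ext ((sq _).trans h8))
    rw [(Nat.prime_dvd_prime_iff_eq hr Nat.prime_two).1 h9] at d1
    exact (Nat.not_even_iff_odd.2 hodd) (even_iff_two_dvd.2 d1)

end CL.Homog
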