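import Cfsg.Agent.FGS.J3F
import Cfsg.Agent.SOLV.Coprime
import Cfsg.Agent.FUS.EssSmall

/-! Elements of order three with one Jordan block of size three on a space over `F₃`: reduction to
the irreducible setting. -/

set_option autoImplicit false
set_option linter.unusedSectionVars false
open Subgroup Cfsg

namespace CL.J3

variable {G V : Type*} [Group G] [AddCommGroup V] [Module k V] {ρ : Representation k G V}

theorem dep_of [Finite V] {b : G} (b3 : b * b * b = 1) {E₀ E₁ : Submodule k V} (sp : E₀ ⊔ E₁ = ⊤)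
    (h1 : ∀ v ∈ E₁, ρ b v = v) (h0 : ∀ v ∈ E₀, ρ b v ∈ E₀) (c : Nat.card E₀ = 27)
    (hi : ∃ v ∈ E₀, ρ b (ρ b v - v) - (ρ b v - v) ≠ 0) : Dep ρ b := fun x y z => by
  obtain ⟨v, hv, w0⟩ := hi
  have bbb : ρ b (ρ b (ρ b v)) = v := by rw [← mu, ← mu, b3, on]
  obtain ⟨w, hw⟩ : ∃ w, ρ b (ρ b v - v) - (ρ b v - v) = w := ⟨_, rfl⟩
  have wE : w ∈ E₀ := hw ▸ sub_mem (h0 _ (sub_mem (h0 v hv) hv)) (sub_mem (h0 v hv) hv)
  have bw : ρ b w = w := by
    rw [← hw]
    simp only [map_sub, bbb]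
    linear_combination (norm := module) t3 (ρ b v) - t3 (ρ b (ρ b v))
  have d : ∀ x : V, ∃ u ∈ E₀, ρ b x - x = ρ b u - u := fun x => by
    obtain ⟨u, hu, t, ht, rfl⟩ := Submodule.mem_sup.1 (sp ▸ Submodule.mem_top : x ∈ E₀ ⊔ E₁)
    exact ⟨u, hu, by rw [map_add, h1 t ht]; abel⟩
  obtain ⟨x', hx, ex⟩ := d x
  obtain ⟨y', hy, ey⟩ := d y
  obtain ⟨z', hz, ez⟩ := d z
  have r : Module.finrank k E₀ = 3 := by
    rw [Module.natCard_eq_pow_finrank (K := k), Nat.card_zmod] at c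
    exact Nat.pow_right_injective (by norm_num : 2 ≤ 3) c
  obtain ⟨g, hg, i, hi⟩ := Fintype.not_linearIndependent_iff.1
    (fun h : LinearIndependent k ![(⟨x', hx⟩ : E₀), ⟨y', hy⟩, ⟨z', hz⟩, ⟨w, wE⟩] => by
      have := h.fintype_card_le_finrank
      rw [r] at this
      simp at this)
  rw [Fin.sum_univ_four] at hg
  have e : g 0 • x' + g 1 • y' + g 2 • z' + g 3 • w = 0 := congrArg Subtype.val hg
  have e' := congrArg (ρ b) e
  simp only [map_add, map_smul, bw, map_zero] at e'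
  refine ⟨g 0, g 1, g 2, ?_, by rw [ex, ey, ez]; linear_combination (norm := module) e' - e⟩
  by_contra n
  push Not at n
  rw [n.1, n.2.1, n.2.2] at e
  have : g 3 = 0 := (smul_eq_zero.1 (by simpa using e)).resolve_right (hw ▸ w0)
  fin_cases i
  exacts [hi n.1, hi n.2.1, hi n.2.2, hi this]

theorem four_of_comm {b a : G} (b3 : b * b * b = 1) {Q : Subgroup G} (hQ : IsElementaryAbelian 2 Q)
    (hb : b ∈ normalizer (Q : Set G)) (ha : a ∈ Q) (m : b * a ≠ a * b) :
    Four b (a * (b * a * b⁻¹)) (b * (a * (b * a * b⁻¹)) * b⁻¹) := by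
  have := hQ.1
  have h2 := (mem_normalizer_iff.1 hb a).1 ha
  have h3 := (mem_normalizer_iff.1 hb _).1 h2
  have sq : ∀ x ∈ Q, x * x = 1 := fun x hx => pow_two x ▸ hQ.2 x hx
  refine ⟨fun c => m ?_, sq _ (mul_mem ha h2), rfl, ?_⟩
  · rw [← mul_inv_eq_iff_eq_mul, eq_inv_of_mul_eq_one_right c, inv_eq_of_mul_eq_one_right (sq a ha)]
  · rw [cjm b a, cjm b (b * a * b⁻¹), show b * (b * (b * a * b⁻¹) * b⁻¹) * b⁻¹ =
      (b * b * b) * a * (b * b * b)⁻¹ by group, b3, one_mul, inv_one, mul_one,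
      setLike_mul_comm h3 ha, mul_assoc a, ← mul_assoc (b * a * b⁻¹), sq _ h2, one_mul]

theorem mem_core [Finite G] [Group.IsSolvable G] (P : Sylow 3 G) {b a : G} (hP : b ∈ (P : Subgroup G))
    (hb : ∀ x ∈ (P : Subgroup G), x * b = b * x) (h : a * b * a⁻¹ * b⁻¹ * (a * b * a⁻¹ * b⁻¹) = 1) :
    a * b * a⁻¹ * b⁻¹ ∈ pPrimeCore 3 G := by
  let π := QuotientGroup.mk' (pPrimeCore 3 G)
  have pN := CL.isPGroup_pCore 3 (G ⧸ pPrimeCore 3 G)
  have nN : (pCore 3 (G ⧸ pPrimeCore 3 G)).Normal := inferInstance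
  have m : π b ∈ pCore 3 (G ⧸ pPrimeCore 3 G) :=
    CL.centralizer_pCore_le_of_isSolvable (CL.pPrimeCore_quotient_pPrimeCore 3 G)
      (mem_centralizer_iff.2 fun x hx => by
        obtain ⟨y, hy, rfl⟩ := pN.le_sylow_of_normal
          (P.mapSurjective (QuotientGroup.mk'_surjective _)) hx
        exact (map_mul π y b).symm.trans ((congrArg π (hb y hy)).trans (map_mul π b y)))
  have m2 : π (a * b * a⁻¹ * b⁻¹) ∈ pCore 3 (G ⧸ pPrimeCore 3 G) := by
    rw [map_mul, map_mul, map_mul, map_inv, map_inv]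
    exact mul_mem (nN.conj_mem _ m _) (inv_mem m)
  obtain ⟨n, hn⟩ := pN ⟨_, m2⟩
  have e : π (a * b * a⁻¹ * b⁻¹) ^ 3 ^ n = 1 := congrArg Subtype.val hn
  have e2 : π (a * b * a⁻¹ * b⁻¹) ^ 2 = 1 := by rw [← map_pow, pow_two, h, map_one]
  exact (QuotientGroup.eq_one_iff _).1 (orderOf_eq_one_iff.1 (Nat.eq_one_of_dvd_coprimes
    ((by norm_num : Nat.Coprime 2 3).pow_right n) (orderOf_dvd_of_pow_eq_one e2)
    (orderOf_dvd_of_pow_eq_one e)))

/-- the vectors fixed by `R` -/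
def F1 (ρ : Representation k G V) (R : Subgroup G) : Submodule k V where
  carrier := {v | ∀ r ∈ R, ρ r v = v}
  zero_mem' := fun _ _ => map_zero _
  add_mem' := fun hx hy a ha => by rw [map_add, hx a ha, hy a ha]
  smul_mem' := fun c x hx a ha => by rw [map_smul, hx a ha]

/-- the sum over `R` -/
noncomputable def sR (ρ : Representation k G V) (R : Subgroup G) [Finite G] : V →ₗ[k] V :=
  haveI := Fintype.ofFinite R
  ∑ r : R, ρ r

section
variable [Finite G] {R : Subgroup G}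

theorem sR_conj {g : G} (hg : g ∈ normalizer (R : Set G)) (v : V) :
    sR ρ R (ρ g v) = ρ g (sR ρ R v) := by
  let := Fintype.ofFinite R
  simp only [sR, LinearMap.sum_apply, map_sum]
  refine (Fintype.sum_equiv (R.normalizerMonoidHom ⟨g, hg⟩).toEquiv _ _ fun r => ?_).symm
  rw [← mu, ← mu]
  congr 2
  exact (inv_mul_cancel_right (g * r) g).symm

theorem sR_mem (v : V) : sR ρ R v ∈ F1 ρ R := fun r hr => by
  let := Fintype.ofFinite R
  simp only [sR, LinearMap.sum_apply, map_sum]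
  exact Fintype.sum_equiv (Equiv.mulLeft (⟨r, hr⟩ : R)) _ _ fun x => (mu _ _ _).symm

theorem sR_sub {N : Submodule k V} {v : V} (h : ∀ r ∈ R, ρ r v - v ∈ N) :
    sR ρ R v - (Nat.card R : k) • v ∈ N := by
  have := Fintype.ofFinite R
  have := N.sum_mem (t := Finset.univ) fun (r : R) _ => h r r.2
  rw [Finset.sum_sub_distrib, Finset.sum_const, Finset.card_univ, ← Nat.card_eq_fintype_card,
    ← Nat.cast_smul_eq_nsmul k] at this
  convert this
  simp only [sR, LinearMap.sum_apply]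
  congr!

theorem mem_of_sR (cop : ¬ 3 ∣ Nat.card R) {N : Submodule k V} {v : V} (h0 : sR ρ R v = 0)
    (h : ∀ r ∈ R, ρ r v - v ∈ N) : v ∈ N := by
  have := sR_sub h
  rwa [h0, zero_sub, neg_mem_iff, N.smul_mem_iff ((ZMod.natCast_eq_zero_iff _ _).not.2 cop)] at this

theorem sR_sup (cop : ¬ 3 ∣ Nat.card R) : LinearMap.ker (sR ρ R) ⊔ F1 ρ R = ⊤ :=
  eq_top_iff.2 fun v _ => by
    have c : (Nat.card R : k) ≠ 0 := (ZMod.natCast_eq_zero_iff _ _).not.2 cop
    have e : sR ρ R (sR ρ R v) = (Nat.card R : k) • sR ρ R v := sub_eq_zero.1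
      ((Submodule.mem_bot k).1 (sR_sub fun r hr => by rw [sR_mem v r hr, sub_self]; exact zero_mem _))
    refine Submodule.mem_sup.2 ⟨v - (Nat.card R : k)⁻¹ • sR ρ R v, ?_, _,
      Submodule.smul_mem _ (Nat.card R : k)⁻¹ (sR_mem v), sub_add_cancel _ _⟩
    rw [LinearMap.mem_ker, map_sub, map_smul, e, smul_smul, inv_mul_cancel₀ c, one_smul, sub_self]

theorem triv_sec {b : G} (comm : R ≤ ⁅R, zpowers b⁆) {N M : Submodule k V}
    (hN : ∀ g ∈ R ⊔ zpowers b, ∀ v ∈ N, ρ g v ∈ N) (hM : ∀ g ∈ R ⊔ zpowers b, ∀ v ∈ M, ρ g v ∈ M)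
    (h : ∀ v ∈ M, ρ b v - v ∈ N) : ∀ r ∈ R, ∀ v ∈ M, ρ r v - v ∈ N := by
  let K : Subgroup G :=
    { carrier := {g | g ∈ R ⊔ zpowers b ∧ ∀ v ∈ M, ρ g v - v ∈ N}
      one_mem' := ⟨one_mem _, fun v _ => by rw [on, sub_self]; exact zero_mem _⟩
      mul_mem' := fun {x y} hx hy => ⟨mul_mem hx.1 hy.1, fun v hv => by
        rw [mu, ← sub_add_sub_cancel _ (ρ y v)]; exact add_mem (hx.2 _ (hM y hy.1 v hv)) (hy.2 v hv)⟩
      inv_mem' := fun {x} hx => ⟨inv_mem hx.1, fun v hv => by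
        have := neg_mem (hx.2 _ (hM _ (inv_mem hx.1) v hv))
        rwa [vi, neg_sub] at this⟩ }
  have hb : zpowers b ≤ K := zpowers_le.2 ⟨mem_sup_right (mem_zpowers b), h⟩
  refine fun r hr => (comm.trans (commutator_le.2 fun x hx β hβ => ?_) : R ≤ K) hr |>.2
  have hx' : x ∈ R ⊔ zpowers b := mem_sup_left hx
  refine mul_mem ⟨mul_mem (mul_mem hx' (hb hβ).1) (inv_mem hx'), fun v hv => ?_⟩ (inv_mem (hb hβ))
  have := hN x hx' _ ((hb hβ).2 _ (hM _ (inv_mem hx') v hv))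
  rwa [map_sub, vi, ← mu, ← mu] at this

theorem reduce [Finite V] [Group.IsSolvable G] (inj : Function.Injective ρ) {b q p : G}
    (cop : ¬ 3 ∣ Nat.card R) (b3 : b * b * b = 1) (comm : R ≤ ⁅R, zpowers b⁆)
    (nb : zpowers b ≤ normalizer (R : Set G)) (dep : Dep ρ b) (F : Four b q p) (hq : q ∈ R) :
    ((IsElementaryAbelian 2 R ∧ Nat.card R = 4) ∨ (IsExtraspecial 2 R ∧ Nat.card R = 32 ∧
      ∃ A : Subgroup G, A ≤ R ∧ IsElementaryAbelian 2 A ∧ Nat.card A = 8)) ∧
    ∃ F₀ F₁ : Submodule k V, F₀ ⊓ F₁ = ⊥ ∧ F₀ ⊔ F₁ = ⊤ ∧ (∀ r ∈ R, ∀ v ∈ F₁, ρ r v = v) ∧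
      (∀ r ∈ R ⊔ zpowers b, ∀ v ∈ F₀, ρ r v ∈ F₀) ∧
      (∀ r ∈ R ⊔ zpowers b, (∀ v ∈ F₀, ρ r v = v) → r = 1) ∧
      (∀ N : Submodule k V, N ≤ F₀ → (∀ r ∈ R ⊔ zpowers b, ∀ v ∈ N, ρ r v ∈ N) →
        N = ⊥ ∨ N = F₀) := by
  have nΓ : R ⊔ zpowers b ≤ normalizer (R : Set G) := sup_le le_normalizer nb
  have bΓ : b ∈ R ⊔ zpowers b := mem_sup_right (mem_zpowers b)
  have cjR : ∀ g ∈ R ⊔ zpowers b, ∀ r ∈ R, g * r * g⁻¹ ∈ R := fun g hg r hr =>
    (mem_normalizer_iff.1 (nΓ hg) r).1 hr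
  have hp : p ∈ R := F.cj ▸ cjR b bΓ q hq
  obtain ⟨e, L⟩ := F.exists_ln (moves inj F.ne) b3 dep
  have i0 : ∀ r ∈ R ⊔ zpowers b, ∀ v ∈ LinearMap.ker (sR ρ R), ρ r v ∈ LinearMap.ker (sR ρ R) :=
    fun r hr v hv => by rw [LinearMap.mem_ker, sR_conj (nΓ hr), LinearMap.mem_ker.1 hv, map_zero]
  have e0 : e ∈ LinearMap.ker (sR ρ R) := neg0 (by
    rw [← map_neg, ← L.p1, sR_conj (le_normalizer hp), sR_mem e p hp])
  have fR : ∀ r ∈ R, (∀ v ∈ LinearMap.ker (sR ρ R), ρ r v = v) → r = 1 := fun r hr h =>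
    ext_of inj fun v => by
      obtain ⟨u, hu, t, ht, rfl⟩ := Submodule.mem_sup.1
        (sR_sup (ρ := ρ) cop ▸ Submodule.mem_top : v ∈ _ ⊔ _)
      rw [map_add, h u hu, ht r hr, on]
  have nR : (R.subgroupOf (R ⊔ zpowers b)).Normal := normal_subgroupOf_of_le_normalizer nΓ
  have fΓ : ∀ r ∈ R ⊔ zpowers b, (∀ v ∈ LinearMap.ker (sR ρ R), ρ r v = v) → r = 1 :=
    fun g hg h => by
      obtain ⟨r, hr, β, hβ, rfl⟩ : ∃ r ∈ R, ∃ β ∈ zpowers b, r * β = g := by
        have : g ∈ ((R ⊔ zpowers b : Subgroup G) : Set G) := hg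
        rwa [coe_mul_of_right_le_normalizer_left _ _ nb] at this
      have c : r * β * r = r * (r * β) := by
        have := fR _ (mul_mem (cjR _ hg r hr) (inv_mem hr)) fun v hv => by
          have h1 := i0 _ (inv_mem (mem_sup_left hr)) v hv
          rw [mu, mu, mu, iq (h _ h1), vi, h v hv]
        rwa [mul_inv_eq_one, mul_inv_eq_iff_eq_mul] at this
      have c' : Commute r β := mul_left_cancel (a := r) (by rw [← c, mul_assoc])
      have β3 : β ^ 3 = 1 := by
        obtain ⟨n, rfl⟩ := hβ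
        rw [← zpow_natCast, ← zpow_mul, mul_comm, zpow_mul, zpow_natCast, pow_succ, pow_two, b3,
          one_zpow]
      have r3 : r ^ 3 = 1 := fR _ (pow_mem hr 3) fun v hv => by
        rw [← mul_one (r ^ 3), ← β3, ← c'.mul_pow, pow_succ, pow_two, mu, mu, h v hv, h v hv, h v hv]
      obtain rfl : r = 1 := orderOf_eq_one_iff.1 (((Nat.dvd_prime Nat.prime_three).1
        (orderOf_dvd_of_pow_eq_one r3)).resolve_right fun o => cop (o ▸ R.orderOf_dvd_natCard hr))
      have := h e e0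
      rcases zp3 b3 hβ with rfl | rfl | rfl
      · exact one_mul 1
      · exact absurd (by rwa [one_mul] at this) L.be
      · rw [one_mul, mu] at this
        exact absurd (by have x := L.bbb e; rwa [this] at x) L.be
  have irr : ∀ N : Submodule k V, N ≤ LinearMap.ker (sR ρ R) →
      (∀ r ∈ R ⊔ zpowers b, ∀ v ∈ N, ρ r v ∈ N) → N = ⊥ ∨ N = LinearMap.ker (sR ρ R) :=
    fun N hN h => by
      by_cases c : ∀ v ∈ N, ρ b v = v
      · exact Or.inl (eq_bot_iff.2 fun v hv => mem_of_sR cop (hN hv) fun r hr =>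
          triv_sec comm (fun g _ x hx => by rw [(Submodule.mem_bot k).1 hx, map_zero]; exact zero_mem _)
            h (fun x hx => by rw [c x hx, sub_self]; exact zero_mem _) r hr v hv)
      push Not at c
      obtain ⟨v, hv, m⟩ := c
      have eN : e ∈ N := by
        obtain ⟨u, x, y, z, h1, h2, rfl⟩ := L.dec v
        have a1 := h q (mem_sup_left hq) _ hv
        have a2 := h p (mem_sup_left hp) _ hv
        have a3 := h q (mem_sup_left hq) _ a2
        simp only [map_add, map_smul, map_neg, h1, h2, L.q1, L.q2, L.q3, L.p1, L.p2, L.p3] at a1 a2 a3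
        have x1 : x • e ∈ N := by
          convert sub_mem (sub_mem (add_mem hv a1) a2) a3 using 1
          linear_combination (norm := module) -t3 (x • e)
        have x2 : y • ρ b e ∈ N := by
          convert sub_mem (add_mem (sub_mem hv a1) a2) a3 using 1
          linear_combination (norm := module) -t3 (y • ρ b e)
        have x3 : z • ρ b (ρ b e) ∈ N := by
          convert add_mem (sub_mem (sub_mem hv a1) a2) a3 using 1
          linear_combination (norm := module) -t3 (z • ρ b (ρ b e))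
        by_contra n
        have x0 : x = 0 := by_contra fun c => n ((N.smul_mem_iff c).1 x1)
        have y0 : y = 0 := by_contra fun c =>
          n (L.bbb e ▸ h b bΓ _ (h b bΓ _ ((N.smul_mem_iff c).1 x2)))
        have z0 : z = 0 := by_contra fun c => n (L.bbb e ▸ h b bΓ _ ((N.smul_mem_iff c).1 x3))
        exact m (by simp [x0, y0, z0, L.fixb h1 h2])
      refine Or.inr (le_antisymm hN fun w hw => mem_of_sR cop hw fun r hr =>
        triv_sec comm h i0 (fun x _ => ?_) r hr w hw)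
      obtain ⟨α, β, c⟩ := L.rng x
      have e2 := h b bΓ e eN
      exact c ▸ add_mem (N.smul_mem _ (sub_mem e2 eN)) (N.smul_mem _ (sub_mem (h b bΓ _ e2) e2))
  refine ⟨?_, _, F1 ρ R, eq_bot_iff.2 fun v hv => mem_of_sR cop hv.1 fun r hr => by
    rw [hv.2 r hr, sub_self]; exact zero_mem _, sR_sup cop, fun r hr v hv => hv r hr, i0, fΓ, irr⟩
  let σ : Representation k ↥(R ⊔ zpowers b) (LinearMap.ker (sR ρ R)) :=
    Representation.subrepresentation (ρ.comp (R ⊔ zpowers b).subtype) _ fun g v hv => i0 g g.2 v hv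
  have mz : (zpowers (⟨b, bΓ⟩ : ↥(R ⊔ zpowers b))).map (R ⊔ zpowers b).subtype = zpowers b := by
    simp
  have mR : (R.subgroupOf (R ⊔ zpowers b)).map (R ⊔ zpowers b).subtype = R :=
    map_subgroupOf_eq_of_le le_sup_left
  have S : St σ (R.subgroupOf (R ⊔ zpowers b)) ⟨b, bΓ⟩ :=
    { inj := (injective_iff_map_eq_one _).2 fun g h => Subtype.ext (fΓ g g.2 fun v hv =>
        congrArg Subtype.val (LinearMap.congr_fun h ⟨v, hv⟩))
      irr := fun N h => by
        rcases irr (N.map (LinearMap.ker (sR ρ R)).subtype) (Submodule.map_subtype_le _ _) (by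
          rintro r hr _ ⟨v, hv, rfl⟩
          exact ⟨_, h ⟨r, hr⟩ v hv, rfl⟩) with c | c
        · exact Or.inl (Submodule.map_injective_of_injective (Submodule.subtype_injective _)
            (c.trans (Submodule.map_bot _).symm))
        · exact Or.inr (Submodule.map_injective_of_injective (Submodule.subtype_injective _)
            (c.trans (Submodule.map_subtype_top _).symm))
      nR := nR
      cop := by rwa [Nat.card_congr (subgroupOfEquivOfLe le_sup_left).toEquiv]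
      b3 := Subtype.ext b3
      comm := by
        rwa [← map_subtype_le_map_subtype, map_commutator, mz, mR]
      top := by
        rw [← map_subtype_inj, Subgroup.map_sup, mz, mR, ← MonoidHom.range_eq_map, range_subtype]
      dep := fun x y z => by
        obtain ⟨a, c, d, h1, h2⟩ := dep x y z
        exact ⟨a, c, d, h1, Subtype.ext h2⟩
      four := ⟨⟨q, mem_sup_left hq⟩, ⟨p, mem_sup_left hp⟩, hq, fun c => F.ne (congrArg Subtype.val c),
        Subtype.ext F.sq, Subtype.ext F.cj, Subtype.ext F.pr⟩ }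
  have cd := Nat.card_congr (subgroupOfEquivOfLe (le_sup_left : R ≤ R ⊔ zpowers b)).toEquiv
  rcases S.final with ⟨h1, h2⟩ | ⟨h1, h2, A, h3, h4, h5⟩
  · exact Or.inl ⟨ea2 fun a ha => congrArg Subtype.val
      ((pow_two _).symm.trans (h1.2 ⟨a, mem_sup_left ha⟩ ha)), cd ▸ h2⟩
  · refine Or.inr ⟨CL.EssSm.isExtraspecial_congr (subgroupOfEquivOfLe le_sup_left) h1, cd ▸ h2,
      A.map (R ⊔ zpowers b).subtype, (map_mono h3).trans mR.le, ea2 ?_, by rw [card_subtype, h5]⟩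
    rintro _ ⟨a, ha, rfl⟩
    exact congrArg Subtype.val ((pow_two _).symm.trans (h4.2 a ha))

end

end CL.J3
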