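import Mathlib
import Cfsg.Agent.PLOC.ClassTwo
import Cfsg.Agent.SOLV.PGroupCyclicSCN
import Cfsg.Agent.S0063
import Cfsg.Agent.FGS.SubgroupCount

/-!
Theorems of Miller and Kulakoff on the numbers of (cyclic) subgroups of finite `p`-groups.
-/

set_option autoImplicit false

namespace CL.Cnt

open Subgroup Cfsg
open scoped Pointwise commutatorElement

variable {G : Type*} [Group G] {p : ℕ} [Finite G] [hp : Fact p.Prime]

theorem four_dvd_ncard_aux (hG : IsPGroup 2 G) (N : Subgroup G) [N.Normal]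
    (hN : IsElementaryAbelian 2 N) (hc : Nat.card N = 2 ^ 2)
    (h8 : Nat.card G = 8 → IsMulCommutative G) :
    4 ∣ {g : G | orderOf g = 4 ∧ g ∉ centralizer (N : Set G) ∧
      g ^ 2 ∈ ⁅N, (⊤ : Subgroup G)⁆}.ncard := by
  set T := ⁅N, (⊤ : Subgroup G)⁆ with hT
  set C := centralizer (N : Set G) with hC
  have hTc : Nat.card T ≤ 2 ^ 1 := CL.PG.card_commutator_top_le hG N hc.le
  have hTz : T ≤ center G := CL.PG.le_center_of_card_le hG T (by simpa using hTc)
  by_cases hall : ∀ g : G, orderOf g = 4 ∧ g ∉ C ∧ g ^ 2 ∈ T → 4 ∣ (centralizer ({g} : Set G)).index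
  · apply dvd_ncard_of_conj_elem ⊤
    · rintro g - x ⟨h1, h2, h3⟩
      refine ⟨by rw [← h1]; exact (MulAut.conj g).orderOf_eq x, fun h => h2 ?_, ?_⟩
      · simpa [mul_assoc] using (inferInstance : C.Normal).conj_mem _ h g⁻¹
      · rw [conj_pow]; exact (inferInstance : T.Normal).conj_mem _ h3 g
    · intro x hx
      rw [relIndex_top_right]; exact hall x hx
  push Not at hall
  obtain ⟨g, ⟨hg1, hg2, hg3⟩, hg4⟩ := hall
  have hg2' : g ^ 2 ≠ 1 := fun h => by
    have := orderOf_dvd_of_pow_eq_one h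
    rw [hg1] at this; omega
  have hT2 : Nat.card T = 2 := by
    have : 1 < Nat.card T := (one_lt_card_iff_ne_bot _).mpr fun h => hg2' (by
      rw [h, mem_bot] at hg3; exact hg3)
    omega
  have hTel : ∀ t ∈ T, t ≠ 1 → t = g ^ 2 := by
    intro t ht ht1
    obtain ⟨y, -, hy⟩ := (Nat.card_eq_two_iff' (1 : T)).mp hT2
    have e1 := hy ⟨t, ht⟩ fun h => ht1 (congrArg Subtype.val h)
    have e2 := hy ⟨_, hg3⟩ fun h => hg2' (congrArg Subtype.val h)
    exact congrArg Subtype.val (e1.trans e2.symm)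
  have hCi : C.index = 2 := by
    have h1 : C.index ≤ 2 := CL.PG.index_centralizer_le hG N hc.le
    have h2 : C.index ≠ 1 := fun h => hg2 (index_eq_one.mp h ▸ mem_top g)
    have h3 : C.index ≠ 0 := index_ne_zero_of_finite
    omega
  have hgi : (centralizer ({g} : Set G)).index ≤ 2 := by
    obtain ⟨k, hk⟩ := hG.index (centralizer ({g} : Set G))
    rw [hk] at hg4 ⊢
    have : k ≤ 1 := by
      by_contra h
      exact hg4 (pow_dvd_pow 2 (by omega : 2 ≤ k))
    exact Nat.pow_le_pow_right two_pos this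
  have hgn : (centralizer ({g} : Set G)).Normal := by
    have h3 : (centralizer ({g} : Set G)).index ≠ 0 := index_ne_zero_of_finite
    rcases (by omega : (centralizer ({g} : Set G)).index = 1 ∨
      (centralizer ({g} : Set G)).index = 2) with h | h
    · rw [index_eq_one.mp h]; infer_instance
    · exact normal_of_index_eq_two h
  obtain ⟨n, hn, hng⟩ : ∃ n ∈ N, n * g ≠ g * n := by
    by_contra h
    push Not at h
    exact hg2 h
  have hNC : N ≤ C := CL.Th.elemAb_le_centralizer hN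
  have h16 : 16 ≤ Nat.card G := by
    have h1 : N < ⊤ := lt_top_iff_ne_top.mpr fun h => hg2 (hNC (h ▸ mem_top g))
    have h2 := CL.PG.pow_succ_le_card_of_lt hG h1 hc.ge
    obtain ⟨m, hm⟩ := IsPGroup.iff_card.mp hG
    rw [card_top, hm, Nat.pow_le_pow_iff_right one_lt_two] at h2
    have h3 : m ≠ 3 := fun h => hng ((h8 (by rw [hm, h]; rfl)).is_comm.comm n g)
    rw [hm]
    exact Nat.pow_le_pow_right two_pos (by omega : 4 ≤ m)
  set D := centralizer ({g} : Set G) ⊓ C with hD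
  have hTD : T < D := by
    have h1 : T ≤ D := hTz.trans (le_inf (center_le_centralizer _) (center_le_centralizer _))
    refine lt_of_le_of_ne h1 fun h => ?_
    have h2 : D.index ≤ 2 * 2 := index_inf_le.trans (Nat.mul_le_mul hgi hCi.le)
    have h3 := D.card_mul_index
    rw [← h, hT2] at h3
    rw [← h] at h2
    omega
  obtain ⟨K, hKn, hTK, hKD, hKc, hKT⟩ := CL.PN.exists_normal_between hG T D hTD
  have hKsq : ∀ k ∈ K, k ^ 2 ∈ T := by
    intro k hk
    have h1 : T.relIndex K = 2 := by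
      have := CL.card_mul_relIndex_of_le hTK
      rw [hKc, hT2] at this
      omega
    have := (T.subgroupOf K).pow_index_mem ⟨k, hk⟩
    rw [show (T.subgroupOf K).index = 2 from h1] at this
    exact this
  have hsq : ∀ x v : G, (x * v) ^ 2 = x ^ 2 * ⁅v, x⁻¹⁆⁻¹ * v ^ 2 := by
    intro x v; simp only [commutatorElement_def, sq]; group
  let W : Set G := {x | x ∉ C ∧ x ^ 2 ∈ T}
  have hW : ∀ x ∈ W, ∀ v ∈ C, v ^ 2 ∈ T → (∀ y, ⁅v, y⁆ ∈ T) → x * v ∈ W := by
    intro x hx v hv h1 h2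
    refine ⟨fun h => hx.1 ((C.mul_mem_cancel_right hv).mp h), ?_⟩
    rw [hsq]
    exact T.mul_mem (T.mul_mem hx.2 (T.inv_mem (h2 _))) h1
  have hWN : ∀ x ∈ W, ∀ v ∈ N, x * v ∈ W := fun x hx v hv =>
    hW x hx v (hNC hv) (by rw [hN.2 v hv]; exact T.one_mem)
      fun y => commutator_mem_commutator hv (mem_top y)
  have h8W : 8 ∣ W.ncard := by
    have h1 : Nat.card ↥(K ⊔ N) ∣ W.ncard := by
      apply card_dvd_ncard_of_mul_mem
      intro x hx m hm
      obtain ⟨k, hk, v, hv, rfl⟩ := mem_sup_of_normal_right.mp hm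
      rw [← mul_assoc]
      exact hWN _ (hW x hx k (hKD hk).2 (hKsq k hk)
        fun y => hKT (commutator_mem_commutator hk (mem_top y))) v hv
    have h2 : N < K ⊔ N := by
      refine lt_of_le_not_ge le_sup_right fun h => hng ?_
      have : K = N := eq_of_le_of_card_ge (le_sup_left.trans h) (by rw [hKc, hT2, hc]; norm_num)
      exact mem_centralizer_singleton_iff.mp (hKD (this ▸ hn)).1
    have h3 := CL.PG.pow_succ_le_card_of_lt hG h2 hc.ge
    obtain ⟨m, hm⟩ := CL.PG.card_eq_pow hG (K ⊔ N)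
    rw [hm, Nat.pow_le_pow_iff_right one_lt_two] at h3
    exact ((pow_dvd_pow 2 h3).trans (hm ▸ h1) : 2 ^ 3 ∣ _)
  have hxn : ∀ x ∈ W, (x * n) ^ 2 = x ^ 2 * g ^ 2 := by
    intro x hx
    rw [hsq, hN.2 n hn, mul_one, hTel ⁅n, x⁻¹⁆⁻¹
      (T.inv_mem (commutator_mem_commutator hn (mem_top _)))]
    rw [Ne, inv_eq_one, commutatorElement_eq_one_iff_commute, Commute.inv_right_iff]
    intro h
    have h1 : g⁻¹ * x ∈ C := by
      rw [mul_mem_iff_of_index_two hCi]
      exact ⟨fun h => (hg2 (inv_mem_iff.mp h)).elim, fun h => (hx.1 h).elim⟩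
    have h2 : Commute n (g⁻¹ * x) := h1 n hn
    have h3 := h.mul_right h2.inv_right
    exact hng (show Commute n g by simpa using h3)
  have hg4' : g ^ 2 * g ^ 2 = 1 := by
    rw [← pow_add, show 2 + 2 = orderOf g from hg1.symm]; exact pow_orderOf_eq_one g
  have e1 := ncard_eq_add (Set.toFinite W) (fun x => x ^ 2 = 1)
  have e2 : {x | x ∈ W ∧ x ^ 2 = 1}.ncard = {x | x ∈ W ∧ ¬ x ^ 2 = 1}.ncard := by
    apply le_antisymm
    · apply Set.ncard_le_ncard_of_injOn (· * n) _ (mul_left_injective n).injOn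
      rintro x ⟨h1, h2⟩
      exact ⟨hWN x h1 n hn, by rw [hxn x h1, h2, one_mul]; exact hg2'⟩
    · apply Set.ncard_le_ncard_of_injOn (· * n) _ (mul_left_injective n).injOn
      rintro x ⟨h1, h2⟩
      exact ⟨hWN x h1 n hn, by rw [hxn x h1, hTel _ h1.2 h2, hg4']⟩
  have e3 : {g : G | orderOf g = 4 ∧ g ∉ C ∧ g ^ 2 ∈ T} = {x | x ∈ W ∧ ¬ x ^ 2 = 1} := by
    ext x
    constructor
    · rintro ⟨h1, h2⟩
      refine ⟨h2, fun h => ?_⟩
      have := orderOf_dvd_of_pow_eq_one h
      rw [h1] at this; omega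
    · rintro ⟨h1, h2⟩
      refine ⟨orderOf_eq_prime_pow (p := 2) (n := 1) h2 ?_, h1⟩
      rw [show 2 ^ (1 + 1) = 2 + 2 by rfl, pow_add, hTel _ h1.2 h2, hg4']
  rw [e3]
  omega

/-- Miller's theorem, element form. -/
theorem pow_dvd_ncard_orderOf (hG : IsPGroup p G) (N : Subgroup G) [N.Normal]
    (hN : IsElementaryAbelian p N) (hc : Nat.card N = p ^ 2)
    (h8 : p = 2 → Nat.card G = 8 → IsMulCommutative G) (i : ℕ) :
    p ^ (i + 2) ∣ {g : G | orderOf g = p ^ (i + 2)}.ncard := by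
  set T := ⁅N, (⊤ : Subgroup G)⁆ with hT
  set C := centralizer (N : Set G) with hC
  have hTc : Nat.card T ≤ p ^ 1 := CL.PG.card_commutator_top_le hG N hc.le
  have hTz : T ≤ center G := CL.PG.le_center_of_card_le hG T (by simpa using hTc)
  have hTN : T ≤ N := commutator_le_left _ _
  have hNC : N ≤ C := CL.Th.elemAb_le_centralizer hN
  rw [ncard_eq_add (Set.toFinite {g : G | orderOf g = p ^ (i + 2)})
    (fun g => p = 2 → i = 0 → (g ∈ C ∨ g ^ p ∉ T))]
  apply Nat.dvd_add
  · apply dvd_ncard_of_cosets (fun g => zpowers (g ^ p) ⊔ N)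
    · rintro g ⟨hg1, hg2⟩ m hm
      have hg1' : orderOf g = p ^ (i + 2) := hg1
      obtain ⟨a, ha, n, hn, rfl⟩ := mem_sup_of_normal_right.mp hm
      obtain ⟨k, rfl⟩ := (mem_powers_iff_mem_zpowers.mpr ha : a ∈ Submonoid.powers (g ^ p))
      set u := g * (g ^ p) ^ k with hu
      have hu' : u = g ^ (1 + p * k) := by rw [hu, pow_add, pow_one, pow_mul]
      have hcop : ∀ j, (p ^ j).Coprime (1 + p * k) := fun j =>
        Nat.Coprime.pow_left _ (by simp [Nat.coprime_add_mul_left_right])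
      have hou : orderOf u = p ^ (i + 2) := by
        rw [hu', Nat.Coprime.orderOf_pow (hg1' ▸ hcop _), hg1']
      have hzp : zpowers (u ^ p) = zpowers (g ^ p) := by
        have e : u ^ p = (g ^ p) ^ (1 + p * k) := by rw [hu', ← pow_mul, ← pow_mul, mul_comm]
        obtain ⟨j, hj⟩ := IsPGroup.iff_orderOf.mp hG (g ^ p)
        apply eq_of_le_of_card_ge (zpowers_le.mpr (e ▸ pow_mem (mem_zpowers _) _))
        rw [Nat.card_zpowers, Nat.card_zpowers, e,
          Nat.Coprime.orderOf_pow (y := g ^ p) (hj ▸ hcop j)]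
      have hcT : ⁅n, u⁆ ∈ T := commutator_mem_commutator hn (mem_top u)
      set t := ⁅n, u⁆ ^ p.choose 2 with ht
      have htT : t ∈ T := T.pow_mem hcT _
      have htc : ∀ y, Commute y t := fun y => mem_center_iff.mp (hTz htT) y
      have htp : t ^ p = 1 := hN.2 t (hTN htT)
      have e1 : (u * n) ^ p = u ^ p * t := by
        rw [CL.PG.mul_pow_of_commute_commutator (mem_center_iff.mp (hTz hcT) u)
          (mem_center_iff.mp (hTz hcT) n), hN.2 n hn, mul_one]
        exact (htc _).eq.symm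
      have e2 : ∀ j, (u * n) ^ p ^ (j + 1) = u ^ p ^ (j + 1) * t ^ p ^ j := by
        intro j
        rw [pow_succ', pow_mul, pow_mul, e1, (htc _).mul_pow]
      have e3 : ∀ j, t ^ p ^ (j + 1) = 1 := fun j => by rw [pow_succ', pow_mul, htp, one_pow]
      have hune : u ^ p ^ (i + 1) ≠ 1 := by
        rw [Ne, CL.MC.pow_eq_one_iff_of_orderOf hou]; omega
      have hCcase : g ∈ C → t = 1 ∧ u * n ∈ C := by
        intro h
        have huC : u ∈ C := hu' ▸ C.pow_mem h _
        refine ⟨?_, C.mul_mem huC (hNC hn)⟩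
        rw [ht, Commute.commutator_eq (huC n hn), one_pow]
      have hTcase : g ^ p ∉ T → u ^ p * t ∉ T := by
        intro h h'
        apply h
        have : zpowers (g ^ p) ≤ T := hzp ▸ zpowers_le.mpr ((T.mul_mem_cancel_right htT).mp h')
        exact this (mem_zpowers _)
      show (g * ((g ^ p) ^ k * n) ∈ _) ∧ _
      rw [← mul_assoc, ← hu]
      refine ⟨⟨?_, fun h2 h0 => ?_⟩, ?_⟩
      · apply orderOf_eq_prime_pow
        · rw [e2]
          by_cases h2 : p = 2
          · rcases i with _ | i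
            · rcases hg2 h2 rfl with h | h
              · rw [(hCcase h).1, one_pow, mul_one]; exact hune
              · intro h'
                apply hTcase h
                simp only [zero_add, pow_one, pow_zero] at h'
                rw [h']; exact T.one_mem
            · rw [e3, mul_one]; exact hune
          · obtain ⟨r, hr⟩ := CL.PG.prime_dvd_choose_two hp.out h2
            rw [ht, hr, pow_mul, hN.2 _ (hTN hcT), one_pow, one_pow, mul_one]; exact hune
        · rw [e2, e3, mul_one, ← hou, pow_orderOf_eq_one]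
      · rcases hg2 h2 h0 with h | h
        · exact Or.inl (hCcase h).2
        · exact Or.inr (e1 ▸ hTcase h)
      · rw [← hzp, e1]
        apply le_antisymm
        · exact sup_le (zpowers_le.mpr (mul_mem (mem_sup_left (mem_zpowers _))
            (mem_sup_right (hTN htT)))) le_sup_right
        · refine sup_le (zpowers_le.mpr ?_) le_sup_right
          exact (Subgroup.mul_mem_cancel_right _ (mem_sup_right (hTN htT))).mp
            (mem_sup_left (mem_zpowers _))
    · rintro g ⟨hg1, -⟩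
      have hg1' : orderOf g = p ^ (i + 2) := hg1
      have e := CL.card_sup_mul_card_inf (zpowers (g ^ p)) N
      have i1 : IsCyclic ↥(zpowers (g ^ p) ⊓ N) := isCyclic_of_le inf_le_left
      obtain ⟨r, hr⟩ : Nat.card ↥(zpowers (g ^ p) ⊓ N) ∣ p :=
        CL.MC.card_dvd_of_cyclic _ fun x hx => hN.2 x hx.2
      rw [Nat.card_zpowers, hc, orderOf_pow' _ hp.out.ne_zero, hg1',
        Nat.gcd_eq_right (dvd_pow_self p (by omega)), pow_succ p (i + 1),
        Nat.mul_div_cancel _ hp.out.pos] at e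
      refine ⟨r, Nat.eq_of_mul_eq_mul_right (Nat.card_pos (α := ↥(zpowers (g ^ p) ⊓ N))) ?_⟩
      rw [e, mul_assoc, mul_comm r, ← hr]; ring
  · by_cases h : p = 2 ∧ i = 0
    · obtain ⟨rfl, rfl⟩ := h
      have e : {g | g ∈ {g : G | orderOf g = 2 ^ (0 + 2)} ∧ ¬ (2 = 2 → 0 = 0 → (g ∈ C ∨ g ^ 2 ∉ T))} =
          {g : G | orderOf g = 4 ∧ g ∉ centralizer (N : Set G) ∧
            g ^ 2 ∈ ⁅N, (⊤ : Subgroup G)⁆} := by
        ext g
        simp [hC, hT]
      rw [e]
      exact four_dvd_ncard_aux hG N hN hc (h8 rfl)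
    · rw [show {g | g ∈ {g : G | orderOf g = p ^ (i + 2)} ∧
          ¬ (p = 2 → i = 0 → (g ∈ C ∨ g ^ p ∉ T))} = ∅ from ?_, Set.ncard_empty]
      · exact dvd_zero _
      rw [Set.eq_empty_iff_forall_notMem]
      rintro g ⟨-, hg⟩
      exact hg fun h1 h2 => (h ⟨h1, h2⟩).elim

/-- Miller's theorem. -/
theorem dvd_nCyc (hG : IsPGroup p G) (N : Subgroup G) [N.Normal]
    (hN : IsElementaryAbelian p N) (hc : Nat.card N = p ^ 2)
    (h8 : p = 2 → Nat.card G = 8 → IsMulCommutative G) (i : ℕ) :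
    p ∣ nCyc G (p ^ (i + 2)) := by
  have h := pow_dvd_ncard_orderOf hG N hN hc h8 i
  rw [ncard_orderOf_eq, Nat.totient_prime_pow_succ hp.out, pow_succ, mul_assoc] at h
  have h2 := Nat.dvd_of_mul_dvd_mul_left (pow_pos hp.out.pos _) h
  refine Nat.Coprime.dvd_of_dvd_mul_left ?_ h2
  exact (Nat.coprime_self_sub_right hp.out.one_le).mpr (Nat.coprime_one_right p)

omit hp in
theorem _root_.CL.PCyc.IsDQS.nilpotencyClass_eq' {n : ℕ} {a b : G} (h : CL.PCyc.IsDQS G n a b) :
    Group.nilpotencyClass G = n := by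
  have hG : IsPGroup 2 G := IsPGroup.of_card h.card_eq
  have := hG.isNilpotent
  have h2 := h.two_le
  apply le_antisymm (Cfsg.Agent.S0063.result 2 (n + 1) h.card_eq (by omega))
  obtain ⟨k, hk, ⟨r, hr⟩, -⟩ := h.exists_conj_eq
  have key : ∀ i : ℕ, ∃ u : ℤ, Odd u ∧ a ^ (2 ^ i * u) ∈ (⊤ : Subgroup G).lowerCentralSeries i := by
    intro i
    induction i with
    | zero => exact ⟨1, odd_one, mem_top _⟩
    | succ i ih =>
      obtain ⟨u, hu, hm⟩ := ih
      refine ⟨u * (1 - 2 * r), hu.mul ⟨-r, by ring⟩, ?_⟩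
      have e : ⁅a ^ (2 ^ i * u), b⁆ = a ^ (2 ^ (i + 1) * (u * (1 - 2 * r))) := by
        have e1 := CL.PCyc.conj_zpow_eq hk (-(2 ^ i * u))
        calc ⁅a ^ (2 ^ i * u), b⁆ = a ^ (2 ^ i * u) * (b * a ^ (-(2 ^ i * u)) * b⁻¹) := by
              rw [commutatorElement_def, zpow_neg]; group
          _ = _ := by
              rw [e1, ← zpow_add]; congr 1
              rw [show k = 4 * r - 1 by omega]; ring
      rw [← e]
      exact commutator_mem_commutator hm (mem_top b)
  by_contra hlt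
  obtain ⟨u, hu, hm⟩ := key (n - 1)
  rw [Subgroup.lowerCentralSeries_eq_bot_iff_nilpotencyClass_le.mpr (by omega), mem_bot,
    ← orderOf_dvd_iff_zpow_eq_one, h.orderOf_eq] at hm
  obtain ⟨m, rfl⟩ : ∃ m, n = m + 1 := ⟨n - 1, by omega⟩
  rw [Nat.add_sub_cancel, pow_succ] at hm
  push_cast at hm
  have := Int.dvd_of_mul_dvd_mul_left (by positivity) hm
  exact (Int.not_even_iff_odd.mpr hu) (even_iff_two_dvd.mpr this)

/-- Miller's theorem for non-cyclic `p`-groups that are not `2`-groups of maximal class. -/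
theorem dvd_nCyc_of_not_isCyclic {m : ℕ} (hG : Nat.card G = p ^ m) (hnc : ¬ IsCyclic G)
    (h2 : p = 2 → Group.nilpotencyClass G ≠ m - 1) (i : ℕ) : p ∣ nCyc G (p ^ (i + 2)) := by
  have hP : IsPGroup p G := IsPGroup.of_card hG
  rcases CL.PCyc.isCyclic_or_normal_elemAb_or_isDQS hP with h | ⟨E, _, h1, h3⟩ | ⟨rfl, n, a, b, h⟩
  · exact (hnc h).elim
  · refine dvd_nCyc hP E h1 h3 ?_ i
    rintro rfl h8
    have hm : m = 3 := Nat.pow_right_injective le_rfl (hG.symm.trans h8)
    subst hm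
    have := hP.isNilpotent
    have h4 := Cfsg.Agent.S0063.result 2 3 hG (by omega)
    have h5 : Group.nilpotencyClass G ≤ 1 := by have := h2 rfl; omega
    rw [← Subgroup.lowerCentralSeries_eq_bot_iff_nilpotencyClass_le] at h5
    exact (commutator_eq_bot_iff G).mp h5
  · have hm : m = n + 1 := Nat.pow_right_injective le_rfl (hG.symm.trans h.card_eq)
    exact (h2 rfl (by rw [h.nilpotencyClass_eq', hm]; rfl)).elim

/-- Kulakoff's theorem. -/
theorem kulakoff {m : ℕ} (hG : Nat.card G = p ^ m) (hnc : ¬ IsCyclic G)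
    (h2 : p = 2 → Group.nilpotencyClass G ≠ m - 1) {k : ℕ} (hk1 : 1 ≤ k) (hk2 : k < m) :
    nSub G (p ^ k) ≡ 1 + p [MOD p ^ 2] := by
  obtain ⟨i, rfl⟩ : ∃ i, k = i + 1 := ⟨k - 1, by omega⟩
  have h1 := nSub_add_nCyc (IsPGroup.of_card hG) (k := i + 1) (hG ▸ pow_dvd_pow p hk2)
  obtain ⟨r, hr⟩ := dvd_nCyc_of_not_isCyclic hG hnc h2 i
  rw [hr, ← mul_assoc, ← sq] at h1
  simpa [Nat.ModEq] using h1

theorem nCyc_of_isCyclic [IsCyclic G] {n : ℕ} (h : n ∣ Nat.card G) : nCyc G n = 1 := by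
  classical
  have := Fintype.ofFinite G
  have e := ncard_orderOf_eq (G := G) (n := n)
  have e2 := IsCyclic.card_orderOf_eq_totient (α := G) (d := n)
    (by rwa [← Nat.card_eq_fintype_card])
  rw [← Set.ncard_coe_finset, Finset.coe_filter_univ, e] at e2
  have hpos : 0 < n.totient := Nat.totient_pos.mpr (Nat.pos_of_dvd_of_pos h Nat.card_pos)
  exact Nat.eq_of_mul_eq_mul_left hpos (by rw [mul_one]; exact e2)

theorem nSub_modEq_sq_of_isPGroup (hG : IsPGroup p G) {a : ℕ} (h : p ^ (a + 1) ∣ Nat.card G) :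
    nSub G (p ^ a) ≡ 1 [MOD p ^ 2] ∨ nSub G (p ^ a) ≡ 1 + p [MOD p ^ 2] := by
  rcases a with _ | a
  · left; rw [pow_zero, nSub_one]
  have h1 := nSub_add_nCyc hG h
  have key : nCyc G (p ^ (a + 2)) ≡ 1 [MOD p] ∨ p ∣ nCyc G (p ^ (a + 2)) := by
    by_cases h2 : p = 2
    · subst h2
      unfold Nat.ModEq; omega
    by_cases hc : IsCyclic G
    · left; rw [nCyc_of_isCyclic h]
    · obtain ⟨m, hm⟩ := IsPGroup.iff_card.mp hG
      exact Or.inr (dvd_nCyc_of_not_isCyclic hm hc (fun h => (h2 h).elim) a)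
  rcases key with h2 | ⟨r, hr⟩
  · left
    have h3 := h2.mul_left' p
    rw [← sq, mul_one] at h3
    exact Nat.ModEq.add_right_cancel h3 h1
  · right
    rw [hr, ← mul_assoc, ← sq] at h1
    simpa [Nat.ModEq] using h1

end CL.Cnt
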