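import Cfsg.Agent.FUS.MD.PG
import Cfsg.Agent.PLOC.AlperinGoldschmidt
import Cfsg.Agent.PLOC.PFrattini
import Cfsg.Agent.SOLV.Core
import Cfsg.Agent.S0081

/-! # Sylow subgroups of maximal class: elements with small centralizer -/

set_option autoImplicit false

namespace CL.MCDich

open Subgroup Cfsg CL.MaxCl CL.MCD
open scoped commutatorElement Pointwise

variable {G : Type*} [Group G] [Finite G] {p n : ℕ} [hp : Fact p.Prime]

/-- An element all of whose conjugates in `S` have centralizer of order `p ^ 2` in `S` is extremal. -/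
theorem good (S : Sylow p G) {y : G} (hy : y ∈ (S : Subgroup G))
    (h : ∀ (R : Subgroup G) (g : G), y ∈ R → (∀ r ∈ R, g⁻¹ * r * g ∈ (S : Subgroup G)) →
      ∃ k : G, (∀ r ∈ R, k⁻¹ * r * k ∈ (S : Subgroup G)) ∧ ∀ hk : k⁻¹ * y * k ∈ (S : Subgroup G),
        Nat.card (centralizer ({(⟨k⁻¹ * y * k, hk⟩ : S)} : Set S)) = p ^ 2)
    (h0 : Nat.card (centralizer ({(⟨y, hy⟩ : S)} : Set S)) = p ^ 2) :
    (Nat.card (centralizer ({y} : Set G))).factorization p = 2 := by
  set D := centralizer ({y} : Set G) with hD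
  have yD : y ∈ D := mem_centralizer_singleton_iff.2 rfl
  have p1 : IsPGroup p ((S : Subgroup G).subgroupOf D) := S.isPGroup'.comap_subtype
  obtain ⟨R, hR⟩ := p1.exists_le_sylow
  have p2 : IsPGroup p ((R : Subgroup D).map D.subtype) := R.isPGroup'.map _
  obtain ⟨Q, hQ⟩ := p2.exists_le_sylow
  obtain ⟨g, hg⟩ := MulAction.exists_smul_eq G S Q
  obtain ⟨k, hk, hk'⟩ := h ((R : Subgroup D).map D.subtype) g ⟨⟨y, yD⟩, hR hy, rfl⟩ (fun r hr => by
    have := hQ hr
    rw [← hg, Sylow.coe_subgroup_smul, Subgroup.mem_pointwise_smul_iff_inv_smul_mem] at this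
    simpa using this)
  have hky := hk y ⟨⟨y, yD⟩, hR hy, rfl⟩
  have c1 := hk' hky
  have le1 : Nat.card (R : Subgroup D) ≤ p ^ 2 := by
    rw [← c1]
    refine Nat.card_le_card_of_injective (fun r => ⟨⟨k⁻¹ * r.1.1 * k, hk _ ⟨r.1, r.2, rfl⟩⟩,
      mem_centralizer_singleton_iff.2 (Subtype.ext ?_)⟩) fun a b e => ?_
    · have := mem_centralizer_singleton_iff.1 r.1.2
      simp only [Subgroup.coe_mul]
      calc k⁻¹ * r.1.1 * k * (k⁻¹ * y * k) = k⁻¹ * (r.1.1 * y) * k := by group
        _ = _ := by rw [this]; group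
    · simp only [Subtype.mk.injEq] at e
      exact Subtype.ext (Subtype.ext (by simpa using e))
  have le2 : p ^ 2 ≤ Nat.card (R : Subgroup D) := by
    rw [← h0]
    refine Nat.card_le_card_of_injective (fun r => ⟨⟨r.1.1, mem_centralizer_singleton_iff.2
      (congrArg Subtype.val (mem_centralizer_singleton_iff.1 r.2))⟩, hR r.1.2⟩) fun a b e => ?_
    simp only [Subtype.mk.injEq] at e
    exact Subtype.ext (Subtype.ext e)
  have := R.card_eq_multiplicity
  rw [le_antisymm le1 le2] at this
  exact (Nat.pow_right_injective hp.out.two_le this).symm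

/-- One fusion step keeps an element uniform. -/
theorem step {S E N : Subgroup G} [N.Normal] (h : IsMC p n S) (h4 : 4 ≤ n) (hE : E < S)
    (hc : S ⊓ centralizer (E : Set G) ≤ E) (hN : (P S (n - 2)).map S.subtype ≤ N) {x a : G}
    (hx : x ∈ normalizer (E : Set G)) (ha : a ∈ E) (hu : Unif n (⟨a, hE.le ha⟩ : S)) (haN : a ∉ N)
    (hb : x⁻¹ * a * x ∈ S) : Unif n (⟨x⁻¹ * a * x, hb⟩ : S) := by
  set s : S := ⟨a, hE.le ha⟩ with hs
  set X := E.subgroupOf S with hX
  have hZ : P S (n - 1) ≤ X := fun z hz => hc ⟨z.2, fun e he =>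
    congrArg Subtype.val (mem_center_iff.1 (h.P_le_center hz) ⟨e, hE.le he⟩)⟩
  have hsX : s ∈ X := ha
  obtain ⟨j, hj, hjn, e, e', c⟩ := exists_sup h h4 hu hsX hZ
  have jX : P S j ≤ X := e.ge.trans inf_le_left
  have j2 : 2 ≤ j := by
    by_contra j1
    have : X = ⊤ := eq_top_of_card_eq _ (by rw [c, h.card]; congr 1; omega)
    exact hE.not_ge (subgroupOf_eq_top.1 this)
  have cj : Nat.card X = p * Nat.card (P S j) := by
    rw [c, h.card_P' h4 (show j + (n - j) = n by omega), ← pow_succ', show n - j + 1 = n + 1 - j by omega]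
  have mE : X.map S.subtype = E := by rw [hX, subgroupOf_map_subtype, inf_eq_left.2 hE.le]
  have cjE : ∀ {g y : G}, g ∈ normalizer (E : Set G) → y ∈ E → g * y * g⁻¹ ∈ E := fun hg hy =>
    (mem_normalizer_iff.1 hg _).1 hy
  -- `P j` is invariant
  have inv : ∀ g ∈ normalizer (E : Set G), ∀ y : S, y ∈ P S j → ∀ hy : g * y * g⁻¹ ∈ S,
      (⟨g * y * g⁻¹, hy⟩ : S) ∈ P S j := by
    intro g hg y hy hy'
    have yX : (⟨g * y * g⁻¹, hy'⟩ : S) ∈ X := cjE hg (jX hy)
    by_contra k'
    have top := eq_sup_zpowers h.isPGroup jX yX k' cj.le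
    by_cases e1 : n ≤ j + 2
    · have : X ≤ N.subgroupOf S := top.le.trans (sup_le (fun z hz => hN ⟨z, P_anti (by omega) hz, rfl⟩)
        (zpowers_le.2 (Normal.conj_mem ‹_› _ (hN ⟨y, P_anti (by omega) hy, rfl⟩) g)))
      exact haN (this hsX)
    have hK : ∀ a, j ≤ a → ⁅X, P S a⁆ = P S (a + 1) := fun a ha => le_antisymm
      (commutator_le.2 fun x _ y hy => comm_mem (by omega) x hy)
      (CL.MCN.Fu.P_succ_le_of_comm h h4 hu (by omega) fun x hx => commutator_mem_commutator hsX hx)
    have hK1 : ⁅X, X⁆ = P S (j + 1) := le_antisymm (by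
      have := lcs_sup_zpowers_le (G := S) hj s 0
      rw [← e'] at this
      exact this) ((hK j le_rfl).ge.trans (commutator_mono le_rfl jX))
    have i1 : ∀ t, normalizer (E : Set G) ≤ normalizer ((P S (j + 1 + t)).map S.subtype : Set G) := fun t => by
      induction t with
      | zero =>
        rw [add_zero, ← hK1, map_commutator, mE]
        exact CL.le_normalizer_commutator le_rfl le_rfl
      | succ t ih =>
        rw [← add_assoc, ← hK _ (by omega), map_commutator, mE]
        exact CL.le_normalizer_commutator le_rfl ih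
    have jC : P S j ≤ C S (j + 1) := (P_anti j2).trans (P_two_le_C (by omega))
    have k : (⟨g * y * g⁻¹, hy'⟩ : S) ∈ C S (j + 1) := mem_C.2 fun b hb => by
      obtain ⟨b', hb', eb⟩ := (mem_normalizer_iff.1 (i1 0 (inv_mem hg)) b).1 ⟨b, hb, rfl⟩
      have k1 := mem_C.1 (jC hy) b' hb'
      obtain ⟨w, hw, ew⟩ := (mem_normalizer_iff.1 (i1 2 hg) _).1 ⟨_, k1, rfl⟩
      have : w = ⁅(⟨g * y * g⁻¹, hy'⟩ : S), b⁆ := Subtype.ext (by
        simp only [coe_subtype] at ew eb
        rw [ew]
        simp only [commutatorElement_def, Subgroup.coe_mul, Subgroup.coe_inv, eb]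
        group)
      exact this ▸ hw
    exact h.not_mem_C h4 hu (j := j + 1) (by omega) (by omega)
      ((top.le.trans (sup_le jC (zpowers_le.2 k))) hsX)
  have bX : (⟨x⁻¹ * a * x, hb⟩ : S) ∈ X := by
    have := cjE (inv_mem hx) ha
    rw [inv_inv] at this
    exact this
  have nb : (⟨x⁻¹ * a * x, hb⟩ : S) ∉ P S j := fun k => by
    have := inv x hx _ k (by simpa [mul_assoc] using hE.le ha)
    refine hu.1 (P_anti (by omega : 1 ≤ j) ?_)
    convert this using 2
    group
  refine ⟨fun k => nb (e.le ⟨bX, k⟩), fun k => hu.2 ?_⟩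
  exact ((eq_sup_zpowers h.isPGroup jX bX nb cj.le).le.trans
    (sup_le ((P_anti j2).trans (P_two_le_C (by omega))) (zpowers_le.2 k))) hsX

theorem chain (S : Sylow p G) {N : Subgroup G} [N.Normal] (h : IsMC p n S) (h4 : 4 ≤ n)
    (hN : (P S (n - 2)).map (S : Subgroup G).subtype ≤ N) {A : Set G} {g : G}
    (hc : CL.Tr.Chain id (CL.Tr.EssStep S) A g) {a : G} (ha : a ∈ A) (haN : a ∉ N) (haS : a ∈ (S : Subgroup G))
    (hu : Unif n (⟨a, haS⟩ : S)) : ∀ hb : g⁻¹ * a * g ∈ (S : Subgroup G), Unif n (⟨g⁻¹ * a * g, hb⟩ : S) := by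
  induction hc generalizing a with
  | nil A => intro hb; convert hu using 2; group
  | @cons E x A g h1 h2 _ ih =>
    intro hb
    have hx := h1.mem_normalizer
    have aE : a ∈ E := h2 ha
    have bE : x⁻¹ * a * x ∈ E := by
      have := (mem_normalizer_iff.1 (inv_mem hx) _).1 aE
      rwa [inv_inv] at this
    have := ih (a := x⁻¹ * a * x) ⟨a, ha, rfl⟩ (fun k => haN (by
        have := Normal.conj_mem ‹_› _ k x
        simpa [mul_assoc] using this)) (h1.1.1.le bE)
      (step (S := (S : Subgroup G)) h h4 h1.1.1 h1.1.centric_radical.1 hN hx aE hu haN _) (by convert hb using 1; group)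
    convert this using 2
    group

/-- `n ≥ 4`: a normal subgroup containing `Z₂(S)` but not `S` gives an element with small centralizer. -/
theorem four (S : Sylow p G) {N : Subgroup G} [N.Normal] (h : IsMC p n S) (h4 : 4 ≤ n)
    (hN : (P S (n - 2)).map (S : Subgroup G).subtype ≤ N) (hS : ¬ (S : Subgroup G) ≤ N) :
    ∃ x ∈ (S : Subgroup G), (Nat.card (centralizer ({x} : Set G))).factorization p = 2 := by
  classical
  obtain ⟨s, hs⟩ := exists_not_mem h.isPGroup {P S 1, C S (n - 2), N.subgroupOf S} (by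
    intro H hH
    simp only [Finset.mem_insert, Finset.mem_singleton] at hH
    rcases hH with rfl | rfl | rfl
    · exact h.C_ne_top (i := 2) le_rfl h4
    · exact h.C_ne_top (by omega) (by omega)
    · exact fun e => hS (subgroupOf_eq_top.1 e)) (by
    by_cases e : C S (n - 2) = P S 1
    · rw [e, Finset.insert_eq_of_mem (by simp)]
      exact Finset.card_le_two.trans hp.out.two_le
    · have := h.exceptional h4 e
      exact Finset.card_le_three.trans (by omega))
  have hu : Unif n s := ⟨hs _ (by simp), hs _ (by simp)⟩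
  have sN : (s : G) ∉ N := fun k => hs (N.subgroupOf S) (by simp) k
  refine ⟨s, s.2, good S s.2 (fun R g hR hg => ?_) (h.card_centralizer h4 hu)⟩
  obtain ⟨c, hc, y, hy, k, hk, rfl⟩ := CL.Tr.alperin_goldschmidt_chain S {(s : G)} g (by simp)
    (by rintro _ ⟨_, rfl, rfl⟩; exact hg _ hR)
  refine ⟨c * k, fun r hr => ?_, fun hb => h.card_centralizer h4 ?_⟩
  · have := (mem_normalizer_iff.1 hy _).1 (hg r hr)
    convert this using 1
    group
  · have e : (c * k)⁻¹ * s * (c * k) = k⁻¹ * s * k := by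
      have := hc s rfl
      calc (c * k)⁻¹ * s * (c * k) = k⁻¹ * c⁻¹ * (s * c) * k := by group
        _ = _ := by rw [this]; group
    have := chain S h h4 hN hk rfl sN s.2 hu (e ▸ hb)
    rw [show (⟨(c * k)⁻¹ * s * (c * k), hb⟩ : (S : Subgroup G)) = ⟨k⁻¹ * s * k, e ▸ hb⟩ from Subtype.ext e]
    exact this

omit [Finite G] in
theorem card_cent3 {H : Type*} [Group H] [Finite H] (h : IsMC p 3 H) {s : H} (hs : s ∉ center H) :
    Nat.card (centralizer ({s} : Set H)) = p ^ 2 := by
  have l1 : center H < centralizer ({s} : Set H) :=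
    (center_le_centralizer _).lt_of_ne fun e => hs (e.ge (mem_centralizer_singleton_iff.2 rfl))
  have l2 : centralizer ({s} : Set H) < ⊤ := lt_top_iff_ne_top.2 fun e => hs (mem_center_iff.2 fun g =>
    mem_centralizer_singleton_iff.1 (e.ge (mem_top g)))
  have l0 : (⊥ : Subgroup H) < center H := bot_lt_iff_ne_bot.2 fun e => h.ne_bot (eq_bot_iff.2 (h.P_le_center.trans e.le))
  have k0 := CL.MC.mul_card_le_of_lt h.isPGroup l0
  have k1 := CL.MC.mul_card_le_of_lt h.isPGroup l1
  have k2 := CL.MC.mul_card_le_of_lt h.isPGroup l2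
  rw [card_top, h.card] at k2
  rw [card_bot] at k0
  have p0 := hp.out.pos
  refine le_antisymm (Nat.le_of_mul_le_mul_left (by rw [← pow_succ']; exact k2) p0) ?_
  nlinarith

omit [Finite G] in
theorem center3 {H : Type*} [Group H] [Finite H] (h : IsMC p 3 H) : center H = P H 2 := by
  refine (eq_of_le_of_card_ge h.P_le_center ?_).symm
  rw [h.card_P (i := 2) (j := 1) le_rfl rfl]
  obtain ⟨s, hs⟩ : ∃ s, s ∉ center H := by
    by_contra k
    push Not at k
    refine h.ne_bot (eq_bot_iff.2 ?_)
    exact commutator_le.2 fun a _ b _ => commutatorElement_eq_one_iff_mul_comm.2 (mem_center_iff.1 (k b) a)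
  have l1 : center H < centralizer ({s} : Set H) :=
    (center_le_centralizer _).lt_of_ne fun e => hs (e.ge (mem_centralizer_singleton_iff.2 rfl))
  have k1 := CL.MC.mul_card_le_of_lt h.isPGroup l1
  rw [card_cent3 h hs, sq] at k1
  rw [pow_one]
  exact Nat.le_of_mul_le_mul_left k1 hp.out.pos

theorem three (S : Sylow p G) {N : Subgroup G} [N.Normal] (h : IsMC p 3 S)
    (hN : (P S 2).map (S : Subgroup G).subtype ≤ N) (hS : ¬ (S : Subgroup G) ≤ N) :
    ∃ x ∈ (S : Subgroup G), (Nat.card (centralizer ({x} : Set G))).factorization p = 2 := by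
  obtain ⟨s, hs, sN⟩ := SetLike.not_le_iff_exists.1 hS
  have key : ∀ t : S, (t : G) ∉ N → Nat.card (centralizer ({t} : Set S)) = p ^ 2 := fun t ht =>
    card_cent3 h fun k => ht (hN ⟨t, center3 h ▸ k, rfl⟩)
  refine ⟨s, hs, good S hs (fun R g _ hg => ⟨g, hg, fun hb => key _ fun k => sN ?_⟩) (key _ sN)⟩
  have := Normal.conj_mem ‹_› _ k g
  simpa [mul_assoc] using this

/-- A normal subgroup meeting `S` inside `Z(S) ∩ S'` lies in `S`. -/
theorem le_of_inf (S : Sylow p G) {N : Subgroup G} [N.Normal] (hcore : pPrimeCore p G = ⊥)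
    (hN : N ⊓ (S : Subgroup G) ≤ (_root_.commutator S).map (S : Subgroup G).subtype) : N ≤ (S : Subgroup G) := by
  obtain ⟨T, K, hK, hc⟩ := Cfsg.Agent.S0081.result S N (hN.trans (map_mono (CL.PG.commutator_le_frattini S.isPGroup')))
  have c1 : (Nat.card K).Coprime p := by
    rw [← hc.index_eq_card]
    exact (hp.out.coprime_iff_not_dvd.2 T.not_dvd_index).symm
  have c2 : K.map N.subtype ≤ pPrimeCore p G := CL.le_pPrimeCore_of_isSubnormal
    (hK.isSubnormal.trans' (Normal.isSubnormal ‹_›)) (by rwa [card_map_of_injective (subtype_injective _)])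
  rw [hcore, le_bot_iff, map_eq_bot_iff_of_injective _ (subtype_injective _)] at c2
  subst c2
  have : (T : Subgroup N) = ⊤ := by simpa using hc.sup_eq_top
  have pN : IsPGroup p N := (this ▸ T.isPGroup').of_equiv topEquiv
  exact pN.le_sylow_of_normal S

theorem main (S : Sylow p G) (h : IsMC p n S) (hcore : pPrimeCore p G = ⊥)
    (hres : ∀ N : Subgroup G, N.Normal → (N.index).Coprime p → N = ⊤)
    (no : ¬ ∃ x ∈ (S : Subgroup G), (Nat.card (centralizer ({x} : Set G))).factorization p = 2) :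
    IsQuasisimple G ∧ Nat.card (center G) ≤ p := by
  have h3 := h.three_le
  have top : ∀ N : Subgroup G, N.Normal → (S : Subgroup G) ≤ N → N = ⊤ := fun N hN e => hres N hN
    (hp.out.coprime_iff_not_dvd.2 fun k => S.not_dvd_index (k.trans (index_dvd_of_le e))).symm
  -- proper normal subgroups do not contain `S'` and meet `S` inside `P (n - 1)`
  have key : ∀ N : Subgroup G, N.Normal → N ≠ ⊤ → ¬ (P S 2).map (S : Subgroup G).subtype ≤ N ∧
      N.subgroupOf S ≤ P S (n - 1) := by
    intro N hN hne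
    have hS : ¬ (S : Subgroup G) ≤ N := fun e => hne (top N hN e)
    by_cases h4 : 4 ≤ n
    · have k : ¬ (P S (n - 2)).map (S : Subgroup G).subtype ≤ N := fun e => no (four S h h4 e hS)
      refine ⟨fun e => k ((map_mono (P_anti (by omega))).trans e), ?_⟩
      by_contra k1
      by_cases k2 : N.subgroupOf S ≤ P S (n - 2)
      · exact k (map_le_iff_le_comap.2 (eq_P_of_normal h h4 (by omega) k2
          (by rwa [show n - 2 + 1 = n - 1 by omega])).ge)
      · exact k (map_le_iff_le_comap.2 ((le_inf le_rfl (P_anti (by omega))).trans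
          (h.P_le_of_normal h4 (by omega) k2)))
    · obtain rfl : n = 3 := by omega
      have k : ¬ (P S 2).map (S : Subgroup G).subtype ≤ N := fun e => no (three S h e hS)
      refine ⟨k, ?_⟩
      by_contra k1
      obtain ⟨x, hx, hx1, h1, -⟩ := PG.exists_mem_omegaCenterOver h.isPGroup ⊥ (N.subgroupOf S)
        (fun e => k1 (e.trans bot_le))
      have hxz : x ∈ P S 2 := by
        rw [← center3 h, mem_center_iff]
        exact fun g => (commutatorElement_eq_one_iff_commute.1 (mem_bot.1 (h1 g).1)).eq.symm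
      refine k (map_le_iff_le_comap.2 ?_)
      rw [h.sup_zpowers (Or.inl le_rfl) hxz (by rwa [h.P_eq_bot (by omega)]), h.P_eq_bot (by omega), bot_sup_eq]
      exact zpowers_le.2 hx
  have small : ∀ N : Subgroup G, N.Normal → N ≠ ⊤ → N ≤ (P S (n - 1)).map (S : Subgroup G).subtype := by
    intro N hN hne
    have k := (key N hN hne).2
    have k1 : N ≤ (S : Subgroup G) := le_of_inf S hcore fun x hx =>
      ⟨⟨x, hx.2⟩, P_anti (by omega : 2 ≤ n - 1) (k hx.1), rfl⟩
    exact fun x hx => ⟨⟨x, k1 hx⟩, k hx, rfl⟩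
  have cen : ∀ N : Subgroup G, N.Normal → N ≠ ⊤ → N ≤ center G := by
    intro N hN hne
    have : centralizer (N : Set G) = ⊤ := top _ inferInstance fun s hs x hx => by
      obtain ⟨z, hz, rfl⟩ := small N hN hne hx
      exact (congrArg Subtype.val (mem_center_iff.1 (h.P_le_center hz) ⟨s, hs⟩)).symm
    exact centralizer_eq_top_iff_subset.1 this
  have perf : _root_.commutator G = ⊤ := by
    by_contra k
    refine (key _ inferInstance k).1 ?_
    rw [P_two, _root_.commutator_def, map_commutator]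
    exact commutator_mono le_top le_top
  have zne : center G ≠ ⊤ := fun e => by
    refine h.P_ne_bot (i := 2) (by omega) (eq_bot_iff.2 ?_)
    exact commutator_le.2 fun a _ b _ => commutatorElement_eq_one_iff_mul_comm.2
      (Subtype.ext (mem_center_iff.1 (e.ge (mem_top (b : G))) a))
  refine ⟨⟨⟨perf⟩, ?_⟩, ?_⟩
  · have : Nontrivial (G ⧸ center G) := QuotientGroup.nontrivial_iff.2 zne
    refine ⟨fun M hM => ?_⟩
    by_cases k : M.comap (QuotientGroup.mk' (center G)) = ⊤
    · right
      rw [← map_comap_eq_self_of_surjective (QuotientGroup.mk'_surjective (center G)) M, k]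
      exact map_top_of_surjective _ (QuotientGroup.mk'_surjective _)
    · left
      rw [← map_comap_eq_self_of_surjective (QuotientGroup.mk'_surjective (center G)) M,
        Subgroup.map_eq_bot_iff, QuotientGroup.ker_mk']
      exact cen _ (hM.comap _) k
  · have := card_le_of_le (small _ inferInstance zne)
    rwa [card_map_of_injective (subtype_injective _), h.card_P (j := 1) (by omega) (by omega), pow_one] at this

end CL.MCDich
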