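/-
Groups in which normalizers of `{p, q}`-subgroups are maximal: the socle is `PSL₂(q)`.
-/
import Mathlib
import Cfsg.Agent.FGS.MaxNorm1
import Cfsg.Agent.FGS.MinWit
import Cfsg.Agent.FGS.Dedekind
import Cfsg.Agent.TECH.S2L.Simple
import Cfsg.Agent.TECH.S2L.MinExc

set_option autoImplicit false
set_option maxRecDepth 100000

namespace CL.MaxN

open Subgroup Cfsg Equiv
open scoped MatrixGroups

variable {G : Type*} [Group G]

theorem not_pa_S6 : ¬ PA (Perm (Fin 6)) := fun h =>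
  absurd (h.comm Nat.prime_two Nat.prime_three (by decide) (a := swap 0 1)
    (b := swap 2 3 * swap 3 4) (g := swap 4 5) (by decide) (by decide) (by decide) (by decide)
    (by decide)) (by decide)

theorem not_pa_A7 : ¬ PA (alternatingGroup (Fin 7)) := fun h => by
  obtain ⟨i, hi, j, hj, e⟩ := h.mem Nat.prime_three Nat.prime_two (by decide)
    (a := ⟨swap 0 1 * swap 1 2, Perm.mem_alternatingGroup.2 (by decide)⟩)
    (b := ⟨swap 3 4 * swap 5 6, Perm.mem_alternatingGroup.2 (by decide)⟩)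
    (g := ⟨swap 3 4 * swap 4 5, Perm.mem_alternatingGroup.2 (by decide)⟩)
    (by decide) (by decide) (by decide) ⟨1, by decide⟩ ⟨1, by decide⟩
  revert i j
  decide

theorem not_pa_SL23 : ¬ PA SL(2, ZMod 3) := fun h =>
  absurd (h.comm Nat.prime_two Nat.prime_three (by decide) (a := -1)
    (b := ⟨!![1, 1; 0, 1], by decide⟩) (g := ⟨!![1, 0; 1, 1], by decide⟩) (by simp)
    (by decide +kernel) (by decide +kernel) (by decide +kernel) (by decide +kernel))
    (by decide +kernel)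

open CL.Golay CL.MathMdl in
theorem not_pa_M11 : ¬ PA Spor.M11 := fun h => by
  obtain ⟨a, ha, ra⟩ := in11 (P := 970499966350631336865513127433832480) (by decide +kernel)
  obtain ⟨b, hb, rb⟩ := in11 (P := 221550289410297402012191048719174720) (by decide +kernel)
  obtain ⟨g, hg, rg⟩ := in11 (P := 983549310955746530506231437997410400) (by decide +kernel)
  have rc := R.mul (R.mul rg rb) (R.inv rg)
  refine absurd ((R.comp24_eq_iff rc rb rb rc).2 (congrArg Subtype.val (h.comm Nat.prime_two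
    Nat.prime_three (by decide) (a := ⟨a, ha⟩) (b := ⟨b, hb⟩) (g := ⟨g, hg⟩) (Subtype.ext ?_)
    (fun e => ?_) (Subtype.ext ?_) (Subtype.ext ?_) (Subtype.ext ?_)))) (by decide +kernel)
  · exact (pow_two a).trans ((R.comp24_eq_one_iff ra ra).1 (by decide +kernel))
  · exact absurd ((R.comp24_eq_one_iff ra R.one).2 (by simpa using e)) (by decide +kernel)
  · exact (pow_three' b).trans ((R.comp24_eq_one_iff (R.mul rb rb) rb).1 (by decide +kernel))
  · exact (R.comp24_eq_iff rb ra ra rb).1 (by decide +kernel)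
  · exact (R.comp24_eq_iff rg ra ra rg).1 (by decide +kernel)

theorem not_pd_sz [Finite G] (h : Lie.IsoSuzuki G) : ¬ PD G := fun hd => by
  obtain ⟨F, _, _, _, m, hm, hF, ⟨M⟩⟩ := S4F.exists_model h
  obtain ⟨t, ht0, ht1⟩ := Sz.exists_ne_zero_one hm hF
  have h1 : M.u 0 1 ≠ 1 := by simp [M.u_eq_one_iff]
  have h2 := hd (M.u 0 1) M.U h1 (M.u_mem_U _ _) (pq_of_isPGroup Nat.prime_two M.isPGroup_U)
    (fun x hx => M.normalizer_U ▸ M.mem_B_of_conj_mem_U (M.u_mem_U _ _) h1 hx)
    (M.h (Units.mk0 t ht0)) (M.normalizer_U ▸ M.h_mem_B _)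
  rcases CL.Ded.eq_of_sq_eq_one (by rw [pow_two, M.u_zero_sq]) h2 with e | e
  · exact h1 (by simpa using e)
  · rcases M.h_conj_u_eq (mul_inv_eq_iff_eq_mul.1 e) with e | e
    · exact ht1 (congrArg Units.val e)
    · exact one_ne_zero e.2

theorem exists_psl2 [Finite G] [IsSimpleGroup G] (hG : ¬ Group.IsSolvable G) (ha : PA G)
    (hd : PD G) : ∃ (F : Type) (_ : Field F) (_ : Fintype F), 4 ≤ Fintype.card F ∧
      Nonempty (G ≃* PSL(2, F)) := by
  have hN := ha.isNGroup
  rcases CL.S2L.simple (fun k => hG (isSolvable_of_isMulCommutative G))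
    fun N ⟨T, h⟩ => hN N ⟨2, T, Nat.prime_two, h⟩ with h | h | ⟨F, _, _, n, hn, hF, ⟨e⟩⟩ |
      ⟨F, _, _, hF, ⟨e⟩⟩ | ⟨F, _, _, hF, ⟨e⟩⟩ | ⟨⟨e⟩⟩ | ⟨⟨e⟩⟩ | h
  · exact h
  · exact absurd hd (not_pd_sz h)
  · exact absurd hN (CL.S2L.not_isNGroup_psu3 hF (Nat.pow_le_pow_right (n := 2) (by norm_num) hn) e)
  · obtain ⟨e'⟩ := CL.MinW.nonempty_psl33 hF
    exact absurd ((ha.of_inj (f := (e.trans e').symm.toMonoidHom) (e.trans e').symm.injective).of_inj
      (f := CL.Fus.gl2ToSL3.comp Matrix.SpecialLinearGroup.toGL)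
      (CL.Fus.gl2ToSL3_injective.comp Matrix.SpecialLinearGroup.toGL_injective)) not_pa_SL23
  · have hF' : Fintype.card F = 3 ^ 2 := hF
    obtain ⟨e'⟩ := CL.U33.nonempty_equiv hF'
    obtain ⟨i⟩ := CL.Uni.nonempty_SU_two_equiv hF' (K := ZMod 3) (by simp)
    let j : SU 2 F 3 →* GU 2 F 3 :=
      (Matrix.SpecialLinearGroup.toGL.comp (SU 2 F 3).subtype).codRestrict _ fun g => g.2
    have hj : Function.Injective j := fun a b hab =>
      Subtype.ext (Matrix.SpecialLinearGroup.toGL_injective (congrArg Subtype.val hab))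
    exact absurd ((ha.of_inj (f := (e'.trans e.symm).toMonoidHom) (e'.trans e.symm).injective).of_inj
      (f := (CL.Fus.gu2ToSU3 hF').comp (j.comp i.symm.toMonoidHom))
      ((CL.Fus.gu2ToSU3_injective hF').comp (hj.comp i.symm.injective))) not_pa_SL23
  · exact absurd (ha.of_inj (f := e.symm.toMonoidHom) e.symm.injective) not_pa_A7
  · exact absurd (ha.of_inj (f := e.symm.toMonoidHom) e.symm.injective) not_pa_M11
  · obtain ⟨φ, hφ⟩ := h.2.sym
    exact absurd (ha.of_inj hφ) not_pa_S6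

end CL.MaxN
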