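/-
Groups in which normalizers of `{p, q}`-subgroups are maximal: the quotient by the radical.
-/
import Mathlib
import Cfsg.Agent.FGS.MaxNorm2
import Cfsg.Agent.FGS.MaxNorm4

set_option autoImplicit false

namespace CL.MaxN

open Subgroup Cfsg CL.Dickson
open scoped MatrixGroups

variable {T : Type*} [Group T] [Finite T] {F : Type*} [Field F]

omit [Finite T] in
theorem exists_cov [Fintype F] (e : T ≃* PSL(2, F)) : ∃ φ : SL(2, F) →* T, Cov φ := by
  classical
  exact ⟨e.symm.toMonoidHom.comp (GL2.pslMk F), e.symm.surjective.comp GL2.pslMk_surjective,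
    fun x y => e.symm.injective.eq_iff.trans GL2.pslMk_eq_iff⟩

theorem neg_ap (g : SL(2, F)) (i j : Fin 2) : (-g).1 i j = -g.1 i j := rfl

theorem ap_eq {g h : SL(2, F)} (e : g = h) (i j : Fin 2) : g.1 i j = h.1 i j := by rw [e]

theorem sq_mem_of_pd {φ : SL(2, F) →* T} (h : Cov φ) (hd : PD T) (p : ℕ) [hp : Fact p.Prime]
    [CharP F p] (x : F) : ∃ n : ℤ, x ^ 2 = n := by
  by_cases hx : x = 0
  · exact ⟨0, by simp [hx]⟩
  let U : Subgroup T :=
    { carrier := Set.range fun t => φ (u t)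
      one_mem' := ⟨0, by simp [u_zero]⟩
      mul_mem' := by rintro _ _ ⟨s, rfl⟩ ⟨t, rfl⟩; exact ⟨s + t, by simp [u_add]⟩
      inv_mem' := by rintro _ ⟨s, rfl⟩; exact ⟨-s, by simp [u_neg]⟩ }
  have hU : IsPGroup p U := by
    rintro ⟨_, t, rfl⟩
    exact ⟨1, Subtype.ext (by simp [← map_pow, u_pow, u_zero])⟩
  have key : ∀ y : SL(2, F), y.1 1 0 = 0 → ∀ t, y * u t * y⁻¹ = u (y.1 0 0 ^ 2 * t) := fun y hy t => by
    have := det2 y
    rw [hy] at this
    apply ext2 <;> simp only [mul_apply2, inv00, inv01, inv10, inv11, u00, u01, u10, u11, hy]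
    · linear_combination this
    · ring
    · ring
    · linear_combination this
  have nrm : ∀ y : SL(2, F), y.1 1 0 = 0 → φ y ∈ normalizer (U : Set T) := fun y hy =>
    mem_normalizer_fintype (by
      rintro _ ⟨t, rfl⟩
      exact ⟨_, by rw [← map_inv, ← map_mul, ← map_mul, key y hy]⟩)
  have h1 := hd (φ (u 1)) U (fun e => by
      rcases (h.one _).1 e with e | e <;> simpa [u01, one01, neg_ap] using ap_eq e 0 1)
    ⟨1, rfl⟩ (pq_of_isPGroup hp.out hU) (fun y hy => by
      obtain ⟨y, rfl⟩ := h.surj y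
      obtain ⟨t, ht⟩ := hy
      refine nrm y ?_
      rw [← map_inv, ← map_mul, ← map_mul] at ht
      have : (y * u 1 * y⁻¹).1 1 0 = 0 := by
        rcases (h.eq _ _).1 ht.symm with e | e <;> simpa [u10, neg_ap] using ap_eq e 1 0
      simp only [mul_apply2, inv00, inv10, u00, u01, u10, u11] at this
      exact pow_eq_zero_iff two_ne_zero |>.1 (by linear_combination -this))
    _ (nrm (mk2 x 0 0 x⁻¹ (by simp [hx])) (mk10 ..))
  obtain ⟨n, hn⟩ := (Submonoid.mem_powers_iff _ _).1 (mem_powers_iff_mem_zpowers.2 h1)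
  rw [← map_inv, ← map_mul, ← map_mul, key _ (mk10 ..), ← map_pow, u_pow, mk00] at hn
  rcases (h.eq _ _).1 hn with e | e
  · exact ⟨n, by simpa [u01] using (ap_eq e 0 1).symm⟩
  · exact ⟨-n, by have := ap_eq e 0 1; simp [u01, neg_ap] at this; simp [this]⟩

theorem exists_equiv_of_pd [Fintype F] {φ : SL(2, F) →* T} (h : Cov φ) (hd : PD T) :
    ∃ p, ∃ _ : Fact p.Prime, Nonempty (ZMod p ≃+* F) := by
  obtain ⟨p, hc⟩ := CharP.exists F
  have hp := Fact.mk (CharP.char_is_prime F p)
  let f := ZMod.castHom (dvd_refl p) F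
  have sq : ∀ x : F, x ^ 2 ∈ f.fieldRange := fun x => by
    obtain ⟨n, hn⟩ := sq_mem_of_pd h hd p x
    exact hn ▸ intCast_mem _ n
  refine ⟨p, hp, ⟨RingEquiv.ofBijective f ⟨f.injective, fun x => show x ∈ f.fieldRange from ?_⟩⟩⟩
  by_cases h2 : (2 : F) = 0
  · obtain ⟨y, rfl⟩ := FiniteField.isSquare_of_char_two
      (CharP.ringChar_of_prime_eq_zero Nat.prime_two (by exact_mod_cast h2)) x
    exact pow_two y ▸ sq y
  · rw [show x = ((x + 1) ^ 2 - (x - 1) ^ 2) / 2 ^ 2 by field_simp; ring]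
    exact div_mem (sub_mem (sq _) (sq _)) (sq _)

theorem not_pa_large [Fintype F] {φ : SL(2, F) →* T} (h : Cov φ) (h2 : (2 : F) ≠ 0)
    (h3 : (3 : F) ≠ 0) (h5 : (5 : F) ≠ 0) (h7 : (7 : F) ≠ 0) (h11 : (11 : F) ≠ 0)
    (h13 : (13 : F) ≠ 0) : ¬ PA T := fun ha => by
  classical
  obtain ⟨x, y, hxy⟩ := MinW.exists_quad h2 h3 0 1 0
  let A : SL(2, F) := mk2 0 (-1) 1 (-1) (by ring)
  let S : SL(2, F) := mk2 (x + y) (y - x) (2 * y) (-(x + y)) (by linear_combination -hxy)
  let C : SL(2, F) := mk2 (8 / 7) (-3 / 7) (3 / 7) (5 / 7) (by field_simp; ring)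
  have A3 : A ^ 3 = 1 := by
    rw [pow_three']
    apply ext2 <;> simp only [A, mul_apply2, mk00, mk01, mk10, mk11, one00, one01, one10, one11] <;> ring
  have S2 : S * S = -1 := by
    apply ext2 <;> simp only [S, mul_apply2, mk00, mk01, mk10, mk11, one00, one01, one10, one11, neg_ap]
    · linear_combination hxy
    · ring
    · ring
    · linear_combination hxy
  have SA : S * A = A ^ 2 * S := by
    rw [pow_two]
    apply ext2 <;> simp only [A, S, mul_apply2, mk00, mk01, mk10, mk11] <;> ring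
  have CA : C * A = A * C := by
    apply ext2 <;> simp only [A, C, mul_apply2, mk00, mk01, mk10, mk11] <;> ring
  have CS : C * S * C = S := by
    apply ext2 <;> simp only [S, C, mul_apply2, mk00, mk01, mk10, mk11] <;> field_simp <;> ring
  obtain ⟨i, hi, j, hj, e⟩ := ha.mem Nat.prime_three Nat.prime_two (by decide) (a := φ A) (b := φ S)
    (g := φ C) (by rw [← map_pow, A3, map_one])
    (fun e => by rcases (h.one _).1 e with e | e <;> simpa [A, mk10, one10, neg_ap] using ap_eq e 1 0)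
    (by rw [pow_two, ← map_mul, S2]; exact (h.one _).2 (.inr rfl))
    (by rw [← map_mul, SA, map_mul, mul_inv_cancel_right, map_pow]; exact npow_mem_zpowers _ _)
    (by rw [← map_mul, CA, map_mul, mul_inv_cancel_right]; exact mem_zpowers _)
  have k : φ C * φ S * (φ C)⁻¹ = φ C * φ C * φ S := by
    rw [mul_inv_eq_iff_eq_mul]
    simp only [← map_mul]
    rw [mul_assoc C C, mul_assoc C, CS]
  have cA : Commute (φ C) (φ A) := by rw [Commute, SemiconjBy, ← map_mul, CA, map_mul]
  interval_cases j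
  · rw [pow_zero, mul_one, mul_inv_eq_iff_eq_mul, ← (cA.pow_right i).eq, mul_right_inj] at e
    have : φ (A * A) = φ A := by
      have := congrArg φ SA
      rw [map_mul, map_mul, e, ← pow_succ, pow_succ', pow_two] at this
      exact (mul_right_cancel this).symm
    rw [map_mul, mul_eq_left] at this
    rcases (h.one _).1 this with e | e <;> simpa [A, mk10, one10, neg_ap] using ap_eq e 1 0
  · rw [k, pow_one, mul_left_inj, ← map_mul, ← map_pow, h.eq] at e
    interval_cases i
    · have : (C * C).1 1 0 = 0 := by rcases e with e | e <;> simpa [one10, neg_ap] using ap_eq e 1 0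
      simp only [C, mul_apply2, mk00, mk10, mk11] at this
      field_simp at this
      exact mul_ne_zero h3 h13 (by linear_combination this)
    · have : (C * C).1 0 0 = 0 := by rcases e with e | e <;> simpa [A, mk00, neg_ap] using ap_eq e 0 0
      simp only [C, mul_apply2, mk00, mk01, mk10] at this
      field_simp at this
      exact mul_ne_zero h5 h11 (by linear_combination this)
    · have : (C * C).1 1 1 = 0 := by
        rcases e with e | e <;> rw [e] <;>
          simp only [A, pow_two, mul_apply2, mk01, mk10, mk11, neg_ap] <;> ring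
      simp only [C, mul_apply2, mk01, mk10, mk11] at this
      field_simp at this
      exact pow_ne_zero 4 h2 (by linear_combination this)

theorem HQ.exists_cov [Nontrivial T] (h : HQ T) (hR : solvableRadical T = ⊥) :
    ∃ φ : SL(2, ZMod 13) →* T, Cov φ := by
  obtain ⟨M, _, _, hM, hC⟩ := exists_socle h.pa.isNGroup hR
  have ha := h.pa.of_inj M.subtype_injective
  have hd := h.pd hM
  obtain ⟨F, _, _, h4, ⟨e⟩⟩ := exists_psl2 hM ha hd
  obtain ⟨φ, hφ⟩ := MaxN.exists_cov e
  obtain ⟨p, hp, ⟨i⟩⟩ := exists_equiv_of_pd hφ hd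
  obtain ⟨ψ, hψ⟩ := MaxN.exists_cov (e.trans (Graph.pslCongr i.symm))
  have hc : p = Fintype.card F := by rw [← Fintype.card_congr i.toEquiv, ZMod.card]
  have ne : ∀ q : ℕ, q.Prime → p ≠ q → (q : ZMod p) ≠ 0 := fun q hq k e =>
    k ((Nat.prime_dvd_prime_iff_eq hp.out hq).1 ((ZMod.natCast_eq_zero_iff q p).1 e))
  have top : M = ⊤ → Cov (M.subtype.comp ψ) := fun k =>
    ⟨fun g => by
      obtain ⟨x, hx⟩ := hψ.surj ⟨g, k.ge (mem_top g)⟩
      exact ⟨x, congrArg Subtype.val hx⟩, fun x y => M.subtype_injective.eq_iff.trans (hψ.eq x y)⟩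
  by_cases h5 : p = 5
  · subst h5
    exact absurd hd (not_pd_five hψ)
  by_cases h7 : p = 7
  · subst h7
    exact absurd hd (not_pd_seven hψ)
  by_cases h11 : p = 11
  · subst h11
    exact absurd h (not_hq_eleven (top (h.eq_top hM hC (rig11 hψ))))
  by_cases h13 : p = 13
  · subst h13
    exact ⟨_, top (h.eq_top hM hC (rig13 hψ))⟩
  exact absurd ha (not_pa_large hψ (ne 2 (by norm_num) (by omega)) (ne 3 (by norm_num) (by omega))
    (ne 5 (by norm_num) h5) (ne 7 (by norm_num) h7) (ne 11 (by norm_num) h11)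
    (ne 13 (by norm_num) h13))

end CL.MaxN
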