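import Mathlib
import Cfsg.Agent.PLOC.Symplectic
import Cfsg.Agent.PLOC.PFrattini
import Cfsg.Agent.INV.OddAut
import Cfsg.Agent.SOLV.CoprimeAut

/-!
# 2-groups without a noncyclic abelian subgroup of order 8
-/

set_option autoImplicit false

namespace CL.Min8

open Subgroup CL.PCyc

variable {X : Type*} [Group X]

/-- `Y` contains a noncyclic abelian subgroup of order 8. -/
def Has (Y : Subgroup X) : Prop :=
  ∃ B : Subgroup X, B ≤ Y ∧ IsMulCommutative B ∧ ¬ IsCyclic B ∧ Nat.card B = 8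

theorem Has.mono {Y Y' : Subgroup X} (h : Has Y) (hle : Y ≤ Y') : Has Y' := by
  obtain ⟨B, h1, h2⟩ := h
  exact ⟨B, h1.trans hle, h2⟩

theorem isMulCommutative_of_equiv {G H : Type*} [Group G] [Group H] (e : G ≃* H)
    (h : IsMulCommutative G) : IsMulCommutative H :=
  ⟨⟨fun a b => by
    obtain ⟨a, rfl⟩ := e.surjective a
    obtain ⟨b, rfl⟩ := e.surjective b
    rw [← map_mul, ← map_mul, h.is_comm.comm]⟩⟩

theorem Has.map {G : Type*} [Group G] {Y : Subgroup X} (h : Has Y) (f : X →* G)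
    (hf : Function.Injective f) : Has (Y.map f) := by
  obtain ⟨B, h1, h2, h3, h4⟩ := h
  let e := B.equivMapOfInjective f hf
  refine ⟨B.map f, map_mono h1, isMulCommutative_of_equiv e h2, fun hc => h3 ?_, ?_⟩
  · exact isCyclic_of_surjective e.symm e.symm.surjective
  · rw [← h4]; exact (Nat.card_congr e.toEquiv).symm

theorem has_subgroupOf_iff {Y P : Subgroup X} (hY : Y ≤ P) : Has (Y.subgroupOf P) ↔ Has Y := by
  constructor
  · intro h
    have := h.map P.subtype P.subtype_injective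
    rwa [subgroupOf_map_subtype, inf_eq_left.2 hY] at this
  · rintro ⟨B, h1, h2, h3, h4⟩
    let e := subgroupOfEquivOfLe (h1.trans hY)
    refine ⟨B.subgroupOf P, subgroupOf_mono P h1, isMulCommutative_of_equiv e.symm h2,
      fun hc => h3 ?_, ?_⟩
    · exact isCyclic_of_surjective e e.surjective
    · rw [← h4]; exact Nat.card_congr e.toEquiv

theorem has_top_iff (P : Subgroup X) : Has (⊤ : Subgroup P) ↔ Has P := by
  rw [← subgroupOf_self P]; exact has_subgroupOf_iff le_rfl

theorem has_of_abelian [Finite X] {B : Subgroup X} (hB : IsPGroup 2 B) [hc : IsMulCommutative B]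
    (hnc : ¬ IsCyclic B) (h8 : 8 ≤ Nat.card B) : Has B := by
  obtain ⟨E, hEB, hE, hE4⟩ := exists_elemAb_le_of_not_isCyclic hB hnc
  obtain ⟨n, hn⟩ := IsPGroup.iff_card.1 hB
  have h3 : 3 ≤ n := by
    by_contra h
    have : n ≤ 2 := by omega
    have := Nat.pow_le_pow_right (show 0 < 2 by norm_num) this
    omega
  have hE' : Nat.card (E.subgroupOf B) = 2 ^ 2 := by
    rw [← hE4]; exact Nat.card_congr (subgroupOfEquivOfLe hEB).toEquiv
  obtain ⟨K, hK, hEK⟩ := Sylow.exists_subgroup_card_pow_prime_le 2 (n := 2) (m := 3)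
    (hn ▸ pow_dvd_pow 2 h3) (E.subgroupOf B) hE' (by norm_num)
  rw [← has_top_iff]
  refine ⟨K, le_top, inferInstance, fun hK' => ?_, hK⟩
  have h1 : IsCyclic (E.subgroupOf B) := Subgroup.isCyclic_of_le hEK
  have h2 : IsCyclic E :=
    isCyclic_of_surjective (subgroupOfEquivOfLe hEB) (subgroupOfEquivOfLe hEB).surjective
  exact not_isCyclic_of_elemAb Nat.prime_two hE (by omega) h2

theorem not_isCyclic_of_exp {B : Subgroup X} (h8 : 8 ≤ Nat.card B) (h4 : ∀ x ∈ B, x ^ 4 = 1) :
    ¬ IsCyclic B := by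
  intro hc
  obtain ⟨g, hg⟩ := IsCyclic.exists_ofOrder_eq_natCard (α := B)
  have h1 : g ^ 4 = 1 := Subtype.ext (h4 g g.2)
  have := Nat.le_of_dvd (by norm_num) (orderOf_dvd_of_pow_eq_one h1)
  omega

theorem has_sup [Finite X] (hX : IsPGroup 2 X) {W Y : Subgroup X} (hW : IsMulCommutative W) {y : X}
    (hy : y ∈ centralizer (W : Set X)) (hyW : y ∉ W) (h4 : 4 ≤ Nat.card W) (hWY : W ≤ Y)
    (hyY : y ∈ Y) (hnc : ¬ IsCyclic W ∨ ∀ x ∈ Y, x ^ 4 = 1) : Has Y := by
  have hle : W ⊔ zpowers y ≤ Y := sup_le hWY ((zpowers_le).2 hyY)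
  have hlt : W < W ⊔ zpowers y :=
    lt_of_le_of_ne le_sup_left fun h => hyW (h ▸ (le_sup_right : zpowers y ≤ _) (mem_zpowers y))
  have h8 := mul_card_le_of_lt (hX.to_subgroup _) hlt
  have := CL.PG.isMulCommutative_sup_zpowers hW hy
  refine (has_of_abelian (hX.to_subgroup _) ?_ (by omega)).mono hle
  rcases hnc with h | h
  · exact fun hc => h (Subgroup.isCyclic_of_le (le_sup_left : W ≤ W ⊔ zpowers y))
  · exact not_isCyclic_of_exp (by omega) fun x hx => h x (hle hx)

theorem not_has_of_isCyclic (h : IsCyclic X) : ¬ Has (⊤ : Subgroup X) := by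
  rintro ⟨B, -, -, h3, -⟩
  exact h3 inferInstance

theorem not_has_of_isDQS [Finite X] {n : ℕ} {a b : X} (h : IsDQS X n a b) :
    ¬ Has (⊤ : Subgroup X) := by
  rintro ⟨B, -, h2, h3, h4⟩
  have : ¬ B ≤ zpowers a := fun hle => h3 (Subgroup.isCyclic_of_le hle)
  obtain ⟨x, hxB, hx⟩ := SetLike.not_le_iff_exists.1 this
  have h5 := h.card_centralizer_le hx
  have h6 : B ≤ centralizer {x} := fun y hy => by
    rw [mem_centralizer_singleton_iff]
    exact congrArg Subtype.val (h2.is_comm.comm (⟨y, hy⟩ : B) ⟨x, hxB⟩)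
  have := Subgroup.card_le_of_le h6
  omega

theorem isDQS_of_selfCent [Finite X] (hX : IsPGroup 2 X) {H : Subgroup X}
    (hC : centralizer (H : Set X) ≤ H)
    (hH : Nat.card H = 4 ∨ (Nat.card H = 8 ∧ ¬ IsMulCommutative H)) (h8 : 8 ≤ Nat.card X) :
    ∃ n a b, IsDQS X n a b := by
  obtain ⟨n, hn⟩ := IsPGroup.iff_card.1 hX
  have h3 : 3 ≤ n := by
    by_contra h
    have : n ≤ 2 := by omega
    have := Nat.pow_le_pow_right (show 0 < 2 by norm_num) this
    omega
  obtain ⟨m, rfl⟩ : ∃ m, n = m + 3 := ⟨n - 3, by omega⟩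
  have hcl : Group.nilpotencyClass X = m + 3 - 1 := by
    rcases hH with h | ⟨h, h'⟩
    · exact nilpotencyClass_of_selfCentralizing hn (A := H) h hC
    · exact nilpotencyClass_of_nonabelian_cube hn (B := H) h h' hC
  obtain ⟨a, b, h⟩ := exists_isDQS_of_nilpotencyClass hn hcl
  exact ⟨_, a, b, h⟩

theorem card_eq_four_of_not_has [Finite X] {B : Subgroup X} (hB : IsPGroup 2 B)
    [IsMulCommutative B] (hnc : ¬ IsCyclic B) (h : ¬ Has B) :
    Nat.card B = 4 ∧ ∀ x ∈ B, x ^ 2 = 1 := by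
  obtain ⟨E, hEB, hE, hE4⟩ := exists_elemAb_le_of_not_isCyclic hB hnc
  have h8 : ¬ 8 ≤ Nat.card B := fun h8 => h (has_of_abelian hB hnc h8)
  have : E = B := by
    by_contra hne
    have := mul_card_le_of_lt hB (lt_of_le_of_ne hEB hne)
    omega
  subst this
  exact ⟨hE4, hE.2⟩

theorem classify [Finite X] (hX : IsPGroup 2 X) (h : ¬ Has (⊤ : Subgroup X)) :
    IsCyclic X ∨ Nat.card X = 4 ∨ ∃ n a b, IsDQS X n a b := by
  rcases isCyclic_or_normal_elemAb_or_isDQS hX with h1 | ⟨E, -, hE, hE4⟩ | ⟨-, h1⟩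
  · exact Or.inl h1
  · right
    have hC : centralizer (E : Set X) ≤ E := fun y hy => by
      by_contra hyE
      exact h (has_sup hX hE.1 hy hyE (by omega) le_top (mem_top y)
        (Or.inl (not_isCyclic_of_elemAb Nat.prime_two hE (by omega))))
    by_cases hE' : E = ⊤
    · left
      rw [← Subgroup.card_top, ← hE', hE4]; norm_num
    · right
      have := mul_card_le_of_lt (hX.to_subgroup ⊤) (lt_top_iff_ne_top.2 hE')
      rw [Subgroup.card_top] at this
      exact isDQS_of_selfCent hX hC (Or.inl hE4) (by omega)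
  · exact Or.inr (Or.inr h1)

theorem pow_four_of_notMem [Finite X] {n : ℕ} {a b : X} (h : IsDQS X n a b) {x : X}
    (hx : x ∉ zpowers a) : orderOf x ≤ 4 := by
  have h5 := h.card_centralizer_le hx
  have h6 : zpowers x ≤ centralizer {x} := by
    rw [zpowers_le, mem_centralizer_singleton_iff]
  have := Subgroup.card_le_of_le h6
  rw [Nat.card_zpowers] at this
  omega

theorem isPGroup_of_isDQS [Finite X] {n : ℕ} {a b : X} (h : IsDQS X n a b) : IsPGroup 2 X :=
  IsPGroup.of_card h.card_eq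

theorem isPGroup_mulAut_of_three_le [Finite X] {n : ℕ} {a b : X} (h : IsDQS X n a b)
    (hn : 3 ≤ n) : IsPGroup 2 (MulAut X) := by
  refine CL.OddAut.isPGroup_mulAut_of_cyclic_index_two (isPGroup_of_isDQS h) a h.index_eq
    fun α => ?_
  by_contra hx
  have h1 := pow_four_of_notMem h hx
  rw [MulEquiv.orderOf_eq, h.orderOf_eq] at h1
  have := Nat.pow_le_pow_right (show 0 < 2 by norm_num) hn
  omega

theorem isPGroup_mulAut_or_quaternion [Finite X] {n : ℕ} {a b : X} (h : IsDQS X n a b) :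
    IsPGroup 2 (MulAut X) ∨ ∃ k, Nonempty (X ≃* QuaternionGroup (2 ^ (k + 1))) := by
  by_cases hn : 3 ≤ n
  · exact Or.inl (isPGroup_mulAut_of_three_le h hn)
  have h2 := h.two_le
  rcases h.trichotomy with ⟨hb, -⟩ | hq | ⟨h3, -⟩
  · left
    have hinv : b * a * b⁻¹ = a⁻¹ := by
      rcases h.rel with h1 | h1 | h1
      · exact h1.2
      · exact h1.2
      · exact absurd h1.1 hn
    refine CL.OddAut.isPGroup_mulAut_of_cyclic_index_two (isPGroup_of_isDQS h) a h.index_eq
      fun α => ?_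
    by_contra hx
    obtain ⟨y, ⟨i, rfl⟩, hy⟩ := h.exists_eq_mul hx
    have h3 : (α a) ^ 2 = 1 := by
      rw [hy]
      have h4 : b * a ^ i * b⁻¹ = (a ^ i)⁻¹ := by
        rw [← conj_zpow, hinv, inv_zpow]
      calc (a ^ i * b) ^ 2 = a ^ i * (b * a ^ i * b⁻¹) * b ^ 2 := by simp only [pow_two]; group
        _ = 1 := by rw [h4, hb]; group
    have h5 := Nat.le_of_dvd (by norm_num) (orderOf_dvd_of_pow_eq_one h3)
    rw [MulEquiv.orderOf_eq, h.orderOf_eq] at h5
    have := Nat.pow_le_pow_right (show 0 < 2 by norm_num) h2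
    omega
  · right
    obtain rfl : n = 2 := by omega
    exact ⟨0, hq⟩
  · exact absurd h3 hn

section act
variable {A : Type*} [Group A] [MulDistribMulAction A X]

/-- `Y` is invariant under the action. -/
def Inv (A : Type*) [Group A] [MulDistribMulAction A X] (Y : Subgroup X) : Prop :=
  ∀ a : A, ∀ y ∈ Y, a • y ∈ Y

theorem Inv.of_char (Y : Subgroup X) [Y.Characteristic] : Inv A Y :=
  fun a y hy => smul_mem_of_characteristic Y a y hy

/-- The action on an invariant subgroup. -/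
@[reducible] def Inv.action {Y : Subgroup X} (h : Inv A Y) : MulDistribMulAction A Y where
  smul a y := ⟨a • (y : X), h a y y.2⟩
  one_smul y := Subtype.ext (one_smul A (y : X))
  mul_smul a b y := Subtype.ext (mul_smul a b (y : X))
  smul_mul a x y := Subtype.ext (smul_mul' a (x : X) (y : X))
  smul_one a := Subtype.ext (smul_one a)

theorem Inv.fix_of_isPGroup [Finite A] (hA : Odd (Nat.card A)) {Y : Subgroup X} (h : Inv A Y)
    (hY : IsPGroup 2 (MulAut Y)) : Y ≤ actFix X (⊤ : Subgroup A) := by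
  intro y hy a _
  letI := h.action
  let φ := MulDistribMulAction.toMulAut A Y
  obtain ⟨k, hk⟩ := hY (φ a)
  have h1 : (φ a) ^ Nat.card A = 1 := by rw [← map_pow, pow_card_eq_one', map_one]
  have h2 : orderOf (φ a) = 1 := Nat.eq_one_of_dvd_coprimes
    (Nat.Coprime.pow_left k (Nat.coprime_two_left.2 hA)) (orderOf_dvd_of_pow_eq_one hk)
    (orderOf_dvd_of_pow_eq_one h1)
  have h3 : φ a = 1 := orderOf_eq_one_iff.1 h2
  exact congrArg Subtype.val (show φ a ⟨y, hy⟩ = ⟨y, hy⟩ by rw [h3]; rfl)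

theorem notMem_actComm [Finite A] (hA : Odd (Nat.card A)) {w : X}
    (hw : w ∈ actFix X (⊤ : Subgroup A)) (h2 : w ^ 2 ∈ commutator X) (hw' : w ∉ commutator X) :
    w ∉ actComm (⊤ : Subgroup X) (⊤ : Subgroup A) := by
  classical
  have := Fintype.ofFinite A
  let φ : X →* Abelianization X :=
    { toFun := fun x => ∏ a : A, Abelianization.of (a • x)
      map_one' := by simp
      map_mul' := fun x y => by simp [smul_mul', Finset.prod_mul_distrib] }
  have hφ : ∀ x, φ x = ∏ a : A, Abelianization.of (a • x) := fun _ => rfl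
  have hle : actComm (⊤ : Subgroup X) (⊤ : Subgroup A) ≤ φ.ker := by
    refine (closure_le _).2 ?_
    rintro _ ⟨b, -, h, -, rfl⟩
    rw [SetLike.mem_coe, MonoidHom.mem_ker, map_mul, map_inv, inv_mul_eq_one, hφ, hφ]
    refine (Fintype.prod_equiv (Equiv.mulRight b) _ _ fun a => ?_).symm
    simp [mul_smul]
  intro hmem
  have h1 := hle hmem
  rw [MonoidHom.mem_ker, hφ] at h1
  have h3 : ∀ a : A, a • w = w := fun a => hw a (mem_top a)
  simp only [h3, Finset.prod_const, Finset.card_univ, ← Nat.card_eq_fintype_card] at h1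
  have h4 : (Abelianization.of w) ^ 2 = 1 := by
    rw [← map_pow]; exact (QuotientGroup.eq_one_iff _).2 h2
  obtain ⟨m, hm⟩ := hA
  rw [hm, pow_succ, pow_mul, h4, one_pow, one_mul] at h1
  exact hw' ((QuotientGroup.eq_one_iff _).1 h1)

end act

end CL.Min8
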