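import Mathlib
import Cfsg.Agent.FGS.MinCA2
import Cfsg.Agent.INV.GW.DFAut
import Cfsg.Agent.INV.AbPSL1

/-! Minimal non-CA-groups: computations in `PGL₂(q)`, its automorphism group and `A₇`. -/

set_option autoImplicit false

open Cfsg Subgroup CL CL.MSS CL.AbS CL.GW.DF CL.PGL2 CL.AutPSL CL.Dk
open scoped commutatorElement Pointwise MatrixGroups

namespace CL.MinCA

section pgl

variable {F : Type*} [Field F]

theorem comm_of_unip {x : P1 F} {g a b : PGL(2, F)} (hg : g ∈ unipAt x) (h1 : g ≠ 1)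
    (ha : Commute g a) (hb : Commute g b) : Commute a b := by
  obtain ⟨k, rfl⟩ := exists_smul_inf x
  obtain ⟨c, hc⟩ := mem_unipAt_inf.1 (mem_unipAt_smul.1 hg)
  have hc0 : c ≠ 0 := by
    rintro rfl
    rw [aff_one_zero] at hc
    exact h1 (by simpa [mul_assoc, inv_mul_eq_iff_eq_mul] using hc)
  have key : ∀ a, Commute g a → ∃ d, k⁻¹ * a * k = aff 1 d := by
    intro a ha
    have h2 : Commute (aff 1 c) (k⁻¹ * a * k) := by
      have := ha.conj k⁻¹
      rwa [inv_inv, hc] at this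
    have h3 : (k⁻¹ * a * k) • (inf : P1 F) = inf := by
      refine ((mem_unipAt.1 (mem_unipAt_inf.2 ⟨c, rfl⟩)).2 _ ?_).resolve_right
        fun e => hc0 (aff_eq_one_iff.1 e).2
      rw [← mul_smul, h2.eq, mul_smul, aff_smul_inf]
    obtain ⟨u, d, e⟩ := exists_aff_of_smul_inf h3
    rw [e, Commute, SemiconjBy, aff_mul, aff_mul, aff_inj] at h2
    have h4 : (u : F) = 1 := mul_right_cancel₀ hc0 (by
      have := h2.2
      simp only [Units.val_one, one_mul] at this ⊢
      linear_combination -this)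
    exact ⟨d, by rw [e, show u = 1 from Units.ext h4]⟩
  obtain ⟨d, hd⟩ := key a ha
  obtain ⟨d', hd'⟩ := key b hb
  rw [← commute_conj k⁻¹, inv_inv, hd, hd', Commute, SemiconjBy, aff_mul, aff_mul, aff_inj]
  exact ⟨rfl, by simp [add_comm]⟩

/-- centralizers in `PGL₂(q)` are abelian except for involutions in odd characteristic. -/
theorem comm_pgl [Finite F] {g a b : PGL(2, F)} (h1 : g ≠ 1)
    (h2 : g * g = 1 → Even (Nat.card F)) (ha : Commute g a) (hb : Commute g b) : Commute a b := by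
  obtain ⟨p, hp⟩ := CharP.exists F
  have : Fact p.Prime := ⟨CharP.char_is_prime F p⟩
  by_cases h3 : g ^ p ^ 1 = 1
  · obtain ⟨x, hx⟩ := exists_fixed_of_pow_char_pow p h3
    exact comm_of_unip (mem_unipAt_of_pow_char_pow p hx h3) h1 ha hb
  have h4 : g * g ≠ 1 := fun e => by
    obtain rfl := eq_char_of_dvd_card p Nat.prime_two (even_iff_two_dvd.1 (h2 e))
    exact h3 (by rw [pow_one, sq, e])
  obtain ⟨x, y, hxy, h⟩ := (pow_eq_one_or_mem_pairT (algebraMap F (AlgebraicClosure F)) p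
    g).resolve_left (by simpa using h3)
  let τ : Tor F := ⟨x, y, hxy, fun e => h1 (by rw [e] at h; exact h)⟩
  have h5 : ∀ a, Commute g a → a ∈ τ.T := fun a ha => by
    by_contra hh
    have := τ.inv (τ.mem_N h h1 ha) hh h
    rw [← ha.eq, mul_inv_cancel_right, eq_inv_iff_mul_eq_one] at this
    exact h4 this
  exact τ.commute (h5 a ha) (h5 b hb)

theorem det_w : (!![0, 1; -1, 0] : Matrix (Fin 2) (Fin 2) F).det ≠ 0 := by
  simp [Matrix.det_fin_two]

theorem exists_w (F : Type*) [Field F] : ∃ w ∈ pslIn F, orderOf w = 2 ∧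
    ∀ σ : F ≃+* F, mapG (σ : F →+* F) w = w := by
  refine ⟨ofMat _ det_w, ofMat_mem_pslIn_of_det _ (by simp [Matrix.det_fin_two]),
    orderOf_eq_prime (by rw [sq, ofMat_mul, ofMat_eq_one_iff]; simp)
      (by rw [Ne, ofMat_eq_one_iff]; simp), fun σ => ?_⟩
  rw [mapG_ofMat]
  congr 1
  ext i j
  fin_cases i <;> fin_cases j <;> simp

variable [Finite F]

theorem sg_fld (σ : F ≃+* F) : sg (fld (Fin 2) F σ) = σ :=
  right_eq_of_gam_eq ((exists_gam _).choose_spec.trans (fld_apply σ))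

theorem eq_top_of_mul_mem {X : Type*} [Group X] (h2 : ∀ M : Subgroup X, M.index ≠ 2)
    {H : Subgroup X} (h : ∀ a b, a ∉ H → b ∉ H → a * b ∈ H) : H = ⊤ := by
  by_contra hh
  obtain ⟨a, -, ha⟩ := SetLike.exists_of_lt (lt_top_iff_ne_top.2 hh)
  refine h2 H (index_eq_two_iff'.2 ⟨a, fun b => ?_⟩)
  by_cases hb : b ∈ H
  · exact Or.inr ⟨hb, fun e => ha ((H.mul_mem_cancel_right hb).1 e)⟩
  · exact Or.inl ⟨h a b ha hb, hb⟩

/-- exclusion of field automorphisms. -/
theorem eq_top_of_psl {X : Type*} [Group X] [Finite X] (h2 : ∀ M : Subgroup X, M.index ≠ 2)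
    {N : Subgroup X} [N.Normal] (hC : centralizer (N : Set X) = ⊥) (h3 : 3 < Nat.card F)
    (e : N ≃* PSL(2, F)) (hq : ∀ t ∈ N, orderOf t = 2 → ∀ (a s : X) (l : ℕ), Odd l → a ^ l = 1 →
      Commute t a → Commute t s → Commute a (s * a * s⁻¹)) : N = ⊤ := by
  let φ : X →* MulAut PSL(2, F) := (MulAut.congr e).toMonoidHom.comp MulAut.conjNormal
  have hφ : Function.Injective φ := by
    rw [injective_iff_map_eq_one]
    intro g hg
    refine mem_bot.mp (hC ▸ fun n hn => ?_)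
    have h1 : MulAut.conjNormal (H := N) g = 1 :=
      (MulAut.congr e).injective (hg.trans (map_one _).symm)
    exact (mul_inv_eq_iff_eq_mul.mp (congrArg (fun a : MulAut N => (a ⟨n, hn⟩ : X)) h1)).symm
  have h1 : ∀ n : N, φ n = MulAut.conj (e n) := fun n => by
    ext x
    obtain ⟨x, rfl⟩ := e.surjective x
    simp only [φ, MulAut.conj_apply, ← map_inv, ← map_mul]
    simp only [MulEquiv.toMonoidHom_eq_coe, MonoidHom.comp_apply, MonoidHom.coe_coe,
      MulAut.congr_apply, MulEquiv.trans_apply, MulEquiv.symm_apply_apply]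
    congr 1
  have h4 : ∀ a ∈ LL F, ∃ n ∈ N, φ n = a := fun a ha => by
    rw [LL_eq] at ha
    obtain ⟨s, rfl⟩ := ha
    exact ⟨e.symm s, (e.symm s).2, by rw [h1, e.apply_symm_apply]⟩
  have hc : ∀ {a b : X}, Commute (φ a) (φ b) → Commute a b := fun h =>
    hφ (by rw [map_mul, map_mul, h.eq])
  have hps : ∀ g k : PGL(2, F), g ∉ pslIn F → k ∉ pslIn F → g * k ∈ pslIn F := by
    intro g k hg hk
    rcases Nat.even_or_odd (Nat.card F) with h | h
    · exact (hg (pslIn_eq_top_of_even h ▸ mem_top g)).elim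
    · exact (mul_mem_iff_of_index_two (index_pslIn_of_odd h)).2 (iff_of_false hg hk)
  have h5 : (LL F ⊔ (fld (Fin 2) F).range).comap φ = ⊤ := by
    refine eq_top_of_mul_mem h2 fun a b ha hb => ?_
    obtain ⟨g, hg⟩ := exists_eq (φ a)
    obtain ⟨k, hk⟩ := exists_eq (φ b)
    have h6 : ∀ {g σ}, g ∈ pslIn F → iP F g * fld (Fin 2) F σ ∈ LL F ⊔ (fld (Fin 2) F).range :=
      fun hg => mul_mem_sup (iP_mem.2 hg) ⟨_, rfl⟩
    rw [mem_comap] at ha hb ⊢
    rw [map_mul, hg, hk, mul_assoc, ← mul_assoc (fld _ _ _), fld_mul_iP, mul_assoc, ← mul_assoc,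
      ← map_mul, ← map_mul]
    exact h6 (hps _ _ (fun e => ha (hg ▸ h6 e)) fun e => hb (hk ▸ h6 ((mapG_mem_iff _ _).1 e)))
  let f := (sg (F := F)).comp φ
  have h6 : Odd (Nat.card f.range) := by
    by_contra hh
    letI := IsCyclic.commGroup (α := f.range)
    refine h2 ((powMonoidHom 2 : f.range →* f.range).range.comap f.rangeRestrict) ?_
    rw [index_comap_of_surjective _ f.rangeRestrict_surjective, IsCyclic.index_powMonoidHom_range]
    exact Nat.gcd_eq_right (even_iff_two_dvd.1 (Nat.not_odd_iff_even.1 hh))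
  by_contra hne
  obtain ⟨b, -, hb⟩ := SetLike.exists_of_lt (lt_top_iff_ne_top.2 hne)
  obtain ⟨_, hy, _, ⟨τ, rfl⟩, hyτ⟩ := (mem_sup_of_normal_left).1 (h5.ge (mem_top b))
  obtain ⟨n, hn, rfl⟩ := h4 _ hy
  have h7 : φ (n⁻¹ * b) = fld (Fin 2) F τ := by rw [map_mul, ← hyτ, map_inv, inv_mul_cancel_left]
  have h8 : τ ≠ 1 := by
    rintro rfl
    rw [map_one, ← map_one φ] at h7
    exact hb (by rw [← inv_mul_eq_one.1 (hφ h7)]; exact hn)
  have h9 : Odd (orderOf τ) := h6.of_dvd_nat (f.range.orderOf_dvd_natCard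
    ⟨n⁻¹ * b, by simp only [f, MonoidHom.comp_apply, h7, sg_fld]⟩)
  obtain ⟨l, hl, hlτ⟩ := Nat.exists_prime_and_dvd (mt orderOf_eq_one_iff.1 h8)
  have hσ := orderOf_pow_orderOf_div (orderOf_pos τ).ne' hlτ
  have h10 : φ ((n⁻¹ * b) ^ (orderOf τ / l)) = fld (Fin 2) F (τ ^ (orderOf τ / l)) := by
    rw [map_pow, map_pow, h7]
  generalize (n⁻¹ * b) ^ (orderOf τ / l) = a at h10
  generalize τ ^ (orderOf τ / l) = σ at h10 hσ
  have hlo : Odd l := h9.of_dvd_nat hlτ
  have hal : a ^ l = 1 := hφ (by rw [map_pow, h10, ← map_pow, ← hσ, pow_orderOf_eq_one]; simp)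
  have key : ∀ t ∈ pslIn F, orderOf t = 2 → mapG (σ : F →+* F) t = t → ∀ s ∈ pslIn F,
      Commute t s → ⁅fld (Fin 2) F σ, iP F s⁆ ^ l = 1 := by
    intro t ht ht2 htσ s hs hts
    obtain ⟨t', ht', e1⟩ := h4 _ (iP_mem.2 ht)
    obtain ⟨s', -, e2⟩ := h4 _ (iP_mem.2 hs)
    have := hq t' ht' (by rw [← orderOf_injective φ hφ, e1, orderOf_iP, ht2]) a s' l hlo hal
      (hc (by rw [e1, h10, Commute, SemiconjBy, fld_mul_iP, htσ]))
      (hc (by rw [e1, e2]; exact hts.map _))
    rw [← h10, ← e2, ← map_commutatorElement, ← map_pow,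
      show ⁅a, s'⁆ = a * (s' * a * s'⁻¹)⁻¹ by rw [commutatorElement_def]; group,
      this.inv_right.mul_pow, inv_pow, conj_pow, hal]
    simp
  rcases Nat.even_or_odd (Nat.card F) with h | h
  · have := charP_of_dvd_card Nat.prime_two (even_iff_two_dvd.1 h)
    have h11 : ∀ x, σ x = x := fun x => by
      have h12 := key (aff 1 1) (unipAt_le_pslIn _ (mem_unipAt_inf.2 ⟨_, rfl⟩))
        (orderOf_eq_prime (by rw [aff_one_pow, aff_eq_one_iff]; simp [CharTwo.two_eq_zero])
          (by simp [aff_eq_one_iff])) (by rw [mapG_aff, map_one, map_one])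
        (aff 1 x) (unipAt_le_pslIn _ (mem_unipAt_inf.2 ⟨_, rfl⟩)) (by
          rw [Commute, SemiconjBy, aff_mul, aff_mul, aff_inj]
          exact ⟨rfl, by simp [add_comm]⟩)
      rw [commutatorElement_def, fld_mul_iP, mul_inv_cancel_right, ← map_inv, ← map_mul, ← map_pow,
        ← map_one (iP F), iP_inj.eq_iff, mapG_aff, map_one, aff_inv, aff_mul, inv_one, mul_one,
        aff_one_pow, aff_eq_one_iff] at h12
      obtain ⟨k, rfl⟩ := hlo
      have h13 := h12.2
      simp only [Nat.cast_add, Nat.cast_mul, Nat.cast_ofNat, CharTwo.two_eq_zero, zero_mul,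
        Nat.cast_one, zero_add, one_mul, Units.val_one, RingHom.coe_coe] at h13
      linear_combination h13
    rw [show σ = 1 from RingEquiv.ext h11, orderOf_one] at hσ
    exact hl.one_lt.ne hσ
  · obtain ⟨w, hw, hw2, hwσ⟩ := exists_w F
    refine not_field h h3 hl (by rintro rfl; exact absurd hlo (by decide)) hw2 (a := fld (Fin 2) F σ)
      (by rw [orderOf_injective _ fld_injective, hσ]; exact hlo) (by rw [sg_fld, hσ])
      (by rw [Commute, SemiconjBy, fld_mul_iP, hwσ]) fun s hs hc => ⟨1, ?_⟩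
    rw [pow_one]
    exact key w hw hw2 (hwσ σ) s hs hc

end pgl

section alt

open Equiv Equiv.Perm

theorem alt_aux {x : alternatingGroup (Fin 7)} (y g : Perm (Fin 7)) (k : ℤ)
    (h : (x : Perm (Fin 7)).cycleType = y.cycleType) (h1 : sign g = 1) (h2 : g * y * g⁻¹ = y ^ k)
    (h3 : y * g ≠ g * y) : ∃ g, (∃ k : ℤ, g * x * g⁻¹ = x ^ k) ∧ ¬ Commute x g := by
  obtain ⟨c, hc⟩ := isConj_iff.1 (isConj_iff_cycleType_eq.2 h.symm)
  refine ⟨⟨c * g * c⁻¹, by simp [h1]⟩, ⟨k, Subtype.ext ?_⟩, fun e => h3 ?_⟩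
  · change c * g * c⁻¹ * x * (c * g * c⁻¹)⁻¹ = x ^ k
    rw [← hc, conj_zpow, ← h2]
    group
  · have e' : Commute (x : Perm (Fin 7)) (c * g * c⁻¹) := congrArg Subtype.val e
    rw [← hc] at e'
    exact (commute_conj c).1 e'

theorem alt_seven {x : alternatingGroup (Fin 7)} {r : ℕ} (hr : r.Prime) (hr2 : r ≠ 2)
    (hx : orderOf x = r) : ∃ g, (∃ k : ℤ, g * x * g⁻¹ = x ^ k) ∧ ¬ Commute x g := by
  have hx' : orderOf (x : Perm (Fin 7)) = r := by rw [← hx, orderOf_coe]
  obtain ⟨n, hn⟩ := cycleType_prime_order (hx' ▸ hr)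
  rw [hx'] at hn
  have h1 : (n + 1) * r ≤ 7 := by
    have := (x : Perm (Fin 7)).sum_cycleType_le
    rwa [hn, Multiset.sum_replicate, smul_eq_mul, Fintype.card_fin] at this
  have h2 := hr.two_le
  have h3 : r ≤ 7 := by nlinarith
  have h4 : n ≤ 1 := by
    by_contra hh
    have : 3 * 3 ≤ (n + 1) * r := Nat.mul_le_mul (by omega) (by omega)
    omega
  interval_cases r
  · exact (hr2 rfl).elim
  · interval_cases n
    · exact alt_aux (swap 0 1 * swap 1 2) (swap 1 2 * swap 3 4) 2 (hn.trans (by decide +kernel))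
        (by decide +kernel) (by decide +kernel) (by decide +kernel)
    · exact alt_aux (swap 0 1 * swap 1 2 * swap 3 4 * swap 4 5) (swap 1 2 * swap 4 5) 2
        (hn.trans (by decide +kernel)) (by decide +kernel) (by decide +kernel) (by decide +kernel)
  · exact absurd hr (by decide)
  · obtain rfl : n = 0 := by omega
    exact alt_aux (swap 0 1 * swap 1 2 * swap 2 3 * swap 3 4) (swap 1 4 * swap 2 3) 4
      (hn.trans (by decide +kernel)) (by decide +kernel) (by decide +kernel) (by decide +kernel)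
  · exact absurd hr (by decide)
  · obtain rfl : n = 0 := by omega
    exact alt_aux (finRotate 7) (swap 1 2 * swap 2 4 * swap 3 6 * swap 6 5) 2
      (hn.trans (by decide +kernel)) (by decide +kernel) (by decide +kernel) (by decide +kernel)

end alt

end CL.MinCA
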