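import Mathlib
import Cfsg.Agent.TECH.PIrr
import Cfsg.Agent.FGS.CycMod
import Cfsg.Agent.SOLV.CoprimeSylow
import Cfsg.Agent.SOLV.MinNormal
import Cfsg.Agent.PLOC.Fusion
import Cfsg.Agent.TECH.SylIn

/-! Minimal non-`p`-closed groups. -/

set_option autoImplicit false
open Cfsg
open scoped commutatorElement

namespace CL.FGS.MPC

variable {G : Type*} [Group G]

theorem isPGroup_zpowers_of_orderOf {p : ℕ} {x : G} (hx : orderOf x = p) :
    IsPGroup p (Subgroup.zpowers x) :=
  IsPGroup.of_card (n := 1) (by rw [Nat.card_zpowers, hx, pow_one])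

theorem isPClosed_of_isPGroup' {p : ℕ} (h : IsPGroup p G) : IsPClosed p G :=
  CL.MSS.isPClosed_top_iff.1 (CL.MSS.isPClosed_of_isPGroup (h.to_subgroup ⊤))

theorem isPClosed_of_not_dvd {p : ℕ} [Fact p.Prime] (h : ¬ p ∣ Nat.card G) : IsPClosed p G := by
  intro P
  rw [CL.MSS.eq_bot_of_isPGroup_of_not_dvd (H := ⊤) P.isPGroup' le_top (by simpa using h)]
  infer_instance

/-- In a `p`-closed subgroup, `p`-elements centralize the part of a normal `p'`-subgroup. -/
theorem comm_of_isPClosed [Finite G] {p : ℕ} [hp : Fact p.Prime] {N H : Subgroup G} [N.Normal]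
    (hN : ¬ p ∣ Nat.card N) (hH : IsPClosed p H) {x y : G}
    (hx : IsPGroup p (Subgroup.zpowers x)) (hxH : x ∈ H) (hyH : y ∈ H) (hyN : y ∈ N) :
    x * y = y * x := by
  have hxO : x ∈ pCoreOf p H :=
    CL.MSS.isPClosed_iff.1 hH _ (Subgroup.zpowers_le.2 hxH) hx (Subgroup.mem_zpowers x)
  have := pCore_characteristic p H
  have hn : H ≤ Subgroup.normalizer ((pCoreOf p H : Subgroup G) : Set G) :=
    le_normalizer_map_subtype H (pCore p H)
  have hdis : Disjoint (pCoreOf p H) N := by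
    obtain ⟨k, hk⟩ := (isPGroup_map_pCore (p := p) H.subtype).exists_card_eq
    refine Subgroup.disjoint_of_coprime_natCard ?_
    change (Nat.card ((pCore p H).map H.subtype)).Coprime _
    rw [hk]
    exact ((Nat.Prime.coprime_iff_not_dvd hp.out).2 hN).pow_left _
  rw [← commutatorElement_eq_one_iff_mul_comm]
  refine (Subgroup.disjoint_def.1 hdis) ?_ ?_
  · have := mul_mem hxO (CL.Tr.conj_mem_of_mem_normalizer (hn hyH) (inv_mem hxO))
    simpa [commutatorElement_def, mul_assoc] using this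
  · have := mul_mem (Subgroup.Normal.conj_mem inferInstance y hyN x) (inv_mem hyN)
    simpa [commutatorElement_def, mul_assoc] using this

theorem normal_of_sup_eq_top {A B : Subgroup G} {x : G} (htop : A ⊔ Subgroup.zpowers x = ⊤)
    (hA : A ≤ Subgroup.normalizer (B : Set G)) (hx : x ∈ Subgroup.normalizer (B : Set G)) :
    B.Normal := by
  rw [← Subgroup.normalizer_eq_top_iff, eq_top_iff, ← htop]
  exact sup_le hA (Subgroup.zpowers_le.2 hx)

/-- The order of an elementary abelian minimal normal subgroup supplemented by an element of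
prime order acting nontrivially. -/
theorem card_eq_pow_orderOf [Finite G] {p q : ℕ} [hp : Fact p.Prime] (hq : q.Prime) (hqp : q ≠ p)
    {A : Subgroup G} [A.Normal] (hA : IsElementaryAbelian q A)
    (hmin : ∀ B : Subgroup G, B.Normal → B ≤ A → B = ⊥ ∨ B = A) {x : G} (hx : orderOf x = p)
    (htop : A ⊔ Subgroup.zpowers x = ⊤) (hnc : ¬ ∀ a ∈ A, x * a = a * x) :
    Nat.card A = q ^ orderOf (q : ZMod p) := by
  have := Fact.mk hq
  have := hA.1
  let _ : CommGroup A := { (inferInstance : Group A) with mul_comm := mul_comm' }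
  refine CL.FGS.CycMod.card_of_irreducible_aut hp.out hqp
    (fun a => Subtype.ext (by simpa using hA.2 a a.2)) (MulAut.conjNormal x) ?_ ?_ ?_
  · rw [← map_pow, ← hx, pow_orderOf_eq_one, map_one]
  · intro h
    apply hnc
    intro a ha
    have := congrArg Subtype.val (DFunLike.congr_fun h ⟨a, ha⟩)
    simp only [MulAut.conjNormal_apply, MulAut.one_apply] at this
    exact mul_inv_eq_iff_eq_mul.1 this
  · intro B hB
    have hn : (B.map A.subtype).Normal := by
      refine normal_of_sup_eq_top htop (fun a ha => CL.Tr.mem_normalizer_of_conj_mem ?_)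
        (CL.Tr.mem_normalizer_of_conj_mem ?_)
      · rintro _ ⟨b, hb, rfl⟩
        rw [Subgroup.coe_subtype, setLike_mul_comm (s := A) ha b.2, mul_inv_cancel_right]
        exact ⟨b, hb, rfl⟩
      · rintro _ ⟨b, hb, rfl⟩
        exact ⟨_, hB b hb, rfl⟩
    rcases hmin _ hn (Subgroup.map_subtype_le B) with h | h
    · left
      exact (Subgroup.map_eq_bot_iff_of_injective _ A.subtype_injective).1 h
    · right
      apply Subgroup.map_injective A.subtype_injective
      rw [h, ← MonoidHom.range_eq_map, Subgroup.range_subtype]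

theorem structure_of_minimal [Finite G] {p : ℕ} [hp : Fact p.Prime]
    (hnc : ¬ IsPClosed p G) (hsub : ∀ H : Subgroup G, H ≠ ⊤ → IsPClosed p ↥H)
    (hquo : ∀ (N : Subgroup G) [N.Normal], N ≠ ⊥ → IsPClosed p (G ⧸ N))
    (hns : ¬ IsSimpleGroup G) :
    ∃ q : ℕ, q.Prime ∧ q ≠ p ∧ Nat.card G = p * q ^ orderOf (q : ZMod p) ∧
      ∃ A : Subgroup G, A.Normal ∧ Nat.card ↥A = q ^ orderOf (q : ZMod p) ∧
        IsElementaryAbelian q A ∧ ∀ B : Subgroup G, B.Normal → B ≤ A → B = ⊥ ∨ B = A := by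
  have hO : pCore p G = ⊥ := by
    by_contra h
    have := pCore_characteristic p G
    apply hnc
    rw [CL.MSS.isPClosed_iff_top]
    intro Q hQ
    rw [← comap_mk'_pCore (pCore p G) (isPGroup_pCore p G), ← Subgroup.map_le_iff_le_comap]
    exact CL.MSS.isPClosed_iff_top.1 (hquo _ h) _ (hQ.map _)
  have hno : ∀ (K : Subgroup G) [K.Normal], K ≠ ⊤ → ¬ p ∣ Nat.card K := by
    intro K _ hK hd
    obtain ⟨y, hy⟩ := exists_prime_orderOf_dvd_card' p hd
    have hy' : orderOf (y : G) = p := by rw [Subgroup.orderOf_coe, hy]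
    have h1 := CL.MSS.isPClosed_iff.1 (hsub K hK) _ (Subgroup.zpowers_le.2 y.2)
      (isPGroup_zpowers_of_orderOf hy') (Subgroup.mem_zpowers _)
    rw [pCoreOf, map_pCore_of_normal, hO, bot_inf_eq, Subgroup.mem_bot] at h1
    rw [h1, orderOf_one] at hy'
    exact hp.out.ne_one hy'.symm
  have hpG : p ∣ Nat.card G := by
    by_contra h
    exact hnc (isPClosed_of_not_dvd h)
  have hnt : Nontrivial G := by
    rw [← Finite.one_lt_card_iff_nontrivial]
    exact hp.out.one_lt.trans_le (Nat.le_of_dvd Nat.card_pos hpG)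
  obtain ⟨K, hKn, hK1, hK2⟩ : ∃ K : Subgroup G, K.Normal ∧ K ≠ ⊥ ∧ K ≠ ⊤ := by
    by_contra h
    push Not at h
    exact hns ⟨fun H hH => or_iff_not_imp_left.2 (h H hH)⟩
  obtain ⟨N, hN, hNK⟩ := exists_isMinNormal_le K hK1
  have := hN.normal
  have hNt : N ≠ ⊤ := fun h => hK2 (top_le_iff.1 (h ▸ hNK))
  have hNp := hno N hNt
  obtain ⟨x, hx⟩ := exists_prime_orderOf_dvd_card' p hpG
  have hxp := isPGroup_zpowers_of_orderOf hx
  have hxK : ∀ (L : Subgroup G) [L.Normal], x ∈ L → L = ⊤ := by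
    intro L _ hxL
    by_contra h
    exact hno L h (hx ▸ Subgroup.orderOf_dvd_natCard L hxL)
  have hGN : IsPGroup p (G ⧸ N) := by
    have := pCore_characteristic p (G ⧸ N)
    have h1 : (pCore p (G ⧸ N)).comap (QuotientGroup.mk' N) = ⊤ := by
      refine hxK _ ?_
      exact CL.MSS.isPClosed_iff_top.1 (hquo N hN.ne_bot) _ (hxp.map (QuotientGroup.mk' N))
        ⟨x, Subgroup.mem_zpowers x, rfl⟩
    rw [← pCore_eq_top_iff, ← map_comap_mk' N (pCore p (G ⧸ N)), h1]
    exact Subgroup.map_top_of_surjective _ (QuotientGroup.mk'_surjective N)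
  have hxN : ¬ ∀ a ∈ N, x * a = a * x := by
    intro h
    have hC : Subgroup.centralizer (N : Set G) = ⊤ := hxK _ fun a ha => (h a ha).symm
    have := hGN.isNilpotent
    have : Group.IsNilpotent G := Subgroup.isNilpotent_of_ker_le_center (QuotientGroup.mk' N) (by
      rw [QuotientGroup.ker_mk']
      exact Subgroup.centralizer_eq_top_iff_subset.1 hC)
    exact hnc fun P => inferInstance
  have hcop : (Nat.card (Subgroup.zpowers x)).Coprime (Nat.card N) := by
    rw [Nat.card_zpowers, hx]; exact (Nat.Prime.coprime_iff_not_dvd hp.out).2 hNp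
  obtain ⟨q, hq, hqd⟩ : ∃ q : ℕ, q.Prime ∧ q ∣ (Subgroup.centralizer {x}).relIndex N := by
    refine Nat.exists_prime_and_dvd fun h => hxN fun a ha => ?_
    exact (Subgroup.mem_centralizer_singleton_iff.1 (Subgroup.relIndex_eq_one.1 h ha)).symm
  have := Fact.mk hq
  obtain ⟨Q, hQ⟩ := coprime_exists_invariant_sylow (Subgroup.zpowers x) N
    (by rw [Subgroup.normalizer_eq_top]; exact le_top) hcop (Or.inl inferInstance) q
  set Q' := (Q : Subgroup N).map N.subtype with hQ'
  have hQN : Q' ≤ N := Subgroup.map_subtype_le _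
  have hQC : ¬ Q' ≤ Subgroup.centralizer {x} := by
    intro h
    have h1 : (Q : Subgroup N) ≤ (Subgroup.centralizer {x}).subgroupOf N :=
      fun a ha => h ⟨a, ha, rfl⟩
    exact Q.not_dvd_index (hqd.trans (Subgroup.index_dvd_of_le h1))
  have htop : Q' ⊔ Subgroup.zpowers x = ⊤ := by
    by_contra h
    exact hQC fun a ha => Subgroup.mem_centralizer_singleton_iff.2
      (comm_of_isPClosed hNp (hsub _ h) hxp (Subgroup.mem_sup_right (Subgroup.mem_zpowers x))
        (Subgroup.mem_sup_left ha) (hQN ha)).symm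
  have hQn : Q'.Normal := normal_of_sup_eq_top htop Subgroup.le_normalizer
    (hQ (Subgroup.mem_zpowers x))
  have hQeq : Q' = N := hN.eq_of_le hQN fun h => hQC (h ▸ bot_le)
  have hNq : IsPGroup q N := hQeq ▸ Q.isPGroup'.map _
  have hqp : q ≠ p := by
    rintro rfl
    exact hNp (hqd.trans (Subgroup.index_dvd_card _))
  rw [hQeq] at htop
  have hel := hN.isElementaryAbelian_of_isPGroup hNq
  have hcard := card_eq_pow_orderOf hq hqp hel hN.eq_bot_or_eq hx htop hxN
  refine ⟨q, hq, hqp, ?_, N, hN.normal, hcard, hel, hN.eq_bot_or_eq⟩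
  rw [← Subgroup.card_top, ← htop, sup_comm, card_sup_of_disjoint
    (by rw [Subgroup.normalizer_eq_top]; exact le_top)
    (Subgroup.disjoint_of_coprime_natCard hcop).eq_bot, Nat.card_zpowers, hx, hcard]

theorem minimal_of_structure [Finite G] {p q : ℕ} [hp : Fact p.Prime] (hq : q.Prime)
    (hpq : q ≠ p) (hna : ¬ IsMulCommutative G) (A : Subgroup G) [A.Normal]
    (hA : IsElementaryAbelian q A) (hidx : A.index = p)
    (hmin : ∀ B : Subgroup G, B.Normal → B ≤ A → B = ⊥ ∨ B = A) :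
    Nat.card ↥A = q ^ orderOf (q : ZMod p) ∧ ¬ IsPClosed p G ∧
      (∀ H : Subgroup G, H ≠ ⊤ → IsPClosed p ↥H) ∧
      ∀ (N : Subgroup G) [N.Normal], N ≠ ⊥ → IsPClosed p (G ⧸ N) := by
  have := Fact.mk hq
  have := hA.1
  have hAq : IsPGroup q A := fun a => ⟨1, Subtype.ext (by simpa using hA.2 a a.2)⟩
  have hAp : ¬ p ∣ Nat.card A := by
    obtain ⟨k, hk⟩ := hAq.exists_card_eq
    rw [hk]
    exact fun h => hpq ((Nat.prime_dvd_prime_iff_eq hp.out hq).1 (hp.out.dvd_of_dvd_pow h)).symm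
  have hco : IsCoatom A := CL.Tr.isCoatom_of_index_prime (hidx ▸ hp.out)
  have htop : ∀ {x : G}, orderOf x = p → A ⊔ Subgroup.zpowers x = ⊤ := by
    intro x hx
    refine hco.2 _ (lt_of_le_of_ne le_sup_left fun h => hAp ?_)
    have : x ∈ A := h ▸ Subgroup.mem_sup_right (Subgroup.mem_zpowers x)
    exact hx ▸ Subgroup.orderOf_dvd_natCard A this
  have hnc : ∀ {x : G}, orderOf x = p → ¬ ∀ a ∈ A, x * a = a * x := by
    intro x hx h
    apply hna
    have hxZ : Subgroup.centralizer {x} = ⊤ := by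
      rw [eq_top_iff, ← htop hx]
      exact sup_le (fun a ha => Subgroup.mem_centralizer_singleton_iff.2 (h a ha).symm)
        (Subgroup.zpowers_le.2 (Subgroup.mem_centralizer_singleton_iff.2 rfl))
    have hAZ : Subgroup.centralizer (A : Set G) = ⊤ := by
      rw [eq_top_iff, ← htop hx]
      exact sup_le (fun a ha b hb => setLike_mul_comm (s := A) hb ha)
        (Subgroup.zpowers_le.2 fun a ha => (h a ha).symm)
    have hZ : Subgroup.center G = ⊤ := by
      rw [eq_top_iff, ← htop hx]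
      refine sup_le (Subgroup.centralizer_eq_top_iff_subset.1 hAZ) (Subgroup.zpowers_le.2 ?_)
      exact Subgroup.centralizer_eq_top_iff_subset.1 hxZ rfl
    exact ⟨⟨fun a b => Subgroup.mem_center_iff.1 (hZ ▸ Subgroup.mem_top b) a⟩⟩
  obtain ⟨x, hx⟩ := exists_prime_orderOf_dvd_card' p (hidx ▸ A.index_dvd_card)
  have hdis : ∀ K : Subgroup G, K ⊓ A = ⊥ → Nat.card K ∣ p := by
    intro K hK
    have := card_inf_mul_relIndex A K
    rw [inf_comm, hK, Subgroup.card_bot, one_mul] at this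
    rw [← this, ← hidx]
    exact Subgroup.relIndex_dvd_index_of_normal _ _
  refine ⟨card_eq_pow_orderOf hq hpq hA hmin hx (htop hx) (hnc hx), fun h => hnc hx ?_, ?_, ?_⟩
  · intro a ha
    exact comm_of_isPClosed hAp (CL.MSS.isPClosed_top_iff.2 h) (isPGroup_zpowers_of_orderOf hx)
      trivial trivial ha
  · intro H hH
    by_cases hd : p ∣ Nat.card H
    · obtain ⟨y, hy⟩ := exists_prime_orderOf_dvd_card' p hd
      have hy' : orderOf (y : G) = p := by rw [Subgroup.orderOf_coe, hy]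
      have hn : (H ⊓ A).Normal := by
        refine normal_of_sup_eq_top (htop hy') (fun a ha => CL.Tr.mem_normalizer_of_conj_mem ?_)
          (CL.Tr.mem_normalizer_of_conj_mem ?_)
        · intro b hb
          rw [setLike_mul_comm (s := A) ha hb.2, mul_inv_cancel_right]; exact hb
        · intro b hb
          exact ⟨H.mul_mem (H.mul_mem y.2 hb.1) (H.inv_mem y.2),
            Subgroup.Normal.conj_mem inferInstance _ hb.2 _⟩
      rcases hmin _ hn inf_le_right with h | h
      · refine isPClosed_of_isPGroup' (IsPGroup.of_card (n := 1) ?_)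
        rw [pow_one]; exact Nat.dvd_antisymm (hdis H h) hd
      · exact absurd (top_le_iff.1 (htop hy' ▸ sup_le (inf_eq_right.1 h)
          (Subgroup.zpowers_le.2 y.2))) hH
    · exact isPClosed_of_not_dvd hd
  · intro N _ hN
    rcases hmin (N ⊓ A) inferInstance inf_le_right with h | h
    · exfalso
      have hc : Nat.card N = p :=
        ((Nat.dvd_prime hp.out).1 (hdis N h)).resolve_left (by simpa using hN)
      obtain ⟨y, hy⟩ := exists_prime_orderOf_dvd_card' (G := N) p (hc ▸ dvd_rfl)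
      have hy' : orderOf (y : G) = p := by rw [Subgroup.orderOf_coe, hy]
      exact hnc hy' fun a ha =>
        Subgroup.commute_of_normal_of_disjoint N A inferInstance inferInstance
          (disjoint_iff.2 h) _ _ y.2 ha
    · have hd : Nat.card (G ⧸ N) ∣ p ^ 1 := by
        rw [pow_one, ← hidx]; exact Subgroup.index_dvd_of_le (inf_eq_right.1 h)
      obtain ⟨k, -, hk⟩ := (Nat.dvd_prime_pow hp.out).1 hd
      exact isPClosed_of_isPGroup' (IsPGroup.of_card hk)

/-- Minimal non-`p`-exponent-closed groups that are neither simple nor `p`-groups are minimal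
non-`p`-closed. -/
theorem minimal_of_exp_minimal [Finite G] {p : ℕ} [hp : Fact p.Prime]
    (hnc : ¬ (∃ H : Subgroup G, (H : Set G) = {g : G | g ^ p = 1}))
    (hsub : ∀ K : Subgroup G, K ≠ ⊤ → (∃ H : Subgroup ↥K, (H : Set ↥K) = {g : ↥K | g ^ p = 1}))
    (hquo : ∀ (N : Subgroup G) [N.Normal], N ≠ ⊥ →
      (∃ H : Subgroup (G ⧸ N), (H : Set (G ⧸ N)) = {g : (G ⧸ N) | g ^ p = 1}))
    (hns : ¬ IsSimpleGroup G) (hnp : ¬ IsPGroup p G) :
    ¬ IsPClosed p G ∧ (∀ H : Subgroup G, H ≠ ⊤ → IsPClosed p ↥H) ∧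
      ∀ (N : Subgroup G) [N.Normal], N ≠ ⊥ → IsPClosed p (G ⧸ N) := by
  have hgen : Subgroup.closure {g : G | g ^ p = 1} = ⊤ := by
    by_contra h
    obtain ⟨H, hH⟩ := hsub _ h
    refine hnc ⟨H.map (Subgroup.subtype _), Set.ext fun g => ⟨?_, fun hg => ?_⟩⟩
    · rintro ⟨a, ha, rfl⟩
      have : a ^ p = 1 := (Set.ext_iff.1 hH a).1 ha
      exact congrArg Subtype.val this
    · exact ⟨⟨g, Subgroup.subset_closure hg⟩, (Set.ext_iff.1 hH _).2 (Subtype.ext hg), rfl⟩
  have hexp : ∀ (N : Subgroup G) [N.Normal], N ≠ ⊥ → ∀ g : G ⧸ N, g ^ p = 1 := by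
    intro N _ hN g
    obtain ⟨H, hH⟩ := hquo N hN
    have h1 : H.comap (QuotientGroup.mk' N) = ⊤ := by
      rw [eq_top_iff, ← hgen, Subgroup.closure_le]
      intro a ha
      refine (Set.ext_iff.1 hH _).2 ?_
      change (QuotientGroup.mk' N a) ^ p = 1
      rw [← map_pow, ha, map_one]
    obtain ⟨a, rfl⟩ := QuotientGroup.mk'_surjective N g
    exact (Set.ext_iff.1 hH _).1 (show a ∈ H.comap (QuotientGroup.mk' N) from h1 ▸ trivial)
  have hpq : ∀ (N : Subgroup G) [N.Normal], N ≠ ⊥ → IsPGroup p (G ⧸ N) :=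
    fun N _ hN g => ⟨1, by rw [pow_one]; exact hexp N hN g⟩
  have hnt : Nontrivial G := by
    by_contra h
    rw [not_nontrivial_iff_subsingleton] at h
    exact hnp fun g => ⟨0, Subsingleton.elim _ _⟩
  obtain ⟨K, hKn, hK1, hK2⟩ : ∃ K : Subgroup G, K.Normal ∧ K ≠ ⊥ ∧ K ≠ ⊤ := by
    by_contra h
    push Not at h
    exact hns ⟨fun H hH => or_iff_not_imp_left.2 (h H hH)⟩
  -- `K` has no element of order `p`
  have hK : ∀ y ∈ K, y ^ p = 1 → y = 1 := by
    obtain ⟨H, hH⟩ := hsub K hK2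
    have hmem : ∀ y, y ∈ H.map K.subtype ↔ y ∈ K ∧ y ^ p = 1 := by
      intro y
      constructor
      · rintro ⟨a, ha, rfl⟩
        have : a ^ p = 1 := (Set.ext_iff.1 hH a).1 ha
        exact ⟨a.2, congrArg Subtype.val this⟩
      · rintro ⟨h1, h2⟩
        exact ⟨⟨y, h1⟩, (Set.ext_iff.1 hH _).2 (Subtype.ext h2), rfl⟩
    have hn : (H.map K.subtype).Normal := ⟨fun y hy g => by
      rw [hmem] at hy ⊢
      exact ⟨hKn.conj_mem y hy.1 g, by rw [conj_pow, hy.2]; simp⟩⟩
    have hbot : H.map K.subtype = ⊥ := by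
      by_contra h
      apply hnp
      have h1 : IsPGroup p (H.map K.subtype) := fun a =>
        ⟨1, Subtype.ext (by simpa using ((hmem a).1 a.2).2)⟩
      have := (hpq _ h).to_subgroup ⊤ |>.comap_of_ker_isPGroup (QuotientGroup.mk' _)
        (by rwa [QuotientGroup.ker_mk'])
      rw [Subgroup.comap_top] at this
      exact this.of_equiv Subgroup.topEquiv
    intro y hy hyp
    exact Subgroup.mem_bot.1 (hbot ▸ (hmem y).2 ⟨hy, hyp⟩)
  have hKp : ¬ p ∣ Nat.card K := by
    intro h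
    obtain ⟨y, hy⟩ := exists_prime_orderOf_dvd_card' p h
    have h1 : y = 1 := Subtype.ext (hK y y.2 (by
      rw [← hy, ← Subgroup.coe_pow, pow_orderOf_eq_one, Subgroup.coe_one]))
    rw [h1, orderOf_one] at hy
    exact hp.out.ne_one hy.symm
  have hpe : ∀ Q : Subgroup G, IsPGroup p Q → ∀ g ∈ Q, g ^ p = 1 := by
    intro Q hQ g hg
    have h1 : g ^ p ∈ K := by
      rw [← QuotientGroup.eq_one_iff, QuotientGroup.mk_pow]; exact hexp K hK1 _
    have := CL.MSS.eq_bot_of_isPGroup_of_not_dvd (hQ.to_inf_left (K := K)) inf_le_right hKp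
    exact Subgroup.mem_bot.1 (this ▸ ⟨pow_mem hg p, h1⟩)
  refine ⟨fun h => hnc ⟨pCore p G, Set.ext fun g => ⟨hpe _ (isPGroup_pCore p G) g, fun hg => ?_⟩⟩,
    fun L hL => ?_, fun N _ hN => isPClosed_of_isPGroup' (hpq N hN)⟩
  · refine CL.MSS.isPClosed_iff_top.1 h (Subgroup.zpowers g) ?_ (Subgroup.mem_zpowers g)
    rintro ⟨_, k, rfl⟩
    exact ⟨1, Subtype.ext (by
      change (g ^ k) ^ (p ^ 1) = 1
      rw [pow_one, ← zpow_natCast, ← zpow_mul, mul_comm, zpow_mul, zpow_natCast, hg, one_zpow])⟩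
  · obtain ⟨H, hH⟩ := hsub L hL
    have hm : ∀ y, y ∈ H ↔ y ^ p = 1 := fun y => Set.ext_iff.1 hH y
    have hn : H.Normal := ⟨fun y hy g => by
      rw [hm] at hy ⊢
      rw [conj_pow, hy]; simp⟩
    have hHp : IsPGroup p H := fun a => ⟨1, Subtype.ext (by simpa using (hm a).1 a.2)⟩
    rw [CL.MSS.isPClosed_iff_top]
    intro Q hQ g hg
    exact le_pCore hHp ((hm g).2 (Subtype.ext (hpe _ (hQ.map L.subtype) g ⟨g, hg, rfl⟩)))

end CL.FGS.MPC
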