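/-
Every finite non-solvable group has a coprime triple (from the list of minimal simple groups).
-/
import Mathlib
import Cfsg.Agent.FGS.MinTriple
import Cfsg.Agent.TECH.S2L.Minimal

set_option autoImplicit false

open Subgroup Cfsg
open scoped MatrixGroups

namespace CL.MinTr

variable {G : Type*} [Group G] [Finite G]

theorem trip_of_minList (hG : ¬ Group.IsSolvable G) (h : S2L.MinList G) : Trip G := by
  classical
  rcases h with ⟨F, _, _, h, ⟨e⟩⟩ | ⟨F, _, _, h, ⟨e⟩⟩ | ⟨F, _, _, m, hm, -, hF, e⟩
  · refine (trip_psl2 ?_ fun h1 => hG (isSolvable_of_mulEquiv e.symm)).of_equiv e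
    rcases h with ⟨r, hr, h⟩ | ⟨r, hr, -, h⟩ | ⟨-, h, -⟩ | h
    · have := Nat.pow_le_pow_right two_pos hr.two_le
      omega
    · have := Nat.pow_le_pow_right three_pos hr.two_le
      omega
    · omega
    · omega
  · exact (trip_psl33 h).of_equiv e
  · exact trip_sz ⟨F, _, _, m, hm, hF, e⟩

/-- a non-solvable group has a `p`-element `a` and a `q`-element `b` with `a * b` a non-trivial
`{p,q}'`-element, and `a` generates a solvable group with a conjugate of `b`. -/
theorem exists_tr (hG : ¬ Group.IsSolvable G) :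
    ∃ p q : ℕ, p.Prime ∧ q.Prime ∧ p ≠ q ∧ ∃ a b g : G, Tr p q a b ∧
      Group.IsSolvable (closure ({a, g * b * g⁻¹} : Set G)) := by
  obtain ⟨H, h1, h2, h3⟩ := S2L.exists_section hG
  have := h2.1
  have h4 : Trip H := (trip_of_minList (S4F.not_isSolvable_of_simple h2.2.1) h3).lift
    (QuotientGroup.mk' _) (QuotientGroup.mk'_surjective _) (by
      rw [QuotientGroup.ker_mk']
      have := frattini_nilpotent (G := H)
      infer_instance)
  obtain ⟨p, q, hp, hq, hpq, a, b, g, h5, h6⟩ := h4
  refine ⟨p, q, hp, hq, hpq, a, b, g, h5.map H.subtype H.subtype_injective, ?_⟩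
  have := h1 _ h6
  have h7 := isSolvable_map (closure ({a, g * b * g⁻¹} : Set H)) H.subtype
  rwa [MonoidHom.map_closure, Set.image_pair] at h7

end CL.MinTr
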