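import Cfsg.Agent.SOLV.CoprimeGen
import Cfsg.Agent.SOLV.Core
import Cfsg.Agent.TECH.SylIn
import Cfsg.Agent.S2553

/-! A group acting faithfully on the natural module of a subgroup `SL₂(F)` whose normalizer
contains a Sylow subgroup in the defining characteristic. -/

set_option autoImplicit false
open Cfsg Subgroup CL.MSS
open scoped Pointwise

namespace CL.NatA7

variable {G : Type*} [Group G] {F : Type*} [Field F] [DistribMulAction G (F × F)]

/-- `L` acts on `F × F` as `SL₂(F)`. -/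
structure IsNat (F : Type*) [Field F] [DistribMulAction G (F × F)] (L : Subgroup G) : Prop where
  mem : ∀ l ∈ L, ∃ a b c d : F, a * d - b * c = 1 ∧
    ∀ x y : F, l • ((x, y) : F × F) = (a * x + b * y, c * x + d * y)
  ex : ∀ a b c d : F, a * d - b * c = 1 → ∃ l ∈ L,
    ∀ x y : F, l • ((x, y) : F × F) = (a * x + b * y, c * x + d * y)

/-- Elements acting trivially on `Y` and on the quotient by `Y`. -/
def K (G : Type*) [Group G] [DistribMulAction G (F × F)] (Y : AddSubgroup (F × F)) :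
    Subgroup G where
  carrier := {a | (∀ y ∈ Y, a • y = y) ∧ ∀ v : F × F, a • v - v ∈ Y}
  one_mem' := ⟨fun y _ => one_smul _ y, fun v => by simp⟩
  mul_mem' := by
    rintro a b ⟨h1, h2⟩ ⟨h3, h4⟩
    refine ⟨fun y hy => by rw [mul_smul, h3 y hy, h1 y hy], fun v => ?_⟩
    have : (a * b) • v - v = (a • (b • v) - b • v) + (b • v - v) := by rw [mul_smul]; abel
    rw [this]; exact Y.add_mem (h2 _) (h4 _)
  inv_mem' := by
    rintro a ⟨h1, h2⟩
    refine ⟨fun y hy => by rw [inv_smul_eq_iff, h1 y hy], fun v => ?_⟩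
    have := Y.neg_mem (h2 (a⁻¹ • v))
    rwa [smul_inv_smul, neg_sub] at this

theorem mem_K {Y : AddSubgroup (F × F)} {a : G} :
    a ∈ K G Y ↔ (∀ y ∈ Y, a • y = y) ∧ ∀ v : F × F, a • v - v ∈ Y := Iff.rfl

theorem mem_smul {Y : AddSubgroup (F × F)} {g : G} {v : F × F} : v ∈ g • Y ↔ g⁻¹ • v ∈ Y :=
  AddSubgroup.mem_pointwise_smul_iff_inv_smul_mem

theorem mem_K_smul {Y : AddSubgroup (F × F)} {g a : G} :
    a ∈ K G (g • Y) ↔ g⁻¹ * a * g ∈ K G Y := by
  simp only [mem_K, mem_smul]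
  constructor
  · rintro ⟨h1, h2⟩
    refine ⟨fun y hy => ?_, fun v => ?_⟩
    · rw [mul_smul, mul_smul, h1 _ (by rwa [inv_smul_smul]), inv_smul_smul]
    · have := h2 (g • v)
      rwa [smul_sub, inv_smul_smul, ← mul_smul, ← mul_smul] at this
  · rintro ⟨h1, h2⟩
    refine ⟨fun y hy => ?_, fun v => ?_⟩
    · have := h1 _ hy
      rwa [mul_smul, mul_smul, smul_inv_smul, smul_left_cancel_iff] at this
    · have := h2 (g⁻¹ • v)
      rwa [mul_smul, mul_smul, smul_inv_smul, ← smul_sub] at this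

theorem K_pow {Y : AddSubgroup (F × F)} {a : G} (ha : a ∈ K G Y) (v : F × F) (n : ℕ) :
    a ^ n • v = v + n • (a • v - v) := by
  induction n with
  | zero => simp
  | succ n ih =>
    rw [pow_succ', mul_smul, ih, smul_add, ha.1 _ (Y.nsmul_mem (ha.2 v) n), succ_nsmul]; abel

theorem K_comm [FaithfulSMul G (F × F)] {Y : AddSubgroup (F × F)} {a b : G} (ha : a ∈ K G Y)
    (hb : b ∈ K G Y) : a * b = b * a := by
  refine FaithfulSMul.eq_of_smul_eq_smul (α := F × F) fun v => ?_
  have h1 := ha.1 _ (hb.2 v)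
  have h2 := hb.1 _ (ha.2 v)
  rw [smul_sub, sub_eq_iff_eq_add] at h1 h2
  rw [mul_smul, mul_smul, h1, h2]; abel

theorem K_pow_p [FaithfulSMul G (F × F)] (p : ℕ) [CharP F p] {Y : AddSubgroup (F × F)} {a : G}
    (ha : a ∈ K G Y) : a ^ p = 1 := by
  refine FaithfulSMul.eq_of_smul_eq_smul (α := F × F) fun v => ?_
  rw [K_pow ha, one_smul, ← Nat.cast_smul_eq_nsmul F, CharP.cast_eq_zero, zero_smul, add_zero]

theorem isPGroup_K [FaithfulSMul G (F × F)] (p : ℕ) [CharP F p] (Y : AddSubgroup (F × F)) :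
    IsPGroup p (K G Y) := fun a => ⟨1, Subtype.ext (by simpa using K_pow_p p a.2)⟩

/-- The standard line. -/
def W (F : Type*) [Field F] : AddSubgroup (F × F) := (AddMonoidHom.snd F F).ker

theorem mem_W {v : F × F} : v ∈ W F ↔ v.2 = 0 := Iff.rfl

theorem card_W : Nat.card (W F) = Nat.card F :=
  Nat.card_congr ⟨fun v => v.1.1, fun x => ⟨(x, 0), rfl⟩,
    fun v => Subtype.ext (Prod.ext rfl (mem_W.1 v.2).symm), fun _ => rfl⟩

theorem card_smul (g : G) (Y : AddSubgroup (F × F)) : Nat.card ↥(g • Y) = Nat.card Y :=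
  Nat.card_congr ⟨fun v => ⟨g⁻¹ • v.1, mem_smul.1 v.2⟩,
    fun v => ⟨g • v.1, mem_smul.2 (by rw [inv_smul_smul]; exact v.2)⟩,
    fun v => Subtype.ext (smul_inv_smul _ _), fun v => Subtype.ext (inv_smul_smul _ _)⟩

namespace IsNat

variable {L : Subgroup G} (h : IsNat F L)
include h

theorem lin {l : G} (hl : l ∈ L) (c : F) (v : F × F) : l • (c • v) = c • (l • v) := by
  obtain ⟨a, b, c', d, -, e⟩ := h.mem l hl
  obtain ⟨x, y⟩ := v
  rw [Prod.smul_mk, e, e]
  ext <;> simp <;> ring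

theorem ex_u (t : F) : ∃ l ∈ L, ∀ x y : F, l • ((x, y) : F × F) = (x + t * y, y) := by
  obtain ⟨l, hl, e⟩ := h.ex 1 t 0 1 (by ring)
  exact ⟨l, hl, fun x y => by rw [e]; simp⟩

theorem ex_l (t : F) : ∃ l ∈ L, ∀ x y : F, l • ((x, y) : F × F) = (x, y + t * x) := by
  obtain ⟨l, hl, e⟩ := h.ex 1 0 t 1 (by ring)
  exact ⟨l, hl, fun x y => by rw [e]; simp [add_comm]⟩

theorem trans {v : F × F} (hv : v ≠ 0) : ∃ l ∈ L, l • ((1, 0) : F × F) = v := by
  obtain ⟨x, y⟩ := v
  by_cases hx : x = 0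
  · subst hx
    have hy : y ≠ 0 := fun e => hv (by rw [e]; rfl)
    obtain ⟨l, hl, e⟩ := h.ex 0 (-y⁻¹) y 0 (by field_simp; ring)
    exact ⟨l, hl, by rw [e]; simp⟩
  · obtain ⟨l, hl, e⟩ := h.ex x 0 y x⁻¹ (by field_simp; ring)
    exact ⟨l, hl, by rw [e]; simp⟩

theorem scalar (f : F × F →+ F × F) (hf : ∀ l ∈ L, ∀ v, f (l • v) = l • f v) (v : F × F) :
    f v = (f (1, 0)).1 • v := by
  have h1 : ∀ t : F, f (t, 0) = (t * (f (0, 1)).2, 0) := fun t => by
    obtain ⟨l, hl, e⟩ := h.ex_u t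
    have := hf l hl (0, 1)
    rw [e, ← Prod.mk.eta (p := f (0, 1)), e] at this
    have e2 : ((0 + t * 1, 1) : F × F) = (t, 0) + (0, 1) := by simp
    rw [e2, map_add, ← eq_sub_iff_add_eq] at this
    rw [this]; ext <;> simp
  have h2 : ∀ t : F, f (0, t) = (0, t * (f (1, 0)).1) := fun t => by
    obtain ⟨l, hl, e⟩ := h.ex_l t
    have := hf l hl (1, 0)
    rw [e, ← Prod.mk.eta (p := f (1, 0)), e] at this
    have e2 : ((1, 0 + t * 1) : F × F) = (0, t) + (1, 0) := by simp
    rw [e2, map_add, ← eq_sub_iff_add_eq] at this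
    rw [this]; ext <;> simp
  have h3 : (f (0, 1)).2 = (f (1, 0)).1 := by rw [h1 1]; simp
  obtain ⟨x, y⟩ := v
  have e2 : ((x, y) : F × F) = (x, 0) + (0, y) := by simp
  rw [e2, map_add, h1, h3, h2]; ext <;> simp [mul_comm]

omit h in
/-- The field map induced by an element. -/
def sg (s : G) (c : F) : F := (s • (c • (s⁻¹ • ((1, 0) : F × F)))).1

theorem semi {s : G} (hs : s ∈ normalizer (L : Set G)) (c : F) (v : F × F) :
    s • (c • v) = sg s c • (s • v) := by
  let f : F × F →+ F × F :=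
    { toFun := fun v => s • (c • (s⁻¹ • v))
      map_zero' := by simp
      map_add' := fun v w => by simp [smul_add] }
  have := h.scalar f (fun l hl v => ?_) (s • v)
  · simpa [f, sg] using this
  · have hl' : s⁻¹ * l * s ∈ L := by
      have := (mem_normalizer_iff.1 (inv_mem hs) l).1 hl
      simpa using this
    have := h.lin hl' c (s⁻¹ • v)
    simp only [mul_smul, smul_inv_smul] at this
    simp only [f, AddMonoidHom.coe_mk, ZeroHom.coe_mk]
    rw [← this, smul_inv_smul]

theorem sg_eq {s : G} (hs : s ∈ normalizer (L : Set G)) {c c' : F} {v : F × F} (hv : v ≠ 0)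
    (e : s • (c • v) = c' • (s • v)) : sg s c = c' := by
  rw [h.semi hs] at e
  exact smul_left_injective F (by simpa [smul_eq_zero_iff_eq] using hv) e

/-- The homomorphism to the Galois group. -/
noncomputable def gal (p : ℕ) [Fact p.Prime] [Algebra (ZMod p) F] :
    normalizer (L : Set G) →* (F ≃ₐ[ZMod p] F) :=
  have h1 : ((1, 0) : F × F) ≠ 0 := by simp
  let r : normalizer (L : Set G) → F →+* F := fun s =>
    { toFun := sg (s : G)
      map_one' := h.sg_eq s.2 h1 (by simp)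
      map_mul' := fun a b => h.sg_eq s.2 h1 (by rw [mul_smul, h.semi s.2, h.semi s.2, mul_smul])
      map_zero' := h.sg_eq s.2 h1 (by simp)
      map_add' := fun a b => h.sg_eq s.2 h1 (by
        rw [add_smul, smul_add, h.semi s.2, h.semi s.2, add_smul]) }
  let a : normalizer (L : Set G) →* (F →ₐ[ZMod p] F) :=
    { toFun := fun s => { r s with
        commutes' := fun c => DFunLike.congr_fun
          (RingHom.ext_zmod ((r s).comp (algebraMap (ZMod p) F)) (algebraMap (ZMod p) F)) c }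
      map_one' := AlgHom.ext fun c => h.sg_eq (one_mem _) h1 (by simp)
      map_mul' := fun s t => AlgHom.ext fun c => h.sg_eq (s * t).2 h1 (by
        rw [coe_mul, mul_smul, h.semi t.2, h.semi s.2, mul_smul]; rfl) }
  (AlgEquiv.algHomUnitsEquiv (ZMod p) F).toMonoidHom.comp a.toHomUnits

theorem gal_apply (p : ℕ) [Fact p.Prime] [Algebra (ZMod p) F] (s : normalizer (L : Set G))
    (c : F) : h.gal p s c = sg (s : G) c := rfl

theorem le_of_ul [FaithfulSMul G (F × F)] {H : Subgroup G}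
    (hu : ∀ (t : F) (l : G), (∀ x y : F, l • ((x, y) : F × F) = (x + t * y, y)) → l ∈ H)
    (hl : ∀ (t : F) (l : G), (∀ x y : F, l • ((x, y) : F × F) = (x, y + t * x)) → l ∈ H) :
    L ≤ H := by
  have key : ∀ (l : G) (a b c d : F), a * d - b * c = 1 → c ≠ 0 →
      (∀ x y : F, l • ((x, y) : F × F) = (a * x + b * y, c * x + d * y)) → l ∈ H := by
    intro l a b c d e hc hx
    obtain ⟨u1, -, e1⟩ := h.ex_u ((a - 1) / c)
    obtain ⟨u2, -, e2⟩ := h.ex_l c
    obtain ⟨u3, -, e3⟩ := h.ex_u ((d - 1) / c)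
    have : l = u1 * u2 * u3 := by
      refine FaithfulSMul.eq_of_smul_eq_smul (α := F × F) fun ⟨x, y⟩ => ?_
      rw [mul_smul, mul_smul, e3, e2, e1, hx]
      have hb : b = (a * d - 1) / c := by field_simp; linear_combination -e
      subst hb
      ext
      · simp only; field_simp; ring
      · simp only; field_simp; ring
    rw [this]
    exact H.mul_mem (H.mul_mem (hu _ _ e1) (hl _ _ e2)) (hu _ _ e3)
  intro l hL
  obtain ⟨a, b, c, d, e, hx⟩ := h.mem l hL
  by_cases hc : c = 0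
  · subst hc
    obtain ⟨u, -, e1⟩ := h.ex_l 1
    have ha : a ≠ 0 := by rintro rfl; simp at e
    have := key (u * l) a b a (b + d) (by linear_combination e) ha fun x y => by
      rw [mul_smul, hx, e1]; ext <;> simp; ring
    exact (H.mul_mem_cancel_left (hl _ _ e1)).1 this
  · exact key l a b c d e hc hx

end IsNat

/-- The standing hypotheses. -/
structure Ctx (F : Type*) [Field F] [DistribMulAction G (F × F)] (p : ℕ) (L S : Subgroup G) :
    Prop extends IsNat F L where
  syl : SylIn p S ⊤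
  le : S ≤ normalizer (L : Set G)
  uS : ∀ (t : F) (l : G), (∀ x y : F, l • ((x, y) : F × F) = (x + t * y, y)) → l ∈ S

theorem u_mem_K {t : F} {l : G} (h : ∀ x y : F, l • ((x, y) : F × F) = (x + t * y, y)) :
    l ∈ K G (W F) :=
  ⟨fun ⟨x, y⟩ hy => by rw [h]; simp [show y = 0 from hy], fun ⟨x, y⟩ => by rw [h]; simp [mem_W]⟩

theorem exists_fix [Finite F] {p : ℕ} [hp : Fact p.Prime] [CharP F p] {P : Subgroup G}
    (hP : IsPGroup p P) : ∃ v : F × F, v ≠ 0 ∧ ∀ s ∈ P, s • v = v := by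
  obtain ⟨v, hv, h0⟩ := hP.exists_fixed_point_of_prime_dvd_card_of_fixed_point (F × F)
    (a := 0) (by
      have := Fintype.ofFinite F
      obtain ⟨n, -, e⟩ := FiniteField.card F p
      rw [Nat.card_prod, Nat.card_eq_fintype_card, e]
      exact Dvd.dvd.mul_right (dvd_pow_self p n.ne_zero) _) (fun s => smul_zero s)
  exact ⟨v, h0.symm, fun s hs => hv ⟨s, hs⟩⟩

namespace Ctx

variable [Finite G] [Finite F] [FaithfulSMul G (F × F)] {p : ℕ} [hp : Fact p.Prime] [CharP F p]
  {L S : Subgroup G} (h : Ctx F p L S)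
include h

omit [Finite G] [FaithfulSMul G (F × F)] in
theorem S_fix : ∃ w : F, w ≠ 0 ∧ ∀ s ∈ S, s • ((w, 0) : F × F) = (w, 0) := by
  obtain ⟨⟨x, y⟩, hv, e⟩ := exists_fix (F := F) h.syl.pgroup
  obtain ⟨l, -, e1⟩ := h.ex_u 1
  have h1 := e l (h.uS _ _ e1)
  rw [e1] at h1
  have hy : y = 0 := by simpa using h1
  subst hy
  exact ⟨x, fun e => hv (by rw [e]; rfl), e⟩

omit [Finite G] [FaithfulSMul G (F × F)] in
theorem S_stab {s : G} (hs : s ∈ S) : s • W F = W F := by
  obtain ⟨w, hw, e⟩ := h.S_fix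
  have key : ∀ s ∈ S, ∀ v ∈ W F, s • v ∈ W F := fun s hs ⟨x, y⟩ hv => by
    have : ((x, y) : F × F) = (x / w) • (w, 0) := by
      ext
      · simp [hw]
      · simpa [mem_W] using hv
    rw [this, h.semi (h.le hs), e s hs]
    simp [mem_W]
  ext v
  rw [mem_smul]
  exact ⟨fun hv => by simpa using key s hs _ hv, key _ (inv_mem hs) v⟩

omit [Finite G] [FaithfulSMul G (F × F)] in
theorem ker_u {s : G} (hs : s ∈ S) (hc : ∀ c : F, IsNat.sg s c = c) :
    ∃ t : F, ∀ x y : F, s • ((x, y) : F × F) = (x + t * y, y) := by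
  obtain ⟨w, hw, e⟩ := h.S_fix
  have h1 : ∀ x y : F, s • ((x, y) : F × F) =
      (x + (s • ((0, 1) : F × F)).1 * y, (s • ((0, 1) : F × F)).2 * y) := fun x y => by
    have : ((x, y) : F × F) = (x / w) • (w, 0) + y • (0, 1) := by ext <;> simp [hw]
    rw [this, smul_add, h.semi (h.le hs), h.semi (h.le hs), e s hs, hc, hc]
    ext <;> simp [hw, mul_comm y]
  generalize (s • ((0, 1) : F × F)).1 = m at h1
  generalize (s • ((0, 1) : F × F)).2 = l at h1
  have h2 : ∀ n : ℕ, (s ^ n • ((0, 1) : F × F)).2 = l ^ n := fun n => by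
    induction n with
    | zero => simp
    | succ n ih =>
      rw [pow_succ', mul_smul, ← Prod.mk.eta (p := s ^ n • ((0, 1) : F × F)), h1, ih, pow_succ']
  obtain ⟨k, hk⟩ := isPGroup_iff_forall_mem.1 h.syl.pgroup s hs
  have h3 := h2 (p ^ k)
  rw [hk, one_smul] at h3
  have h4 : (l - 1) ^ p ^ k = 0 := by rw [sub_pow_char_pow, ← h3]; simp
  have h5 : l = 1 := sub_eq_zero.1 (pow_eq_zero_iff (pow_ne_zero _ hp.out.ne_zero) |>.1 h4)
  exact ⟨m, fun x y => by rw [h1, h5, one_mul]⟩

omit [Finite G] in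
theorem K_le_S : K G (W F) ≤ S := by
  refine h.syl.le_of_normalized (isPGroup_K p _) le_top fun s hs => mem_normalizer_iff.2 fun a => ?_
  conv_rhs => rw [← h.S_stab hs, mem_K_smul]
  simp [mul_assoc]

omit [Finite G] in
theorem K_u {a : G} (ha : a ∈ K G (W F)) :
    ∃ t : F, ∀ x y : F, a • ((x, y) : F × F) = (x + t * y, y) :=
  h.ker_u (h.K_le_S ha) fun c => h.sg_eq (h.le (h.K_le_S ha)) (v := (1, 0)) (by simp) (by
    rw [ha.1 _ (by simp [mem_W]), ha.1 _ (by simp [mem_W])])

omit [Finite G] in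
theorem K_le_L : K G (W F) ≤ L := fun a ha => by
  obtain ⟨t, e⟩ := h.K_u ha
  obtain ⟨l, hl, e1⟩ := h.ex_u t
  rwa [FaithfulSMul.eq_of_smul_eq_smul (α := F × F) (m₁ := a) (m₂ := l) fun ⟨x, y⟩ => by
    rw [e, e1]]

omit [Finite G] in
theorem fix_mem {g a : G} (ha : a ∈ K G (g • W F)) (h1 : a ≠ 1) {v : F × F} (hv : a • v = v) :
    v ∈ g • W F := by
  obtain ⟨t, e⟩ := h.K_u (mem_K_smul.1 ha)
  have h2 := e (g⁻¹ • v).1 (g⁻¹ • v).2
  rw [Prod.mk.eta, mul_smul, mul_smul, smul_inv_smul, hv] at h2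
  have h3 : t * (g⁻¹ • v).2 = 0 := by simpa using congrArg Prod.fst h2
  refine mem_smul.2 ((mul_eq_zero.1 h3).resolve_left ?_)
  rintro rfl
  apply h1
  have : g⁻¹ * a * g = 1 :=
    FaithfulSMul.eq_of_smul_eq_smul (α := F × F) fun ⟨x, y⟩ => by rw [e]; simp
  simpa [mul_assoc, inv_mul_eq_one] using this

omit [Finite G] [Finite F] [FaithfulSMul G (F × F)] hp [CharP F p] in
theorem ex_comm (g : G) {v w : F × F} (hv : v ∉ g • W F) (hw : w ∈ g • W F) :
    ∃ a ∈ K G (g • W F), a • v - v = w := by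
  rw [mem_smul, mem_W] at hv hw
  obtain ⟨l, -, e⟩ := h.ex_u ((g⁻¹ • w).1 / (g⁻¹ • v).2)
  refine ⟨g * l * g⁻¹, mem_K_smul.2 (by simpa [mul_assoc] using u_mem_K e), ?_⟩
  rw [← smul_left_cancel_iff g⁻¹, smul_sub, mul_smul, mul_smul, inv_smul_smul,
    ← Prod.mk.eta (p := g⁻¹ • v), e]
  ext
  · simp [hv]
  · simp [hw]

theorem card_le {g : G} {D : Subgroup G} (hD : ∀ d ∈ D, d ^ p = 1)
    (h1 : D ≤ MulAction.stabilizer G (g • W F)) (h2 : D ⊓ K G (g • W F) = ⊥) (h3 : D ≠ ⊥) :
    Nat.card D ≤ p ∧ ∃ e, Nat.card F = p ^ e ∧ p ∣ e := by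
  let _ := ZMod.algebra F p
  have hD' : IsPGroup p D := isPGroup_iff_forall_mem.2 fun d hd => ⟨1, by simpa using hD d hd⟩
  obtain ⟨n, hn, e⟩ := (h.syl.of_le (K := MulAction.stabilizer G (W F)) (fun s hs => h.S_stab hs)
    le_top).exists_conj_le (isPGroup_cj g⁻¹ hD') (cj_le_iff_forall.2 fun d hd => by
      rw [MulAction.mem_stabilizer_iff, inv_inv, mul_smul, mul_smul, h1 hd, inv_smul_smul])
  rw [← cj_mul, cj_le_iff_forall] at e
  let f : D →* normalizer (L : Set G) :=
    ((MulAut.conj (n * g⁻¹)).toMonoidHom.comp D.subtype).codRestrict _ fun d => h.le (e d d.2)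
  let φ := (h.gal p).comp f
  have hφ : Function.Injective φ := (injective_iff_map_eq_one _).2 fun d hd => by
    obtain ⟨t, e1⟩ := h.ker_u (e d d.2) fun c => DFunLike.congr_fun hd c
    have h4 : (d : G) ∈ K G (g • W F) := by
      have : g • W F = (n * g⁻¹)⁻¹ • W F := by
        rw [mul_inv_rev, inv_inv, mul_smul, show n⁻¹ • W F = W F from inv_mem hn]
      rw [this, mem_K_smul, inv_inv]
      exact u_mem_K e1
    exact Subtype.ext (by simpa [h2] using mem_inf.2 ⟨d.2, h4⟩)
  have := isCyclic_of_injective φ hφ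
  have hc : Nat.card D ∣ p := by
    rw [← IsCyclic.exponent_eq_card]
    exact Monoid.exponent_dvd_of_forall_pow_eq_one fun d => Subtype.ext (hD d d.2)
  refine ⟨Nat.le_of_dvd hp.out.pos hc, Module.finrank (ZMod p) F, ?_, ?_⟩
  · rw [Module.natCard_eq_pow_finrank (K := ZMod p), Nat.card_zmod]
  · rw [← IsGalois.card_aut_eq_finrank]
    exact (((Nat.dvd_prime hp.out).1 hc).resolve_left (by rwa [card_eq_one])).symm.dvd.trans
      (card_dvd_of_injective φ hφ)

theorem card_S : ∃ e, Nat.card F = p ^ e ∧ Nat.card S ≤ Nat.card F * e := by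
  let _ := ZMod.algebra F p
  refine ⟨Module.finrank (ZMod p) F, ?_, ?_⟩
  · rw [Module.natCard_eq_pow_finrank (K := ZMod p), Nat.card_zmod]
  let φ := (h.gal p).comp (inclusion h.le)
  rw [← φ.ker.card_mul_index, index_ker, ← IsGalois.card_aut_eq_finrank]
  refine Nat.mul_le_mul ?_ (card_le_card_group _)
  refine Nat.card_le_card_of_injective (fun s => (((s : S) : G) • ((0, 1) : F × F)).1) ?_
  intro s s' e
  obtain ⟨t, e1⟩ := h.ker_u s.1.2 fun c => DFunLike.congr_fun s.2 c
  obtain ⟨t', e2⟩ := h.ker_u s'.1.2 fun c => DFunLike.congr_fun s'.2 c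
  have : t = t' := by simpa [e1, e2] using e
  subst this
  exact Subtype.ext (Subtype.ext (FaithfulSMul.eq_of_smul_eq_smul (α := F × F) fun ⟨x, y⟩ => by
    rw [e1, e2]))

omit [Finite G] in
theorem normal_of_ti (ht : ∀ g g' : G, g • W F ≠ g' • W F → g • W F ⊓ g' • W F = ⊥) :
    L.Normal := by
  have key : ∀ g : G, K G (g • W F) ≤ L := fun g a ha => by
    obtain ⟨l, hl, e⟩ := h.trans (v := g • ((1, 0) : F × F)) (by simp [smul_eq_zero_iff_eq])
    have : g • W F = l • W F := by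
      by_contra hne
      have h1 : g • ((1, 0) : F × F) ∈ g • W F ⊓ l • W F :=
        ⟨mem_smul.2 (by simp [mem_W]), mem_smul.2 (by rw [← e]; simp [mem_W])⟩
      rw [ht _ _ hne] at h1
      simp [smul_eq_zero_iff_eq] at h1
    rw [this, mem_K_smul] at ha
    have := L.mul_mem (L.mul_mem hl (h.K_le_L ha)) (inv_mem hl)
    simpa [mul_assoc] using this
  refine normal_of_cj fun g => ?_
  have h1 : ∀ g : G, L ≤ g •ᶜ L := fun g => by
    refine h.le_of_ul (fun t l e => mem_cj.2 (key g⁻¹ (mem_K_smul.2 ?_)))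
      (fun t l e => mem_cj.2 ?_)
    · simpa [mul_assoc] using u_mem_K e
    · obtain ⟨w, -, e1⟩ := h.ex 0 (-1) 1 0 (by ring)
      refine key (g⁻¹ * w) (mem_K_smul.2 (u_mem_K (t := -t) fun x y => ?_))
      simp only [mul_inv_rev, inv_inv, mul_smul, smul_inv_smul, inv_smul_eq_iff, e1, e]
      ext <;> simp
  exact le_antisymm (cj_le_iff.2 (h1 _)) (h1 g)

theorem main (hn : ¬ L.Normal) : p = 2 ∧ Nat.card F = 4 ∧
    ∃ g g' : G, Nat.card ↥(g • W F ⊓ g' • W F) = 2 := by
  classical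
  have : Finite (AddSubgroup (F × F)) := Finite.of_injective _ SetLike.coe_injective
  obtain ⟨⟨g, g'⟩, ⟨hne, hb⟩, hmax⟩ := Set.exists_max_image
    {x : G × G | x.1 • W F ≠ x.2 • W F ∧ x.1 • W F ⊓ x.2 • W F ≠ ⊥}
    (fun x => Nat.card ↥(x.1 • W F ⊓ x.2 • W F)) (Set.toFinite _) (by
      by_contra e
      rw [Set.not_nonempty_iff_eq_empty, Set.eq_empty_iff_forall_notMem] at e
      exact hn (h.normal_of_ti fun g g' hne => by_contra fun hb => e (g, g') ⟨hne, hb⟩))
  dsimp only at hne hb hmax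
  set U := g • W F ⊓ g' • W F with hU
  obtain ⟨y, hy', hy⟩ : ∃ y ∈ g' • W F, y ∉ g • W F := by
    by_contra! e
    exact hne (AddSubgroup.eq_of_le_of_card_ge e (by rw [card_smul, card_smul])).symm
  choose! a ha hau using fun u (hu : u ∈ g • W F) => h.ex_comm g hy hu
  have hst : ∀ u ∈ U, a u ∈ MulAction.stabilizer G (g' • W F) := fun u hu => by
    rw [MulAction.mem_stabilizer_iff, ← mul_smul]
    by_contra e
    have h1 : U ≤ (a u * g') • W F ⊓ g' • W F := fun v hv => AddSubgroup.mem_inf.2 ⟨by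
      rw [mul_smul, mem_smul, (K G _).inv_mem (ha u hu.1) |>.1 v hv.1]; exact hv.2, hv.2⟩
    have h2 := hmax (a u * g', g') ⟨e, fun e' => hb (le_bot_iff.1 (e' ▸ h1))⟩
    have h3 := AddSubgroup.eq_of_le_of_card_ge h1 h2
    have h4 : a u • y ∈ U := by
      rw [h3]
      refine AddSubgroup.mem_inf.2 ⟨by rw [mul_smul, mem_smul, inv_smul_smul]; exact hy', ?_⟩
      rw [sub_eq_iff_eq_add.1 (hau u hu.1)]
      exact AddSubgroup.add_mem _ hu.2 hy'
    rw [sub_eq_iff_eq_add.1 (hau u hu.1)] at h4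
    exact hy ((AddSubgroup.add_mem_cancel_left _ hu.1).1 h4.1)
  obtain ⟨⟨u, hu⟩, hu0⟩ := AddSubgroup.ne_bot_iff_exists_ne_zero.1 hb
  have hu1 : a u ≠ 1 := fun e => hu0 (Subtype.ext (by
    have := hau u hu.1
    rw [e, one_smul, sub_self] at this
    exact this.symm))
  obtain ⟨h1, e, he, h2⟩ := h.card_le (g := g')
    (D := K G (g • W F) ⊓ MulAction.stabilizer G (g' • W F)) (fun d hd => K_pow_p p hd.1)
    inf_le_right (eq_bot_iff.2 fun d hd => by_contra fun h1 =>
      hy (h.fix_mem hd.1.1 h1 (hd.2.1 y hy')))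
    (fun e => hu1 (by simpa [e] using mem_inf.2 ⟨ha u hu.1, hst u hu⟩))
  have h3 : Nat.card U ≤ p := (Nat.card_le_card_of_injective
    (fun u : U => (⟨a u, ha u u.2.1, hst u u.2⟩ :
      ↥(K G (g • W F) ⊓ MulAction.stabilizer G (g' • W F)))) fun u v e => Subtype.ext (by
        rw [← hau u u.2.1, ← hau v v.2.1, show a u = a v from congrArg Subtype.val e])).trans h1
  have hf : ∀ v ∈ g' • W F, a u • v - v ∈ g' • W F := fun v hv => sub_mem (by
    rw [← hst u hu, mem_smul, inv_smul_smul]; exact hv) hv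
  let f : ↥(g' • W F) →+ U :=
    { toFun := fun v => ⟨a u • (v : F × F) - v, (ha u hu.1).2 _, hf _ v.2⟩
      map_zero' := by simp
      map_add' := fun v w => Subtype.ext (by simp [smul_add]; abel) }
  have h4 : Nat.card F ≤ p * p := by
    rw [← card_W, ← card_smul g', ← f.ker.card_mul_index, AddSubgroup.index_ker]
    refine Nat.mul_le_mul (le_trans ?_ h3) ((AddSubgroup.card_le_card_addGroup _).trans h3)
    exact Nat.card_le_card_of_injective (fun v : f.ker => (⟨v.1.1, h.fix_mem (ha u hu.1) hu1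
      (sub_eq_zero.1 (Subtype.ext_iff.1 v.2)), v.1.2⟩ : U))
      fun v w e => Subtype.ext (Subtype.ext (congrArg Subtype.val e :))
  rw [he, ← sq, Nat.pow_le_pow_iff_right hp.out.one_lt] at h4
  have h5 : e ≠ 0 := by
    rintro rfl
    exact (Finite.one_lt_card (α := F)).ne' he
  have h6 := Nat.le_of_dvd (Nat.pos_of_ne_zero h5) h2
  have h7 := hp.out.two_le
  obtain rfl : p = 2 := by omega
  obtain rfl : e = 2 := by omega
  refine ⟨rfl, he, g, g', le_antisymm h3 ?_⟩
  exact (AddSubgroup.one_lt_card_iff_ne_bot _).2 hb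

omit [Finite G] [Finite F] hp [CharP F p] in
theorem eq_bot_of_fix {R : Subgroup G} [hR : R.Normal] {v : F × F} (hv : v ≠ 0)
    (e : ∀ r ∈ R, r • v = v) : R = ⊥ := by
  obtain ⟨l, -, e1⟩ := h.trans hv
  refine eq_bot_iff.2 fun r hr => FaithfulSMul.eq_of_smul_eq_smul (α := F × F) fun w => ?_
  by_cases hw : w = 0
  · simp [hw]
  obtain ⟨l', -, e2⟩ := h.trans hw
  have := e _ (hR.conj_mem _ hr (l * l'⁻¹))
  rw [← e1] at this
  simp only [mul_inv_rev, inv_inv, mul_smul, inv_smul_smul, smul_left_cancel_iff, e2,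
    inv_smul_eq_iff] at this
  rw [this, one_smul]

theorem le_stab (hq : Nat.card F ≠ p) {R : Subgroup G} [hR : R.Normal]
    (hc : (Nat.card R).Coprime p) (g : G) : R ≤ MulAction.stabilizer G (g • W F) := by
  have : IsMulCommutative (K G (g • W F)) := ⟨⟨fun a b => Subtype.ext (K_comm a.2 b.2)⟩⟩
  obtain ⟨k, hk⟩ := (isPGroup_K (G := G) p (g • W F)).exists_card_eq
  refine coprime_le_of_forall_centralizer_le (K G (g • W F)) R _ (fun hcy => hq ?_)
    (by rw [normalizer_eq_top]; exact le_top) (hk ▸ hc.symm.pow_left k) fun a ha h1 r hr => ?_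
  · have h1 : Nat.card (K G (g • W F)) ∣ p := by
      rw [← IsCyclic.exponent_eq_card]
      exact Monoid.exponent_dvd_of_forall_pow_eq_one fun d => Subtype.ext (K_pow_p p d.2)
    have hy : g • ((0, 1) : F × F) ∉ g • W F := by simp [mem_smul, mem_W]
    choose! a ha hau using fun u (hu : u ∈ g • W F) => h.ex_comm g hy hu
    have h2 : Nat.card F ≤ Nat.card (K G (g • W F)) := by
      rw [← card_W, ← card_smul g]
      exact Nat.card_le_card_of_injective (fun u : ↥(g • W F) => (⟨a u, ha u u.2⟩ : K G _))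
        fun u v e => Subtype.ext (by
          rw [← hau u u.2, ← hau v v.2, show a u = a v from congrArg Subtype.val e])
    obtain ⟨e, he, -⟩ := h.card_S
    have h5 : e ≠ 0 := by
      rintro rfl
      exact (Finite.one_lt_card (α := F)).ne' he
    exact le_antisymm (h2.trans (Nat.le_of_dvd hp.out.pos h1))
      (he ▸ Nat.le_self_pow h5 p)
  · refine (AddSubgroup.eq_of_le_of_card_ge (fun v hv => mem_smul.2 (h.fix_mem ha h1 ?_))
      (by rw [card_smul])).symm
    rw [← mul_smul, (mem_centralizer_singleton_iff.1 (inv_mem hr.2)).symm, mul_smul, ha.1 v hv]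

theorem alt_seven (hn : ¬ L.Normal) (hL : Nat.card F = 4 → Nat.card L = 60) :
    Nat.card F = 4 ∧ Nonempty (G ≃* alternatingGroup (Fin 7)) := by
  obtain ⟨rfl, hq, g, g', hU⟩ := h.main hn
  refine ⟨hq, ?_⟩
  specialize hL hq
  let _ := ZMod.algebra F 2
  have hr : Module.finrank (ZMod 2) (F × F) = 4 := by
    have := Module.natCard_eq_pow_finrank (K := ZMod 2) (V := F × F)
    rw [Nat.card_prod, hq, Nat.card_zmod] at this
    exact Nat.pow_right_injective le_rfl (this.symm.trans (by norm_num))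
  let b := Module.finBasisOfFinrankEq (ZMod 2) (F × F) hr
  let f : G →* Module.End (ZMod 2) (F × F) :=
    { toFun := fun g => (DistribSMul.toAddMonoidHom (F × F) g).toZModLinearMap 2
      map_one' := LinearMap.ext fun v => one_smul G v
      map_mul' := fun a b => LinearMap.ext fun v => mul_smul a b v }
  let φ : G →* GL (Fin 4) (ZMod 2) :=
    ((LinearMap.toMatrixAlgEquiv b).toMulEquiv.toMonoidHom.comp f).toHomUnits
  have hφ : Function.Injective φ := fun a a' e =>
    FaithfulSMul.eq_of_smul_eq_smul (α := F × F) fun v =>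
      LinearMap.congr_fun ((LinearMap.toMatrixAlgEquiv b).injective (congrArg Units.val e)) v
  let e := MonoidHom.ofInjective hφ
  have hLG : 60 ∣ Nat.card G := hL ▸ card_subgroup_dvd_card L
  have hO2 : pCore 2 G = ⊥ := by
    obtain ⟨v, hv, e⟩ := exists_fix (F := F) (isPGroup_pCore 2 G)
    exact h.eq_bot_of_fix hv e
  have hO : pPrimeCore 2 G = ⊥ := by
    obtain ⟨u, hu0, hu⟩ := (Nat.card_eq_two_iff' (0 : ↥(g • W F ⊓ g' • W F))).1 hU
    have hu0' : (u : F × F) ≠ 0 := fun e => hu0 (Subtype.ext e)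
    refine h.eq_bot_of_fix hu0' fun r hr => ?_
    have h1 : ∀ g : G, ∀ v ∈ g • W F, r • v ∈ g • W F := fun g v hv => by
      rw [← h.le_stab (by omega) (coprime_card_pPrimeCore 2 G) g hr, mem_smul, inv_smul_smul]
      exact hv
    exact congrArg Subtype.val (hu ⟨r • (u : F × F), h1 g _ u.2.1, h1 g' _ u.2.2⟩
      fun e => hu0' (by simpa [smul_eq_zero_iff_eq] using congrArg Subtype.val e))
  have h16 : Nat.card S = 2 ^ (Nat.card G).factorization 2 := by
    rw [h.syl.card_eq_pow_factorization, card_top]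
  have h8 : Nat.card S ≤ 8 := by
    obtain ⟨k, hk, h1⟩ := h.card_S
    rw [hq] at hk h1
    obtain rfl : k = 2 := Nat.pow_right_injective le_rfl (hk.symm.trans (by norm_num))
    exact h1
  have h32 : ¬ 16 ∣ Nat.card G := fun hd => by
    have := (Nat.prime_two.pow_dvd_iff_le_factorization (k := 4) Nat.card_pos.ne').1 hd
    have := Nat.pow_le_pow_right (n := 2) (by norm_num) this
    omega
  have hi := L.card_mul_index
  have hA : ∀ n, 2 ≤ n → (φ.range ≃* alternatingGroup (Fin n)) → 2 * Nat.card G = n.factorial :=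
    fun n hn e1 => by
      have : Nontrivial (Fin n) := Fin.nontrivial_iff_two_le.2 hn
      rw [Nat.card_congr (e.trans e1).toEquiv, two_mul_nat_card_alternatingGroup, Nat.card_perm,
        Nat.card_eq_fintype_card, Fintype.card_fin]
  rcases Cfsg.Agent.S2553.result φ.range (fun e0 => by
      rw [Nat.card_congr e.toEquiv, e0, card_bot] at hLG; omega)
    (by rw [← map_pPrimeCore_equiv e, hO, Subgroup.map_bot]) (by rw [← map_pCore_equiv e, hO2, Subgroup.map_bot])
    with ⟨n, h5, h8', ⟨e1⟩⟩ | ⟨⟨e1⟩⟩ | ⟨⟨e1⟩⟩ | ⟨⟨e1⟩⟩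
  · have hc := hA n (by omega) e1
    interval_cases n
    · simp only [Nat.factorial] at hc
      exact (hn (by rw [index_eq_one.1 (show L.index = 1 by rw [hL] at hi; omega)]; infer_instance)).elim
    · exfalso
      simp only [Nat.factorial] at hc
      have hG : Nat.card G = 360 := by omega
      have : IsSimpleGroup G :=
        have := alternatingGroup.isSimpleGroup (α := Fin 6) (by simp)
        (e.trans e1).isSimpleGroup
      have hN : normalizer (L : Set G) ≠ ⊤ := fun e => hn (normalizer_eq_top_iff.1 e)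
      have h1 := CL.KSG.card_dvd_factorial_index hN
      have h2 := card_dvd_of_le h.le
      have h3 := card_dvd_of_le (le_normalizer (H := L))
      have h4 := (normalizer (L : Set G)).card_mul_index
      have h6 : 3 ≤ (Nat.card G).factorization 2 :=
        (Nat.prime_two.pow_dvd_iff_le_factorization (k := 3) Nat.card_pos.ne').1 (by
          rw [hG]; norm_num)
      have h7 : 8 ∣ Nat.card (normalizer (L : Set G)) :=
        (h16 ▸ pow_dvd_pow 2 h6 : 2 ^ 3 ∣ _).trans h2
      rw [hL] at h3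
      obtain ⟨c, hc'⟩ : 120 ∣ Nat.card (normalizer (L : Set G)) := by omega
      rw [hc', hG, mul_assoc] at h4
      have h9 : c * (normalizer (L : Set G)).index = 3 := by omega
      have h10 := Nat.le_of_dvd (by norm_num) (Dvd.intro_left _ h9)
      have h11 := Nat.le_of_dvd (Nat.factorial_pos _) (h1.trans (Nat.factorial_dvd_factorial h10))
      rw [hG] at h11
      simp [Nat.factorial] at h11
    · exact ⟨e.trans e1⟩
    · simp only [Nat.factorial] at hc
      omega
  · rw [Nat.card_congr (e.trans e1).toEquiv, Nat.card_perm, hL] at hi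
    simp only [Nat.card_eq_fintype_card, Fintype.card_fin, Nat.factorial] at hi
    exact (hn (normal_of_index_eq_two (by omega))).elim
  · rw [Nat.card_congr (e.trans e1).toEquiv, Nat.card_perm] at h32
    simp [Nat.factorial] at h32
  · rw [Nat.card_congr (e.trans e1).toEquiv, Matrix.card_GL_field] at hLG
    simp [Fin.prod_univ_three] at hLG

end Ctx

end CL.NatA7
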