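import Mathlib
import Cfsg.Agent.SIG.WielOrder

/-! The Navarro-Rizo form of the Brauer-Wielandt order formula: a `p`-group acting on a
`p'`-group. -/

set_option autoImplicit false

open Cfsg Subgroup CL.BG3

namespace CL.FGS.NavRizo

section Char
variable {G : Type*} [Group G] [Finite G] {p : ℕ}

theorem sum_range_pow {χ : G → ℂ} (hχ : IsCharacter G χ) {a : G} {N : ℕ}
    (ha : a ^ N = 1) : (N : ℂ) * fixDim χ (zpowers a) = ∑ i ∈ Finset.range N, χ (a ^ i) := by
  obtain ⟨m, rfl⟩ := orderOf_dvd_of_pow_eq_one ha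
  have := Fintype.ofFinite (zpowers a)
  have h := sum_eq_fixDim hχ (zpowers a)
  rw [Nat.card_zpowers] at h
  have h1 : ∑ i ∈ Finset.range (orderOf a), χ (a ^ i) = orderOf a * fixDim χ (zpowers a) := by
    rw [← h, Finset.sum_range, ← (finEquivZPowers (isOfFinOrder_of_finite a)).sum_comp]
    refine Finset.sum_congr rfl fun i _ => ?_
    rw [finEquivZPowers_apply]
  clear ha
  induction m with
  | zero => simp
  | succ m ih =>
    rw [Nat.mul_succ, Finset.sum_range_add, ← ih]
    have : ∀ i, a ^ (orderOf a * m + i) = a ^ i := fun i => by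
      rw [pow_add, pow_mul, pow_orderOf_eq_one, one_pow, one_mul]
    simp only [this]
    rw [h1]; push_cast; ring

theorem sum_fixDim [Fintype G] (hp : p.Prime) {χ : G → ℂ} (hχ : IsCharacter G χ)
    (hG : IsPGroup p G) :
    p * ∑ a : G, fixDim χ (zpowers a) =
      ∑ a : G, fixDim χ (zpowers (a ^ p)) + (p - 1) * Nat.card G * fixDim χ ⊤ := by
  have := Fact.mk hp
  obtain ⟨n, hn⟩ := IsPGroup.iff_card.1 hG
  have htop : ∑ a : G, χ a = Nat.card G * fixDim χ ⊤ := by
    have := Fintype.ofFinite (⊤ : Subgroup G)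
    have h := sum_eq_fixDim hχ ⊤
    rw [card_top] at h
    rw [← h]
    exact (Fintype.sum_equiv topEquiv.toEquiv _ _ fun _ => rfl).symm
  set M := Nat.card G with hM
  have hM0 : (M : ℂ) ≠ 0 := Nat.cast_ne_zero.2 Nat.card_pos.ne'
  have haM : ∀ a : G, a ^ M = 1 := fun a => pow_card_eq_one'
  have e1 : ∀ a : G, ((p * M : ℕ) : ℂ) * fixDim χ (zpowers a) =
      M * fixDim χ (zpowers (a ^ p)) +
        ∑ i ∈ (Finset.range (p * M)).filter (fun i => ¬ p ∣ i), χ (a ^ i) := by
    intro a
    rw [sum_range_pow hχ (N := p * M) (by rw [mul_comm, pow_mul, haM, one_pow]),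
      sum_range_pow hχ (haM _),
      ← Finset.sum_filter_add_sum_filter_not (Finset.range (p * M)) (fun i => p ∣ i)]
    congr 1
    symm
    refine Finset.sum_bij (fun j _ => p * j) ?_ ?_ ?_ ?_
    · intro j hj
      simp only [Finset.mem_filter, Finset.mem_range] at hj ⊢
      exact ⟨Nat.mul_lt_mul_of_pos_left hj hp.pos, dvd_mul_right _ _⟩
    · intro j _ k _ h
      exact Nat.eq_of_mul_eq_mul_left hp.pos h
    · intro i hi
      simp only [Finset.mem_filter, Finset.mem_range] at hi
      obtain ⟨h1, j, rfl⟩ := hi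
      exact ⟨j, Finset.mem_range.2 (Nat.lt_of_mul_lt_mul_left h1), rfl⟩
    · intro j _
      rw [pow_mul]
  have hc : ((Finset.range (p * M)).filter (fun i => ¬ p ∣ i)).card = (p - 1) * M := by
    have h1 := Finset.card_filter_add_card_filter_not (s := Finset.range (p * M)) (fun i => p ∣ i)
    have h2 : ((Finset.range (p * M)).filter (fun i => p ∣ i)).card = M := by
      symm
      conv_lhs => rw [← Finset.card_range M]
      refine Finset.card_bij (fun j _ => p * j) ?_ ?_ ?_
      · intro j hj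
        simp only [Finset.mem_filter, Finset.mem_range] at hj ⊢
        exact ⟨Nat.mul_lt_mul_of_pos_left hj hp.pos, dvd_mul_right _ _⟩
      · intro j _ k _ h
        exact Nat.eq_of_mul_eq_mul_left hp.pos h
      · intro i hi
        simp only [Finset.mem_filter, Finset.mem_range] at hi
        obtain ⟨h1, j, rfl⟩ := hi
        exact ⟨j, Finset.mem_range.2 (Nat.lt_of_mul_lt_mul_left h1), rfl⟩
    rw [h2, Finset.card_range] at h1
    rw [Nat.sub_mul]
    omega
  have key : (M : ℂ) * ((p : ℂ) * ∑ a : G, (fixDim χ (zpowers a) : ℂ)) =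
      M * (∑ a : G, (fixDim χ (zpowers (a ^ p)) : ℂ) +
        ((p - 1 : ℕ) : ℂ) * (M * fixDim χ ⊤)) := by
    have e2 : ∑ a : G, ∑ i ∈ (Finset.range (p * M)).filter (fun i => ¬ p ∣ i), χ (a ^ i) =
        ((p - 1 : ℕ) : ℂ) * M * (M * fixDim χ ⊤) := by
      rw [Finset.sum_comm, ← Nat.cast_mul, ← hc, ← nsmul_eq_mul, ← Finset.sum_const]
      refine Finset.sum_congr rfl fun i hi => ?_
      have hcop : (Nat.card G).Coprime i := by
        rw [← hM, hn]
        exact Nat.Coprime.pow_left _
          ((Nat.Prime.coprime_iff_not_dvd hp).2 (Finset.mem_filter.1 hi).2)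
      rw [← htop]
      exact Fintype.sum_equiv (powCoprime hcop) _ _ fun _ => rfl
    have e3 := Finset.sum_congr (s₁ := Finset.univ) rfl fun a _ => e1 a
    rw [Finset.sum_add_distrib, e2, ← Finset.mul_sum, ← Finset.mul_sum] at e3
    push_cast at e3 ⊢
    linear_combination e3
  have key2 := mul_left_cancel₀ hM0 key
  rw [← mul_assoc] at key2
  exact_mod_cast key2

end Char

variable {G : Type*} [Group G] [Finite G] {p : ℕ}

/-- The Navarro-Rizo formula. -/
theorem order_formula (hp : p.Prime) (A K : Subgroup G) [Fintype A] (hA : IsPGroup p A)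
    (hAK : A ≤ normalizer (K : Set G)) (hK : ¬ p ∣ Nat.card K) :
    (∏ a : A, Nat.card ↥(K ⊓ centralizer {(a : G)})) ^ p =
      (∏ a : A, Nat.card ↥(K ⊓ centralizer {(a : G) ^ p})) *
        Nat.card ↥(K ⊓ centralizer (A : Set G)) ^ ((p - 1) * Nat.card A) := by
  have := Fact.mk hp
  have h0 : ∀ H : Subgroup G, Nat.card H ≠ 0 := fun H => Nat.card_pos.ne'
  refine Nat.eq_of_factorization_eq
    (pow_ne_zero _ (Finset.prod_ne_zero_iff.2 fun _ _ => h0 _))
    (mul_ne_zero (Finset.prod_ne_zero_iff.2 fun _ _ => h0 _) (pow_ne_zero _ (h0 _))) fun q => ?_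
  by_cases hq : q.Prime
  swap
  · simp [Nat.factorization_eq_zero_of_not_prime _ hq]
  obtain ⟨χ, hχ, h⟩ := CL.WOrd.exists_character_coprime A K hAK
    (CL.coprime_card_of_isPGroup hA ((Nat.Prime.coprime_iff_not_dvd hp).2 hK).symm).symm
    (CL.isSolvable_of_isPGroup hA) hq
  have h1 := sum_fixDim hp hχ hA
  rw [← h ⊤, ← MonoidHom.range_eq_map, range_subtype] at h1
  rw [Nat.factorization_mul (Finset.prod_ne_zero_iff.2 fun _ _ => h0 _) (pow_ne_zero _ (h0 _)),
    Nat.factorization_pow,
    Nat.factorization_pow, Nat.factorization_prod fun _ _ => h0 _,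
    Nat.factorization_prod fun _ _ => h0 _]
  simp only [Finsupp.smul_apply, Finsupp.add_apply, smul_eq_mul, Finsupp.finsetSum_apply]
  have e : ∀ a : A, (Nat.card ↥(K ⊓ centralizer {(a : G)})).factorization q =
      fixDim χ (zpowers a) := fun a => by
    rw [← h, MonoidHom.map_zpowers, zpowers_eq_closure, centralizer_closure]
    rfl
  have e' : ∀ a : A, (Nat.card ↥(K ⊓ centralizer {(a : G) ^ p})).factorization q =
      fixDim χ (zpowers (a ^ p)) := fun a => e (a ^ p)
  simp only [e, e']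
  exact h1

theorem order_le (hp : p.Prime) (A K : Subgroup G) [Fintype A] (hA : IsPGroup p A)
    (hAK : A ≤ normalizer (K : Set G)) (hK : ¬ p ∣ Nat.card K) :
    (∏ a : A, Nat.card ↥(K ⊓ centralizer {(a : G)})) ^ p ≤
      Nat.card K ^ Nat.card A *
        Nat.card ↥(K ⊓ centralizer (A : Set G)) ^ ((p - 1) * Nat.card A) := by
  rw [order_formula hp A K hA hAK hK]
  refine Nat.mul_le_mul_right _ ?_
  rw [Nat.card_eq_fintype_card (α := A), ← Finset.card_univ]
  exact Finset.prod_le_pow_card _ _ _ fun a _ => card_le_of_le inf_le_left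

end CL.FGS.NavRizo
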