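import Cfsg.Agent.FGS.NpSq
import Cfsg.Agent.INV.NagMain
import Cfsg.Agent.BLK.BrauerNR
import Cfsg.Agent.SOLV.Core
import Cfsg.Agent.INV.EqOrd.PSL
import Cfsg.Agent.CLAS.SLBasic
import Cfsg.Agent.S3412

/-! Sylow numbers below `p ^ 2` of simple groups. -/

set_option autoImplicit false
open Subgroup Cfsg

namespace CL.NpSq

variable {G : Type*} [Group G] [Finite G] {p : ℕ} [hp : Fact p.Prime]

theorem exists_cof {M : ℕ} (h : Nat.card G = p * M) :
    ∃ j m, Nat.card (Sylow p G) = 1 + j * p ∧ (1 + j * p) * m = M := by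
  have h1 : Nat.card (Sylow p G) ∣ p * M := h ▸ CL.SN.card_sylow_dvd_card
  obtain ⟨m, hm⟩ := (hp.out.coprime_iff_not_dvd.2 (not_dvd_card_sylow p G)).symm.dvd_of_dvd_mul_left h1
  have h2 := card_sylow_modEq_one p G
  rw [Nat.ModEq, Nat.mod_eq_of_lt hp.out.one_lt] at h2
  have h3 : Nat.card (Sylow p G) = 1 + Nat.card (Sylow p G) / p * p := by
    conv_lhs => rw [← Nat.mod_add_div' (Nat.card (Sylow p G)) p, h2]
  exact ⟨_, m, h3, by rw [← h3, hm]⟩

theorem cof_two {p j m c : ℕ} (hp : 3 < p) (h : (1 + j * p) * m = 2 + c * p) :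
    ∃ k, m = 2 + k * p ∧ 2 * j + k + j * k * p = c := by
  have h1 : m % p = 2 := by
    have h2 := congrArg (· % p) h
    simp only [add_mul, one_mul, mul_right_comm j p m, Nat.add_mul_mod_self_right] at h2
    rw [h2, Nat.mod_eq_of_lt (by omega)]
  have h3 : m = 2 + m / p * p := by conv_lhs => rw [← Nat.mod_add_div' m p, h1]
  refine ⟨m / p, h3, Nat.eq_of_mul_eq_mul_right (by omega : 0 < p) ?_⟩
  generalize m / p = k at h3
  subst h3
  nlinarith

theorem val_minus (hp3 : 3 < p) (h : Nat.card G = p * ((p - 1) * (p - 2))) :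
    Nat.card (Sylow p G) = 1 ∨ 2 * Nat.card (Sylow p G) = 2 + (p - 3) * p := by
  obtain ⟨j, m, h1, h2⟩ := exists_cof h
  obtain ⟨c, rfl⟩ : ∃ c, p = c + 3 := ⟨p - 3, by omega⟩
  obtain ⟨k, -, h4⟩ := cof_two hp3 (c := c) (h2.trans (by
    rw [show c + 3 - 1 = c + 2 by omega, show c + 3 - 2 = c + 1 by omega]; ring))
  rw [h1, show c + 3 - 3 = c by omega]
  rcases Nat.eq_zero_or_pos j with rfl | hj
  · simp
  rcases Nat.eq_zero_or_pos k with rfl | hk
  · right
    rw [show c = 2 * j by omega]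
    ring
  · have := Nat.mul_le_mul_right (c + 3) (Nat.mul_pos hj hk)
    omega

theorem val_plus (hp3 : 3 < p) (h : Nat.card G = p * ((p + 1) * (p + 2))) :
    Nat.card (Sylow p G) = 1 ∨ Nat.card (Sylow p G) = p + 1 ∨
      2 * Nat.card (Sylow p G) = 2 + (p + 3) * p := by
  obtain ⟨j, m, h1, h2⟩ := exists_cof h
  obtain ⟨k, -, h4⟩ := cof_two hp3 (c := p + 3) (h2.trans (by ring))
  rw [h1]
  rcases Nat.eq_zero_or_pos j with rfl | hj
  · simp
  rcases Nat.eq_zero_or_pos k with rfl | hk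
  · right; right
    rw [show p + 3 = 2 * j by omega]
    ring
  · right; left
    by_cases e : j = 1
    · rw [e]; ring
    · have := Nat.mul_le_mul_right p (Nat.mul_le_mul (show 2 ≤ j by omega) hk)
      omega

theorem val_13 [Fact (Nat.Prime 13)] (h : Nat.card G = 5616) :
    Nat.card (Sylow 13 G) = 1 ∨ Nat.card (Sylow 13 G) = 27 ∨ Nat.card (Sylow 13 G) = 144 := by
  obtain ⟨j, m, h1, h2⟩ := exists_cof (p := 13) (M := 432) h
  have h3 : 1 + j * 13 ∣ 432 := ⟨m, h2.symm⟩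
  have h4 := Nat.le_of_dvd (by norm_num) h3
  have h5 : j ≤ 33 := by omega
  rw [h1]
  interval_cases j <;> simp_all

theorem card_psl_even {F : Type*} [Field F] [Fintype F] {m : ℕ} (h : Fintype.card F = 2 ^ m) :
    Nat.card (Matrix.ProjectiveSpecialLinearGroup (Fin 2) F) =
      Fintype.card F * (Fintype.card F ^ 2 - 1) := by
  have h1 := CL.SL.gcd_mul_card_PSL_two (F := F)
  rw [Nat.card_eq_fintype_card (α := F)] at h1
  have h2 : m ≠ 0 := by
    rintro rfl
    have := Fintype.one_lt_card (α := F)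
    omega
  have h3 : Nat.gcd 2 (Fintype.card F - 1) = 1 := by
    obtain ⟨k, rfl⟩ := Nat.exists_eq_succ_of_ne_zero h2
    have := Nat.one_le_two_pow (n := k)
    rw [h, pow_succ]
    exact (Nat.coprime_two_left.2 ⟨2 ^ k - 1, by omega⟩)
  rwa [h3, one_mul] at h1

theorem card_minus {F : Type*} [Field F] [Fintype F] {m p : ℕ} (h : Fintype.card F = 2 ^ m)
    (h' : Fintype.card F = p - 1) (hp3 : 3 < p) :
    Nat.card (Matrix.ProjectiveSpecialLinearGroup (Fin 2) F) = p * ((p - 1) * (p - 2)) := by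
  obtain ⟨c, rfl⟩ : ∃ c, p = c + 3 := ⟨p - 3, by omega⟩
  rw [card_psl_even h, h', show c + 3 - 1 = c + 2 by omega, show c + 3 - 2 = c + 1 by omega,
    show (c + 2) ^ 2 = (c + 3) * (c + 1) + 1 by ring, Nat.add_sub_cancel]
  ring

theorem card_plus {F : Type*} [Field F] [Fintype F] {m p : ℕ} (h : Fintype.card F = 2 ^ m)
    (h' : Fintype.card F = p + 1) :
    Nat.card (Matrix.ProjectiveSpecialLinearGroup (Fin 2) F) = p * ((p + 1) * (p + 2)) := by
  rw [card_psl_even h, h', show (p + 1) ^ 2 = p * (p + 2) + 1 by ring, Nat.add_sub_cancel]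
  ring

theorem val_psl {F : Type*} [Field F] [Fintype F] (h : Fintype.card F = p)
    (e : G ≃* Matrix.ProjectiveSpecialLinearGroup (Fin 2) F) : Nat.card (Sylow p G) = p + 1 := by
  have : CharP F p := charP_of_card_eq_prime h
  rw [CL.SN.card_sylow_congr e, CL.EqOrd.card_sylows_psl, h]

theorem ne_27 [IsSimpleGroup G] (hG : ¬ IsMulCommutative G) [Fact (Nat.Prime 13)]
    (h : Nat.card G = 5616) : Nat.card (Sylow 13 G) ≠ 27 := fun e => by
  obtain ⟨P⟩ : Nonempty (Sylow 13 G) := inferInstance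
  have hperf : commutator G = ⊤ := ((inferInstance : (commutator G).Normal).eq_bot_or_eq_top).resolve_left
    fun a => hG ((commutator_eq_bot_iff G).1 a)
  have hO : pPrimeCore 13 G = ⊥ :=
    ((inferInstance : (pPrimeCore 13 G).Normal).eq_bot_or_eq_top).resolve_right fun a => by
      have := coprime_card_pPrimeCore 13 G
      rw [a, card_top, h] at this
      norm_num at this
  rcases CL.D1.brauer_nr_core hperf hO P (card_eq hG (by rw [h]; norm_num) (by rw [e]; norm_num) P)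
    (n := 2) e (by rintro ⟨a, u, ha, hu, h1⟩; nlinarith [Nat.mul_le_mul ha (le_refl u)]) with
    ⟨F, _, _, h1, -, ⟨f⟩⟩ | ⟨m, F, _, _, -, h1, -⟩
  · have := val_psl h1 f
    omega
  · have h2 : m ≤ 4 := by
      by_contra h3
      have := Nat.pow_le_pow_right (show 0 < 2 by norm_num) (show 4 ≤ m by omega)
      omega
    interval_cases m <;> omega

/-- The possible Sylow numbers below `p ^ 2` of non-abelian simple groups. -/
theorem val [IsSimpleGroup G] (hG : ¬ IsMulCommutative G) (hd : p ∣ Nat.card G)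
    (hn : Nat.card (Sylow p G) < p ^ 2) : 3 < p ∧ (Nat.card (Sylow p G) = p + 1 ∨
      ((∃ k, p = 2 ^ k + 1) ∧ 2 * Nat.card (Sylow p G) = 2 + (p - 3) * p) ∨
      ((∃ k, p + 1 = 2 ^ k) ∧ 2 * Nat.card (Sylow p G) = 2 + (p + 3) * p) ∨
      (p = 13 ∧ Nat.card (Sylow p G) = 144)) := by
  obtain ⟨P⟩ : Nonempty (Sylow p G) := inferInstance
  have h0 := card_sylow_ne_one hG hd
  rcases CL.D1.nagai hG P (card_eq hG hd hn P) hn with ⟨h2, F, _, _, h1, ⟨e⟩⟩ | ⟨rfl, h⟩ |
    ⟨h3, ⟨m, h2⟩, F, _, _, h1, ⟨e⟩⟩ | ⟨h3, ⟨m, h2⟩, F, _, _, h1, ⟨e⟩⟩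
  · exact ⟨h2, Or.inl (val_psl h1 e)⟩
  · exact ⟨by norm_num, Or.inr (Or.inr (Or.inr ⟨rfl,
      ((val_13 h).resolve_left h0).resolve_left (ne_27 hG h)⟩))⟩
  · exact ⟨h3, Or.inr (Or.inl ⟨⟨m, h2⟩, (val_minus h3 ((Nat.card_congr e.toEquiv).trans
      (card_minus (m := m) (by omega) h1 h3))).resolve_left h0⟩)⟩
  · exact ⟨h3, ((val_plus h3 ((Nat.card_congr e.toEquiv).trans (card_plus (m := m) (by omega)
      h1))).resolve_left h0).imp_right fun a => Or.inr (Or.inl ⟨⟨m, h2⟩, a⟩)⟩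

end CL.NpSq
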