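import Mathlib
import Cfsg.Agent.FGS.TwoSizes
import Cfsg.Agent.FGS.ClassSizeReg
import Cfsg.Agent.FGS.BGroupP
import Cfsg.Agent.SOLV.PGroupCyclicSCN
import Cfsg.Agent.S0675

/-!
# Coprime faithful actions on abelian groups all of whose orbits have `p`-power size
-/

set_option linter.style.haveILetI false
set_option autoImplicit false

namespace CL.OP

open Subgroup MulAction CL.CS
open scoped commutatorElement Pointwise

universe u

section Basic

variable {A V : Type*} [Group A] [AddCommGroup V] [DistribMulAction A V]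

/-- The fixed points of an element. -/
def fix (V : Type*) [AddCommGroup V] [DistribMulAction A V] (a : A) : AddSubgroup V where
  carrier := {v | a • v = v}
  zero_mem' := smul_zero a
  add_mem' := fun {u v} (hu : a • u = u) (hv : a • v = v) => by
    show a • (u + v) = u + v
    rw [smul_add, hu, hv]
  neg_mem' := fun {u} (hu : a • u = u) => by
    show a • (-u) = -u
    rw [smul_neg, hu]

theorem mem_fix {a : A} {v : V} : v ∈ fix V a ↔ a • v = v := Iff.rfl

theorem eq_zero_of_nsmul {n : ℕ} (hn : n.Coprime (Nat.card V)) {v : V} (h : n • v = 0) : v = 0 := by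
  rw [← AddMonoid.addOrderOf_eq_one_iff]
  exact Nat.eq_one_of_dvd_coprimes hn (addOrderOf_dvd_of_nsmul_eq_zero h) (addOrderOf_dvd_natCard v)

theorem pow_smul_eq_add {e : A} {u w : V} (h : e • u = u + w) (hw : e • w = w) (k : ℕ) :
    e ^ k • u = u + k • w := by
  induction k with
  | zero => simp
  | succ k ih =>
    have : e • (k • w) = k • w := by rw [smul_comm, hw]
    rw [pow_succ', mul_smul, ih, smul_add, h, this, succ_nsmul]; abel

theorem smul_geom {e : A} {n : ℕ} (he : e ^ n = 1) (v : V) :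
    e • ∑ j ∈ Finset.range n, e ^ j • v = ∑ j ∈ Finset.range n, e ^ j • v := by
  rw [Finset.smul_sum]
  simp only [← mul_smul, ← pow_succ']
  have h1 := Finset.sum_range_succ' (fun j => e ^ j • v) n
  rw [Finset.sum_range_succ, he, pow_zero] at h1
  exact (add_right_cancel h1).symm

theorem not_index_two (h : _root_.commutator A = ⊤) {J : Subgroup A} (hJ : J ≠ ⊤)
    (h2 : ∀ a b, a ∉ J → b ∉ J → a * b ∈ J) : False := by
  apply hJ
  rw [eq_top_iff, ← h, _root_.commutator_def, commutator_le]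
  intro a _ b _
  have e : ⁅a, b⁆ = a * b * (b * a)⁻¹ := by rw [commutatorElement_def]; group
  rw [e]
  by_cases ha : a ∈ J <;> by_cases hb : b ∈ J
  · exact mul_mem (mul_mem ha hb) (inv_mem (mul_mem hb ha))
  · exact h2 _ _ (fun h => hb ((mul_mem_cancel_left ha).1 h))
      (fun h => hb ((mul_mem_cancel_right ha).1 (inv_mem_iff.1 h)))
  · exact h2 _ _ (fun h => ha ((mul_mem_cancel_right hb).1 h))
      (fun h => ha ((mul_mem_cancel_left hb).1 (inv_mem_iff.1 h)))
  · exact mul_mem (h2 _ _ ha hb) (inv_mem (h2 _ _ hb ha))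

theorem commutator_mem_of_index_two {J H : Subgroup A}
    (h2 : ∀ a ∈ J, ∀ b ∈ J, a ∉ H → b ∉ H → a * b ∈ H) {a b : A} (ha' : a ∈ J) (hb' : b ∈ J) :
    ⁅a, b⁆ ∈ H := by
  have e : ⁅a, b⁆ = a * b * (b * a)⁻¹ := by rw [commutatorElement_def]; group
  rw [e]
  by_cases ha : a ∈ H <;> by_cases hb : b ∈ H
  · exact mul_mem (mul_mem ha hb) (inv_mem (mul_mem hb ha))
  · exact h2 _ (mul_mem ha' hb') _ (inv_mem (mul_mem hb' ha'))
      (fun h => hb ((mul_mem_cancel_left ha).1 h))
      (fun h => hb ((mul_mem_cancel_right ha).1 (inv_mem_iff.1 h)))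
  · exact h2 _ (mul_mem ha' hb') _ (inv_mem (mul_mem hb' ha'))
      (fun h => ha ((mul_mem_cancel_right hb).1 h))
      (fun h => ha ((mul_mem_cancel_left hb).1 (inv_mem_iff.1 h)))
  · exact mul_mem (h2 _ ha' _ hb' ha hb) (inv_mem (h2 _ hb' _ ha' hb ha))

end Basic

/-- The properties of a minimal counterexample. -/
structure Crit (p : ℕ) (A V : Type*) [Group A] [AddCommGroup V] [DistribMulAction A V] :
    Prop where
  faithful : ∀ a : A, (∀ v : V, a • v = v) → a = 1
  cop : (Nat.card A).Coprime (Nat.card V)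
  orb : ∀ v : V, ∃ k, (stabilizer A v).index = p ^ k
  perf : _root_.commutator A = ⊤
  solv : ∀ N : Subgroup A, N.Normal → N ≠ ⊤ → Group.IsSolvable N
  irr : ∀ W : AddSubgroup V, (∀ a : A, ∀ w ∈ W, a • w ∈ W) → W = ⊥ ∨ W = ⊤

namespace Crit

variable {p : ℕ} [hp : Fact p.Prime] {A V : Type*} [Group A] [Finite A] [AddCommGroup V]
  [Finite V] [DistribMulAction A V] (h : Crit p A V) (P : Sylow p A)
include h

omit [Finite V] in
theorem exists_mem (a : A) (v : V) : ∃ x ∈ (P : Subgroup A), a • v = x • v := by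
  obtain ⟨k, hk⟩ := h.orb v
  obtain ⟨x, hx, b, hb, rfl⟩ := exists_mul_sylow_of_index_eq_pow hk P a
  exact ⟨x, hx, by rw [mul_smul, mem_stabilizer_iff.1 hb]⟩

omit [Finite V] in
theorem irrP (W : AddSubgroup V) (hW : ∀ x ∈ (P : Subgroup A), ∀ w ∈ W, x • w ∈ W) :
    W = ⊥ ∨ W = ⊤ :=
  h.irr W fun a w hw => by
    obtain ⟨x, hx, e⟩ := h.exists_mem P a w
    exact e ▸ hW x hx w hw

omit [Finite V] in
theorem eq_zero_of_central {z : A} (hz : z ≠ 1) (hc : ∀ x ∈ (P : Subgroup A), Commute x z)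
    {v : V} (hv : z • v = v) : v = 0 := by
  rcases h.irrP P (fix V z) (fun x hx w hw => by
    rw [mem_fix, ← mul_smul, ← (hc x hx).eq, mul_smul, mem_fix.1 hw]) with e | e
  · exact AddSubgroup.mem_bot.1 (e ▸ mem_fix.2 hv)
  · exact absurd (h.faithful z fun v => mem_fix.1 (e ▸ AddSubgroup.mem_top v)) hz

omit hp [Finite A] [Finite V] in
theorem eq_zero_of_dvd {n : ℕ} (hn : n ∣ Nat.card A) {v : V} (hv : n • v = 0) : v = 0 :=
  eq_zero_of_nsmul (Nat.Coprime.coprime_dvd_left hn h.cop) hv

/-- The imprimitive case. -/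
theorem isSolvable_of_block {W U : AddSubgroup V} (hW0 : W ≠ ⊥) (hW1 : W ≠ ⊤)
    (hWU : ∀ w ∈ W, w ∈ U → w = 0)
    (hU : ∀ x ∈ (P : Subgroup A), (∀ w ∈ W, x • w ∈ W) ∨ ∀ w ∈ W, x • w ∈ U)
    (hN : ∀ x ∈ (P : Subgroup A), ∀ y ∈ (P : Subgroup A), (∀ w ∈ W, y • w ∈ W) →
      ∀ w ∈ W, (x⁻¹ * y * x) • w ∈ W) : Group.IsSolvable A := by
  set J := stabilizer A (W : Set V) with hJ
  have hmem : ∀ a : A, a ∈ J ↔ ∀ w ∈ W, a • w ∈ W := by
    intro a
    rw [hJ, mem_stabilizer_set_iff_smul_set_subset (Set.toFinite _)]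
    exact ⟨fun h1 w hw => h1 (Set.smul_mem_smul_set hw), by
      rintro h1 _ ⟨w, hw, rfl⟩; exact h1 w hw⟩
  obtain ⟨w, hw, hw0⟩ : ∃ w ∈ W, w ≠ 0 := by
    by_contra hc
    push Not at hc
    exact hW0 ((AddSubgroup.eq_bot_iff_forall W).2 hc)
  have hne : ∀ (a : A) (u : V), u ≠ 0 → a • u ≠ 0 := fun a u hu e => hu ((smul_eq_zero_iff_eq a).1 e)
  have hJ1 : ∀ a : A, ∀ u ∈ W, u ≠ 0 → a • u ∈ W → a ∈ J := by
    intro a u hu hu0 hau
    refine (hmem a).2 fun u' hu' => ?_
    obtain ⟨y, hy, e⟩ := h.exists_mem P a u'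
    rcases hU y hy with h1 | h1
    · exact e ▸ h1 u' hu'
    obtain ⟨y', hy', e'⟩ := h.exists_mem P a (u + u')
    rcases hU y' hy' with h2 | h2
    · have := h2 _ (W.add_mem hu hu')
      rw [← e', smul_add] at this
      exact (W.add_mem_cancel_left hau).1 this
    · have := h2 _ (W.add_mem hu hu')
      rw [← e', smul_add] at this
      exact absurd (hWU _ hau ((U.add_mem_cancel_right (e ▸ h1 u' hu')).1 this)) (hne a u hu0)
  have hU' : ∀ b : A, b ∉ J → b • w ∈ U := by
    intro b hb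
    obtain ⟨y, hy, e⟩ := h.exists_mem P b w
    rcases hU y hy with h1 | h1
    · exact absurd (hJ1 b w hw hw0 (e ▸ h1 w hw)) hb
    · exact e ▸ h1 w hw
  have hN' : ∀ x ∈ (P : Subgroup A), ∀ y ∈ (P : Subgroup A), y ∈ J → x⁻¹ * y * x ∈ J :=
    fun x hx y hy hyJ => (hmem _).2 (hN x hx y hy ((hmem _).1 hyJ))
  have hfin : ∀ a b c d : A, a • w + b • w = c • w + d • w → a ∉ J → b ∉ J → c ∉ J → d ∉ J := by
    intro a b c d e ha hb hc hd
    have h1 : d • w ∈ U := by
      have : d • w = a • w + b • w - c • w := by rw [e]; abel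
      rw [this]
      exact U.sub_mem (U.add_mem (hU' a ha) (hU' b hb)) (hU' c hc)
    exact hne d w hw0 (hWU _ ((hmem d).1 hd w hw) h1)
  have hsub : ∀ g ∈ J, ∀ x ∈ (P : Subgroup A), x⁻¹ * g * x ∈ J ∨ x * g * x ∈ J := by
    intro g hg x hx
    by_cases hxJ : x ∈ J
    · exact Or.inl (mul_mem (mul_mem (inv_mem hxJ) hg) hxJ)
    obtain ⟨y, hy, e⟩ := h.exists_mem P g (w + x • w)
    rw [smul_add, smul_add, ← mul_smul, ← mul_smul] at e
    by_cases hyJ : y ∈ J
    · left
      by_contra hc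
      refine hfin (x⁻¹ * g) (x⁻¹ * g * x) (x⁻¹ * y) (x⁻¹ * y * x) ?_
        (fun h1 => hxJ (inv_mem_iff.1 ((mul_mem_cancel_right hg).1 h1))) hc
        (fun h1 => hxJ (inv_mem_iff.1 ((mul_mem_cancel_right hyJ).1 h1))) (hN' x hx y hy hyJ)
      simp only [mul_assoc, mul_smul x⁻¹, ← smul_add, e]
    · right
      have hyx : y * x ∈ J := by
        by_contra hc
        refine hfin y (y * x) (g * x) g ?_ hyJ hc (fun h1 => hxJ ((mul_mem_cancel_left hg).1 h1)) hg
        rw [← e, add_comm]
      have hxy : x * y ∈ J := by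
        have := hN' x⁻¹ (inv_mem hx) _ (mul_mem hy hx) hyx
        simpa [mul_assoc] using this
      by_contra hc
      refine hfin (x * g) (x * g * x) (x * y * x) (x * y) ?_
        (fun h1 => hxJ ((mul_mem_cancel_right hg).1 h1)) hc
        (fun h1 => hxJ ((mul_mem_cancel_left hxy).1 h1)) hxy
      simp only [mul_assoc, mul_smul x, ← smul_add, e]
      rw [add_comm]
  have hcomm : ∀ g ∈ J, ∀ g' ∈ J, ⁅g, g'⁆ ∈ J.normalCore := by
    intro g hg g' hg' a
    obtain ⟨x, hx, e⟩ := h.exists_mem P a⁻¹ w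
    have hj : a * x ∈ J := hJ1 _ w hw hw0 (by rw [mul_smul, ← e, smul_inv_smul]; exact hw)
    have h1 : ⁅g, g'⁆ ∈ J.comap (MulAut.conj x⁻¹).toMonoidHom := by
      refine commutator_mem_of_index_two (J := J) (fun b hb c hc hb' hc' => ?_) hg hg'
      simp only [mem_comap, MulEquiv.coe_toMonoidHom, MulAut.conj_apply, inv_inv] at hb' hc' ⊢
      have h2 := (hsub c hc x hx).resolve_left hc'
      rcases hsub b hb x⁻¹ (inv_mem hx) with h3 | h3
      · exfalso
        apply hb'
        have h4 := (hsub b hb x hx).resolve_left hb'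
        have e1 : x⁻¹ * b * x = ((x⁻¹⁻¹ * b * x⁻¹)⁻¹ * (x * b * x))⁻¹ * (x * b * x) := by group
        rw [e1]
        exact mul_mem (inv_mem (mul_mem (inv_mem h3) h4)) h4
      · have e1 : x⁻¹ * (b * c) * x = x⁻¹ * b * x⁻¹ * (x * c * x) := by group
        rw [e1]
        exact mul_mem h3 h2
    simp only [mem_comap, MulEquiv.coe_toMonoidHom, MulAut.conj_apply, inv_inv] at h1
    have e1 : a * ⁅g, g'⁆ * a⁻¹ = a * x * (x⁻¹ * ⁅g, g'⁆ * x) * (a * x)⁻¹ := by group
    rw [e1]
    exact mul_mem (mul_mem hj h1) (inv_mem hj)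
  have hJt : J ≠ ⊤ := by
    intro e
    rcases h.irr W (fun a => (hmem a).1 (e ▸ mem_top a)) with h1 | h1
    · exact hW0 h1
    · exact hW1 h1
  haveI := h.solv J.normalCore inferInstance fun e => hJt (eq_top_iff.2 (e ▸ J.normalCore_le))
  haveI : Group.IsSolvable (A ⧸ J.normalCore) := by
    refine isSolvable_of_abelian_index_pow hp.out ⟨J.map (QuotientGroup.mk' _), ⟨⟨?_⟩⟩, ?_⟩
    · rintro ⟨_, a, ha, rfl⟩ ⟨_, b, hb, rfl⟩
      refine Subtype.ext ?_
      show QuotientGroup.mk' _ a * QuotientGroup.mk' _ b = QuotientGroup.mk' _ b * QuotientGroup.mk' _ a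
      rw [← commutatorElement_eq_one_iff_mul_comm, ← map_commutatorElement, QuotientGroup.mk'_apply,
        QuotientGroup.eq_one_iff]
      exact hcomm a ha b hb
    · obtain ⟨k, hk⟩ := h.orb w
      have h1 : J.index ∣ p ^ k := hk ▸ index_dvd_of_le fun a ha =>
        hJ1 a w hw hw0 (by rw [mem_stabilizer_iff.1 ha]; exact hw)
      obtain ⟨j, -, hj⟩ := (Nat.dvd_prime_pow hp.out).1
        ((index_map_dvd J (QuotientGroup.mk'_surjective J.normalCore)).trans h1)
      exact ⟨j, hj⟩
  exact Group.isSolvable_of_ker_le_range J.normalCore.subtype (QuotientGroup.mk' J.normalCore)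
    (by rw [QuotientGroup.ker_mk', range_subtype])

/-- A second-center element with nontrivial fixed points gives a system of imprimitivity. -/
theorem isSolvable_of_second {e : A} (he1 : e ≠ 1) (h0 : fix V e ≠ ⊥)
    (hZ : ∀ x ∈ (P : Subgroup A), ∀ y ∈ (P : Subgroup A), Commute y ⁅x, e⁆)
    (heP : e ∈ (P : Subgroup A)) : Group.IsSolvable A := by
  let φ : V →+ V := DistribSMul.toAddMonoidHom V e - AddMonoidHom.id V
  have hφ : ∀ v, φ v = e • v - v := fun _ => rfl
  have hconj : ∀ x : A, ∀ w ∈ fix V e, (⁅x, e⁆ * e) • x • w = x • w := by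
    intro x w hw
    have : ⁅x, e⁆ * e * x = x * e := by rw [commutatorElement_def]; group
    rw [← mul_smul, this, mul_smul, mem_fix.1 hw]
  refine h.isSolvable_of_block P (U := φ.range) h0
    (fun e' => he1 (h.faithful e fun v => mem_fix.1 (e' ▸ AddSubgroup.mem_top v))) ?_ ?_ ?_
  · rintro w hw ⟨u, hu⟩
    rw [hφ, sub_eq_iff_eq_add'] at hu
    have := pow_smul_eq_add hu (mem_fix.1 hw) (orderOf e)
    rw [pow_orderOf_eq_one, one_smul, left_eq_add] at this
    exact h.eq_zero_of_dvd (orderOf_dvd_natCard e) this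
  · intro x hx
    by_cases hc : ⁅x, e⁆ = 1
    · left
      intro w hw
      have := hconj x w hw
      rwa [hc, one_mul] at this
    right
    have hce : Commute e (⁅x, e⁆ * e) := (hZ x hx e heP).mul_right (Commute.refl e)
    let ψ : fix V (⁅x, e⁆ * e) → fix V (⁅x, e⁆ * e) := fun v => ⟨e • (v : V) - v, by
      rw [mem_fix, smul_sub, ← mul_smul, ← hce.eq, mul_smul, mem_fix.1 v.2]⟩
    have hinj : Function.Injective ψ := by
      intro u v huv
      have h1 : e • ((u : V) - v) = u - v := by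
        have : e • (u : V) - u = e • (v : V) - v := congrArg Subtype.val huv
        rw [smul_sub]
        exact sub_eq_sub_iff_sub_eq_sub.1 this
      have h2 := mem_fix.1 (u - v).2
      rw [AddSubgroup.coe_sub, mul_smul, h1] at h2
      exact Subtype.ext (sub_eq_zero.1 (h.eq_zero_of_central P hc (hZ x hx) h2))
    intro w hw
    obtain ⟨u, hu⟩ := Finite.injective_iff_surjective.1 hinj ⟨x • w, hconj x w hw⟩
    exact ⟨u, congrArg Subtype.val hu⟩
  · intro x hx y hy hyW w hw
    have hye : ⁅y, e⁆ = 1 := by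
      by_contra hc
      obtain ⟨u, hu, hu0⟩ : ∃ u ∈ fix V e, u ≠ 0 := by
        by_contra hc
        push Not at hc
        exact h0 ((AddSubgroup.eq_bot_iff_forall _).2 hc)
      have h1 := hconj y u hu
      rw [mul_smul, mem_fix.1 (hyW u hu)] at h1
      exact hu0 ((smul_eq_zero_iff_eq y).1 (h.eq_zero_of_central P hc (hZ y hy) h1))
    have h1 : Commute e (x⁻¹ * y * x) := by
      have h2 : x * e * x⁻¹ = ⁅x, e⁆ * e := by rw [commutatorElement_def]; group
      have h3 : Commute y (x * e * x⁻¹) := by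
        rw [h2]
        exact (hZ x hx y hy).mul_right (commutatorElement_eq_one_iff_commute.1 hye)
      show e * (x⁻¹ * y * x) = x⁻¹ * y * x * e
      calc e * (x⁻¹ * y * x) = x⁻¹ * (x * e * x⁻¹ * y) * x := by group
        _ = _ := by rw [← h3.eq]; group
    rw [mem_fix, ← mul_smul, h1.eq, mul_smul, mem_fix.1 hw]

omit [Finite V] in
theorem exists_fix_ne_bot [Nontrivial V] {E : Subgroup A} (hE : Cfsg.IsElementaryAbelian p E)
    (hc : p < Nat.card E) : ∃ e ∈ E, e ≠ 1 ∧ fix V e ≠ ⊥ := by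
  by_contra hcon
  push Not at hcon
  obtain ⟨x, hx, y, hy, hxo, hyo, hxy⟩ := CL.PCyc.exists_pair_of_elemAb hE hc
  have hgeom : ∀ e ∈ E, e ≠ 1 → ∀ v : V, ∑ j ∈ Finset.range p, e ^ j • v = 0 := fun e he he1 v =>
    AddSubgroup.mem_bot.1 (hcon e he he1 ▸ mem_fix.2 (smul_geom (hE.2 e he) v))
  have hcomm : Commute y x := by
    haveI := hE.1
    exact setLike_mul_comm hy hx
  obtain ⟨v, hv⟩ := exists_ne (0 : V)
  apply hv
  refine h.eq_zero_of_dvd (hxo ▸ orderOf_dvd_natCard x) ?_
  have h1 : ∑ j ∈ Finset.range p, ∑ i ∈ Finset.range p, (y * x ^ j) ^ i • v = 0 :=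
    Finset.sum_eq_zero fun j _ => hgeom _ (mul_mem hy (pow_mem hx j)) (fun e => hxy (by
      rw [eq_inv_of_mul_eq_one_left e]
      exact inv_mem (pow_mem (mem_zpowers x) j))) v
  rw [Finset.sum_comm, Finset.sum_eq_single 0] at h1
  · simpa using h1
  · intro i hi hi0
    have h2 : x ^ i ≠ 1 := pow_ne_one_of_lt_orderOf hi0 (hxo ▸ Finset.mem_range.1 hi)
    rw [← hgeom _ (pow_mem hx i) h2 (y ^ i • v)]
    refine Finset.sum_congr rfl fun j _ => ?_
    rw [(hcomm.pow_right j).mul_pow, ← mul_smul, ← pow_mul, ← pow_mul, mul_comm j i,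
      (hcomm.pow_pow i (i * j)).eq]
  · intro h0
    exact absurd (Finset.mem_range.2 hp.out.pos) h0

theorem isSolvable_of_elemAb [Nontrivial V] {E : Subgroup (P : Subgroup A)} [E.Normal]
    (hE : Cfsg.IsElementaryAbelian p E) (hc : Nat.card E = p ^ 2) : Group.IsSolvable A := by
  have hE' : Cfsg.IsElementaryAbelian p (E.map (P : Subgroup A).subtype) := by
    haveI := hE.1
    refine ⟨inferInstance, ?_⟩
    rintro _ ⟨a, ha, rfl⟩
    rw [← map_pow, hE.2 a ha, map_one]
  obtain ⟨_, ⟨e, he, rfl⟩, he1, h0⟩ := h.exists_fix_ne_bot hE' (by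
    rw [card_map_of_injective (subtype_injective _), hc, sq]; exact lt_mul_self hp.out.one_lt)
  have hE0 : E ≠ ⊥ := by
    rintro rfl
    exact he1 (by rw [mem_bot.1 he, map_one])
  have hlt : ⁅E, (⊤ : Subgroup (P : Subgroup A))⁆ < E :=
    CL.commutator_lt_of_isPGroup (P.isPGroup'.to_subgroup E) (P.isPGroup'.to_subgroup ⊤)
      le_normalizer_of_normal hE0
  have hF : ⁅E, (⊤ : Subgroup (P : Subgroup A))⁆ ≤ center (P : Subgroup A) := by
    by_cases hb : ⁅E, (⊤ : Subgroup (P : Subgroup A))⁆ = ⊥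
    · rw [hb]; exact bot_le
    obtain ⟨j, hj, hj'⟩ := (Nat.dvd_prime_pow hp.out).1 (hc ▸ card_dvd_of_le hlt.le)
    have h1 : j ≠ 2 := by
      rintro rfl
      exact hlt.ne (eq_of_le_of_card_ge hlt.le (by rw [hj', hc]))
    have h2 : j ≠ 0 := by
      rintro rfl
      exact hb (card_eq_one.1 hj')
    obtain rfl : j = 1 := by omega
    haveI := P.isPGroup'.isNilpotent
    obtain ⟨z, hz⟩ := (ne_bot_iff_exists_ne_one.1
      (CL.inf_center_ne_bot_of_isNilpotent _ hb))
    exact le_of_card_prime_of_mem hp.out (hj'.trans (pow_one p)) z.2.1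
      (fun e => hz (Subtype.ext e)) z.2.2
  refine h.isSolvable_of_second P he1 h0 (fun x hx y hy => ?_) e.2
  have h1 : ⁅(⟨x, hx⟩ : (P : Subgroup A)), e⁆ ∈ center (P : Subgroup A) := by
    rw [← commutatorElement_inv]
    exact inv_mem (hF (commutator_mem_commutator he (mem_top _)))
  exact congrArg Subtype.val (mem_center_iff.1 h1 ⟨y, hy⟩)

omit hp in
/-- A doubly transitive orbit is impossible when all orbits have the same size. -/
theorem not_two_trans {N : ℕ} (hN : ∀ v : V, v ≠ 0 → (orbit A v).ncard = N) {z : A}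
    (hz : ∀ v : V, z • v = v → v = 0) {v : V} (hv : v ≠ 0)
    (h2 : ∀ x ∈ orbit A v, ∀ y ∈ orbit A v, x ≠ v → y ≠ v → ∃ g : A, g • v = v ∧ g • x = y) :
    False := by
  classical
  have hsum : ∀ u : V, ∑ x ∈ (Set.toFinite (orbit A u)).toFinset, x = 0 := by
    intro u
    apply hz
    rw [Finset.smul_sum]
    refine Finset.sum_equiv (MulAction.toPerm z) (fun x => ?_) fun x _ => rfl
    simp only [Set.Finite.mem_toFinset, toPerm_apply]
    exact ⟨fun hx => mem_orbit_of_mem_orbit z hx, fun hx => by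
      simpa using mem_orbit_of_mem_orbit z⁻¹ hx⟩
  have hw : z • v ≠ v := fun e => hv (hz v e)
  have hwO : z • v ∈ orbit A v := mem_orbit v z
  obtain ⟨g, hg1, hg2⟩ : ∃ g : A, g • v = z • v ∧ g • z • v = v := by
    obtain ⟨g, h1, h3⟩ := h2 _ (mem_orbit v z⁻¹) _ hwO
      (fun e => hw (by rw [inv_smul_eq_iff] at e; exact e.symm)) hw
    exact ⟨g * z⁻¹, by rw [mul_smul, h3], by rw [mul_smul, inv_smul_smul, h1]⟩
  set d := v - z • v with hd
  have hd0 : d ≠ 0 := fun e => hw (sub_eq_zero.1 e).symm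
  set O := (Set.toFinite (orbit A v)).toFinset with hO
  set D := (Set.toFinite (orbit A d)).toFinset with hD
  have hOc : O.card = N := by rw [hO, ← Set.ncard_eq_toFinset_card, hN v hv]
  have hDc : D.card = N := by rw [hD, ← Set.ncard_eq_toFinset_card, hN d hd0]
  have hvO : v ∈ O := (Set.Finite.mem_toFinset _).2 (mem_orbit_self v)
  have hsub : (O.erase v).image (v - ·) ⊆ D := by
    intro y hy
    obtain ⟨x, hx, rfl⟩ := Finset.mem_image.1 hy
    obtain ⟨a, h1, h3⟩ := h2 _ hwO x ((Set.Finite.mem_toFinset _).1 (Finset.mem_of_mem_erase hx))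
      hw (Finset.ne_of_mem_erase hx)
    exact (Set.Finite.mem_toFinset _).2 ⟨a, by
      show a • d = v - x
      rw [hd, smul_sub, h1, h3]⟩
  have hN0 : 0 < N := hOc ▸ Finset.card_pos.2 ⟨v, hvO⟩
  obtain ⟨d₀, hd₀⟩ : ∃ d₀, D \ (O.erase v).image (v - ·) = {d₀} := by
    rw [← Finset.card_eq_one, Finset.card_sdiff_of_subset hsub,
      Finset.card_image_of_injective _ sub_right_injective, Finset.card_erase_of_mem hvO, hOc, hDc]
    omega
  have hd₀D : d₀ ∈ orbit A d := by
    have : d₀ ∈ D \ (O.erase v).image (v - ·) := hd₀ ▸ Finset.mem_singleton_self d₀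
    exact (Set.Finite.mem_toFinset _).1 (Finset.mem_sdiff.1 this).1
  have h3 : d₀ = -(N • v) := by
    have e1 := Finset.sum_sdiff hsub (f := fun x => x)
    rw [hd₀, Finset.sum_singleton, hsum d, Finset.sum_image fun x _ y _ e => sub_right_injective e,
      Finset.sum_sub_distrib, Finset.sum_const, Finset.card_erase_of_mem hvO, hOc] at e1
    have e2 := Finset.add_sum_erase O (fun x => x) hvO
    rw [hsum v] at e2
    rw [eq_neg_of_add_eq_zero_right e2, sub_neg_eq_add, ← succ_nsmul,
      Nat.sub_add_cancel hN0] at e1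
    exact eq_neg_of_add_eq_zero_left e1
  obtain ⟨a, ha⟩ := hd₀D
  have ha' : a • d = -(N • v) := ha.trans h3
  have hgd : g • d = -d := by rw [hd, smul_sub, hg1, hg2, neg_sub]
  have h4 : (a * g * a⁻¹) • v = -v := by
    have e1 : (a * g * a⁻¹) • a • d = -(a • d) := by
      rw [mul_smul, inv_smul_smul, mul_smul, hgd, smul_neg]
    rw [ha', smul_neg, neg_inj, smul_comm] at e1
    have hNA : N ∣ Nat.card A := by
      rw [← hN v hv, ← index_stabilizer]; exact index_dvd_card _
    rw [← add_eq_zero_iff_eq_neg]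
    exact h.eq_zero_of_dvd hNA (by rw [nsmul_add, e1, neg_add_cancel])
  by_cases hvv : -v = v
  · have h5 : ∀ k : ℕ, g ^ (2 * k) • v = v := by
      intro k
      induction k with
      | zero => simp
      | succ k ih => rw [Nat.mul_succ, pow_add, mul_smul, sq, mul_smul, hg1, hg2, ih]
    rcases Nat.even_or_odd' (orderOf g) with ⟨k, hk | hk⟩
    · refine hv (h.eq_zero_of_dvd ((Dvd.intro _ hk.symm).trans (orderOf_dvd_natCard g)) ?_)
      rw [two_nsmul, add_eq_zero_iff_neg_eq, hvv]
    · have h6 := pow_orderOf_eq_one g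
      rw [hk, pow_succ'] at h6
      have h7 := h5 k
      rw [eq_inv_of_mul_eq_one_right h6, inv_smul_eq_iff, hg1] at h7
      exact hw h7.symm
  · have h5 : ∀ a : A, a ∉ stabilizer A v → a • v = -v := by
      intro b hb
      obtain ⟨c, h6, h7⟩ := h2 _ ⟨_, h4⟩ _ (mem_orbit v b) hvv hb
      rw [← h7, smul_neg, h6]
    refine not_index_two h.perf (J := stabilizer A v) (fun e => hw ?_) fun a b ha hb => ?_
    · exact mem_stabilizer_iff.1 (e ▸ mem_top z)
    · rw [mem_stabilizer_iff, mul_smul, h5 b hb, smul_neg, h5 a ha, neg_neg]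

theorem isSolvable_of_cyclic [Nontrivial V] (hP : IsCyclic (P : Subgroup A)) :
    Group.IsSolvable A := by
  classical
  obtain ⟨c, hc⟩ : ∃ c : A, zpowers c = P := (Subgroup.isCyclic_iff_exists_zpowers_eq_top _).1 hP
  obtain ⟨m, hm⟩ := P.isPGroup'.exists_card_eq
  have hco : orderOf c = p ^ m := by rw [← Nat.card_zpowers, hc, hm]
  obtain ⟨v, hv⟩ := exists_ne (0 : V)
  rcases Nat.eq_zero_or_pos m with rfl | hm1
  · haveI : Subsingleton A := ⟨fun a b => by
      have : ∀ a : A, a = 1 := fun a => h.faithful a fun v => by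
        obtain ⟨x, hx, e⟩ := h.exists_mem P a v
        rw [card_eq_one.1 hm, mem_bot] at hx
        rw [e, hx, one_smul]
      rw [this a, this b]⟩
    infer_instance
  set z := c ^ p ^ (m - 1) with hz
  have hzo : orderOf z = p := CL.BG.orderOf_pow_pred hm1 hco
  have hz1 : z ≠ 1 := fun e => hp.out.one_lt.ne (by rw [← hzo, e, orderOf_one])
  have hPc : ∀ x ∈ (P : Subgroup A), ∀ y ∈ (P : Subgroup A), Commute x y := by
    intro x hx y hy
    rw [← hc] at hx hy
    exact setLike_mul_comm hx hy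
  have hzP : z ∈ (P : Subgroup A) := hc ▸ pow_mem (mem_zpowers c) _
  have hzf : ∀ v : V, z • v = v → v = 0 := fun v =>
    h.eq_zero_of_central P hz1 fun x hx => hPc x hx z hzP
  have hcard : ∀ v : V, v ≠ 0 → (orbit A v).ncard = p ^ m := by
    intro v hv
    rw [← Nat.card_coe_set_eq, ← hco, ← Nat.card_zpowers]
    symm
    refine Nat.card_eq_of_bijective (fun u => ⟨(u : A) • v, mem_orbit v _⟩) ⟨fun u w huw => ?_, ?_⟩
    · by_contra hne
      have h1 : ((w⁻¹ * u : zpowers c) : A) ≠ 1 := fun e =>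
        hne (inv_mul_eq_one.1 (Subtype.ext e)).symm
      have h2 : ((w⁻¹ * u : zpowers c) : A) ∈ stabilizer A v := by
        have huv' : (u : A) • v = (w : A) • v := congrArg Subtype.val huw
        rw [mem_stabilizer_iff, coe_mul, mul_smul, huv', coe_inv, inv_smul_smul]
      exact hv (hzf v (zpowers_le.2 h2 (CL.BG.pow_pred_mem_zpowers hm1 hco (w⁻¹ * u).2 h1)))
    · rintro ⟨_, a, rfl⟩
      obtain ⟨x, hx, e⟩ := h.exists_mem P a v
      exact ⟨⟨x, hc ▸ hx⟩, Subtype.ext e.symm⟩
  have hNt : normalClosure ({z} : Set A) = ⊤ := by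
    by_contra hne
    have hs := h.solv _ inferInstance hne
    obtain ⟨M, hM, hMN⟩ := CL.exists_isMinNormal_le (normalClosure ({z} : Set A)) fun e =>
      hz1 (mem_bot.1 (e ▸ subset_normalClosure (Set.mem_singleton z)))
    haveI := hM.normal
    obtain ⟨r, hr, hrM⟩ := hM.exists_isPGroup_of_isSolvable
      (Group.isSolvable_of_isSolvable_injective (inclusion_injective hMN))
    haveI := Fact.mk hr
    by_cases hrp : r = p
    · subst hrp
      have hMP : M ≤ P := hrM.le_sylow_of_normal P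
      haveI : IsCyclic M := isCyclic_of_injective (inclusion hMP) (inclusion_injective hMP)
      obtain ⟨a, ha⟩ : ∃ a : A, zpowers a = M := (Subgroup.isCyclic_iff_exists_zpowers_eq_top _).1 ‹_›
      haveI : (zpowers a).Normal := ha ▸ hM.normal
      have h1 := CL.PCyc.commutator_le_centralizer_of_normal a
      rw [h.perf] at h1
      have h2 := eq_one_of_abelian_sylow P ⟨⟨fun x y => Subtype.ext (hPc x x.2 y y.2).eq⟩⟩
        (hMP (ha ▸ mem_zpowers a)) (h.perf ▸ mem_top a) (le_top.trans h1)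
      exact hM.ne_bot (by rw [← ha, h2, zpowers_one_eq_bot])
    · refine hM.ne_bot ((eq_bot_iff_forall M).2 fun a ha => h.faithful a fun u => ?_)
      obtain ⟨k, hk⟩ := h.orb u
      obtain ⟨j, hj⟩ := hrM.index ((stabilizer A u).subgroupOf M)
      have h1 : (stabilizer A u).relIndex M = 1 :=
        Nat.eq_one_of_dvd_coprimes (((Nat.coprime_primes hr hp.out).2 hrp).pow j k)
          (dvd_of_eq hj) (hk ▸ relIndex_dvd_index_of_normal_right _ _)
      exact relIndex_eq_one.1 h1 ha
  let ω : orbit A v := ⟨v, mem_orbit_self v⟩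
  have hΩ : Nat.card (orbit A v) = p ^ m := by rw [Nat.card_coe_set_eq, hcard v hv]
  have hω : z • ω ≠ ω := fun e => hv (hzf v (congrArg Subtype.val e))
  by_cases hm2 : 2 ≤ m
  · refine (h.not_two_trans hcard hzf hv fun x hx y hy hxv hyv => ?_).elim
    obtain ⟨g, h1, h2⟩ := CL.BG.two_trans_of_cyclic hm2 hco hΩ hω (x := ⟨x, hx⟩) (y := ⟨y, hy⟩)
      (by rintro ⟨_, a, rfl⟩; exact ⟨a, hNt ▸ mem_top a, rfl⟩)
      (fun e => hxv (congrArg Subtype.val e)) (fun e => hyv (congrArg Subtype.val e))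
    exact ⟨g, congrArg Subtype.val h1, congrArg Subtype.val h2⟩
  obtain rfl : m = 1 := by omega
  haveI := Fintype.ofFinite (orbit A v)
  let f := toPermHom A (orbit A v)
  haveI : IsPretransitive f.range (orbit A v) := ⟨fun x y => by
    obtain ⟨a, ha⟩ := exists_smul_eq A x y
    exact ⟨⟨f a, a, rfl⟩, ha⟩⟩
  rcases Cfsg.Agent.S0675.result (α := orbit A v)
    (by rw [← Nat.card_eq_fintype_card, hΩ, pow_one]; exact hp.out) f.range with h1 | h1
  · haveI := h.solv f.ker inferInstance fun e => hω (by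
      have : f z = 1 := MonoidHom.mem_ker.1 (e ▸ mem_top z)
      exact congrArg (fun σ : Equiv.Perm (orbit A v) => σ ω) this)
    exact Group.isSolvable_of_ker_le_range f.ker.subtype f.rangeRestrict
      (by rw [MonoidHom.ker_rangeRestrict, range_subtype])
  · refine (h.not_two_trans hcard hzf hv fun x hx y hy hxv hyv => ?_).elim
    rw [is_two_pretransitive_iff] at h1
    obtain ⟨⟨_, g, rfl⟩, h2, h3⟩ := @h1 ω ⟨x, hx⟩ ω ⟨y, hy⟩
      (fun e => hxv (congrArg Subtype.val e).symm) (fun e => hyv (congrArg Subtype.val e).symm)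
    exact ⟨g, congrArg Subtype.val h2, congrArg Subtype.val h3⟩

omit [Finite V] in
theorem isSolvable_of_dqs_lin [Nontrivial V] (K : Type*) [Field K] [Finite K] [Module K V]
    [SMulCommClass A K V] (hp2 : p = 2) {n : ℕ} {a b : (P : Subgroup A)}
    (hd : CL.PCyc.IsDQS (P : Subgroup A) n a b)
    (hirr : ∀ W : AddSubgroup V, (∀ w ∈ W, (a : A) • w ∈ W) → W = ⊥ ∨ W = ⊤) :
    Group.IsSolvable A := by
  classical
  subst hp2
  by_contra hns
  haveI := Fintype.ofFinite K
  set c : A := (a : A) with hc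
  set y : A := (b : A) with hy
  have hco : orderOf c = 2 ^ n := by rw [hc, Subgroup.orderOf_coe, hd.orderOf_eq]
  have hn := hd.two_le
  have hmem : ∀ x : (P : Subgroup A), x ∈ zpowers a ↔ (x : A) ∈ zpowers c := by
    intro x
    simp only [mem_zpowers_iff]
    exact ⟨fun ⟨k, hk⟩ => ⟨k, congrArg Subtype.val hk⟩, fun ⟨k, hk⟩ => ⟨k, Subtype.ext hk⟩⟩
  have hC : ∀ x ∈ (P : Subgroup A), ∀ x' ∈ (P : Subgroup A),
      x * x' ∈ zpowers c ↔ (x ∈ zpowers c ↔ x' ∈ zpowers c) := fun x hx x' hx' => by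
    have := mul_mem_iff_of_index_two hd.index_eq (a := ⟨x, hx⟩) (b := ⟨x', hx'⟩)
    rwa [hmem, hmem, hmem] at this
  have hyC : y ∉ zpowers c := fun e => hd.notMem ((hmem b).2 e)
  have hyP : y ∈ (P : Subgroup A) := b.2
  let ρ : A →* Module.End K V := DistribMulAction.toModuleEnd K V
  have hρ : ∀ g v, ρ g v = g • v := fun _ _ => rfl
  have hdom : ∀ f : Module.End K V, Commute f (ρ c) → f ≠ 0 → ∀ v, f v = 0 → v = 0 := by
    intro f hf hf0 v hv
    rcases hirr (LinearMap.ker f).toAddSubgroup (fun w hw => by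
      have hw' : f w = 0 := hw
      show f (ρ c w) = 0
      rw [← Module.End.mul_apply, hf.eq, Module.End.mul_apply, hw', map_zero]) with e | e
    · exact AddSubgroup.mem_bot.1 (e ▸ (hv : v ∈ (LinearMap.ker f).toAddSubgroup))
    · refine absurd (LinearMap.ext fun w => ?_) hf0
      have : w ∈ (LinearMap.ker f).toAddSubgroup := e ▸ AddSubgroup.mem_top w
      exact this
  have hsq : ∀ f g : Module.End K V, Commute f (ρ c) → Commute g (ρ c) → Commute f g →
      f * f = g * g → f = g ∨ f = -g := by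
    intro f g hf hg hfg e
    have h1 := hfg.mul_self_sub_mul_self_eq
    rw [e, sub_self] at h1
    by_cases h2 : f + g = 0
    · exact Or.inr (eq_neg_of_add_eq_zero_left h2)
    · exact Or.inl (sub_eq_zero.1 (LinearMap.ext fun v => hdom _ (hf.add_left hg) h2 _ (by
        rw [← Module.End.mul_apply, ← h1]; rfl)))
  have h2A : 2 ∣ Nat.card A :=
    (dvd_pow_self 2 (by omega)).trans (hco ▸ orderOf_dvd_natCard c)
  obtain ⟨k, hk, hk4, hkn⟩ := hd.exists_conj_eq
  have hk' : y * c * y⁻¹ = c ^ k := congrArg Subtype.val hk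
  have hinv : ∀ t : ℕ, (2 : ℤ) ^ n ∣ (k + 1) * t → y * c ^ t * y⁻¹ = (c ^ t)⁻¹ := by
    intro t ht
    rw [← zpow_natCast, CL.PCyc.conj_zpow_eq hk', eq_inv_iff_mul_eq_one, ← zpow_add,
      ← orderOf_dvd_iff_zpow_eq_one, hco]
    push_cast
    rwa [add_mul, one_mul] at ht
  have hz : ρ (c ^ 2 ^ (n - 1)) = -1 := by
    have hzo : orderOf (c ^ 2 ^ (n - 1)) = 2 := CL.BG.orderOf_pow_pred (by omega) hco
    have hzc : ∀ u ∈ zpowers c, Commute u (c ^ 2 ^ (n - 1)) := fun u hu =>
      setLike_mul_comm hu (pow_mem (mem_zpowers c) _)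
    refine LinearMap.ext fun v => eq_neg_of_add_eq_zero_left ?_
    refine h.eq_zero_of_central P (z := c ^ 2 ^ (n - 1))
      (fun e => by rw [e, orderOf_one] at hzo; omega) (fun x hx => ?_) ?_
    · by_cases hxC : x ∈ zpowers c
      · exact hzc x hxC
      · have : x = y * (y⁻¹ * x) := by group
        rw [this]
        refine Commute.mul_left (congrArg Subtype.val hd.commute_central.symm.eq) (hzc _ ?_)
        rw [hC _ (inv_mem hyP) _ hx, inv_mem_iff]; tauto
    · rw [hρ, Module.End.one_apply, smul_add, ← mul_smul, ← sq,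
        orderOf_dvd_iff_pow_eq_one.1 hzo.dvd, one_smul, add_comm]
  set I := ρ (c ^ 2 ^ (n - 2)) with hI
  have hII : I * I = -1 := by
    rw [hI, ← map_mul, ← pow_add, ← two_mul, ← pow_succ', show n - 2 + 1 = n - 1 by omega, hz]
  have hcc : ∀ t : ℕ, Commute (ρ (c ^ t)) (ρ c) := fun t => ((Commute.refl c).pow_left t).map ρ
  have hcc' : ∀ t : ℕ, Commute (ρ (c ^ t)⁻¹) (ρ c) := fun t =>
    ((Commute.refl c).pow_left t).inv_left.map ρ
  have hconj : ∀ t : ℕ, (2 : ℤ) ^ n ∣ (k + 1) * t → ρ y * ρ (c ^ t) = ρ (c ^ t)⁻¹ * ρ y := by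
    intro t ht
    rw [← map_mul, ← map_mul, ← hinv t ht, inv_mul_cancel_right]
  have hYI : ρ y * I = -I * ρ y := by
    rw [hI, hconj _ (by
      push_cast
      rw [show n = 2 + (n - 2) by omega, pow_add, Nat.add_sub_cancel_left]
      exact mul_dvd_mul_right hk4 _)]
    congr 1
    have e : ρ (c ^ 2 ^ (n - 2))⁻¹ * I = 1 := by rw [hI, ← map_mul, inv_mul_cancel, map_one]
    calc ρ (c ^ 2 ^ (n - 2))⁻¹ = -(ρ (c ^ 2 ^ (n - 2))⁻¹ * (I * I)) := by rw [hII]; simp
      _ = -I := by rw [← mul_assoc, e, one_mul]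
  obtain ⟨v, hv⟩ := exists_ne (0 : V)
  have hIs : ∀ μ : K, I ≠ μ • 1 := by
    intro μ e
    have h1 : ρ y * I = I * ρ y := by rw [e]; simp
    rw [h1, neg_mul, eq_neg_iff_add_eq_zero] at hYI
    have h2 := LinearMap.congr_fun hYI v
    rw [LinearMap.add_apply, LinearMap.zero_apply, ← two_nsmul, hI, ← map_mul, hρ] at h2
    exact hv ((smul_eq_zero_iff_eq _).1 (h.eq_zero_of_dvd h2A h2))
  have hsc : ∀ (μ : K) (f : Module.End K V), Commute (μ • (1 : Module.End K V)) f :=
    fun μ f => (Commute.one_left f).smul_left μ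
  have hsquare : ∀ l : K, IsSquare l ∨ IsSquare (-l) := by
    have hm1 : ¬ IsSquare (-1 : K) := by
      rintro ⟨ι, hι⟩
      rcases hsq I (ι • 1) (hcc _) (hsc _ _) (hsc _ _).symm (by
        rw [hII, smul_mul_smul_comm, ← hι, mul_one, neg_smul, one_smul]) with e | e
      · exact hIs _ e
      · exact hIs (-ι) (by rw [e, neg_smul])
    intro l
    by_cases hl : IsSquare l
    · exact Or.inl hl
    right
    have hl0 : -l ≠ 0 := fun e => hl (by rw [neg_eq_zero.1 e]; exact IsSquare.zero)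
    rw [← quadraticChar_one_iff_isSquare hl0, neg_eq_neg_one_mul, map_mul,
      quadraticChar_neg_one_iff_not_isSquare.2 hl, quadraticChar_neg_one_iff_not_isSquare.2 hm1]
    norm_num
  have hF : ∀ t j : ℕ, j + t = n - 2 → ∃ α β : K, ρ (c ^ 2 ^ j) = α • 1 + β • I := by
    intro t
    induction t with
    | zero =>
      intro j hj
      exact ⟨0, 1, by rw [hI, ← hj]; simp⟩
    | succ t ih =>
      intro j hj
      obtain ⟨α, β, hαβ⟩ := ih (j + 1) (by omega)
      set e := ρ (c ^ 2 ^ j) with he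
      set e' := ρ (c ^ 2 ^ j)⁻¹ with he'
      have hee : e * e = α • 1 + β • I := by
        rw [← hαβ, he, ← map_mul, ← pow_add, ← two_mul, ← pow_succ']
      have h1 : e * e' = 1 := by rw [he, he', ← map_mul, mul_inv_cancel, map_one]
      have h2 : e' * e = 1 := by rw [he, he', ← map_mul, inv_mul_cancel, map_one]
      have hee' : e' * e' = α • 1 - β • I := by
        have h3 := hconj (2 ^ (j + 1)) (by
          push_cast
          rw [show n = n - 1 + 1 by omega, pow_succ]
          exact mul_dvd_mul hkn (dvd_pow_self 2 (by omega)))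
        have h4 : e' * e' = ρ (c ^ 2 ^ (j + 1))⁻¹ := by
          rw [he', ← map_mul, ← mul_inv_rev, ← pow_add, ← two_mul, ← pow_succ']
        rw [h4]
        have h5 : ρ y * ρ y⁻¹ = 1 := by rw [← map_mul, mul_inv_cancel, map_one]
        calc ρ (c ^ 2 ^ (j + 1))⁻¹ = ρ (c ^ 2 ^ (j + 1))⁻¹ * ρ y * ρ y⁻¹ := by
              rw [mul_assoc, h5, mul_one]
          _ = (α • ρ y + β • (-I * ρ y)) * ρ y⁻¹ := by
              rw [← h3, hαβ, mul_add, mul_smul_comm, mul_smul_comm, mul_one, hYI]
          _ = _ := by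
              rw [add_mul, smul_mul_assoc, smul_mul_assoc, mul_assoc, h5, mul_one, smul_neg,
                sub_eq_add_neg]
      have hs : (e + e') * (e + e') = (2 * α + 2) • 1 := by
        rw [add_mul, mul_add, mul_add, hee, hee', h1, h2]; module
      have hsc' : Commute (e + e') (ρ c) := (hcc _).add_left (hcc' _)
      have hes : e * (e + e') = (α + 1) • 1 + β • I := by rw [mul_add, hee, h1]; module
      have hsI : Commute (e + e') I :=
        (((Commute.refl c).pow_pow _ _).map ρ).add_left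
          (((Commute.refl c).pow_pow _ _).inv_left.map ρ)
      obtain ⟨μ, hμ⟩ : ∃ μ : K, e + e' = μ • 1 ∨ e + e' = μ • I := by
        rcases hsquare (2 * α + 2) with ⟨μ, hμ⟩ | ⟨μ, hμ⟩
        · rcases hsq _ (μ • 1) hsc' (hsc _ _) (hsc _ _).symm (by
            rw [hs, smul_mul_smul_comm, ← hμ, mul_one]) with e1 | e1
          · exact ⟨μ, Or.inl e1⟩
          · exact ⟨-μ, Or.inl (by rw [e1, neg_smul])⟩
        · rcases hsq _ (μ • I) hsc' ((hcc _).smul_left μ) (hsI.smul_right μ) (by
            rw [hs, smul_mul_smul_comm, ← hμ, hII]; module) with e1 | e1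
          · exact ⟨μ, Or.inr e1⟩
          · exact ⟨-μ, Or.inr (by rw [e1, neg_smul])⟩
      by_cases hμ0 : μ = 0
      · have h3 : e + e' = 0 := by rcases hμ with e1 | e1 <;> rw [e1, hμ0, zero_smul]
        have h4 : e * e = I * I := by
          rw [hII, ← h1, eq_neg_of_add_eq_zero_left h3]
          rw [eq_neg_of_add_eq_zero_left h3] at h1
          simp
        rcases hsq e I (hcc _) (hcc _) (((Commute.refl c).pow_pow _ _).map ρ) h4 with e1 | e1
        · exact ⟨0, 1, by rw [e1]; simp⟩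
        · exact ⟨0, -1, by rw [e1]; simp⟩
      rcases hμ with e1 | e1
      · rw [e1, mul_smul_comm, mul_one] at hes
        refine ⟨μ⁻¹ * (α + 1), μ⁻¹ * β, ?_⟩
        rw [mul_smul, mul_smul, ← smul_add, ← hes, smul_smul, inv_mul_cancel₀ hμ0, one_smul]
      · have h3 := congrArg (· * I) hes
        simp only [e1, mul_smul_comm, smul_mul_assoc, mul_assoc, hII, add_mul, one_mul, mul_neg,
          mul_one] at h3
        refine ⟨μ⁻¹ * β, -(μ⁻¹ * (α + 1)), ?_⟩
        have h4 : e = -(μ⁻¹ • μ • -e) := by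
          rw [smul_smul, inv_mul_cancel₀ hμ0, one_smul, neg_neg]
        rw [h4, h3]; module
  obtain ⟨α, β, hαβ⟩ := hF (n - 2) 0 (by omega)
  rw [pow_zero, pow_one] at hαβ
  have hspan : ⊤ ≤ Submodule.span K (Set.range ![v, I v]) := by
    have hv' : v ∈ Submodule.span K (Set.range ![v, I v]) := Submodule.subset_span ⟨0, rfl⟩
    have hIv : I v ∈ Submodule.span K (Set.range ![v, I v]) := Submodule.subset_span ⟨1, rfl⟩
    have hIW : ∀ w ∈ Submodule.span K (Set.range ![v, I v]),
        I w ∈ Submodule.span K (Set.range ![v, I v]) := by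
      intro w hw
      rw [Matrix.range_cons, Matrix.range_cons, Matrix.range_empty, Set.union_empty,
        Set.singleton_union, Submodule.mem_span_pair] at hw
      obtain ⟨γ, δ, rfl⟩ := hw
      rw [map_add, map_smul, map_smul, ← Module.End.mul_apply I I, hII]
      exact Submodule.add_mem _ (Submodule.smul_mem _ _ hIv)
        (Submodule.smul_mem _ _ (Submodule.neg_mem _ hv'))
    rcases hirr (Submodule.span K (Set.range ![v, I v])).toAddSubgroup (fun w hw => by
      show ρ c w ∈ Submodule.span K (Set.range ![v, I v])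
      rw [hαβ]
      exact Submodule.add_mem _ (Submodule.smul_mem _ _ hw) (Submodule.smul_mem _ _ (hIW w hw)))
      with e | e
    · exact absurd (AddSubgroup.mem_bot.1 (e ▸ (hv' : v ∈ Submodule.toAddSubgroup _))) hv
    · exact fun w _ => (e ▸ AddSubgroup.mem_top w : w ∈ Submodule.toAddSubgroup _)
  have hli : LinearIndependent K ![v, I v] := by
    rw [LinearIndependent.pair_iff]
    intro γ δ e
    have h1 : γ • (1 : Module.End K V) + δ • I = 0 := by
      by_contra hne
      exact hv (hdom _ ((hsc _ _).add_left ((hcc _).smul_left δ)) hne v e)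
    have hδ : δ = 0 := by
      by_contra hδ
      refine hIs (-(δ⁻¹ * γ)) ?_
      have : I = δ⁻¹ • δ • I := by rw [smul_smul, inv_mul_cancel₀ hδ, one_smul]
      rw [this, eq_neg_of_add_eq_zero_right h1]; module
    rw [hδ, zero_smul, add_zero] at e
    exact ⟨(smul_eq_zero.1 e).resolve_right hv, hδ⟩
  let B := Module.Basis.mk hli hspan
  have hB0 : B 0 = v := by simp [B]
  have hB1 : B 1 = I v := by simp [B]
  have hdet : ∀ g : A, LinearMap.det (ρ g) = 1 := by
    intro g
    have h1 := Abelianization.commutator_subset_ker (LinearMap.det.comp ρ).toHomUnits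
      (h.perf ▸ mem_top g)
    exact congrArg Units.val (MonoidHom.mem_ker.1 h1)
  have hstab : stabilizer A v = ⊥ := by
    refine (eq_bot_iff_forall _).2 fun g hg => ?_
    have hgv : ρ g (B 0) = B 0 := by rw [hB0]; exact hg
    have h1 := hdet g
    rw [← LinearMap.det_toMatrix B, Matrix.det_fin_two] at h1
    simp only [LinearMap.toMatrix_apply, hgv, Module.Basis.repr_self, Finsupp.single_eq_same,
      one_mul] at h1
    rw [Finsupp.single_eq_of_ne (by decide), mul_zero, sub_zero] at h1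
    have h2 := B.sum_repr (ρ g (B 1))
    rw [Fin.sum_univ_two, h1, one_smul, add_comm] at h2
    set w := B.repr (ρ g (B 1)) 0 • B 0 with hw
    have h3 : g • w = w := by rw [← hρ, hw, map_smul, hgv]
    have h4 := pow_smul_eq_add (h2.symm : g • B 1 = B 1 + w) h3 (orderOf g)
    rw [pow_orderOf_eq_one, one_smul, left_eq_add] at h4
    rw [h.eq_zero_of_dvd (orderOf_dvd_natCard g) h4, add_zero] at h2
    refine h.faithful g fun u => ?_
    have : ρ g = 1 := B.ext fun i => by
      fin_cases i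
      · exact hgv
      · exact h2.symm
    rw [← hρ, this, Module.End.one_apply]
  obtain ⟨j, hj⟩ := h.orb v
  rw [hstab, index_bot] at hj
  exact hns (CL.isSolvable_of_isPGroup (IsPGroup.of_card hj))

theorem isSolvable_of_dqs [Nontrivial V] (hp2 : p = 2) {n : ℕ} {a b : (P : Subgroup A)}
    (hd : CL.PCyc.IsDQS (P : Subgroup A) n a b) : Group.IsSolvable A := by
  classical
  subst hp2
  by_contra hns
  set c : A := (a : A) with hc
  set y : A := (b : A) with hy
  have hco : orderOf c = 2 ^ n := by rw [hc, Subgroup.orderOf_coe, hd.orderOf_eq]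
  have hn := hd.two_le
  have hmem : ∀ x : (P : Subgroup A), x ∈ zpowers a ↔ (x : A) ∈ zpowers c := by
    intro x
    simp only [mem_zpowers_iff]
    exact ⟨fun ⟨k, hk⟩ => ⟨k, congrArg Subtype.val hk⟩, fun ⟨k, hk⟩ => ⟨k, Subtype.ext hk⟩⟩
  have hC : ∀ x ∈ (P : Subgroup A), ∀ x' ∈ (P : Subgroup A),
      x * x' ∈ zpowers c ↔ (x ∈ zpowers c ↔ x' ∈ zpowers c) := fun x hx x' hx' => by
    have := mul_mem_iff_of_index_two hd.index_eq (a := ⟨x, hx⟩) (b := ⟨x', hx'⟩)
    rwa [hmem, hmem, hmem] at this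
  have hyC : y ∉ zpowers c := fun e => hd.notMem ((hmem b).2 e)
  have hyP : y ∈ (P : Subgroup A) := b.2
  have hconjC : ∀ x ∈ (P : Subgroup A), ∀ u ∈ (P : Subgroup A), u ∈ zpowers c →
      x⁻¹ * u * x ∈ zpowers c := by
    intro x hx u hu huC
    rw [hC _ (mul_mem (inv_mem hx) hu) _ hx, hC _ (inv_mem hx) _ hu, inv_mem_iff]
    tauto
  have hirr : ∀ W : AddSubgroup V, (∀ w ∈ W, c • w ∈ W) → W = ⊥ ∨ W = ⊤ := by
    intro W hW
    have hWC : ∀ u ∈ zpowers c, ∀ w ∈ W, u • w ∈ W := by
      intro u hu w hw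
      obtain ⟨k, rfl⟩ := mem_powers_iff_mem_zpowers.2 hu
      induction k with
      | zero => simpa using hw
      | succ k ih =>
        show c ^ (k + 1) • w ∈ W
        rw [pow_succ', mul_smul]
        exact hW _ (ih (pow_mem (mem_zpowers c) k))
    by_contra hcon
    push Not at hcon
    have hWU : ∀ x ∈ (P : Subgroup A), x ∉ zpowers c → ∀ w ∈ W,
        x • w ∈ W.map (DistribSMul.toAddMonoidHom V y) := by
      intro x hx hxC w hw
      refine ⟨(y⁻¹ * x) • w, hWC _ ?_ w hw, by simp [mul_smul]⟩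
      rw [hC _ (inv_mem hyP) _ hx, inv_mem_iff]; tauto
    refine hns (h.isSolvable_of_block P (U := W.map (DistribSMul.toAddMonoidHom V y))
      hcon.1 hcon.2 ?_ ?_ ?_)
    · intro w hw hw'
      rcases h.irrP P (W ⊓ W.map (DistribSMul.toAddMonoidHom V y)) (by
        rintro x hx u ⟨hu, u', hu', rfl⟩
        simp only [DistribSMul.toAddMonoidHom_apply] at hu ⊢
        by_cases hxC : x ∈ zpowers c
        · exact ⟨hWC x hxC _ hu, (y⁻¹ * x * y) • u', hWC _ (hconjC y hyP x hx hxC) _ hu',
            by simp [mul_smul]⟩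
        · refine ⟨?_, hWU x hx hxC _ hu⟩
          rw [← mul_smul]
          refine hWC _ ?_ _ hu'
          rw [hC _ hx _ hyP]; tauto) with e | e
      · exact AddSubgroup.mem_bot.1 (e ▸ (⟨hw, hw'⟩ : w ∈ W ⊓ _))
      · exact absurd (eq_top_iff.2 (e ▸ inf_le_left)) hcon.2
    · intro x hx
      by_cases hxC : x ∈ zpowers c
      · exact Or.inl (hWC x hxC)
      · exact Or.inr (hWU x hx hxC)
    · intro x hx u hu huW
      by_cases huC : u ∈ zpowers c
      · exact hWC _ (hconjC x hx u hu huC)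
      exfalso
      rcases h.irrP P W (fun t ht w hw => by
        by_cases htC : t ∈ zpowers c
        · exact hWC t htC w hw
        · have : t = u * (u⁻¹ * t) := by group
          rw [this, mul_smul]
          refine huW _ (hWC _ ?_ w hw)
          rw [hC _ (inv_mem hu) _ ht, inv_mem_iff]; tauto) with e | e
      · exact hcon.1 e
      · exact hcon.2 e
  -- the field of scalars
  have hq := Nat.minFac_prime (Finite.one_lt_card (α := V)).ne'
  set q := (Nat.card V).minFac with hqd
  haveI := Fact.mk hq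
  have hqV : ∀ v : V, q • v = 0 := by
    obtain ⟨v, hv⟩ := exists_prime_addOrderOf_dvd_card' (G := V) q (Nat.minFac_dvd _)
    rcases h.irr (nsmulAddMonoidHom q).ker (fun g w hw => by
      rw [AddMonoidHom.mem_ker, nsmulAddMonoidHom_apply] at hw ⊢
      rw [← smul_comm, hw, smul_zero]) with e | e
    · have : v ∈ (nsmulAddMonoidHom q : V →+ V).ker := by
        rw [AddMonoidHom.mem_ker, nsmulAddMonoidHom_apply, ← hv, addOrderOf_nsmul_eq_zero]
      rw [e, AddSubgroup.mem_bot] at this
      rw [this, addOrderOf_zero] at hv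
      exact absurd hv hq.one_lt.ne
    · exact fun v => AddMonoidHom.mem_ker.1 (e ▸ AddSubgroup.mem_top v)
  letI : Module (ZMod q) V := AddCommGroup.zmodModule hqV
  haveI : SMulCommClass A (ZMod q) V :=
    ⟨fun g l v => ZMod.map_smul (DistribSMul.toAddMonoidHom V g) l v⟩
  exact hns (h.isSolvable_of_dqs_lin P (ZMod q) rfl hd hirr)

theorem isSolvable : Group.IsSolvable A := by
  rcases subsingleton_or_nontrivial V with hV | hV
  · haveI : Subsingleton A := ⟨fun a b => by
      rw [h.faithful a fun v => Subsingleton.elim _ _, h.faithful b fun v => Subsingleton.elim _ _]⟩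
    infer_instance
  obtain ⟨P⟩ : Nonempty (Sylow p A) := inferInstance
  rcases CL.PCyc.isCyclic_or_normal_elemAb_or_isDQS P.isPGroup' with h1 | ⟨E, hE, h1, h2⟩ |
    ⟨h1, n, a, b, h2⟩
  · exact h.isSolvable_of_cyclic P h1
  · exact h.isSolvable_of_elemAb P h1 h2
  · exact h.isSolvable_of_dqs P h1 h2

end Crit

theorem isSolvable_of_commutator {A : Type*} [Group A]
    (h : Group.IsSolvable (_root_.commutator A)) : Group.IsSolvable A :=
  Group.isSolvable_of_ker_le_range (_root_.commutator A).subtype Abelianization.of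
    (by rw [Abelianization.ker_of, range_subtype])

theorem isSolvable_of_forall_eq_one {A : Type*} [Group A] (h : ∀ a : A, a = 1) :
    Group.IsSolvable A := by
  haveI : Subsingleton A := ⟨fun a b => by rw [h a, h b]⟩
  infer_instance

theorem eq_one_of_perfect {A B : Type*} [Group A] [Group B] (h : _root_.commutator A = ⊤)
    (f : A →* B) (hs : Group.IsSolvable f.range) (a : A) : f a = 1 := by
  haveI : Subsingleton f.range := by
    by_contra hne
    haveI := not_subsingleton_iff_nontrivial.1 hne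
    refine (Group.IsSolvable.commutator_lt_top_of_nontrivial f.range).ne ?_
    have h1 := Subgroup.map_commutator ⊤ ⊤ f.rangeRestrict
    rw [← _root_.commutator_def, h, map_top_of_surjective _ f.rangeRestrict_surjective] at h1
    exact h1.symm
  exact congrArg Subtype.val (Subsingleton.elim (f.rangeRestrict a) 1)

theorem isSolvable_aux {p : ℕ} [hp : Fact p.Prime] (n : ℕ) : ∀ (A V : Type u) [Group A] [Finite A]
    [AddCommGroup V] [Finite V] [DistribMulAction A V], Nat.card A + Nat.card V = n →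
    (∀ a : A, (∀ v : V, a • v = v) → a = 1) → (Nat.card A).Coprime (Nat.card V) →
    (∀ v : V, ∃ k, (stabilizer A v).index = p ^ k) → Group.IsSolvable A := by
  induction n using Nat.strong_induction_on with
  | _ n ih =>
  intro A V _ _ _ _ _ hn hf hc ho
  have hsolv : ∀ N : Subgroup A, N.Normal → N ≠ ⊤ → Group.IsSolvable N := by
    intro N hN hne
    refine ih _ (hn ▸ Nat.add_lt_add_right (CL.card_lt_of_ne_top hne) _) N V rfl
      (fun a ha => Subtype.ext (hf a ha)) (Nat.Coprime.coprime_dvd_left (card_subgroup_dvd_card N) hc)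
      fun v => ?_
    obtain ⟨k, hk⟩ := ho v
    obtain ⟨j, -, hj⟩ := (Nat.dvd_prime_pow hp.out).1
      (hk ▸ relIndex_dvd_index_of_normal_right (stabilizer A v) N)
    exact ⟨j, hj⟩
  by_cases hperf : _root_.commutator A = ⊤
  swap
  · exact isSolvable_of_commutator (hsolv _ inferInstance hperf)
  by_cases hirr : ∀ W : AddSubgroup V, (∀ a : A, ∀ w ∈ W, a • w ∈ W) → W = ⊥ ∨ W = ⊤
  · exact (Crit.mk hf hc ho hperf hsolv hirr).isSolvable
  push Not at hirr
  obtain ⟨W, hW, hW0, hW1⟩ := hirr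
  have key : ∀ U : AddSubgroup V, (∀ a : A, ∀ w ∈ U, a • w ∈ U) → U ≠ ⊤ →
      ∀ a : A, ∀ w ∈ U, a • w = w := by
    intro U hU hU1
    letI : DistribMulAction A U :=
      { smul := fun a w => ⟨a • (w : V), hU a w w.2⟩
        one_smul := fun w => Subtype.ext (one_smul A (w : V))
        mul_smul := fun a b w => Subtype.ext (mul_smul a b (w : V))
        smul_zero := fun a => Subtype.ext (smul_zero a)
        smul_add := fun a u w => Subtype.ext (smul_add a (u : V) w) }
    let f := toPermHom A U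
    letI : DistribMulAction f.range U :=
      { smul_zero := by rintro ⟨_, a, rfl⟩; exact smul_zero a
        smul_add := by rintro ⟨_, a, rfl⟩ u w; exact smul_add a u w }
    have hlt : Nat.card U < Nat.card V := by
      have := CL.card_lt_of_ne_top (H := U.toSubgroup) (fun e => hU1 (by simpa using e))
      exact this
    have hs : Group.IsSolvable f.range := by
      refine ih _ (hn ▸ Nat.add_lt_add_of_le_of_lt
        (Nat.le_of_dvd Nat.card_pos (card_range_dvd f)) hlt) f.range U rfl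
        (fun a ha => Subtype.ext (Equiv.ext ha)) (Nat.Coprime.coprime_dvd_left (card_range_dvd f)
          (Nat.Coprime.coprime_dvd_right (AddSubgroup.card_addSubgroup_dvd_card U) hc)) fun w => ?_
      obtain ⟨k, hk⟩ := ho w
      refine ⟨k, ?_⟩
      rw [← hk, ← index_comap_of_surjective _ f.rangeRestrict_surjective]
      congr 1
      ext a
      exact Subtype.ext_iff
    intro a w hw
    have h1 : f a = 1 := eq_one_of_perfect hperf f hs a
    exact congrArg Subtype.val (congrArg (fun σ : Equiv.Perm U => σ ⟨w, hw⟩) h1)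
  haveI := Fintype.ofFinite A
  let ν : V →+ V := ∑ a : A, DistribSMul.toAddMonoidHom V a
  have hν : ∀ v, ν v = ∑ a : A, a • v := fun v => by simp [ν, AddMonoidHom.finsetSum_apply]
  have hν1 : ∀ (b : A) v, ν (b • v) = ν v := fun b v => by
    rw [hν, hν]
    exact Fintype.sum_equiv (Equiv.mulRight b) _ _ fun a => by simp [mul_smul]
  have hν2 : ∀ v, (∀ a : A, a • v = v) → ν v = 0 → v = 0 := fun v hv h0 => by
    rw [hν] at h0
    simp only [hv, Finset.sum_const, Finset.card_univ, ← Nat.card_eq_fintype_card] at h0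
    exact eq_zero_of_nsmul hc h0
  have h1 := key ν.ker (fun a w hw => by rw [AddMonoidHom.mem_ker, hν1]; exact hw) fun e =>
    hW0 ((AddSubgroup.eq_bot_iff_forall W).2 fun w hw =>
      hν2 w (fun a => key W hW hW1 a w hw) (AddMonoidHom.mem_ker.1 (e ▸ AddSubgroup.mem_top w)))
  have h2 : ∀ a : A, a = 1 := fun a => hf a fun v => by
    have h3 : a • v - v ∈ ν.ker := by rw [AddMonoidHom.mem_ker, map_sub, hν1, sub_self]
    exact sub_eq_zero.1 (hν2 _ (fun b => h1 b _ h3) h3)
  exact isSolvable_of_forall_eq_one h2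

/-- A group acting faithfully and coprimely on an abelian group with all orbits of `p`-power size
is solvable. -/
theorem isSolvable_of_orbits {p : ℕ} [Fact p.Prime] {A V : Type u} [Group A] [Finite A]
    [AddCommGroup V] [Finite V] [DistribMulAction A V]
    (hf : ∀ a : A, (∀ v : V, a • v = v) → a = 1) (hc : (Nat.card A).Coprime (Nat.card V))
    (ho : ∀ v : V, ∃ k, (stabilizer A v).index = p ^ k) : Group.IsSolvable A :=
  isSolvable_aux _ A V rfl hf hc ho

/-- Subgroup version. -/
theorem isSolvable_of_relIndex {p : ℕ} [Fact p.Prime] {G : Type u} [Group G] [Finite G]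
    {A V : Subgroup G} [V.Normal] [IsMulCommutative V] (hf : A ⊓ centralizer (V : Set G) = ⊥)
    (hc : (Nat.card A).Coprime (Nat.card V))
    (ho : ∀ v ∈ V, ∃ k, (centralizer ({v} : Set G)).relIndex A = p ^ k) : Group.IsSolvable A := by
  letI : CommGroup V := { mul_comm := fun a b => Subtype.ext (setLike_mul_comm a.2 b.2) }
  letI : DistribMulAction A (Additive V) :=
    { smul := fun a v => Additive.ofMul ⟨a * (v.toMul : G) * (a : G)⁻¹,
        Normal.conj_mem inferInstance _ v.toMul.2 _⟩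
      one_smul := fun v => Additive.toMul.injective (Subtype.ext (by
        show (1 : G) * _ * (1 : G)⁻¹ = _
        simp))
      mul_smul := fun a b v => Additive.toMul.injective (Subtype.ext (by
        show (a : G) * b * _ * ((a : G) * b)⁻¹ = a * (b * _ * (b : G)⁻¹) * (a : G)⁻¹
        group))
      smul_zero := fun a => Additive.toMul.injective (Subtype.ext (by
        show (a : G) * 1 * (a : G)⁻¹ = 1
        simp))
      smul_add := fun a u v => Additive.toMul.injective (Subtype.ext (by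
        show (a : G) * ((u.toMul : G) * v.toMul) * (a : G)⁻¹ =
          a * (u.toMul : G) * (a : G)⁻¹ * (a * (v.toMul : G) * (a : G)⁻¹)
        group)) }
  have hiff : ∀ (a : A) (v : Additive V), a • v = v ↔ Commute (a : G) (v.toMul : G) := by
    intro a v
    constructor
    · intro e
      have : (a : G) * (v.toMul : G) * (a : G)⁻¹ = v.toMul :=
        congrArg (fun w : Additive V => (w.toMul : G)) e
      exact mul_inv_eq_iff_eq_mul.1 this
    · intro e
      exact Additive.toMul.injective (Subtype.ext (mul_inv_eq_iff_eq_mul.2 e.eq))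
  refine isSolvable_of_orbits (p := p) (V := Additive V) (fun a ha => Subtype.ext ?_) hc fun v => ?_
  · refine mem_bot.1 (hf ▸ (⟨a.2, mem_centralizer_iff.2 fun w hw => ?_⟩ : (a : G) ∈ A ⊓ _))
    exact ((hiff a (Additive.ofMul ⟨w, hw⟩)).1 (ha _)).eq.symm
  · obtain ⟨k, hk⟩ := ho _ v.toMul.2
    refine ⟨k, ?_⟩
    rw [← hk, relIndex]
    congr 1
    ext a
    rw [mem_stabilizer_iff, hiff, mem_subgroupOf, mem_cen]

end CL.OP
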