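import Cfsg.Agent.FGS.Ord6P
import Cfsg.Agent.FGS.CITM10
import Cfsg.Agent.S2930

/-!
Groups whose element orders are at most six: extensions of `A₅` and `A₆` by automorphisms.
-/

set_option autoImplicit false
set_option linter.unusedSectionVars false
set_option synthInstance.maxSize 2048

namespace CL.Ord6

open Subgroup Equiv Equiv.Perm Cfsg

variable {G : Type*} [Group G] [Finite G] {M : Subgroup G} [hM : M.Normal] {n : ℕ}

/-- the automorphisms of the alternating group induced by conjugation -/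
def aut (e : M ≃* alternatingGroup (Fin n)) : G →* MulAut (alternatingGroup (Fin n)) :=
  (MulAut.congr e).toMonoidHom.comp MulAut.conjNormal

theorem aut_apply (e : M ≃* alternatingGroup (Fin n)) (g : G) (k : M) :
    aut e g (e k) = e (MulAut.conjNormal g k) := by simp [aut]

theorem aut_coe (e : M ≃* alternatingGroup (Fin n)) (m : M) (a : alternatingGroup (Fin n)) :
    aut e m a = e m * a * (e m)⁻¹ := by
  obtain ⟨k, rfl⟩ := e.surjective a
  rw [aut_apply, ← map_mul, ← map_inv, ← map_mul]; rfl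

theorem aut_inj (h : H6 G) (hn : n = 5 ∨ n = 6) (e : M ≃* alternatingGroup (Fin n)) :
    Function.Injective (aut e) := (injective_iff_map_eq_one _).2 fun g hg => by
  have k : ∀ a, ((e.symm a : M) : G) * g = g * e.symm a := fun a => by
    have := aut_apply e g (e.symm a)
    rw [hg, MulAut.one_apply] at this
    exact mul_inv_eq_iff_eq_mul.1 (congrArg Subtype.val (e.injective this)).symm |>.symm
  have o : ∀ a, orderOf ((e.symm a : M) : G) = orderOf a.1 := fun a => by
    rw [Subgroup.orderOf_coe, MulEquiv.orderOf_eq, Subgroup.orderOf_coe]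
  obtain ⟨a, b, ha, hb⟩ : ∃ a b : alternatingGroup (Fin n), orderOf a.1 = 5 ∧ orderOf b.1 = 2 := by
    rcases hn with rfl | rfl <;>
    exact ⟨⟨swap 0 1 * swap 1 2 * swap 2 3 * swap 3 4, by simp⟩, ⟨swap 0 1 * swap 2 3, by simp⟩,
      ord5 (by decide +kernel) (by decide), ord2 (by decide) (by decide)⟩
  rw [← o] at ha hb
  by_contra g1
  have := h.fpf5 (h.c5 (ha ▸ pow_orderOf_eq_one _) (fun c => by simp [c] at ha) (k a)) g1 (k b).symm
    (n := 2) (by norm_num) (hb ▸ pow_orderOf_eq_one _)
  simp [this] at hb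

/-- the elements inducing a permutation -/
def ind (e : M ≃* alternatingGroup (Fin n)) : Subgroup G where
  carrier := {g | ∃ σ : Perm (Fin n), ∀ a, (aut e g a).1 = σ * a.1 * σ⁻¹}
  one_mem' := ⟨1, fun a => by simp⟩
  mul_mem' := by
    rintro a b ⟨σ, h⟩ ⟨τ, h'⟩
    exact ⟨σ * τ, fun x => by rw [map_mul, MulAut.mul_apply, h, h']; group⟩
  inv_mem' := by
    rintro a ⟨σ, h⟩
    refine ⟨σ⁻¹, fun x => ?_⟩
    have := h (aut e a⁻¹ x)
    rw [← MulAut.mul_apply, ← map_mul, mul_inv_cancel, map_one, MulAut.one_apply] at this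
    rw [this]; group

theorem le_ind (e : M ≃* alternatingGroup (Fin n)) : M ≤ ind e := fun m hm =>
  ⟨(e ⟨m, hm⟩).1, fun a => congrArg Subtype.val (aut_coe e ⟨m, hm⟩ a)⟩

theorem embed (h : H6 G) (hn : n = 5 ∨ n = 6) (e : M ≃* alternatingGroup (Fin n))
    (ex : ∀ g, g ∈ ind e) :
    ∃ Φ : G →* Perm (Fin n), Function.Injective Φ ∧ alternatingGroup (Fin n) ≤ Φ.range := by
  have h4 : 4 ≤ Fintype.card (Fin n) := by simp; omega
  choose σ hσ using ex
  have u : ∀ g τ, (∀ a, (aut e g a).1 = τ * a.1 * τ⁻¹) → σ g = τ := fun g τ c => by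
    rw [← inv_mul_eq_one]
    refine KSG.eq_one_of_commute_alt h4 fun a ha => ?_
    have := (hσ g ⟨a, ha⟩).symm.trans (c ⟨a, ha⟩)
    calc _ = (σ g)⁻¹ * (τ * a * τ⁻¹) * τ := by group
      _ = _ := by rw [← this]; group
  let Φ : G →* Perm (Fin n) := MonoidHom.mk' σ fun a b => u _ _ fun x => by
    rw [map_mul, MulAut.mul_apply, hσ, hσ]; group
  refine ⟨Φ, (injective_iff_map_eq_one Φ).2 fun g hg => (injective_iff_map_eq_one _).1 (aut_inj h hn e) g
    (MulEquiv.ext fun a => Subtype.ext ?_), fun a ha => ⟨e.symm ⟨a, ha⟩, u _ _ fun x => ?_⟩⟩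
  · rw [hσ, show σ g = 1 from hg]; simp
  · rw [aut_coe]; simp

theorem mem_ind (e : M ≃* alternatingGroup (Fin 6)) {g : G} {c : alternatingGroup (Fin 6)}
    (c3 : orderOf c = 3) (hc : (aut e g c).1.support.card = c.1.support.card) : g ∈ ind e := by
  refine KSG.exists_perm_of_map_threeCycles (by simp)
    ((alternatingGroup (Fin 6)).subtype.comp (aut e g).toMonoidHom)
    ((subtype_injective _).comp (aut e g).injective) fun a ha => ?_
  change (aut e g a).1.IsThreeCycle
  have cj : ∀ {x y : alternatingGroup (Fin 6)}, IsConj x y → x.1.IsThreeCycle → y.1.IsThreeCycle :=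
    fun h hx => (isConj_iff_cycleType_eq.1 ((alternatingGroup (Fin 6)).subtype.map_isConj h)).symm.trans hx
  have i : (aut e g c).1.IsThreeCycle ↔ c.1.IsThreeCycle := by
    rw [← card_support_eq_three_iff, ← card_support_eq_three_iff, hc]
  by_cases h1 : c.1.IsThreeCycle
  · exact cj ((aut e g).toMonoidHom.map_isConj (alternatingGroup.isThreeCycle_isConj (by simp) h1 ha))
      (i.2 h1)
  by_contra h2
  have := (aut e g).symm.toMonoidHom.map_isConj (Agent.S2930.isConj_of_not_three
    (by rw [MulEquiv.orderOf_eq, ← Subgroup.orderOf_coe, ha.orderOf]) (by rwa [MulEquiv.orderOf_eq]) h2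
    (mt i.1 h1))
  simp only [MulEquiv.toMonoidHom_eq_coe, MonoidHom.coe_coe, MulEquiv.symm_apply_apply] at this
  exact h1 (cj this ha)

theorem all_ind (h : H6 G) (e : M ≃* alternatingGroup (Fin 6)) (x : G) : x ∈ ind e := by
  have inj := aut_inj h (Or.inr rfl) e
  have key : ∀ x, x ∉ ind e → x ^ 4 = 1 ∧ x * x ∈ M := fun x hx => by
    obtain ⟨σ, hσ⟩ := Agent.S2930.exists_sq (by norm_num) (aut e x)
    rw [← map_mul] at hσ
    have m : sign σ = 1 → x * x ∈ M := fun c => by
      rw [show x * x = e.symm ⟨σ, c⟩ from inj (MulEquiv.ext fun a => Subtype.ext (by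
        rw [hσ, aut_coe]; simp))]
      exact Subtype.property _
    have p : ∀ k, (x * x) ^ k = 1 → σ ^ k = 1 := fun k c => KSG.eq_one_of_commute_alt (by simp) fun a ha => by
      have : ∀ k, (aut e ((x * x) ^ k) ⟨a, ha⟩).1 = σ ^ k * a * (σ ^ k)⁻¹ := fun k => by
        induction k with
        | zero => simp
        | succ k ih => rw [pow_succ', map_mul, MulAut.mul_apply, hσ, ih, pow_succ']; group
      have := this k
      rw [c, map_one] at this
      exact (eq_mul_inv_iff_mul_eq.1 this).symm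
    have x4 : x ^ 4 = 1 := by
      have h1 := h x
      have h2 := orderOf_pos x
      have h3 : ¬ Odd (orderOf x) := fun c =>
        hx (MSS.oU_mem_of_pow_mem (Nat.coprime_two_right.2 c) (pow_two x ▸ ⟨σ, hσ⟩))
      have h4 : orderOf x ≠ 6 := fun c => by
        have o : orderOf (x * x) = 3 := by rw [← pow_two, orderOf_pow, c]; rfl
        have := m (sign_of_odd (by decide) (p 3 (o ▸ pow_orderOf_eq_one _)))
        refine hx (mem_ind e (c := e ⟨_, this⟩) (by rwa [MulEquiv.orderOf_eq, orderOf_mk]) ?_)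
        rw [aut_apply, show MulAut.conjNormal x (⟨_, this⟩ : M) = ⟨_, this⟩ from
          Subtype.ext (by simp [mul_assoc])]
      rw [← orderOf_dvd_iff_pow_eq_one]
      rw [Nat.not_odd_iff_even, Nat.even_iff] at h3
      generalize orderOf x = k at *
      interval_cases k <;> omega
    refine ⟨x4, m (by_contra fun s => ?_)⟩
    obtain ⟨c, c3, c1, c2, c4⟩ := odd_inv σ (pow_two σ ▸ p 2 (by rw [← pow_two, ← pow_mul, x4])) s
    let c' : alternatingGroup (Fin 6) := ⟨c, sign_of_odd (by decide) c3⟩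
    have o : orderOf c' = 3 := by rw [orderOf_mk, ord3 c3 c1]
    have o' : orderOf (aut e x c').1 = 3 := by rw [Subgroup.orderOf_coe, MulEquiv.orderOf_eq, o]
    refine hx (mem_ind e o (c4 _ ?_ (o' ▸ pow_orderOf_eq_one _) fun d => by simp [d] at o'))
    have e1 : aut e (x * x) c' = c' := Subtype.ext (by rw [hσ, ← c2]; simp [c'])
    rw [eq_comm, ← mul_inv_eq_iff_eq_mul, ← hσ, ← MulAut.mul_apply, ← map_mul, mul_assoc, map_mul,
      MulAut.mul_apply, e1]
  by_contra hx
  let H := (zpowers (x : G ⧸ M)).comap (QuotientGroup.mk' M)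
  have xx : (x : G ⧸ M) * x = 1 := (QuotientGroup.eq_one_iff _).2 (key x hx).2
  have mem : ∀ g ∈ H, g * x ∈ M ∨ g ∈ M := by
    rintro g ⟨i, hi⟩
    simp only [QuotientGroup.mk'_apply] at hi
    rw [← QuotientGroup.eq_one_iff, ← QuotientGroup.eq_one_iff, QuotientGroup.mk_mul, ← hi,
      ← zpow_mod_orderOf, ord2 xx fun c => hx (le_ind e ((QuotientGroup.eq_one_iff _).1 c))]
    rcases Int.emod_two_eq_zero_or_one i with c | c <;> simp [c, xx]
  have le : M ≤ H := fun m hm => by
    rw [mem_comap, QuotientGroup.mk'_apply, (QuotientGroup.eq_one_iff _).2 hm]; exact one_mem _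
  have h' := h.subgroup H
  have := CITC.IsCIT.eq_top_of_A6 (G := H) (fun t ht => ?_) ?_ (N := M.subgroupOf H)
    (index_dvd_two_iff.2 ⟨⟨x, mem_zpowers _⟩, fun b => mem b b.2⟩)
    ((subgroupOfEquivOfLe le).trans e) fun g c => by have := h' g; omega
  · exact hx (le_ind e (this.ge (mem_top (⟨x, mem_zpowers _⟩ : H))))
  · refine MSS.isPGroup_iff_forall_mem.2 fun c hc => ⟨2, ?_⟩
    have hc' := mem_centralizer_singleton_iff.1 hc
    have t2 : t ^ 2 = 1 := ht ▸ pow_orderOf_eq_one t
    have t1 : t ≠ 1 := fun e => by simp [e] at ht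
    have k : ∀ j, orderOf (c ^ j) ≠ 3 := fun j o => by
      have o6 : orderOf (c ^ j * t) = 6 := by
        rw [(Commute.pow_left hc' j).orderOf_mul_eq_mul_orderOf_of_coprime (by rw [o, ht]; norm_num), o, ht]
      generalize c ^ j * t = y at o6
      rcases mem y y.2 with a | a
      · have := (key y fun b => hx ((mul_mem_cancel_left b).1 (le_ind e a))).1
        rw [← orderOf_dvd_iff_pow_eq_one, Subgroup.orderOf_coe, o6] at this
        omega
      · have o : orderOf (e ⟨y, a⟩).1 = 6 := by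
          rw [Subgroup.orderOf_coe, MulEquiv.orderOf_eq, orderOf_mk, Subgroup.orderOf_coe, o6]
        have := no6 _ (by rw [← pow_three', ← pow_add, ← orderOf_dvd_iff_pow_eq_one, o]) (e ⟨y, a⟩).2
        simp only [← pow_two, ← pow_succ, ← orderOf_dvd_iff_pow_eq_one, o] at this
        omega
    have h1 := h' c
    have h2 := orderOf_pos c
    have h3 := k 1
    have h4 : orderOf c ≠ 6 := fun o => k 2 (by rw [orderOf_pow, o]; rfl)
    have h5 : orderOf c ≠ 5 := fun o => t1 (h'.fpf5 (o ▸ pow_orderOf_eq_one c) (fun d => by simp [d] at o)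
      hc' (by norm_num) t2)
    rw [pow_one] at h3
    rw [← orderOf_dvd_iff_pow_eq_one]
    generalize orderOf c = k at *
    interval_cases k <;> omega
  · have := alternatingGroup.isSimpleGroup (α := Fin 6) (by simp)
    have : IsSimpleGroup (M.subgroupOf H) := ((subgroupOfEquivOfLe le).trans e).isSimpleGroup
    have b : pCore 2 H ⊓ M.subgroupOf H = ⊥ := by
      rcases IsSimpleGroup.eq_bot_or_eq_top_of_normal ((pCore 2 H).subgroupOf (M.subgroupOf H))
        inferInstance with c | c
      · exact (subgroupOf_eq_bot.1 c).eq_bot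
      · obtain ⟨k, hk⟩ := (MSS.oP_pCore_isPGroup.to_le (subgroupOf_eq_top.1 c)).exists_card_eq
        rw [Nat.card_congr ((subgroupOfEquivOfLe le).trans e).toEquiv, nat_card_alternatingGroup] at hk
        have : 3 ∣ 2 ^ k := by rw [← hk]; simp [Nat.factorial]
        exact absurd (Nat.prime_three.dvd_of_dvd_pow this) (by norm_num)
    refine eq_bot_iff.2 fun g hg => Subtype.ext (inj (MulEquiv.ext fun a => ?_))
    obtain ⟨k, rfl⟩ := e.surjective a
    rw [aut_apply, OneMemClass.coe_one, map_one, MulAut.one_apply]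
    refine congrArg e (Subtype.ext (mul_inv_eq_iff_eq_mul.2 ?_))
    exact congrArg Subtype.val (commute_of_normal_of_disjoint _ _ inferInstance inferInstance
      (disjoint_iff.2 b) g ⟨k, le k.2⟩ hg k.2)

theorem ext_alt (h : H6 G) (hn : n = 5 ∨ n = 6) (e : M ≃* alternatingGroup (Fin n)) : Str G := by
  rcases hn with rfl | rfl
  · obtain ⟨Φ, a, b⟩ := embed h (Or.inl rfl) e fun g => KSG.exists_perm_of_mulAut (by simp) (by simp) _
    by_cases c : Φ.range ≤ alternatingGroup (Fin 5)
    · exact Or.inl ⟨Φ, le_antisymm c b, fun q hq => by rw [(injective_iff_map_eq_one Φ).1 a q hq, one_mul]⟩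
    obtain ⟨σ, s1, s2⟩ := SetLike.not_le_iff_exists.1 c
    refine Or.inr (Or.inl ⟨MulEquiv.ofBijective Φ ⟨a, fun τ => ?_⟩⟩)
    by_cases d : τ ∈ alternatingGroup (Fin 5)
    · exact b d
    · exact (mul_mem_cancel_left s1).1 (b ((mul_mem_iff_of_index_two (alternatingGroup.index_eq_two)).2
        (iff_of_false s2 d)))
  · exact Or.inr (Or.inr (embed h (Or.inr rfl) e (all_ind h e)))

end CL.Ord6
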