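import Mathlib
import Cfsg.Agent.TECH.SylIn

/-!
Order type of a finite group: counting elements by properties of their order.
-/

set_option autoImplicit false

namespace CL.OrdType

open Subgroup CL.MSS

variable {G H : Type*} [Group G] [Group H]

/-- Two groups with the same order type admit an order preserving bijection. -/
theorem exists_equiv_orderOf [Finite G] [Finite H]
    (hT : ∀ m : ℕ, Nat.card {g : G // orderOf g = m} = Nat.card {h : H // orderOf h = m}) :
    ∃ e : G ≃ H, ∀ g, orderOf (e g) = orderOf g := by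
  have : ∀ m : ℕ, Nonempty ({g : G // orderOf g = m} ≃ {h : H // orderOf h = m}) :=
    fun m => Finite.card_eq.mp (hT m)
  exact ⟨Equiv.ofFiberEquiv (fun m => (this m).some), fun g => Equiv.ofFiberEquiv_map _ g⟩

theorem card_eq_of_orderType [Finite G] [Finite H]
    (hT : ∀ m : ℕ, Nat.card {g : G // orderOf g = m} = Nat.card {h : H // orderOf h = m}) :
    Nat.card G = Nat.card H := by
  obtain ⟨e, -⟩ := exists_equiv_orderOf hT
  exact Nat.card_congr e

theorem card_pred_eq_of_orderType [Finite G] [Finite H]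
    (hT : ∀ m : ℕ, Nat.card {g : G // orderOf g = m} = Nat.card {h : H // orderOf h = m})
    (φ : ℕ → Prop) : Nat.card {g : G // φ (orderOf g)} = Nat.card {h : H // φ (orderOf h)} := by
  obtain ⟨e, he⟩ := exists_equiv_orderOf hT
  exact Nat.card_congr (e.subtypeEquiv fun g => by rw [he])

/-- `n` is a `π`-number. -/
def PiNum (π : ℕ → Prop) (n : ℕ) : Prop := ∀ q : ℕ, q.Prime → q ∣ n → π q

/-- The number of `π`-elements. -/
noncomputable def piCount (π : ℕ → Prop) (G : Type*) [Group G] : ℕ :=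
  Nat.card {g : G // PiNum π (orderOf g)}

open Classical in
/-- The `π`-part of a natural number. -/
noncomputable def piPartNat (π : ℕ → Prop) (n : ℕ) : ℕ :=
  n.factorization.prod fun q k => if π q then q ^ k else 1

theorem piPartNat_mul (π : ℕ → Prop) {a b : ℕ} (ha : a ≠ 0) (hb : b ≠ 0) :
    piPartNat π (a * b) = piPartNat π a * piPartNat π b := by
  unfold piPartNat
  rw [Nat.factorization_mul ha hb, Finsupp.prod_add_index']
  · intro q; simp
  · intro q k l; split_ifs <;> simp [pow_add]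

theorem piPartNat_of_piNum {π : ℕ → Prop} {a : ℕ} (ha : a ≠ 0) (h : PiNum π a) :
    piPartNat π a = a := by
  unfold piPartNat
  conv_rhs => rw [← Nat.prod_factorization_pow_eq_self ha]
  refine Finsupp.prod_congr fun q hq => ?_
  rw [Nat.support_factorization, Nat.mem_primeFactors] at hq
  rw [if_pos (h q hq.1 hq.2.1)]

theorem piPartNat_of_piNum_not {π : ℕ → Prop} {a : ℕ} (h : PiNum (fun q => ¬ π q) a) :
    piPartNat π a = 1 := by
  unfold piPartNat
  refine Finset.prod_eq_one fun q hq => ?_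
  rw [Nat.support_factorization, Nat.mem_primeFactors] at hq
  exact if_neg (h q hq.1 hq.2.1)

theorem PiNum.of_dvd {π : ℕ → Prop} {a b : ℕ} (h : PiNum π b) (hd : a ∣ b) : PiNum π a :=
  fun q hq hqa => h q hq (hqa.trans hd)

theorem PiNum.mul {π : ℕ → Prop} {a b : ℕ} (ha : PiNum π a) (hb : PiNum π b) : PiNum π (a * b) :=
  fun q hq h => ((Nat.Prime.dvd_mul hq).mp h).elim (ha q hq) (hb q hq)

theorem piNum_one (π : ℕ → Prop) : PiNum π 1 := fun _ hq h => absurd (Nat.dvd_one.mp h) hq.ne_one

theorem PiNum.eq_one {π : ℕ → Prop} {a : ℕ} (h1 : PiNum π a) (h2 : PiNum (fun q => ¬ π q) a) :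
    a = 1 := by
  by_contra h
  exact h2 _ (Nat.minFac_prime h) (Nat.minFac_dvd a) (h1 _ (Nat.minFac_prime h) (Nat.minFac_dvd a))

theorem piNum_orderOf_iff_quotient [Finite G] {π : ℕ → Prop} (N : Subgroup G) [N.Normal]
    (hN : PiNum π (Nat.card N)) (g : G) :
    PiNum π (orderOf g) ↔ PiNum π (orderOf (g : G ⧸ N)) := by
  refine ⟨fun h => h.of_dvd (orderOf_map_dvd (QuotientGroup.mk' N) g), fun h => ?_⟩
  refine (h.mul hN).of_dvd (orderOf_dvd_of_pow_eq_one ?_)
  have h1 : g ^ orderOf (g : G ⧸ N) ∈ N := by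
    rw [← QuotientGroup.eq_one_iff, QuotientGroup.mk_pow, pow_orderOf_eq_one]
  rw [pow_mul]
  exact congrArg Subtype.val (pow_card_eq_one' (x := (⟨_, h1⟩ : N)))

theorem card_subtype_quotient (N : Subgroup G) [N.Normal] (φ : G ⧸ N → Prop) :
    Nat.card {g : G // φ (g : G ⧸ N)} = Nat.card N * Nat.card {x : G ⧸ N // φ x} := by
  rw [← Nat.card_prod]
  exact Nat.card_congr (QuotientGroup.preimageMkEquivSubgroupProdSet N {x | φ x})

theorem piCount_eq_mul_quotient [Finite G] {π : ℕ → Prop} (N : Subgroup G) [N.Normal]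
    (hN : PiNum π (Nat.card N)) : piCount π G = Nat.card N * piCount π (G ⧸ N) := by
  unfold piCount
  rw [← card_subtype_quotient N fun x => PiNum π (orderOf x)]
  exact Nat.card_congr (Equiv.subtypeEquivRight fun g => piNum_orderOf_iff_quotient N hN g)

theorem piCount_eq_one [Finite G] {π : ℕ → Prop} (h : PiNum (fun q => ¬ π q) (Nat.card G)) :
    piCount π G = 1 := by
  unfold piCount
  rw [Nat.card_eq_one_iff_unique]
  refine ⟨⟨fun a b => Subtype.ext ?_⟩, ⟨⟨1, by rw [orderOf_one]; exact piNum_one π⟩⟩⟩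
  rw [orderOf_eq_one_iff.mp (a.2.eq_one (h.of_dvd (orderOf_dvd_natCard _))),
    orderOf_eq_one_iff.mp (b.2.eq_one (h.of_dvd (orderOf_dvd_natCard _)))]

theorem piCount_congr {π ρ : ℕ → Prop} [Finite G]
    (h : ∀ q : ℕ, q.Prime → q ∣ Nat.card G → (π q ↔ ρ q)) : piCount π G = piCount ρ G := by
  refine Nat.card_congr (Equiv.subtypeEquivRight fun g => ?_)
  exact forall_congr' fun q => forall_congr' fun hq => forall_congr' fun hd =>
    h q hq (hd.trans (orderOf_dvd_natCard g))

theorem piPartNat_congr {π ρ : ℕ → Prop} {n : ℕ}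
    (h : ∀ q : ℕ, q.Prime → q ∣ n → (π q ↔ ρ q)) : piPartNat π n = piPartNat ρ n := by
  unfold piPartNat
  refine Finsupp.prod_congr fun q hq => ?_
  rw [Nat.support_factorization, Nat.mem_primeFactors] at hq
  have := h q hq.1 hq.2.1
  by_cases h1 : π q
  · rw [if_pos h1, if_pos (this.mp h1)]
  · rw [if_neg h1, if_neg (fun h2 => h1 (this.mpr h2))]

theorem piCount_eq_of_orderType [Finite G] [Finite H]
    (hT : ∀ m : ℕ, Nat.card {g : G // orderOf g = m} = Nat.card {h : H // orderOf h = m})
    (π : ℕ → Prop) : piCount π G = piCount π H := card_pred_eq_of_orderType hT _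

/-- A `π`-subgroup whose order is the number of `π`-elements contains all `π`-elements. -/
theorem mem_of_piCount_le [Finite G] {π : ℕ → Prop} {K : Subgroup G} (hK : PiNum π (Nat.card K))
    (h : piCount π G ≤ Nat.card K) {g : G} (hg : PiNum π (orderOf g)) : g ∈ K := by
  have h1 : (K : Set G) ⊆ {g : G | PiNum π (orderOf g)} := fun x hx =>
    hK.of_dvd (K.orderOf_dvd_natCard hx)
  have := Set.eq_of_subset_of_ncard_le h1 h (Set.toFinite _)
  rw [← SetLike.mem_coe, this]
  exact hg

theorem normal_of_piCount_le [Finite G] {π : ℕ → Prop} {K : Subgroup G} (hK : PiNum π (Nat.card K))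
    (h : piCount π G ≤ Nat.card K) : K.Normal :=
  ⟨fun n hn g => mem_of_piCount_le hK h (by
    rw [show g * n * g⁻¹ = MulAut.conj g n from rfl, MulEquiv.orderOf_eq]
    exact hK.of_dvd (K.orderOf_dvd_natCard hn))⟩

theorem piNum_card_sylow [Finite G] {p : ℕ} [Fact p.Prime] (P : Sylow p G) :
    PiNum (· = p) (Nat.card P) := by
  obtain ⟨k, hk⟩ := IsPGroup.iff_card.mp P.isPGroup'
  intro q hq hd
  rw [hk] at hd
  exact (Nat.prime_dvd_prime_iff_eq hq Fact.out).mp (hq.dvd_of_dvd_pow hd)

theorem piPartNat_card_eq_sylow [Finite G] {p : ℕ} [Fact p.Prime] (P : Sylow p G) :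
    piPartNat (· = p) (Nat.card G) = Nat.card P := by
  rw [← (P : Subgroup G).card_mul_index, piPartNat_mul _ Nat.card_pos.ne' index_ne_zero_of_finite,
    piPartNat_of_piNum Nat.card_pos.ne' (piNum_card_sylow P), piPartNat_of_piNum_not, mul_one]
  rintro q - hd rfl
  exact P.not_dvd_index hd

/-- For a normal Hall `π`-subgroup the number of `π`-elements is its order. -/
theorem piCount_eq_card_of_normal_hall [Finite G] {π : ℕ → Prop} (K : Subgroup G) [K.Normal]
    (hK : PiNum π (Nat.card K)) (hK' : PiNum (fun q => ¬ π q) K.index) :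
    piCount π G = Nat.card K := by
  rw [piCount_eq_mul_quotient K hK, piCount_eq_one hK', mul_one]

end CL.OrdType
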