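import Mathlib
import Cfsg.Agent.FGS.PP4b
import Cfsg.Agent.PLOC.NPC
import Cfsg.Agent.SOLV.CoprimeSylow

/-! A `p`-subgroup `R` maximal with `C(R)` not `p`-nilpotent is Sylow in the centraliser of a
`p'`-element of prime power order (`p = 2`, or solvable groups). -/

set_option autoImplicit false
set_option linter.unusedSectionVars false
set_option linter.unusedVariables false

namespace CL.PP4

open Subgroup Cfsg CL CL.MSS

universe u

variable {G : Type*} [Group G] [Finite G] {p : ℕ} [hp : Fact p.Prime]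

theorem cent_zpowers (x : G) : centralizer (zpowers x : Set G) = centralizer ({x} : Set G) := by
  rw [zpowers_eq_closure, centralizer_closure]

theorem nc_iff_npc {H : Subgroup G} : NC p H ↔ HasNormalPComplement p H := by
  have hc : ∀ g : H, (orderOf g).Coprime p ↔ ¬ p ∣ orderOf (g : G) := fun g => by
    rw [orderOf_coe, Nat.coprime_comm, hp.out.coprime_iff_not_dvd]
  rw [hasNPC_iff_forall_mem_pResidual]
  refine ⟨fun h g hg => (hc g).2 ?_, fun h a ha b hb h1 h2 => (hc (⟨a, ha⟩ * ⟨b, hb⟩)).1 (h _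
    (mul_mem (subset_closure ((hc ⟨a, ha⟩).2 h1)) (subset_closure ((hc ⟨b, hb⟩).2 h2))))⟩
  have : pResidual p H ≤ h.core.subgroupOf H := (closure_le _).2 fun x hx => ⟨x.2, (hc x).1 hx⟩
  exact (this hg).2

theorem NC.subgroupOf {H : Subgroup G} (h : NC p H) (L : Subgroup G) : NC p (H.subgroupOf L) :=
  fun a ha b hb h1 h2 => by
    rw [← orderOf_coe] at h1 h2 ⊢
    exact h _ ha _ hb h1 h2

theorem isPGroup_of_forall {H : Subgroup G} (h : ∀ a ∈ H, ¬ p ∣ orderOf a → a = 1) :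
    IsPGroup p H := fun a => by
  obtain ⟨k, m, hm, e⟩ := Nat.exists_eq_pow_mul_and_not_dvd (orderOf_pos (a : G)).ne' p hp.out.ne_one
  refine ⟨k, Subtype.ext (h _ (pow_mem a.2 _) fun hd => hm (hd.trans (orderOf_dvd_of_pow_eq_one ?_)))⟩
  rw [coe_pow, ← pow_mul, ← e, pow_orderOf_eq_one]

section maps
variable {X : Type*} [Group X]

theorem exists_pow_lift (f : G →* X) (a : G) {u v : ℕ} (hu : a ^ (v * u) = 1)
    (hc : v.Coprime (orderOf (f a))) : ∃ e : ℕ, f (a ^ e) = f a ∧ (a ^ e) ^ u = 1 := by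
  obtain ⟨m, hm⟩ := exists_pow_eq_self_of_coprime hc
  exact ⟨v * m, by rw [map_pow, pow_mul, hm], by rw [← pow_mul, mul_right_comm, pow_mul, hu, one_pow]⟩

theorem exists_reg_lift (f : G →* X) (a : G) (h : ¬ p ∣ orderOf (f a)) :
    ∃ e : ℕ, f (a ^ e) = f a ∧ ¬ p ∣ orderOf (a ^ e) := by
  obtain ⟨k, m, hm, e⟩ := Nat.exists_eq_pow_mul_and_not_dvd (orderOf_pos a).ne' p hp.out.ne_one
  obtain ⟨j, h1, h2⟩ := exists_pow_lift f a (u := m) (v := p ^ k) (e ▸ pow_orderOf_eq_one a)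
    ((hp.out.coprime_iff_not_dvd.2 h).pow_left k)
  exact ⟨j, h1, fun hd => hm (hd.trans (orderOf_dvd_of_pow_eq_one h2))⟩

theorem exists_pp_lift (f : G →* X) (a : G) {r k : ℕ} (hr : r.Prime) (h : orderOf (f a) = r ^ k) :
    ∃ e j : ℕ, f (a ^ e) = f a ∧ orderOf (a ^ e) = r ^ j := by
  obtain ⟨i, m, hm, e⟩ := Nat.exists_eq_pow_mul_and_not_dvd (orderOf_pos a).ne' r hr.ne_one
  obtain ⟨j, h1, h2⟩ := exists_pow_lift f a (u := r ^ i) (v := m)
    (by rw [mul_comm, ← e, pow_orderOf_eq_one])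
    (h ▸ (hr.coprime_iff_not_dvd.2 hm).symm.pow_right k)
  obtain ⟨l, -, hl⟩ := (Nat.dvd_prime_pow hr).1 (orderOf_dvd_of_pow_eq_one h2)
  exact ⟨j, l, h1, hl⟩

theorem NC.of_lift {K : Subgroup G} (h : NC p K) (f : G →* X) {H : Subgroup X}
    (hl : ∀ y ∈ H, ¬ p ∣ orderOf y → ∃ a ∈ K, ¬ p ∣ orderOf a ∧ f a = y) : NC p H :=
  fun a ha b hb h1 h2 => by
    obtain ⟨a, ha', h3, rfl⟩ := hl a ha h1
    obtain ⟨b, hb', h4, rfl⟩ := hl b hb h2
    rw [← map_mul]
    exact fun hd => h a ha' b hb' h3 h4 (hd.trans (orderOf_map_dvd f _))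

theorem NC.map {K : Subgroup G} (h : NC p K) (f : G →* X) : NC p (K.map f) :=
  h.of_lift f fun y ⟨a, ha, e⟩ hy => by
    subst e
    obtain ⟨e, h1, h2⟩ := exists_reg_lift f a hy
    exact ⟨_, pow_mem ha e, h2, h1⟩

theorem NC.of_map {K : Subgroup G} {f : G →* X} (h : NC p (K.map f)) (hk : ¬ p ∣ Nat.card f.ker) :
    NC p K := fun a ha b hb h1 h2 hd => by
  have h3 := h _ (mem_map_of_mem f ha) _ (mem_map_of_mem f hb)
    (fun e => h1 (e.trans (orderOf_map_dvd f a))) (fun e => h2 (e.trans (orderOf_map_dvd f b)))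
  rw [← map_mul] at h3
  have h4 : (a * b) ^ orderOf (f (a * b)) ∈ f.ker := by
    rw [MonoidHom.mem_ker, map_pow, pow_orderOf_eq_one]
  have h5 := orderOf_dvd_iff_pow_eq_one.1 (Subgroup.orderOf_dvd_natCard _ h4)
  rw [← pow_mul] at h5
  exact (hp.out.dvd_mul.1 (hd.trans (orderOf_dvd_of_pow_eq_one h5))).elim h3 hk

end maps

/-- the hypothesis of the core theorem. -/
structure Hyp (p : ℕ) (Y : Subgroup G) : Prop where
  one : ∀ g : G, orderOf g = p → NC p (Y ⊓ centralizer {g})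
  two : ∀ x ∈ Y, x ≠ 1 → (∃ r k : ℕ, r.Prime ∧ r ≠ p ∧ orderOf x = r ^ k) →
    ∃ g : G, orderOf g = p ∧ g * x = x * g

theorem Hyp.quot {Y N : Subgroup G} [N.Normal] (h : Hyp p Y) (hNY : N ≤ Y)
    (hN : ¬ p ∣ Nat.card N) : Hyp p (Y.map (QuotientGroup.mk' N)) where
  one := fun g hg => by
    obtain ⟨g, rfl⟩ := QuotientGroup.mk'_surjective N g
    have h1 : g ^ p ∈ N := (QuotientGroup.eq_one_iff _).1 (by
      rw [QuotientGroup.mk_pow, ← hg]; exact pow_orderOf_eq_one _)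
    obtain ⟨e, h2, h3⟩ := exists_pow_lift (QuotientGroup.mk' N) g (u := p) (v := Nat.card N) (by
      rw [mul_comm, pow_mul]
      exact orderOf_dvd_iff_pow_eq_one.1 (Subgroup.orderOf_dvd_natCard _ h1))
      (by rw [hg]; exact (hp.out.coprime_iff_not_dvd.2 hN).symm)
    have h4 : orderOf (g ^ e) = p := orderOf_eq_prime h3 fun e1 => by
      rw [← h2, e1, map_one, orderOf_one] at hg
      exact hp.out.ne_one hg.symm
    have h5 := inf_centralizer_map_of_coprime (QuotientGroup.mk' N) (zpowers (g ^ e)) Y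
      (by simpa using hNY)
      (by rw [Nat.card_zpowers, h4, QuotientGroup.ker_mk']; exact hp.out.coprime_iff_not_dvd.2 hN)
      (.inl inferInstance)
    rw [MonoidHom.map_zpowers, cent_zpowers, cent_zpowers, h2] at h5
    rw [h5]
    exact (h.one _ h4).map _
  two := fun x ⟨y, hy, e⟩ h1 ⟨r, k, hr, hrp, hk⟩ => by
    subst e
    obtain ⟨e, j, h2, h3⟩ := exists_pp_lift _ y hr hk
    obtain ⟨g, hg, hc⟩ := h.two _ (pow_mem hy e) (fun e1 => h1 (by rw [← h2, e1, map_one]))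
      ⟨r, j, hr, hrp, h3⟩
    refine ⟨QuotientGroup.mk' N g, orderOf_eq_prime
      (by rw [← map_pow, ← hg, pow_orderOf_eq_one, map_one]) fun e1 => hN ?_,
      by rw [← h2, ← map_mul, hc, map_mul]⟩
    exact hg ▸ Subgroup.orderOf_dvd_natCard _ ((QuotientGroup.eq_one_iff g).1 e1)

theorem Hyp.eq_bot {Y : Subgroup G} [Y.Normal] (h : Hyp p Y)
    (hN : ∀ N : Subgroup G, N.Normal → N ≤ Y → ¬ p ∣ Nat.card N → N = ⊥) (hY : ¬ IsPGroup p Y)
    {U : Subgroup G} [U.Normal] (hUY : U ≤ Y) (hU : IsPGroup p U) : U = ⊥ := by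
  by_contra h0
  obtain ⟨a, ha, h1, h2⟩ : ∃ a ∈ Y, ¬ p ∣ orderOf a ∧ a ≠ 1 := by
    by_contra! hc
    exact hY (isPGroup_of_forall hc)
  obtain ⟨r, hr, hd⟩ := Nat.exists_prime_and_dvd (mt orderOf_eq_one_iff.1 h2)
  have hx := orderOf_pow_orderOf_div (orderOf_pos a).ne' hd
  have hxY := pow_mem ha (orderOf a / r)
  generalize a ^ (orderOf a / r) = x at hx hxY
  have hrp : r ≠ p := fun e => h1 (e ▸ hd)
  have hpx : ¬ p ∣ orderOf x := fun e =>
    hrp ((Nat.prime_dvd_prime_iff_eq hp.out hr).1 (hx ▸ e)).symm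
  have hx1 : x ≠ 1 := fun e => hr.ne_one (by rw [← hx, e, orderOf_one])
  obtain ⟨g, hg, hc⟩ := h.two x hxY hx1 ⟨r, 1, hr, hrp, by rw [hx, pow_one]⟩
  have h3 := thompson_p_times_q (p := p) (zpowers g) (zpowers x) U
    (IsPGroup.of_card (n := 1) (by rw [Nat.card_zpowers, hg, pow_one]))
    (by rw [Nat.card_zpowers]; exact (hp.out.coprime_iff_not_dvd.2 hpx).symm) hU
    (by rw [cent_zpowers, zpowers_le]; exact mem_centralizer_singleton_iff.2 hc)
    (le_normalizer_of_normal) (le_normalizer_of_normal) (fun u hu => by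
      rw [cent_zpowers] at hu ⊢
      exact mem_centralizer_singleton_iff.2 ((h.one g hg).commute hU
        ⟨hxY, mem_centralizer_singleton_iff.2 hc.symm⟩ hpx hu.1 ⟨hUY hu.1, hu.2⟩
        (Normal.conj_mem inferInstance u hu.1 x)).symm)
  obtain ⟨⟨z, hz⟩, hz1⟩ := ne_bot_iff_exists_ne_one.1
    (inf_centralizer_ne_bot_of_isPGroup hU hU le_normalizer h0)
  obtain ⟨k, hk⟩ := hU ⟨z, hz.1⟩
  obtain ⟨j, -, hj⟩ := (Nat.dvd_prime_pow hp.out).1
    (orderOf_dvd_of_pow_eq_one (show z ^ p ^ k = 1 from congrArg Subtype.val hk))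
  have h4 := orderOf_pow_orderOf_div (orderOf_pos z).ne' (show p ∣ orderOf z from hj ▸ dvd_pow_self p
    fun e => hz1 (Subtype.ext (orderOf_eq_one_iff.1 (by rw [hj, e, pow_zero]))))
  have h5 : NC p (Y ⊓ centralizer (U : Set G)) := (h.one _ h4).mono (inf_le_inf_left _
    (centralizer_le (Set.singleton_subset_iff.2 (pow_mem hz.1 _))))
  have h6 := hN _ h5.core_normal (fun y hy => hy.1.1) h5.not_dvd_card
  exact hx1 (mem_bot.1 (h6 ▸ show x ∈ h5.core from
    ⟨⟨hxY, le_centralizer_iff.1 h3 (mem_zpowers x)⟩, hpx⟩))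

theorem Hyp.false_of_two {Y : Subgroup G} [Y.Normal] (h : Hyp 2 Y) {L : Subgroup G}
    (hL : IsMinNormal L) (hLY : L ≤ Y) (hns : ¬ Group.IsSolvable L) : False := by
  have := hL.normal
  have h2 : pCore 2 L = ⊥ := (hL.eq_bot_or_top_of_characteristic _).resolve_right fun h3 => by
    have := (pCore_eq_top_iff.1 h3).isNilpotent
    exact hns inferInstance
  have h3 : pPrimeCore 2 L = ⊥ := (hL.eq_bot_or_top_of_characteristic _).resolve_right fun h3 =>
    hns (isSolvable_of_odd L (Nat.coprime_two_right.1 (pPrimeCore_eq_top_iff.1 h3)))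
  have hI : ∀ t : L, orderOf t = 2 → NC 2 (centralizer ({t} : Set L)) := fun t ht =>
    ((h.one t (by rw [orderOf_coe, ht])).subgroupOf L).mono fun y hy => ⟨hLY y.2,
      mem_centralizer_singleton_iff.2 (congrArg Subtype.val (mem_centralizer_singleton_iff.1 hy))⟩
  have := hL.nontrivial
  have : IsSimpleGroup L := ⟨fun N hN => or_iff_not_imp_left.2 fun h0 => by
    obtain ⟨M, hM, hMN⟩ := exists_isMinNormal_le N h0
    have h4 : ∀ e : L ≃* L, M.map (e : L →* L) = M := fun e => by_contra fun h4 => by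
      have := hM.normal
      obtain ⟨t, ht, h5⟩ := CITC.exists_orderOf_two_of_mem fun ho =>
        hM.ne_bot (pPrimeCore_eq_bot_iff.1 h3 M this (Nat.coprime_two_right.2 ho))
      have := (hM.map_equiv e).normal
      have h6 : NC 2 (M.map (e : L →* L)) := (hI t h5).mono
        (((hM.map_equiv e).le_centralizer_of_ne hM h4).trans
          (centralizer_le (Set.singleton_subset_iff.2 ht)))
      have h7 := pPrimeCore_eq_bot_iff.1 h3 _ h6.core_normal
        (Nat.prime_two.coprime_iff_not_dvd.2 h6.not_dvd_card).symm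
      exact (hM.map_equiv e).ne_bot (le_bot_iff.1 (h2 ▸ le_pCore (isPGroup_of_forall
        fun a ha h8 => mem_bot.1 (h7 ▸ show a ∈ h6.core from ⟨ha, h8⟩))))
    have : M.Characteristic := characteristic_iff_map_eq.2 h4
    exact top_le_iff.1 (((hL.eq_bot_or_top_of_characteristic M).resolve_left hM.ne_bot).ge.trans hMN)⟩
  refine not_bad_simple (G := L) (fun hc => hns (isSolvable_of_isMulCommutative L))
    (fun t ht => nc_iff_npc.1 (hI t ht)) fun x hx hx2 => ?_
  obtain ⟨g, hg, hc⟩ := h.two x (hLY x.2)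
    (fun e => hx.ne_one (by rw [← orderOf_coe, e, orderOf_one]))
    ⟨_, 1, hx, hx2, by rw [orderOf_coe, pow_one]⟩
  refine ⟨MulAut.conjNormal g, ?_, Subtype.ext ?_, ((h.one g hg).subgroupOf L).mono fun y hy =>
    ⟨hLY y.2, mem_centralizer_singleton_iff.2 ?_⟩⟩
  · rw [← map_mul, ← sq, ← hg, pow_orderOf_eq_one, map_one]
  · rw [MulAut.conjNormal_apply, hc, mul_inv_cancel_right]
  · have h4 : g * y * g⁻¹ = y := congrArg Subtype.val (mem_fix.1 hy)
    exact (mul_inv_eq_iff_eq_mul.1 h4).symm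

theorem core_aux (n : ℕ) : ∀ (X : Type u) [Group X] [Finite X] (Y : Subgroup X) [Y.Normal],
    Nat.card X = n → Hyp p Y → (p = 2 ∨ Group.IsSolvable Y) → NC p Y := by
  induction n using Nat.strong_induction_on with
  | _ n ih =>
  intro X _ _ Y _ hn h hs
  by_cases hN : ∀ N : Subgroup X, N.Normal → N ≤ Y → ¬ p ∣ Nat.card N → N = ⊥
  · by_cases hY : IsPGroup p Y
    · exact nc_iff_npc.2 (hasNPC_of_isPGroup hY)
    exfalso
    obtain ⟨L, hL, hLY⟩ := exists_isMinNormal_le Y (fun e => hY (e ▸ IsPGroup.of_bot))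
    have := hL.normal
    have hns : ¬ Group.IsSolvable L := fun h1 => by
      obtain ⟨r, hr, h2⟩ := hL.exists_isPGroup_of_isSolvable h1
      by_cases hrp : r = p
      · exact hL.ne_bot (h.eq_bot hN hY hLY (hrp ▸ h2))
      · have := Fact.mk hr
        obtain ⟨k, hk⟩ := h2.exists_card_eq
        exact hL.ne_bot (hN L inferInstance hLY fun e => hrp ((Nat.prime_dvd_prime_iff_eq hp.out hr).1
          (hp.out.dvd_of_dvd_pow (hk ▸ e))).symm)
    rcases hs with rfl | hs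
    · exact h.false_of_two hL hLY hns
    · exact hns (Group.isSolvable_of_isSolvable_injective (inclusion_injective hLY))
  · push Not at hN
    obtain ⟨N, _, hNY, h1, h2⟩ := hN
    have : (Y.map (QuotientGroup.mk' N)).Normal := Normal.map inferInstance _ (QuotientGroup.mk'_surjective N)
    refine (ih _ ?_ (X ⧸ N) _ rfl (h.quot hNY h1) (hs.imp_right fun h3 => @isSolvable_map _ _ _ _ Y h3 _)).of_map
      (by rwa [QuotientGroup.ker_mk'])
    rw [← hn, ← index_eq_card, ← N.index_mul_card]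
    exact lt_mul_of_one_lt_right (Nat.pos_of_ne_zero index_ne_zero_of_finite)
      ((one_lt_card_iff_ne_bot N).2 h2)

theorem Hyp.nc {Y : Subgroup G} [Y.Normal] (h : Hyp p Y) (hs : p = 2 ∨ Group.IsSolvable Y) :
    NC p Y := core_aux _ G Y rfl h hs

end CL.PP4
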