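import Mathlib
import Cfsg.Agent.FGS.PP4c

/-! If `p ^ 2` divides no class size of a `p'`-element of prime power order, `p` the least prime
divisor of the order, then the group has a normal `p`-complement. -/

set_option autoImplicit false
set_option linter.unusedSectionVars false
set_option linter.unusedVariables false

namespace CL.PP4

open Subgroup Cfsg CL CL.MSS

variable {G : Type*} [Group G] [Finite G] {p : ℕ} [hp : Fact p.Prime]

theorem exists_pow_order_prime {g : G} (h1 : g ≠ 1) {k : ℕ} (hk : g ^ p ^ k = 1) :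
    ∃ e : ℕ, orderOf (g ^ e) = p := by
  obtain ⟨j, -, hj⟩ := (Nat.dvd_prime_pow hp.out).1 (orderOf_dvd_of_pow_eq_one hk)
  exact ⟨_, orderOf_pow_orderOf_div (orderOf_pos g).ne' (hj ▸ dvd_pow_self p
    fun e => h1 (orderOf_eq_one_iff.1 (by rw [hj, e, pow_zero])))⟩

/-- the section `N(R)/R`. -/
abbrev Sec (R : Subgroup G) : Type _ :=
  normalizer (R : Set G) ⧸ R.subgroupOf (normalizer (R : Set G))

/-- the projection onto `N(R)/R`. -/
abbrev prj (R : Subgroup G) : normalizer (R : Set G) →* Sec R := QuotientGroup.mk' _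

/-- the image of `C(R)` in `N(R)/R`. -/
abbrev img (R : Subgroup G) : Subgroup (Sec R) :=
  ((centralizer (R : Set G)).subgroupOf (normalizer (R : Set G))).map (prj R)

instance img_normal (R : Subgroup G) : (img R).Normal :=
  Normal.map inferInstance _ (QuotientGroup.mk'_surjective _)

theorem prj_eq_one {R : Subgroup G} {g : normalizer (R : Set G)} : prj R g = 1 ↔ (g : G) ∈ R :=
  QuotientGroup.eq_one_iff g

theorem nc_of_img {R : Subgroup G} (h : NC p (img R)) : NC p (centralizer (R : Set G)) := by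
  let ψ : centralizer (R : Set G) →* Sec R :=
    (prj R).comp (inclusion (centralizer_le_normalizer (R : Set G)))
  have h1 : ψ.range ≤ img R := by
    rintro _ ⟨x, rfl⟩
    exact mem_map_of_mem _ x.2
  refine nc_iff_npc.2 (hasNPC_of_quotient_central ψ.ker (fun z hz => mem_center_iff.2 fun g =>
    Subtype.ext (g.2 z (prj_eq_one.1 hz)).symm) ?_)
  exact hasNPC_of_equiv (nc_iff_npc.1 (h.mono h1)) (QuotientGroup.quotientKerEquivRange ψ).symm

theorem img_one {R : Subgroup G} (hR : IsPGroup p R)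
    (hmax : ∀ R' : Subgroup G, IsPGroup p R' → R < R' → NC p (centralizer (R' : Set G)))
    (g : Sec R) (hg : orderOf g = p) : NC p (img R ⊓ centralizer {g} : Subgroup (Sec R)) := by
  obtain ⟨g, rfl⟩ := QuotientGroup.mk'_surjective _ g
  have h1 : (g : G) ^ p ∈ R := prj_eq_one (g := g ^ p).1 (by
    rw [map_pow, ← hg]; exact pow_orderOf_eq_one _)
  have h2 : (g : G) ∉ R := fun e => hp.out.ne_one (by rw [← hg, prj_eq_one.2 e, orderOf_one])
  have h3 : IsPGroup p (zpowers (g : G)) := by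
    obtain ⟨k, hk⟩ := hR ⟨_, h1⟩
    have h4 : (g : G) ^ p ^ (k + 1) = 1 := by
      rw [pow_succ', pow_mul]; exact congrArg Subtype.val hk
    obtain ⟨j, -, hj⟩ := (Nat.dvd_prime_pow hp.out).1 (orderOf_dvd_of_pow_eq_one h4)
    exact IsPGroup.of_card (by rw [Nat.card_zpowers, hj])
  have h4 := hmax (R ⊔ zpowers (g : G)) (hR.to_sup_of_normal_left' h3 (zpowers_le.2 g.2))
    (left_lt_sup.2 fun e => h2 (e (mem_zpowers _)))
  refine (h4.subgroupOf (normalizer (R : Set G))).of_lift (prj R) fun y ⟨⟨a, ha, e⟩, hy⟩ h5 => ?_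
  subst e
  obtain ⟨e, h6, h7⟩ := exists_reg_lift (prj R) a h5
  refine ⟨_, ?_, h7, h6⟩
  have h8 : ((a ^ e : normalizer (R : Set G)) : G) ∈ centralizer (R : Set G) := pow_mem ha e
  rw [← h6] at hy
  rw [← orderOf_coe] at h7
  generalize a ^ e = b at h7 h8 hy
  have h9 : ((b : G) * g * (b : G)⁻¹ * (g : G)⁻¹) ∈ R := prj_eq_one (g := b * g * b⁻¹ * g⁻¹).1 (by
    rw [map_mul, map_mul, map_mul, mem_centralizer_singleton_iff.1 hy]; simp)
  have h10 : ∀ n : ℕ, (b : G) ^ n * g * ((b : G) ^ n)⁻¹ = ((b : G) * g * (b : G)⁻¹ * (g : G)⁻¹) ^ n * g := fun n => by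
    induction n with
    | zero => simp
    | succ n ih =>
      have h11 := h8 _ (pow_mem h9 n)
      calc _ = (b : G) * ((b : G) ^ n * g * ((b : G) ^ n)⁻¹) * (b : G)⁻¹ := by rw [pow_succ']; group
        _ = _ := by rw [ih, ← mul_assoc, ← h11, pow_succ]; group
  have h11 := h10 (orderOf (b : G))
  rw [pow_orderOf_eq_one, one_mul, inv_one, mul_one, right_eq_mul] at h11
  obtain ⟨k, hk⟩ := hR ⟨_, h9⟩
  have h12 := pow_gcd_eq_one.2 ⟨h11, congrArg Subtype.val hk⟩
  rw [(hp.out.coprime_iff_not_dvd.2 h7).symm.pow_right k, pow_one, mul_inv_eq_one,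
    mul_inv_eq_iff_eq_mul] at h12
  refine le_centralizer_iff.1 (sup_le ?_ ?_) (mem_zpowers (b : G))
  · exact le_centralizer_iff.1 (zpowers_le.2 h8)
  · rw [cent_zpowers, zpowers_le]; exact mem_centralizer_singleton_iff.2 h12.symm

/-- **Defect lemma.** -/
theorem exists_defect (hs : p = 2 ∨ Group.IsSolvable G) {R : Subgroup G} (hR : IsPGroup p R)
    (h0 : ¬ NC p (centralizer (R : Set G)))
    (hmax : ∀ R' : Subgroup G, IsPGroup p R' → R < R' → NC p (centralizer (R' : Set G))) :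
    ∃ x : G, x ≠ 1 ∧ (∃ r k : ℕ, r.Prime ∧ r ≠ p ∧ orderOf x = r ^ k) ∧
      SylIn p R (centralizer {x}) := by
  by_contra! hno
  refine h0 (nc_of_img (Hyp.nc ⟨img_one hR hmax, ?_⟩ (hs.imp_right fun h => by have := h; infer_instance)))
  rintro _ ⟨a, ha, rfl⟩ h1 ⟨r, k, hr, hrp, hk⟩
  obtain ⟨e, j, h2, h3⟩ := exists_pp_lift _ a hr hk
  have h4 : ((a ^ e : normalizer (R : Set G)) : G) ∈ centralizer (R : Set G) := pow_mem ha e
  rw [← h2] at h1 ⊢
  rw [← orderOf_coe] at h3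
  generalize a ^ e = x at h1 h3 h4
  obtain ⟨Q, hQ, hRQ⟩ := exists_sylIn_ge hR (show R ≤ centralizer {(x : G)} from
    fun y hy => mem_centralizer_singleton_iff.2 (h4 y hy))
  have h5 : R < Q := lt_of_le_of_ne hRQ fun e1 => hno x
    (fun e2 => h1 (prj_eq_one.2 (e2 ▸ one_mem _))) ⟨r, j, hr, hrp, h3⟩ (e1 ▸ hQ)
  obtain ⟨g, hg, hgR⟩ := SetLike.exists_of_lt
    (lt_inf_normalizer_of_isNilpotent hQ.pgroup.isNilpotent h5)
  obtain ⟨i, hi⟩ := hQ.pgroup ⟨g, hg.1⟩
  replace hi : g ^ p ^ i = 1 := congrArg Subtype.val hi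
  obtain ⟨l, hl⟩ := exists_pow_order_prime (p := p) (g := prj R ⟨g, hg.2⟩) (k := i)
    (mt prj_eq_one.1 hgR) (by
      rw [← map_pow, show (⟨g, hg.2⟩ : normalizer (R : Set G)) ^ p ^ i = 1 from
        Subtype.ext hi, map_one])
  refine ⟨_, hl, (Commute.pow_left ?_ l)⟩
  exact (show Commute (⟨g, hg.2⟩ : normalizer (R : Set G)) x from
    Subtype.ext (mem_centralizer_singleton_iff.1 (hQ.le hg.1))).map _

theorem npc_of_not_sq_dvd (hmin : ∀ r : ℕ, r.Prime → r ∣ Nat.card G → p ≤ r)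
    (h : ¬ p ^ 2 ∣ Nat.card G) : HasNormalPComplement p G := by
  by_cases h1 : p ∣ Nat.card G
  · obtain ⟨P⟩ := (inferInstance : Nonempty (Sylow p G))
    obtain ⟨m, hm⟩ := h1
    have h2 := Small.card_sylow_eq_of_factor P (a := 1) (m := m) (by rw [pow_one, hm])
      fun e => h (by rw [hm, sq]; exact Nat.mul_dvd_mul_left p e)
    have h3 : Nat.card G ≠ 1 := fun e => hp.out.ne_one (Nat.eq_one_of_mul_eq_one_right (hm ▸ e))
    exact hasNPC_of_normalizer_le_centralizer P (IsCyclic.normalizer_le_centralizer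
      (le_antisymm (Nat.minFac_le_of_dvd hp.out.two_le ⟨m, hm⟩)
        (hmin _ (Nat.minFac_prime h3) (Nat.minFac_dvd _)))
      (isCyclic_of_prime_card (p := p) (by rw [h2, pow_one])))
  · exact hasNPC_of_not_dvd h1

theorem sq_dvd_index (hmin : ∀ r : ℕ, r.Prime → r ∣ Nat.card G → p ≤ r) {R : Subgroup G}
    (h0 : ¬ NC p (centralizer (R : Set G))) : p ^ 2 ∣ R.index := by
  have h1 : Nat.card (Sec R) ∣ R.index := relIndex_dvd_index_of_le le_normalizer
  by_contra h2
  exact h0 (nc_of_img (nc_iff_npc.2 (hasNPC_subgroup (npc_of_not_sq_dvd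
    (fun r hr h3 => hmin r hr (h3.trans (h1.trans R.index_dvd_card))) fun h3 => h2 (h3.trans h1)) _)))

theorem exists_max (hG : ¬ HasNormalPComplement p G) : ∃ R : Subgroup G, IsPGroup p R ∧
    ¬ NC p (centralizer (R : Set G)) ∧
    ∀ R' : Subgroup G, IsPGroup p R' → R < R' → NC p (centralizer (R' : Set G)) := by
  obtain ⟨R, hR⟩ := Set.Finite.exists_maximal (Set.toFinite
    {R : Subgroup G | IsPGroup p R ∧ ¬ NC p (centralizer (R : Set G))}) ⟨⊥, IsPGroup.of_bot, fun h =>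
      hG (hasNPC_top_iff.1 (nc_iff_npc.1 (h.mono fun g _ y hy => by simp [mem_bot.1 hy])))⟩
  exact ⟨R, hR.1.1, hR.1.2, fun R' h1 h2 => by_contra fun h3 => h2.not_ge (hR.2 ⟨h1, h3⟩ h2.le)⟩

theorem npc_of_index (hs : p = 2 ∨ Group.IsSolvable G)
    (hmin : ∀ r : ℕ, r.Prime → r ∣ Nat.card G → p ≤ r)
    (h : ∀ x : G, (∃ r k : ℕ, r.Prime ∧ r ≠ p ∧ orderOf x = r ^ k) →
      ¬ p ^ 2 ∣ (centralizer ({x} : Set G)).index) : HasNormalPComplement p G := by
  by_contra hG
  obtain ⟨R, h1, h2, h3⟩ := exists_max hG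
  obtain ⟨x, -, h4, h5⟩ := exists_defect hs h1 h2 h3
  have h6 := sq_dvd_index hmin h2
  rw [← relIndex_mul_index h5.le] at h6
  exact h x h4 (((hp.out.coprime_iff_not_dvd.2 h5.not_dvd_relIndex).pow_left 2).dvd_of_dvd_mul_left h6)

theorem solvable_of_npc_two (h : HasNormalPComplement 2 G) : Group.IsSolvable G := by
  obtain ⟨N, _, h1, h2⟩ := hasNPC_iff_exists_normal.1 h
  have := isSolvable_of_odd N (Nat.coprime_two_right.1 h1)
  have := isSolvable_of_isPGroup h2
  exact Group.isSolvable_of_ker_le_range N.subtype (QuotientGroup.mk' N) (by simp)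

/-- if `4` divides no class size of an element of odd prime power order, `G` is `2`-nilpotent. -/
theorem npc_two (h : ∀ x : G, (∃ r k : ℕ, r.Prime ∧ r ≠ 2 ∧ orderOf x = r ^ k) →
      ¬ 4 ∣ (centralizer ({x} : Set G)).index) : HasNormalPComplement 2 G :=
  npc_of_index (.inl rfl) (fun r hr _ => hr.two_le) h

end CL.PP4
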