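import Mathlib
import Cfsg.Agent.FGS.PP4d
import Cfsg.Agent.FGS.SqFree2
import Cfsg.Agent.FGS.NilpBasic
import Cfsg.Agent.SOLV.Supersolvable

/-! Groups in which elements of prime power order have square-free class size. -/

set_option autoImplicit false
set_option linter.unusedSectionVars false
set_option linter.unusedVariables false

namespace CL.PP4

open Subgroup Cfsg CL CL.CS
open scoped Pointwise commutatorElement

universe u

variable {G : Type*} [Group G] [Finite G]

theorem card_eq_of_normal {p : ℕ} [hp : Fact p.Prime] {M K : Subgroup G} [hK : K.Normal]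
    (hM : IsMinNormal M) (hMp : IsPGroup p M) (hr : ∀ g ∈ K, (𝐂[g]).relIndex M ∣ p) {a : G}
    (haK : a ∈ K) (ha : ¬ M ≤ 𝐂[a]) : Nat.card M = p := by
  have := hM.normal
  have := hMp.isNilpotent
  have hZ := zComm_of_comm M (hM.isMulCommutative_of_isSolvable inferInstance)
  have hor : ∀ a ∈ K, ∀ b ∈ K, ¬ M ≤ 𝐂[a] → ¬ M ≤ 𝐂[b] → (dmap hZ a).range = (dmap hZ b).range ∨
      (𝐂[a]).subgroupOf M = (𝐂[b]).subgroupOf M := fun a haK b hbK ha hb => by
    by_contra hc
    push Not at hc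
    refine hc.1 (range_eq_of_ker_ne hp.out _ _ (dmap hZ (a * b))
      (card_range_dmap_eq hZ hp.out (hr a haK) ha) (card_range_dmap_eq hZ hp.out (hr b hbK) hb)
      (by rw [card_range_dmap]; exact hr _ (mul_mem haK hbK)) a (fun m => ?_) (fun y hy => ?_)
      (by rw [ker_dmap, ker_dmap]; exact hc.2))
    · simp only [dmap_apply, commutatorElement_def]; group
    · have := conj_mem_range_dmap hZ a a⁻¹ hy
      simpa [mul_assoc] using this
  by_cases hL : ∀ b ∈ K, ¬ M ≤ 𝐂[b] → (dmap hZ b).range = (dmap hZ a).range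
  · have : (dmap hZ a).range.Normal := ⟨fun y hy x => by
      have h1 := conj_mem_range_dmap hZ a x hy
      rwa [hL _ (hK.conj_mem a haK x)] at h1
      intro h2
      rw [cen_conj] at h2
      refine ha fun m hm => ?_
      have h3 := CL.mem_conj_smul_iff.mp (h2 (hM.normal.conj_mem m hm x))
      simpa [mul_assoc] using h3⟩
    have h1 := card_range_dmap_eq hZ hp.out (hr a haK) ha
    rw [← h1, hM.eq_of_le (range_dmap_le hZ a) (CL.ne_bot_of_card_prime (h1 ▸ hp.out))]
  push Not at hL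
  obtain ⟨b, hbK, hb, hab⟩ := hL
  have hker : ∀ g ∈ K, (𝐂[a]).subgroupOf M ≤ (𝐂[g]).subgroupOf M := by
    intro g hgK
    by_cases hg : M ≤ 𝐂[g]
    · exact fun m _ => hg m.2
    rcases hor a haK g hgK ha hg with h1 | h1
    · rcases hor b hbK g hgK hb hg with h2 | h2
      · exact absurd (h2.trans h1.symm) hab
      · rw [← h2, ← (hor b hbK a haK hb ha).resolve_left hab]
    · exact h1.le
  have h2 : centralizer (K : Set G) ⊓ M = ⊥ := hM.eq_bot_of_lt (lt_of_le_of_ne inf_le_right
    fun e => ha fun m hm => mem_cen'.2 ((e.ge hm).1 a haK))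
  have h1 : 𝐂[a] ⊓ M = ⊥ := le_bot_iff.1 (h2 ▸ fun m hm =>
    ⟨fun g hg => (mem_cen'.mp (hker g hg (x := ⟨m, hm.2⟩) hm.1)).eq, hm.2⟩)
  have h3 := CL.card_inf_mul_relIndex (𝐂[a]) M
  rw [h1, card_bot, one_mul, ← card_range_dmap hZ, card_range_dmap_eq hZ hp.out (hr a haK) ha] at h3
  exact h3.symm

/-- elements of prime power order have square-free class size. -/
def SQ (G : Type*) [Group G] : Prop :=
  ∀ x : G, (∃ r k : ℕ, r.Prime ∧ orderOf x = r ^ k) → Squarefree (𝐂[x]).index

theorem SQ.quot (h : SQ G) (N : Subgroup G) [N.Normal] : SQ (G ⧸ N) := fun y ⟨r, k, hr, hk⟩ => by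
  obtain ⟨x, rfl⟩ := QuotientGroup.mk'_surjective N y
  obtain ⟨e, j, h1, h2⟩ := exists_pp_lift _ x hr hk
  rw [← h1]
  exact (h _ ⟨r, j, hr, h2⟩).squarefree_of_dvd (index_cen_mk'_dvd N _)

theorem SQ.solvable (h : SQ G) : Group.IsSolvable G :=
  solvable_of_npc_two (npc_two fun x ⟨r, k, hr, _, hk⟩ =>
    not_sq_dvd_of_squarefree Nat.prime_two (h x ⟨r, k, hr, hk⟩))

theorem SQ.card_eq (h : SQ G) {p : ℕ} [hp : Fact p.Prime] {M : Subgroup G} (hM : IsMinNormal M)
    (hMp : IsPGroup p M) : Nat.card M = p := by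
  have := hM.normal
  have := h.solvable
  by_cases hc : centralizer (M : Set G) = ⊤
  · have h1 : (Nat.card M).Prime := hM.card_prime_of_le_center fun m hm =>
      mem_center_iff.mpr fun g => (hc.ge (mem_top g) m hm).symm
    obtain ⟨k, hk⟩ := hMp.exists_card_eq
    rw [hk] at h1 ⊢
    rw [h1.eq_one_of_pow, pow_one]
  have := QuotientGroup.nontrivial_iff.2 hc
  obtain ⟨K, q, hK, hq, -, hKq⟩ := exists_isMinNormal_isElementaryAbelian (G ⧸ centralizer (M : Set G))
  have := hK.normal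
  obtain ⟨⟨a, ha⟩, ha1⟩ := ne_bot_iff_exists_ne_one.1 hK.ne_bot
  obtain ⟨a, rfl⟩ := QuotientGroup.mk'_surjective _ a
  refine card_eq_of_normal (K := K.comap (QuotientGroup.mk' _)) hM hMp (fun g hg => ?_) ha
    fun e => ha1 (Subtype.ext ((QuotientGroup.eq_one_iff a).2 (le_cen_iff.1 e)))
  obtain ⟨i, hi⟩ := hKq ⟨_, hg⟩
  obtain ⟨k, -, hk⟩ := (Nat.dvd_prime_pow hq).1 (orderOf_dvd_of_pow_eq_one
    (show QuotientGroup.mk' _ g ^ q ^ i = 1 from congrArg Subtype.val hi))
  obtain ⟨e, j, h1, h2⟩ := exists_pp_lift _ g hq hk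
  have h3 := relIndex_cen_dvd_prime hMp (not_sq_dvd_of_squarefree hp.out (h _ ⟨q, j, hq, h2⟩))
  have h4 : (g ^ e)⁻¹ * g ∈ centralizer (M : Set G) := QuotientGroup.eq.1 h1
  rw [← inf_relIndex_right] at h3
  refine (relIndex_dvd_of_le_left _ fun m hm => ?_).trans h3
  have h5 : Commute m (g ^ e * ((g ^ e)⁻¹ * g)) := (mem_cen.1 hm.1).mul_right (h4 m hm.2)
  rwa [mul_inv_cancel_left, ← mem_cen] at h5

theorem SQ.exists_prime (h : SQ G) [Nontrivial G] :
    ∃ M : Subgroup G, M.Normal ∧ M ≠ ⊥ ∧ IsCyclic M ∧ ∃ p : ℕ, p.Prime ∧ Nat.card M = p := by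
  have := h.solvable
  obtain ⟨M, p, hM, hp, -, hMp⟩ := exists_isMinNormal_isElementaryAbelian G
  have := Fact.mk hp
  exact ⟨M, hM.normal, hM.ne_bot, isCyclic_of_prime_card (h.card_eq hM hMp), p, hp, h.card_eq hM hMp⟩

theorem SQ.supersolvable {G : Type u} [Group G] [Finite G] (h : SQ G) : IsSupersolvable G := by
  revert h
  refine card_induction (P := fun G _ _ => SQ G → IsSupersolvable G) ?_ G
  intro G _ _ ih h
  rcases subsingleton_or_nontrivial G with hs | hs
  · exact IsSupersolvable.of_subsingleton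
  obtain ⟨M, _, h1, _, -⟩ := h.exists_prime
  exact IsSupersolvable.of_cyclic_normal M (ih _ (card_quotient_lt h1) (h.quot M))

/-- the normal subgroup generated by commutators and `e`-th powers. -/
def KK (e : ℕ) (G : Type*) [Group G] : Subgroup G :=
  normalClosure {x | (∃ a b : G, x = ⁅a, b⁆) ∨ ∃ a : G, x = a ^ e}

instance KK_normal (e : ℕ) : (KK e G).Normal := normalClosure_normal

theorem SQ.nilpotent_KK {G : Type u} [Group G] [Finite G] (h : SQ G) {e : ℕ}
    (he : ∀ d, Squarefree d → d ∣ Nat.card G → d ∣ e) : Group.IsNilpotent (KK e G) := by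
  revert h he
  refine card_induction (P := fun G _ _ => SQ G → (∀ d, Squarefree d → d ∣ Nat.card G → d ∣ e) →
    Group.IsNilpotent (KK e G)) ?_ G
  intro G _ _ ih h he
  rcases subsingleton_or_nontrivial G with hs | hs
  · infer_instance
  obtain ⟨M, _, h1, _, p, hp, hM⟩ := h.exists_prime
  have h2 := ih _ (card_quotient_lt h1) (h.quot M) fun d h3 h4 =>
    he d h3 (h4.trans (card_quotient_dvd_card M))
  have h3 : KK e G ≤ centralizer (M : Set G) := normalClosure_le_normal (by
    rintro _ (⟨a, b, rfl⟩ | ⟨a, rfl⟩)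
    · exact commutator_le_centralizer_of_cyclic_normal M
        (commutator_mem_commutator (mem_top a) (mem_top b))
    · obtain ⟨x, hx, e1⟩ := exists_cen_eq_centralizer_of_isCyclic M
      obtain ⟨k, -, hk⟩ := (Nat.dvd_prime_pow hp (m := 1) (i := orderOf x)).1
        (by rw [pow_one, ← hM]; exact Subgroup.orderOf_dvd_natCard _ hx)
      obtain ⟨c, rfl⟩ := he _ (e1 ▸ h x ⟨p, k, hp, hk⟩) (index_dvd_card _)
      rw [SetLike.mem_coe, pow_mul]
      exact pow_mem (pow_index_mem _ a) c)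
  have h4 : (KK e G).map (QuotientGroup.mk' M) ≤ KK e (G ⧸ M) :=
    (map_normalClosure_le _ _).trans (normalClosure_mono (by
      rintro _ ⟨_, ⟨a, b, rfl⟩ | ⟨a, rfl⟩, rfl⟩
      · exact .inl ⟨_, _, map_commutatorElement _ a b⟩
      · exact .inr ⟨_, map_pow _ a e⟩))
  have := isNilpotent_of_le h2 h4
  refine Subgroup.isNilpotent_of_ker_le_center ((QuotientGroup.mk' M).subgroupMap (KK e G)) fun z hz =>
    mem_center_iff.2 fun g => Subtype.ext (h3 g.2 z ?_).symm
  exact (QuotientGroup.eq_one_iff _).1 (congrArg Subtype.val hz)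

theorem SQ.squarefree_of_nilpotent (h : SQ G) {F : Subgroup G} [F.Normal] [Group.IsNilpotent F]
    (x : F) : Squarefree (𝐂[x]).index := by
  rw [Nat.squarefree_iff_prime_squarefree]
  intro p hp hd
  have := Fact.mk hp
  obtain ⟨a, b, ha, hb, ⟨k, hk⟩, h1, e⟩ := exists_p_part_mul_p'_part (p := p) x
  obtain ⟨P⟩ := (inferInstance : Nonempty (Sylow p F))
  have := isNilpotent_iff_sylow_normal.1 inferInstance p inferInstance P
  have h2 : 𝐂[a] ⊓ P ≤ 𝐂[x] := fun y hy => by
    obtain ⟨j, hj⟩ := P.isPGroup' ⟨y, hy.2⟩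
    rw [e]
    refine inf_le_cen_mul a b ⟨hy.1, mem_cen.2 (FGS.commute_of_nilpotent_of_coprime ?_)⟩
    exact Nat.Coprime.coprime_dvd_left (orderOf_dvd_of_pow_eq_one
      (show y ^ p ^ j = 1 from congrArg Subtype.val hj)) (h1.symm.pow_left j)
  have h3 := hd.trans (index_dvd_of_le h2)
  rw [← relIndex_mul_index inf_le_right, inf_relIndex_right, ← sq] at h3
  have h4 := ((hp.coprime_iff_not_dvd.2 P.not_dvd_index).pow_left 2).dvd_of_dvd_mul_right h3
  obtain ⟨j, -, hj⟩ := (Nat.dvd_prime_pow hp).1 (orderOf_dvd_of_pow_eq_one hk)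
  exact not_sq_dvd_of_squarefree hp (h a ⟨p, j, hp, by rw [orderOf_coe, hj]⟩)
    (h4.trans ((relIndex_dvd_index_of_normal_right _ _).trans (index_cen_normal_dvd a)))

theorem SQ.main (h : SQ G) : IsSupersolvable G ∧ derivedSeries G 3 = ⊥ ∧
    (∀ _h : (fittingSubgroup G).Normal, IsMulCommutative (G ⧸ fittingSubgroup G) ∧
      Squarefree (Monoid.exponent (G ⧸ fittingSubgroup G))) ∧
    Squarefree (Nat.card (_root_.commutator (fittingSubgroup G))) := by
  have := isNilpotent_fittingSubgroup G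
  have h1 := h.squarefree_of_nilpotent (F := fittingSubgroup G)
  have h2 : KK (∏ p ∈ (Nat.card G).primeFactors, p) G ≤ fittingSubgroup G :=
    le_fittingSubgroup (h.nilpotent_KK fun d hd h3 => by
      rw [← Nat.prod_primeFactors_of_squarefree hd]
      exact Finset.prod_dvd_prod_of_subset _ _ _ (Nat.primeFactors_mono h3 Nat.card_pos.ne'))
  have h3 : _root_.commutator G ≤ fittingSubgroup G := commutator_le.2 fun a _ b _ =>
    h2 (subset_normalClosure (.inl ⟨a, b, rfl⟩))
  refine ⟨h.supersolvable, ?_, fun _ => ⟨Normal.quotient_commutative_iff_commutator_le.mpr h3, ?_⟩,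
    squarefree_card_commutator h1⟩
  · have := isCyclic_commutator_of_squarefree_index h1
    have h4 : derivedSeries G 2 ≤ (_root_.commutator (fittingSubgroup G)).map (fittingSubgroup G).subtype := by
      rw [map_commutator_eq, range_subtype]
      exact commutator_mono h3 h3
    rw [derivedSeries_succ, eq_bot_iff]
    refine (commutator_mono h4 h4).trans (commutator_le.2 ?_)
    rintro _ ⟨a, ha, rfl⟩ _ ⟨b, hb, rfl⟩
    rw [← map_commutatorElement, commutatorElement_eq_one_iff_mul_comm.2, map_one]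
    · exact one_mem _
    · exact congrArg Subtype.val (IsCyclic.isMulCommutative.is_comm.comm
        (⟨a, ha⟩ : _root_.commutator (fittingSubgroup G)) ⟨b, hb⟩)
  · have h4 : Squarefree (∏ p ∈ (Nat.card G).primeFactors, p) :=
      Finset.squarefree_prod_of_pairwise_isCoprime (fun _ hp _ hq hpq => Nat.coprime_iff_isRelPrime.1
        ((Nat.coprime_primes (Nat.prime_of_mem_primeFactors hp)
          (Nat.prime_of_mem_primeFactors hq)).2 hpq))
        fun p hp => (Nat.prime_of_mem_primeFactors hp).squarefree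
    refine h4.squarefree_of_dvd (Monoid.exponent_dvd_of_forall_pow_eq_one fun y => ?_)
    obtain ⟨x, rfl⟩ := QuotientGroup.mk_surjective y
    rw [← QuotientGroup.mk_pow, QuotientGroup.eq_one_iff]
    exact h2 (subset_normalClosure (.inr ⟨x, rfl⟩))

end CL.PP4
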