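import Mathlib

/-! A `p`-group acting on fewer than `p ^ 2` points acts as an abelian group. -/

namespace CL.FGS.PermAb

theorem smul_comm_of_card_lt_sq {P : Type*} [Group P] [Finite P] {p : ℕ} [hp : Fact p.Prime]
    (hP : IsPGroup p P) {α : Type*} [Finite α] [MulAction P α] (h : Nat.card α < p ^ 2)
    (a b : P) (x : α) : a • b • x = b • a • x := by
  obtain ⟨k, hk⟩ := hP.index (MulAction.stabilizer P x)
  have hle : (MulAction.stabilizer P x).index ≤ Nat.card α := by
    rw [MulAction.index_stabilizer, ← Nat.card_coe_set_eq]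
    exact Nat.card_le_card_of_injective _ Subtype.val_injective
  have hk2 : k < 2 := (Nat.pow_lt_pow_iff_right hp.out.one_lt).1 (by omega)
  have hmem : (b * a)⁻¹ * (a * b) ∈ MulAction.stabilizer P x := by
    interval_cases k
    · rw [pow_zero, Subgroup.index_eq_one] at hk
      rw [hk]; trivial
    · rw [pow_one] at hk
      obtain ⟨m, hm⟩ := IsPGroup.iff_card.1 hP
      have hm0 : m ≠ 0 := by
        rintro rfl
        have := (MulAction.stabilizer P x).index_dvd_card
        rw [hk, hm, pow_zero, Nat.dvd_one] at this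
        exact hp.out.ne_one this
      have hn : (MulAction.stabilizer P x).Normal :=
        Subgroup.normal_of_index_eq_minFac_card (by rw [hk, hm, hp.out.pow_minFac hm0])
      have hc : IsCyclic (P ⧸ MulAction.stabilizer P x) := isCyclic_of_prime_card (p := p) hk
      rw [← QuotientGroup.eq]
      simp only [QuotientGroup.mk_mul]
      exact mul_comm' _ _
  rw [MulAction.mem_stabilizer_iff, mul_smul, inv_smul_eq_iff] at hmem
  rw [← mul_smul, hmem, mul_smul]

theorem isMulCommutative_of_card_lt_sq {α : Type*} [Fintype α] [DecidableEq α] {p : ℕ} [hp : Fact p.Prime]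
    (h : Fintype.card α < p ^ 2) (P : Subgroup (alternatingGroup α)) (hP : IsPGroup p P) :
    IsMulCommutative P := by
  refine ⟨⟨fun a b => ?_⟩⟩
  ext x
  exact smul_comm_of_card_lt_sq hP (by rwa [Nat.card_eq_fintype_card]) a b x

theorem isMulCommutative_perm_of_card_lt_sq {α : Type*} [Finite α] {p : ℕ} [hp : Fact p.Prime]
    (h : Nat.card α < p ^ 2) (P : Subgroup (Equiv.Perm α)) (hP : IsPGroup p P) :
    IsMulCommutative P := by
  refine ⟨⟨fun a b => ?_⟩⟩
  ext x
  exact smul_comm_of_card_lt_sq hP h a b x

end CL.FGS.PermAb
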