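import Mathlib
import Cfsg.Agent.FGS.PiClass
import Cfsg.Agent.SOLV.CoprimeSylow

/-!
Many conjugacy classes of `π`-elements force normal complements.
-/

set_option autoImplicit false

namespace CL.PiCl

open Subgroup CL.MSS Cfsg

variable {G : Type*} [Group G] [Finite G]

theorem mul_card_le_of_lt {p : ℕ} [hp : Fact p.Prime] {J P : Subgroup G} (hP : IsPGroup p P)
    (hJ : J ≤ P) (hne : ¬ P ≤ J) : p * Nat.card J ≤ Nat.card P := by
  obtain ⟨b, hb⟩ := IsPGroup.iff_card.1 hP
  obtain ⟨c, -, hc⟩ := (Nat.dvd_prime_pow hp.out).1 (hb ▸ relIndex_dvd_card J P)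
  rw [← card_mul_relIndex_of_le hJ, mul_comm, hc]
  refine Nat.mul_le_mul_left _ (Nat.le_self_pow (fun h0 => hne ?_) p)
  rwa [h0, pow_zero, relIndex_eq_one] at hc

theorem normalizer_le_centralizer_of_lt {p : ℕ} [hp : Fact p.Prime] (P : Sylow p G)
    (h : (p + 1) * Nat.card P < 2 * p * kq G (fun x => ∃ k, orderOf x = p ^ k)) :
    normalizer ((P : Subgroup G) : Set G) ≤ centralizer ((P : Subgroup G) : Set G) := by
  rw [le_centralizer_iff]
  by_contra hne
  have h1 := two_mul_kq_le P le_rfl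
  have h2 := mul_card_le_of_lt P.isPGroup' (J := (P : Subgroup G) ⊓
    centralizer (normalizer ((P : Subgroup G) : Set G) : Set G)) inf_le_left
    (fun h => hne (h.trans inf_le_right))
  have h3 := Nat.mul_le_mul_left p h1
  nlinarith

omit [Finite G] in
theorem comm_of_le_centralizer {P : Subgroup G} (h : P ≤ centralizer (P : Set G)) :
    IsMulCommutative P := ⟨⟨fun a b => Subtype.ext (h b.2 a a.2)⟩⟩

theorem hasNPC_two_of_lt (P : Sylow 2 G)
    (h : Nat.card P < 2 * kq G (fun x => ∃ k, orderOf x = 2 ^ k)) : HasNormalPComplement 2 G := by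
  refine CL.Tr.hasNPC_of_local_centric P fun E hEP _ _ hE g hg hodd => ?_
  refine le_of_forall_primePow (H := zpowers g) (fun r hr x hx ⟨k, hk⟩ => ?_) (mem_zpowers g)
  have := Fact.mk hr
  have hxo : ¬ 2 ∣ Nat.card (zpowers x) := by
    rw [Nat.card_zpowers]
    exact fun h2 => Nat.prime_two.coprime_iff_not_dvd.1 hodd.symm
      (h2.trans (orderOf_dvd_of_mem_zpowers hx))
  have hxN : zpowers x ≤ normalizer (E : Set G) := zpowers_le.2 (zpowers_le.2 hg hx)
  refine le_centralizer_iff.1 (show E ≤ centralizer ((zpowers x : Subgroup G) : Set G) from ?_)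
    (mem_zpowers x)
  by_contra hne
  set J := E ⊓ centralizer ((zpowers x : Subgroup G) : Set G) with hJ
  have hEp : IsPGroup 2 E := P.isPGroup'.to_le hEP
  have h4 : 4 * Nat.card J ≤ Nat.card E := by
    have hr2 : r ≠ 2 := by
      rintro rfl
      rcases k with _ | k
      · rw [pow_zero, orderOf_eq_one_iff] at hk
        exact hne fun y _ z hz => by
          rw [hk, zpowers_one_eq_bot] at hz
          rw [mem_bot.1 hz, one_mul, mul_one]
      · exact hxo (by rw [Nat.card_zpowers, hk]; exact dvd_pow_self 2 k.succ_ne_zero)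
    obtain ⟨b, hb⟩ := IsPGroup.iff_card.1 hEp
    have h1 := CL.SN.relIndex_centralizer_modEq_one (p := r) (P := zpowers x) (K := E)
      (isPGroup_zpowers (k := k) (hk ▸ pow_orderOf_eq_one x)) hxN (by
        rw [hb]
        exact fun h => hr2 ((Nat.prime_dvd_prime_iff_eq hr Nat.prime_two).1 (hr.dvd_of_dvd_pow h)))
    obtain ⟨c, -, hc⟩ := (Nat.dvd_prime_pow Nat.prime_two).1
      (hb ▸ relIndex_dvd_card (centralizer ((zpowers x : Subgroup G) : Set G)) E)
    rw [← card_inf_mul_relIndex (centralizer ((zpowers x : Subgroup G) : Set G)) E, inf_comm, ← hJ,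
      mul_comm, hc]
    refine Nat.mul_le_mul_left _ (Nat.pow_le_pow_right (n := 2) two_pos (show 2 ≤ c from ?_))
    by_contra hcon
    have hc1 : c = 0 ∨ c = 1 := by omega
    rcases hc1 with rfl | rfl
    · exact hne (relIndex_eq_one.1 hc)
    · rw [hc] at h1
      exact hr.not_dvd_one ((Nat.modEq_iff_dvd' (by norm_num)).1 h1.symm)
  have h5 := weighted (fun x : G => ∃ k, orderOf x = 2 ^ k) 6 3 3 (P : Subgroup G) J
    ((E : Set G) \ J) (fun y hy => by
      have h6 := cnt_mono (show (E : Set G) \ J ⊆ (P : Subgroup G) from fun z hz => hEP hz.1)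
        (ConjClasses.mk y)
      by_cases h7 : cnt ((E : Set G) \ J) (ConjClasses.mk y) = 0
      · obtain ⟨z, hz, h8⟩ := exists_isConj_mem P hy
        have h9 := one_le_cnt (S := (P : Subgroup G)) hz h8
        by_cases h10 : z ∈ centralizer ((P : Subgroup G) : Set G)
        · have hzE : z ∈ E := hE ⟨hz, centralizer_le hEP h10⟩
          by_cases h11 : z ∈ J
          · have := one_le_cnt (S := J) h11 h8
            omega
          · have := one_le_cnt (S := (E : Set G) \ J) ⟨hzE, h11⟩ h8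
            omega
        · have := two_le_cnt le_normalizer hz h8 h10
          omega
      · obtain ⟨z, hz, h8⟩ := exists_of_cnt_ne_zero h7
        have h9 := three_le_cnt hxN hxo hz.1 h8 fun h => hz.2 ⟨hz.1, h⟩
        have h10 := cnt_mono (show (E : Set G) ⊆ (P : Subgroup G) from hEP) (ConjClasses.mk y)
        omega)
    (fun c => by
      have h6 := cnt_mono (show (E : Set G) \ J ⊆ (P : Subgroup G) from fun z hz => hEP hz.1) c
      omega)
  have h6 := Set.ncard_sdiff_add_ncard_of_subset (show (J : Set G) ⊆ E from inf_le_left)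
  have h7 : (E : Set G).ncard = Nat.card E := rfl
  have h8 : (J : Set G).ncard = Nat.card J := rfl
  have h9 : ((P : Subgroup G) : Set G).ncard = Nat.card P := rfl
  omega

theorem exists_normal_of_forall_hasNPC (σ : Set ℕ)
    (h : ∀ q ∈ σ, q.Prime ∧ HasNormalPComplement q G) :
    ∃ N : Subgroup G, N.Normal ∧ IsPiNum σᶜ (Nat.card N) ∧ IsPiNum σ N.index ∧
      ∀ x, (∀ q ∈ σ, x ∈ pResidual q G) → x ∈ N := by
  refine ⟨⨅ q : σ, pResidual q G, normal_iInf_normal fun q => pResidual_normal _ _,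
    fun r hr hd hσ => ?_, fun r hr hd => ?_, fun x hx => mem_iInf.2 fun q => hx q q.2⟩
  · have := Fact.mk hr
    exact hasNPC_iff_not_dvd_card_pResidual.1 (h r hσ).2
      (hd.trans (card_dvd_of_le (iInf_le (fun q : σ => pResidual q G) ⟨r, hσ⟩)))
  · by_contra hσ
    have := Fact.mk hr
    let R : Sylow r G := default
    refine R.not_dvd_index (hd.trans (index_dvd_of_le (le_iInf fun q => le_pResidual_of_coprime ?_)))
    obtain ⟨k, hk⟩ := IsPGroup.iff_card.1 R.isPGroup'
    rw [hk]
    exact Nat.Coprime.pow_left _ ((Nat.coprime_primes hr (h q q.2).1).2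
      fun h => hσ (h ▸ q.2))

theorem exists_hall_comm (σ : Set ℕ) (h : ∀ q ∈ σ, q.Prime ∧ HasNormalPComplement q G ∧
    ∃ P : Sylow q G, IsMulCommutative (P : Subgroup G)) :
    ∃ H : Subgroup G, IsPiHall σ H ∧ IsMulCommutative H := by
  obtain ⟨N, hN, h1, h2, h3⟩ := exists_normal_of_forall_hasNPC σ fun q hq => ⟨(h q hq).1, (h q hq).2.1⟩
  obtain ⟨H, hH⟩ := exists_right_complement'_of_coprime (h2.coprime h1).symm
  refine ⟨H, ⟨?_, ?_⟩, ⟨⟨fun a b => Subtype.ext ?_⟩⟩⟩
  · rw [← hH.symm.index_eq_card]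
    exact h2
  · intro r hr hσ hd
    rw [hH.index_eq_card] at hd
    exact h1 r hr hd hσ
  · have h4 : (a : G) * b * (a : G)⁻¹ * (b : G)⁻¹ ∈ N := h3 _ fun q hq => by
      obtain ⟨hq1, hq2, P, hP⟩ := h q hq
      have := Fact.mk hq1
      have hc := isComplement'_pResidual_of_hasNPC hq2 P
      have hs : ∀ x : G, ∃ y ∈ (P : Subgroup G),
          (x : G ⧸ pResidual q G) = (y : G ⧸ pResidual q G) := fun x => by
        obtain ⟨⟨n, y⟩, rfl⟩ := hc.2 x
        exact ⟨y, y.2, by simp [(QuotientGroup.eq_one_iff (n : G)).2 n.2]⟩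
      obtain ⟨y, hy, h5⟩ := hs a
      obtain ⟨z, hz, h6⟩ := hs b
      have h7 : y * z = z * y := congrArg Subtype.val (hP.is_comm.comm ⟨y, hy⟩ ⟨z, hz⟩)
      rw [← QuotientGroup.eq_one_iff]
      simp only [QuotientGroup.mk_mul, QuotientGroup.mk_inv, h5, h6]
      rw [← QuotientGroup.mk_mul, h7, QuotientGroup.mk_mul]
      group
    have h5 := disjoint_def.1 hH.disjoint h4
      (H.mul_mem (H.mul_mem (H.mul_mem a.2 b.2) (H.inv_mem a.2)) (H.inv_mem b.2))
    rw [mul_inv_eq_one, mul_inv_eq_iff_eq_mul] at h5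
    exact h5

section Odd

variable {q : ℕ} [hq : Fact q.Prime]

theorem relIndex_eq_of_lt (hq2 : q ≠ 2) (Q : Sylow q G)
    (h : Nat.card Q < 2 * kq G (fun x => ∃ k, orderOf x = q ^ k)) {H : Subgroup G}
    (hH : H ≤ normalizer ((Q : Subgroup G) : Set G)) (hodd : ¬ 2 ∣ Nat.card H) :
    (centralizer (H : Set G)).relIndex Q = 1 ∨ (centralizer (H : Set G)).relIndex Q = 3 := by
  have h1 := three_mul_kq_le Q hH hodd
  have h2 := card_inf_mul_relIndex (centralizer (H : Set G)) Q
  rw [inf_comm] at h2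
  have h3 : ¬ 2 ∣ (centralizer (H : Set G)).relIndex Q := fun h3 => by
    obtain ⟨b, hb⟩ := IsPGroup.iff_card.1 Q.isPGroup'
    have h4 := h3.trans (relIndex_dvd_card _ _)
    rw [hb] at h4
    exact hq2 ((Nat.prime_dvd_prime_iff_eq Nat.prime_two hq.out).1
      (Nat.prime_two.dvd_of_dvd_pow h4)).symm
  have h4 : (centralizer (H : Set G)).relIndex Q < 4 := by
    by_contra hcon
    have := Nat.mul_le_mul_left (Nat.card ((Q : Subgroup G) ⊓ centralizer (H : Set G) : Subgroup G))
      (not_lt.1 hcon)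
    omega
  omega

theorem comm_of_lt (hq2 : q ≠ 2) (Q : Sylow q G)
    (h : Nat.card Q < 2 * kq G (fun x => ∃ k, orderOf x = q ^ k)) :
    (Q : Subgroup G) ≤ centralizer ((Q : Subgroup G) : Set G) := by
  obtain ⟨b, hb⟩ := IsPGroup.iff_card.1 Q.isPGroup'
  rcases relIndex_eq_of_lt hq2 Q h le_normalizer (fun h4 => by
    rw [hb] at h4
    exact hq2 ((Nat.prime_dvd_prime_iff_eq Nat.prime_two hq.out).1
      (Nat.prime_two.dvd_of_dvd_pow h4)).symm) with h1 | h1
  · exact relIndex_eq_one.1 h1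
  · have h2 : (centralizer ((Q : Subgroup G) : Set G)).subgroupOf Q = center (Q : Subgroup G) := by
      ext x
      rw [mem_subgroupOf, mem_center_iff]
      exact ⟨fun h y => Subtype.ext (h y y.2), fun h y hy => congrArg Subtype.val (h ⟨y, hy⟩)⟩
    rw [relIndex, h2] at h1
    have : IsCyclic ((Q : Subgroup G) ⧸ center (Q : Subgroup G)) :=
      isCyclic_of_prime_card (p := 3) h1
    have h3 := (QuotientGroup.mk' (center (Q : Subgroup G))).isMulCommutative_of_isCyclic_of_ker_le_center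
      (by rw [QuotientGroup.ker_mk'])
    exact fun x hx y hy => congrArg Subtype.val (h3.is_comm.comm ⟨y, hy⟩ ⟨x, hx⟩)

theorem mem_centralizer_of_lt (hq2 : q ≠ 2) (Q : Sylow q G)
    (h : Nat.card Q < 2 * kq G (fun x => ∃ k, orderOf x = q ^ k)) {r : ℕ} (hr : r.Prime)
    (hr2 : r ≠ 2) {x : G} (hx : x ∈ normalizer ((Q : Subgroup G) : Set G))
    (hk : ∃ k, orderOf x = r ^ k) : x ∈ centralizer ((Q : Subgroup G) : Set G) := by
  obtain ⟨k, hk⟩ := hk
  have := Fact.mk hr
  have hxp : IsPGroup r (zpowers x) := isPGroup_zpowers (k := k) (hk ▸ pow_orderOf_eq_one x)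
  by_cases hrq : r = q
  · subst hrq
    exact comm_of_lt hq2 Q h ((sylIn_top Q).le_of_normalizes hxp le_top (zpowers_le.2 hx)
      (mem_zpowers x))
  rcases relIndex_eq_of_lt hq2 Q h (zpowers_le.2 hx) (fun h4 => by
    rw [Nat.card_zpowers, hk] at h4
    exact hr2 ((Nat.prime_dvd_prime_iff_eq Nat.prime_two hr).1
      (Nat.prime_two.dvd_of_dvd_pow h4)).symm) with h1 | h1
  · exact le_centralizer_iff.1 (relIndex_eq_one.1 h1) (mem_zpowers x)
  · obtain ⟨b, hb⟩ := IsPGroup.iff_card.1 Q.isPGroup'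
    have h2 := CL.SN.relIndex_centralizer_modEq_one hxp (zpowers_le.2 hx) (by
      rw [hb]
      exact fun h => hrq ((Nat.prime_dvd_prime_iff_eq hr hq.out).1 (hr.dvd_of_dvd_pow h)))
    rw [h1] at h2
    exact absurd ((Nat.prime_dvd_prime_iff_eq hr Nat.prime_two).1
      ((Nat.modEq_iff_dvd' (by norm_num)).1 h2.symm)) hr2

theorem exists_normalizer_le_centralizer (hq2 : q ≠ 2) (hnpc : HasNormalPComplement 2 G)
    (h1 : q ^ (Nat.card G).factorization q < 2 * kq G (fun x => ∃ k, orderOf x = q ^ k))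
    (h2 : 2 ^ (Nat.card G).factorization 2 * q ^ (Nat.card G).factorization q <
      2 * kq G (fun x => IsPiNum {2, q} (orderOf x))) :
    ∃ Q : Sylow q G,
      normalizer ((Q : Subgroup G) : Set G) ≤ centralizer ((Q : Subgroup G) : Set G) := by
  classical
  have := Fintype.ofFinite G
  let P : Sylow 2 G := default
  set K := pResidual 2 G with hK
  have hKn : K.Normal := pResidual_normal _ _
  set C := centralizer ((P : Subgroup G) : Set G) with hC
  obtain ⟨R₀, hR₀⟩ := exists_sylIn q (C ⊓ K)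
  have hK2 := hasNPC_iff_coprime_card_pResidual.1 hnpc
  have hcop : (Nat.card P).Coprime (Nat.card K) :=
    (coprime_card_of_isPGroup P.isPGroup' hK2).symm
  have hPR₀ : (P : Subgroup G) ≤ normalizer (R₀ : Set G) := by
    refine le_trans ?_ (centralizer_le_normalizer _)
    rw [le_centralizer_iff]
    exact hR₀.le.trans inf_le_left
  obtain ⟨R, hR, hPR⟩ := coprime_exists_invariant_sylow_ge P K le_normalizer_of_normal hcop
    (Or.inl (isSolvable_of_isPGroup P.isPGroup')) q R₀ (hR₀.le.trans inf_le_right) hR₀.pgroup hPR₀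
  have hRK := sylIn_map_subtype R
  obtain ⟨Q, hQ⟩ : ∃ Q : Sylow q G, (Q : Subgroup G) = (R : Subgroup K).map K.subtype := by
    refine sylIn_top_iff.1 (sylIn_of_not_dvd_relIndex hRK.pgroup le_top ?_)
    obtain ⟨k, hk⟩ := exists_pResidual_index (p := 2) (G := G)
    rw [relIndex_top_right, ← relIndex_mul_index hRK.le, hk]
    intro h
    rcases (Nat.Prime.dvd_mul hq.out).1 h with h | h
    · exact hRK.not_dvd_relIndex h
    · exact hq2 ((Nat.prime_dvd_prime_iff_eq hq.out Nat.prime_two).1 (hq.out.dvd_of_dvd_pow h))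
  rw [← hQ] at hR hPR hRK
  have hJ : (Q : Subgroup G) ⊓ C = R₀ := hR₀.max _ (Q.isPGroup'.to_le inf_le_left)
    (le_inf hR (hR₀.le.trans inf_le_left)) (le_inf inf_le_right (inf_le_left.trans hRK.le))
  rw [← Sylow.card_eq_multiplicity Q] at h1 h2
  rw [← Sylow.card_eq_multiplicity P] at h2
  refine ⟨Q, le_of_forall_primePow fun r hr x hx hk => ?_⟩
  by_cases hr2 : r ≠ 2
  · exact mem_centralizer_of_lt hq2 Q h1 hr hr2 hx hk
  push Not at hr2
  subst hr2
  suffices hPC : (P : Subgroup G) ≤ centralizer ((Q : Subgroup G) : Set G) by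
    obtain ⟨k, hk⟩ := hk
    obtain ⟨g, hg, hg'⟩ := (sylIn_sylow P hPR).exists_le_conj
      (isPGroup_zpowers (k := k) (hk ▸ pow_orderOf_eq_one x)) (zpowers_le.2 hx)
    exact (hg'.trans (cj_le_of_mem_normalizer hPC (MSS.normalizer_le_normalizer_centralizer _ hg)))
      (mem_zpowers x)
  rw [le_centralizer_iff]
  by_contra hne
  have h3 := mul_card_le_of_lt Q.isPGroup' (J := (Q : Subgroup G) ⊓ C) inf_le_left
    (fun h => hne (h.trans inf_le_right))
  have h4 := two_mul_kq_le Q hPR
  set A : G → Prop := fun x => IsPiNum {q} (orderOf x) ∧ ¬ 2 ∣ (centralizer ({x} : Set G)).index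
    with hA
  have hAc : ∀ x y, IsConj x y → A x → A y := fun x y hxy hx => ⟨isPiNum_conj x y hxy hx.1, by
    obtain ⟨g, rfl⟩ := isConj_iff.1 hxy
    rw [← cj_centralizer_singleton, index_cj]
    exact hx.2⟩
  have h5 := weighted' A 1 1 0 ((Q : Subgroup G) ⊓ C : Subgroup G) ∅ fun x hx => by
    obtain ⟨S, hS⟩ := exists_sylIn 2 (centralizer ({x} : Set G))
    have hS' : SylIn 2 S ⊤ := sylIn_of_not_dvd_relIndex hS.pgroup le_top (by
      rw [relIndex_top_right, ← relIndex_mul_index hS.le]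
      exact fun h => (Nat.prime_two.dvd_mul.1 h).elim hS.not_dvd_relIndex hx.2)
    obtain ⟨g, -, hg⟩ := hS'.exists_conj (sylIn_top P)
    obtain ⟨k, hk⟩ := (isPiNum_singleton_iff hq.out (orderOf_pos x).ne').1 hx.1
    have hk' : orderOf (g * x * g⁻¹) = q ^ k := ((MulAut.conj g).orderOf_eq x).trans hk
    have h6 : g * x * g⁻¹ ∈ C ⊓ K := by
      refine ⟨fun y hy => ?_, mem_pResidual_of_coprime ?_⟩
      · have h7 := cj_mono g hS.le (hg ▸ hy)
        rw [cj_centralizer_singleton] at h7
        exact mem_centralizer_singleton_iff.1 h7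
      · rw [hk']
        exact Nat.Coprime.pow_left _ ((Nat.coprime_primes hq.out Nat.prime_two).2 hq2)
    obtain ⟨a, -, ha⟩ := hR₀.exists_conj_le
      (isPGroup_zpowers (k := k) (hk' ▸ pow_orderOf_eq_one _)) (zpowers_le.2 h6)
    have h7 := one_le_cnt (S := ((Q : Subgroup G) ⊓ C : Subgroup G)) (x := x)
      (hJ ▸ ha (conj_mem_cj (mem_zpowers _)))
      ((isConj_iff.2 ⟨g, rfl⟩).trans (isConj_iff.2 ⟨a, rfl⟩))
    omega
  have h6 := kq_mul_card_le (G := G) {2, q} {q}
  have h7 : ∀ x ∈ Finset.univ.filter (fun x : G => IsPiNum {q} (orderOf x)),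
      2 * (kq (centralizer ({x} : Set G)) (fun z => IsPiNum ({2, q} \ {q}) (orderOf z)) *
        Nat.card (centralizer ({x} : Set G))) ≤
      Nat.card P * (Nat.card (centralizer ({x} : Set G)) +
        if A x then Nat.card (centralizer ({x} : Set G)) else 0) := by
    intro x hx
    rw [show ({2, q} : Set ℕ) \ {q} = {2} by
      ext r; simp only [Set.mem_sdiff, Set.mem_insert_iff, Set.mem_singleton_iff]; omega,
      kq_singleton Nat.prime_two]
    have h8 := kq_le_card_sylow (default : Sylow 2 (centralizer ({x} : Set G)))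
    have h9 := Sylow.card_eq_multiplicity (default : Sylow 2 (centralizer ({x} : Set G)))
    have h10 := Sylow.card_eq_multiplicity P
    have h11 := (centralizer ({x} : Set G)).card_mul_index
    rw [← h11, Nat.factorization_mul Nat.card_pos.ne' index_ne_zero_of_finite, Finsupp.add_apply,
      pow_add, ← h9] at h10
    split_ifs with hAx
    · rw [← two_mul, mul_left_comm]
      refine Nat.mul_le_mul_right _ (h8.trans ?_)
      rw [h10]
      exact Nat.le_mul_of_pos_right _ (pow_pos two_pos _)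
    · rw [add_zero, ← mul_assoc]
      refine Nat.mul_le_mul_right _ ?_
      have h12 : 2 ∣ (centralizer ({x} : Set G)).index := by
        by_contra h
        exact hAx ⟨(Finset.mem_filter.1 hx).2, h⟩
      rw [h10, mul_comm]
      exact Nat.mul_le_mul h8 (Nat.le_self_pow
        (Nat.prime_two.factorization_pos_of_dvd index_ne_zero_of_finite h12).ne' 2)
  have h8 := Finset.sum_le_sum h7
  rw [← Finset.mul_sum, ← Finset.mul_sum, Finset.sum_add_distrib, ← Finset.sum_filter,
    Finset.filter_filter, ← kq_mul_card _ isPiNum_conj,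
    Finset.filter_congr (p := fun a => IsPiNum {q} (orderOf a) ∧ A a) (q := A)
      (fun x _ => ⟨fun h => h.2, fun h => ⟨h.1, h⟩⟩),
    ← kq_mul_card _ hAc, ← add_mul, ← mul_assoc, kq_singleton hq.out] at h8
  have h9 := (Nat.mul_le_mul_left 2 h6).trans h8
  rw [← mul_assoc] at h9
  have h10 := Nat.lt_of_mul_lt_mul_left (h2.trans_le (Nat.le_of_mul_le_mul_right h9 Nat.card_pos))
  have h11 : 3 ≤ q := by have := hq.out.two_le; omega
  have h12 := Nat.mul_le_mul_right (Nat.card ((Q : Subgroup G) ⊓ C : Subgroup G)) h11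
  have h13 : (((Q : Subgroup G) ⊓ C : Subgroup G) : Set G).ncard =
    Nat.card ((Q : Subgroup G) ⊓ C : Subgroup G) := rfl
  rw [← hC] at h4
  omega

end Odd

end CL.PiCl
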