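import Mathlib
import Cfsg.Agent.FGS.PiClass

/-!
`k_π(G) ≤ k_π(N) k_π(G/N)`.
-/

set_option autoImplicit false

namespace CL.PiCl

open Subgroup

variable {G : Type*} [Group G]

theorem card_eq_kq (G : Type*) [Group G] (π : Set ℕ) :
    Nat.card {C : ConjClasses G // ∀ q : ℕ, q.Prime →
      (∃ g : G, ConjClasses.mk g = C ∧ q ∣ orderOf g) → q ∈ π} =
      kq G (fun x => IsPiNum π (orderOf x)) :=
  Nat.card_congr (Equiv.subtypeEquivRight fun _ =>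
    ⟨fun h x hx q hq hd => h q hq ⟨x, ConjClasses.mem_carrier_iff_mk_eq.1 hx, hd⟩,
      fun h q hq ⟨x, hx, hd⟩ => h x (ConjClasses.mem_carrier_iff_mk_eq.2 hx) q hq hd⟩)

theorem exists_pi_exponent (π : Set ℕ) {n : ℕ} (hn : n ≠ 0) : ∃ e : ℤ,
    ∀ (H : Type*) [Group H] (x : H), x ^ n = 1 → IsPiNum π (orderOf (x ^ e)) ∧
      (x ^ (1 - e)) ^ e = 1 ∧ (IsPiNum π (orderOf x) → x ^ e = x) := by
  obtain ⟨a, b, rfl, ha, hb⟩ := exists_pi_mul_pi_compl π hn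
  obtain ⟨u, v, huv⟩ := Nat.isCoprime_iff_coprime.2 (ha.coprime hb)
  have h1 : 1 - v * b = u * a := by linarith
  refine ⟨v * b, fun H _ x hx => ?_⟩
  have h2 : x ^ ((a : ℤ) * b) = 1 := by rw [← Nat.cast_mul, zpow_natCast, hx]
  refine ⟨ha.of_dvd ?_, ?_, fun h => ?_⟩
  · rw [orderOf_dvd_iff_pow_eq_one, ← zpow_natCast, ← zpow_mul,
      show v * b * a = a * b * v by ring, zpow_mul, h2, one_zpow]
  · rw [h1, ← zpow_mul, show u * a * (v * b) = a * b * (u * v) by ring, zpow_mul, h2, one_zpow]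
  · have h3 : x ^ a = 1 := orderOf_dvd_iff_pow_eq_one.1
      ((h.coprime hb).dvd_of_dvd_mul_right (orderOf_dvd_iff_pow_eq_one.2 hx))
    rw [show v * b = 1 - a * u by linarith, zpow_sub, zpow_mul, zpow_natCast, h3]
    simp

theorem kq_le_mul_quotient [Finite G] (π : Set ℕ) (N : Subgroup G) [hN : N.Normal] :
    kq G (fun x => IsPiNum π (orderOf x)) ≤
      kq N (fun x => IsPiNum π (orderOf x)) * kq (G ⧸ N) (fun x => IsPiNum π (orderOf x)) := by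
  obtain ⟨e, he⟩ := exists_pi_exponent π (Nat.card_pos (α := G)).ne'
  have h0 : ∀ (g : G) (b : G ⧸ N), ∃ r : G, ∀ y : G, Commute g y → (y : G ⧸ N) = b →
      (r : G ⧸ N) = b ∧ Commute g r := fun g b => by
    by_cases h : ∃ y : G, Commute g y ∧ (y : G ⧸ N) = b
    · obtain ⟨y, h1, h2⟩ := h
      exact ⟨y, fun _ _ _ => ⟨h2, h1⟩⟩
    · exact ⟨1, fun y h1 h2 => absurd ⟨y, h1, h2⟩ h⟩
  choose r hr using h0
  refine Nat.le_of_mul_le_mul_right ?_ (Nat.card_pos (α := G))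
  rw [kq_mul_card_eq_pairs _ isPiNum_conj, N.card_eq_card_quotient_mul_card_subgroup,
    mul_comm (Nat.card (G ⧸ N)), mul_mul_mul_comm, kq_mul_card_eq_pairs _ isPiNum_conj,
    kq_mul_card_eq_pairs _ isPiNum_conj, ← Nat.card_prod]
  refine le_trans (Nat.card_le_card_of_injective
    (β := Set.range fun t : (Σ m : {m : N // IsPiNum π (orderOf m)}, centralizer ({(m : N)} : Set N)) ×
      (Σ a : {a : G ⧸ N // IsPiNum π (orderOf a)}, centralizer ({(a : G ⧸ N)} : Set (G ⧸ N))) =>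
      (((r (t.1.1 : N) t.2.1 * (t.1.2 : N)) ^ e, r ((r (t.1.1 : N) t.2.1 * (t.1.2 : N)) ^ e) t.2.2 *
        ((t.1.1 : N) * (((r (t.1.1 : N) t.2.1 * (t.1.2 : N)) ^ e)⁻¹ *
          (r (t.1.1 : N) t.2.1 * (t.1.2 : N))))) : G × G))
    (fun s => ⟨(s.1, s.2), ?_⟩) ?_) (Finite.card_range_le _)
  · obtain ⟨⟨x, hx⟩, y, hy⟩ := s
    have hxy : Commute x y := (mem_centralizer_singleton_iff.1 hy).symm
    obtain ⟨h1, h2⟩ := hr x y y hxy rfl
    set n := (r x y)⁻¹ * y with hn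
    have hnN : n ∈ N := QuotientGroup.eq.1 h1
    have hxn : Commute x n := h2.inv_right.mul_right hxy
    obtain ⟨h3, h4, -⟩ := he G n pow_card_eq_one'
    have h5 : Commute (n ^ e) (x * n ^ (1 - e)) :=
      (hxn.symm.zpow_left e).mul_right (Commute.zpow_zpow_self n _ _)
    have h6 : ((x * n ^ (1 - e) : G) : G ⧸ N) = x := QuotientGroup.mk_mul_of_mem x (zpow_mem hnN _)
    obtain ⟨h7, h8⟩ := hr (n ^ e) x _ h5 h6
    have h9 : (x * n ^ (1 - e)) ^ e = x := by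
      rw [(hxn.zpow_right _).mul_zpow, h4, mul_one, (he G x pow_card_eq_one').2.2 hx]
    refine ⟨⟨⟨⟨⟨n ^ e, zpow_mem hnN _⟩, by rwa [orderOf_mk]⟩,
      ⟨(r (n ^ e) x)⁻¹ * (x * n ^ (1 - e)), QuotientGroup.eq.1 (h7.trans h6.symm)⟩,
      mem_centralizer_singleton_iff.2 (Subtype.ext (h8.inv_right.mul_right h5).symm.eq)⟩,
      ⟨⟨x, hx.of_dvd (orderOf_map_dvd (QuotientGroup.mk' N) x)⟩, y,
      mem_centralizer_singleton_iff.2 (hxy.symm.map (QuotientGroup.mk' N)).eq⟩⟩, ?_⟩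
    simp only [mul_inv_cancel_left, h9, inv_mul_cancel_left]
    rw [← zpow_add, add_sub_cancel, zpow_one, hn, mul_inv_cancel_left]
  · rintro ⟨⟨y, hy⟩, g, hg⟩ ⟨⟨y', hy'⟩, g', hg'⟩ h
    obtain ⟨rfl, rfl⟩ := Prod.ext_iff.1 (congrArg Subtype.val h)
    rfl

end CL.PiCl
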