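import Cfsg.Agent.S4050
import Cfsg.Agent.FGS.PiClass
import Cfsg.Agent.TECH.InvolveLift
import Cfsg.Agent.SOLV.CoprimeSylow

/-!
`π`-homogeneous groups (`Hom`), `σ`-closed groups (`Cl`), inheritance to sections.
-/

set_option autoImplicit false
open Cfsg Subgroup
open scoped Pointwise

namespace CL.PiHom

universe u v

variable {G : Type u} {X : Type v} [Group G] [Group X] {π : Set ℕ}

/-- Every `π'`-element normalizing a `π`-subgroup centralizes it. -/
def Hom (π : Set ℕ) (G : Type u) [Group G] : Prop :=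
  ∀ H : Subgroup G, IsPiNum π (Nat.card H) → ∀ x ∈ normalizer (H : Set G),
    IsPiNum πᶜ (orderOf x) → x ∈ centralizer (H : Set G)

/-- The `σ`-elements form a subgroup. -/
def Cl (σ : Set ℕ) (G : Type u) [Group G] : Prop :=
  ∃ K : Subgroup G, ∀ x : G, x ∈ K ↔ IsPiNum σ (orderOf x)

theorem hom_iff [Finite G] : Hom π G ↔ ∀ H : Subgroup G, H ≠ ⊥ → IsPiNum π (Nat.card H) →
    IsPiNum π ((centralizer (H : Set G)).relIndex (normalizer (H : Set G))) := by
  constructor
  · intro h H _ hH p hp hd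
    by_contra hπ
    have := Fact.mk hp
    obtain ⟨P⟩ : Nonempty (Sylow p (normalizer (H : Set G))) := inferInstance
    refine P.not_dvd_index (hd.trans (index_dvd_of_le fun x hx => ?_))
    obtain ⟨k, hk⟩ := IsPGroup.iff_orderOf.1 P.isPGroup' ⟨x, hx⟩
    rw [orderOf_mk, ← orderOf_coe] at hk
    exact h H hH x x.2 (hk ▸ isPiNum_of_mem hp hπ k)
  · intro h H hH x hx ho
    by_cases h0 : H = ⊥
    · simp [h0, mem_centralizer_iff]
    have h1 := pow_index_mem ((centralizer (H : Set G)).subgroupOf _) (⟨x, hx⟩ : normalizer (H : Set G))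
    have h2 := (h H h0 hH).coprime ho
    obtain ⟨m, hm⟩ := exists_pow_eq_self_of_coprime (x := x) h2
    rw [← hm]
    exact pow_mem h1 m

theorem Hom.of_injective (h : Hom π G) (f : X →* G) (hf : Function.Injective f) : Hom π X := by
  intro H hH x hx ho y hy
  refine hf ?_
  rw [map_mul, map_mul]
  exact h (H.map f) (by rwa [card_map_of_injective hf]) (f x) (le_normalizer_map f ⟨x, hx, rfl⟩)
    (by rwa [orderOf_injective f hf]) _ ⟨y, hy, rfl⟩

theorem Hom.subgroup (h : Hom π G) (H : Subgroup G) : Hom π H :=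
  h.of_injective H.subtype H.subtype_injective

theorem hom_of_p [Finite G] (h : ∀ p, p.Prime → p ∈ π → ∀ P : Subgroup G, IsPGroup p P →
    ∀ x ∈ normalizer (P : Set G), IsPiNum πᶜ (orderOf x) → x ∈ centralizer (P : Set G)) :
    Hom π G := by
  intro H hH x hx ho
  have h1 : (centralizer ({x} : Set G)).relIndex H = 1 := by
    by_contra h1
    obtain ⟨p, hp, hd⟩ := Nat.exists_prime_and_dvd h1
    have := Fact.mk hp
    obtain ⟨P, hP⟩ := coprime_exists_invariant_sylow (zpowers x) H (zpowers_le.2 hx)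
      (by rw [Nat.card_zpowers]; exact (hH.coprime ho).symm) (Or.inl inferInstance) p
    have h2 := h p hp (hH p hp (hd.trans (relIndex_dvd_card _ _))) _ (P.isPGroup'.map _) x
      (hP (mem_zpowers x)) ho
    refine P.not_dvd_index (hd.trans (index_dvd_of_le fun y hy => ?_))
    exact mem_centralizer_singleton_iff.2 (h2 _ ⟨y, hy, rfl⟩)
  intro y hy
  exact mem_centralizer_singleton_iff.1 (relIndex_eq_one.1 h1 hy)

theorem Hom.of_surjective [Finite G] (h : Hom π G) (f : G →* X) (hf : Function.Surjective f) :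
    Hom π X := by
  have : Finite X := Finite.of_surjective f hf
  refine hom_of_p fun p hp hπ Q hQ x hx ho => ?_
  have := Fact.mk hp
  let N := normalizer (Q : Set X)
  let f' : N.comap f →* N := f.subgroupComap N
  have hf' : Function.Surjective f' := fun y => by
    obtain ⟨g, hg⟩ := hf y
    exact ⟨⟨g, by rw [mem_comap, hg]; exact y.2⟩, Subtype.ext hg⟩
  obtain ⟨P, hP, hPQ, hN⟩ := MSS.exists_frattini_lift (p := p) f' hf' (Q.subgroupOf N)
    hQ.comap_subtype
  obtain ⟨n, hn, hnx⟩ : (⟨x, hx⟩ : N) ∈ (normalizer (P : Set (N.comap f))).map f' := hN ▸ mem_top _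
  obtain ⟨a, ha, b, hb, h1, h2, h3⟩ := PiCl.exists_pi_decomp π n
  have h4 := h.subgroup _ P (IsPiNum.of_isPGroup hP hπ) b (zpowers_le.2 hn hb) h2
  have h5 : f' a = 1 := by
    have h6 : f' a ∈ zpowers (⟨x, hx⟩ : N) := by
      rw [← hnx, ← MonoidHom.map_zpowers]; exact ⟨a, ha, rfl⟩
    have h7 := (orderOf_dvd_of_mem_zpowers h6).trans (orderOf_mk x hx).dvd
    exact orderOf_eq_one_iff.1 ((h1.of_dvd (orderOf_map_dvd f' a)).eq_one (ho.of_dvd h7))
  rw [← h3, map_mul, h5, one_mul] at hnx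
  intro y hy
  obtain ⟨z, hz, hzy⟩ : (⟨y, le_normalizer hy⟩ : N) ∈ P.map f' := hPQ ▸ hy
  have := congrArg (fun t => (f' t : X)) (h4 z hz)
  simpa [hnx, hzy] using this

theorem Hom.quotient [Finite G] (h : Hom π G) (N : Subgroup G) [N.Normal] : Hom π (G ⧸ N) :=
  h.of_surjective _ (QuotientGroup.mk'_surjective N)

theorem Cl.sep [Finite G] (h : Cl π G) : IsPiSeparable π G :=
  let ⟨_, hK⟩ := h; Cfsg.Agent.S4050.sep_of_closed hK

theorem Cl.sep' [Finite G] (h : Cl πᶜ G) : IsPiSeparable π G := by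
  simpa using h.sep.compl

theorem Hom.cl [Finite G] (h : Hom π G) (hs : IsPiSeparable π G) : Cl πᶜ G := by
  have h1 : IsPiSeparable {p | p.Prime ∧ p ∉ π} G := by
    refine HasNormalSeries.mono hs fun n _ hn => ?_
    rcases hn with hn | hn
    · exact Or.inr fun p hp hd h2 => h2.2 (hn p hp hd)
    · exact Or.inl fun p hp hd => ⟨hp, hn p hp hd⟩
  obtain ⟨K, hK⟩ := (Cfsg.Agent.S4050.result (G := G) {p | p.Prime ∧ p ∉ π} fun p hp => hp.1).2
    ⟨isPiSeparable_iff.1 h1, fun H h0 hH p hp hd h2 => h2.2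
      (hom_iff.1 h H h0 (fun q hq hd => by_contra fun h3 => hH q hq hd ⟨hq, h3⟩) p hp hd)⟩
  exact ⟨K, fun x => (hK x).trans
    ⟨fun h p hp hd => (h p hp hd).2, fun h p hp hd => ⟨hp, h p hp hd⟩⟩⟩

theorem Cl.hom [Finite G] (h : Cl πᶜ G) : Hom π G := by
  obtain ⟨K, hK⟩ := h
  obtain ⟨h1, h2, -⟩ := Cfsg.Agent.S4050.closed_aux hK
  intro H hH x hx ho y hy
  have hb : H ⊓ K = ⊥ := disjoint_iff.1 (disjoint_of_coprime_natCard (hH.coprime h2))
  have hx1 := (hK x).2 ho
  have h4 : x * y * x⁻¹ * y⁻¹ ∈ H ⊓ K := mem_inf.2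
    ⟨H.mul_mem ((mem_normalizer_iff.1 hx y).1 hy) (H.inv_mem hy), by
      have := K.mul_mem hx1 (h1.conj_mem _ (K.inv_mem hx1) y)
      simpa only [mul_assoc] using this⟩
  rw [hb, mem_bot, mul_inv_eq_one, mul_inv_eq_iff_eq_mul] at h4
  exact h4.symm

theorem Cl.of_injective (h : Cl π G) (f : X →* G) (hf : Function.Injective f) : Cl π X :=
  let ⟨K, hK⟩ := h; ⟨K.comap f, fun x => by rw [mem_comap, hK, orderOf_injective f hf]⟩

theorem Cl.of_surjective [Finite G] (h : Cl π G) (f : G →* X) (hf : Function.Surjective f) :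
    Cl π X := by
  obtain ⟨K, hK⟩ := h
  refine ⟨K.map f, fun x => ⟨?_, fun hx => ?_⟩⟩
  · rintro ⟨y, hy, rfl⟩
    exact ((hK y).1 hy).of_dvd (orderOf_map_dvd f y)
  · obtain ⟨n, rfl⟩ := hf x
    obtain ⟨a, -, b, hb, h1, h2, h3⟩ := PiCl.exists_pi_decomp π n
    have : Finite X := Finite.of_surjective f hf
    have h5 : f b = 1 := by
      have h6 : f b ∈ zpowers (f n) := by
        rw [← MonoidHom.map_zpowers]; exact ⟨b, hb, rfl⟩
      have h7 := orderOf_dvd_natCard _ h6
      rw [Nat.card_zpowers] at h7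
      exact orderOf_eq_one_iff.1 ((hx.of_dvd h7).eq_one (h2.of_dvd (orderOf_map_dvd f b)))
    exact ⟨a, (hK a).2 h1, by rw [← h3, map_mul, h5, mul_one]⟩

/-- A `π`-subgroup of the image lifts through a `π`-separable kernel. -/
theorem exists_lift [Finite G] (f : G →* X) (hf : Function.Surjective f)
    (hk : IsPiSeparable π f.ker) {U : Subgroup X} (hU : IsPiNum π (Nat.card U)) :
    ∃ Y : Subgroup G, IsPiNum π (Nat.card Y) ∧ Y.map f = U := by
  have : Finite X := Finite.of_surjective f hf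
  obtain ⟨Y, hY⟩ := (IsPiSeparable.comap f (isPiSeparable_of_isPiNum hU) hk).exists_isPiHall
  let f' : U.comap f →* U := f.subgroupComap U
  have hf' : Function.Surjective f' := fun y => by
    obtain ⟨g, hg⟩ := hf y
    exact ⟨⟨g, by rw [mem_comap, hg]; exact y.2⟩, Subtype.ext hg⟩
  have h1 : Y.map f' = ⊤ := index_eq_one.1 ((hU.of_dvd (index_dvd_card _)).eq_one
    (isPiHall_iff.1 (IsPiHall.map hY hf')).2)
  refine ⟨Y.map (U.comap f).subtype, by
    rw [card_map_of_injective (subtype_injective _)]; exact hY.1, le_antisymm ?_ fun u hu => ?_⟩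
  · rintro _ ⟨_, ⟨y, -, rfl⟩, rfl⟩
    exact y.2
  · obtain ⟨y, hy, e⟩ : (⟨u, hu⟩ : U) ∈ Y.map f' := h1 ▸ mem_top _
    exact ⟨y, ⟨y, hy, rfl⟩, congrArg Subtype.val e⟩

/-- Induction scheme for `π`-separability. -/
theorem sep_of_simple (P : ∀ (G : Type u) [Group G] [Finite G], Prop)
    (hn : ∀ (G : Type u) [Group G] [Finite G],
      (∀ (H : Type u) [Group H] [Finite H], Nat.card H < Nat.card G → P H → IsPiSeparable π H) →
      P G → ∀ N : Subgroup G, N.Normal → N ≠ ⊤ → IsPiSeparable π N)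
    (hq : ∀ (G : Type u) [Group G] [Finite G], P G → ∀ (N : Subgroup G) [N.Normal],
      IsPiSeparable π N → P (G ⧸ N))
    (hs : ∀ (G : Type u) [Group G] [Finite G] [IsSimpleGroup G], ¬ IsMulCommutative G →
      (∀ (H : Type u) [Group H] [Finite H], Nat.card H < Nat.card G → P H → IsPiSeparable π H) →
      P G → IsPiSeparable π G)
    (G : Type u) [Group G] [Finite G] : P G → IsPiSeparable π G := by
  refine card_induction (P := fun G _ _ => P G → IsPiSeparable π G) (fun G _ _ ih hP => ?_) G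
  by_cases hc : IsMulCommutative G
  · have : Group.IsSolvable G := Group.isSolvable_of_comm hc.is_comm.comm
    exact isPiSeparable_of_isSolvable π G
  by_cases h : IsSimpleGroup G
  · exact hs G hc ih hP
  have : Nontrivial G := by
    by_contra h0
    have := not_nontrivial_iff_subsingleton.1 h0
    exact hc ⟨⟨fun a b => Subsingleton.elim _ _⟩⟩
  obtain ⟨N, hN, h0, h1⟩ : ∃ N : Subgroup G, N.Normal ∧ N ≠ ⊥ ∧ N ≠ ⊤ := by
    by_contra h2
    push Not at h2
    exact h ⟨fun N hN => or_iff_not_imp_left.2 (h2 N hN)⟩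
  have h2 := hn G ih hP N hN h1
  exact IsPiSeparable.of_normal_of_quotient N h2 (ih _ (card_quotient_lt h0) (hq G hP N h2))

end CL.PiHom
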