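/-
`π`-homogeneous groups (`π` a set of odd primes) whose `π'`-subgroups are solvable are `π'`-closed.
-/
import Mathlib
import Cfsg.Agent.FGS.MinWit2
import Cfsg.Agent.FGS.PiHomog
import Cfsg.Agent.SOLV.OddOrderCor

set_option autoImplicit false
set_option linter.style.haveILetI false

open Subgroup Cfsg CL.GL2 CL.MinTr CL.MinW Matrix
open scoped MatrixGroups

namespace CL.PiHom

universe u

variable {G : Type*} [Group G] {π : Set ℕ}

theorem mem_normalizer_zpowers [Finite G] {t x : G} (h : t * x * t⁻¹ ∈ zpowers x) :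
    t ∈ normalizer (zpowers x : Set G) := by
  apply mem_normalizer_fintype
  rintro _ ⟨k, rfl⟩
  simp only
  rw [← conj_zpow]
  exact zpow_mem h k

/-- In a `π`-homogeneous group (`2 ∉ π`) no nontrivial `π`-element is real. -/
theorem Hom.eq_one_of_real [Finite G] (h : Hom π G) (h2 : 2 ∉ π) {x t : G}
    (hx : IsPiNum π (orderOf x)) (ht : t * x * t⁻¹ = x⁻¹) : x = 1 := by
  obtain ⟨a, ha, b, hb, h1, h3, h4⟩ := PiCl.exists_pi_decomp π t
  have htn : t ∈ normalizer (zpowers x : Set G) :=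
    mem_normalizer_zpowers (ht ▸ inv_mem (mem_zpowers x))
  have hbc := h (zpowers x) (by rwa [Nat.card_zpowers]) b (zpowers_le.2 htn hb) h3 x (mem_zpowers x)
  have hax : a * x * a⁻¹ = x⁻¹ := by
    rw [← ht, ← h4, mul_assoc a b x, ← hbc]
    group
  have hodd : ∀ n : ℕ, IsPiNum π n → Odd n := fun n hn =>
    Nat.not_even_iff_odd.1 fun he => h2 (hn 2 Nat.prime_two he.two_dvd)
  have h5 : ∀ k : ℕ, a ^ (2 * k) * x = x * a ^ (2 * k) := by
    intro k
    have : a ^ 2 * x = x * a ^ 2 := by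
      have e : a * x⁻¹ * a⁻¹ = x := by
        have e1 : a * x⁻¹ * a⁻¹ = (a * x * a⁻¹)⁻¹ := by group
        rw [e1, hax, inv_inv]
      calc a ^ 2 * x = a * (a * x * a⁻¹) * a⁻¹ * a ^ 2 := by rw [pow_two]; group
        _ = x * a ^ 2 := by rw [hax, e]
    rw [pow_mul]
    exact (Commute.pow_left this k).eq
  obtain ⟨k, hk⟩ := hodd _ h1
  have h6 : a * x = x * a := by
    have e : a ^ (2 * (k + 1)) = a := by
      rw [show 2 * (k + 1) = orderOf a + 1 by omega, pow_succ, pow_orderOf_eq_one, one_mul]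
    have := h5 (k + 1)
    rwa [e] at this
  rw [h6, mul_assoc, mul_inv_cancel, mul_one] at hax
  have h7 : orderOf x ∣ 2 := orderOf_dvd_of_pow_eq_one (by
    rw [pow_two]; nth_rewrite 1 [hax]; exact inv_mul_cancel x)
  exact orderOf_eq_one_iff.1
    (Nat.eq_one_of_dvd_coprimes (Nat.coprime_two_left.2 (hodd _ hx)) h7 dvd_rfl)

theorem isPiNum_prime {r : ℕ} (hr : r.Prime) (h : r ∈ π) : IsPiNum π r := by
  simpa using isPiNum_of_mem hr h 1

section PSL2
variable {F : Type*} [Field F] [Fintype F] [DecidableEq F]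

/-- a prime `r ∣ |PSL₂(q)|` different from the characteristic is the order of a real element. -/
theorem exists_real_psl2 (p : ℕ) [Fact p.Prime] [CharP F p] {r : ℕ} (hr : r.Prime) (hrp : r ≠ p)
    (hd : r ∣ Nat.card PSL(2, F)) :
    ∃ x t : PSL(2, F), orderOf x = r ∧ t * x * t⁻¹ = x⁻¹ := by
  have := Fact.mk hr
  obtain ⟨c, hc⟩ := exists_prime_orderOf_dvd_card' r hd
  obtain ⟨c, rfl⟩ := pslMk_surjective c
  have hc1 : pslMk F c ≠ 1 := fun e => hr.one_lt.ne (by simpa [e] using hc)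
  obtain ⟨β, hβ⟩ : ∃ β, β = c.1.trace := ⟨_, rfl⟩
  have hreg : β ^ 2 ≠ 4 := by
    intro e
    have h1 := orderOf_pslMk_dvd_char p (g := c) (fun h => h (hβ ▸ e))
    rw [hc] at h1
    exact hrp ((Nat.prime_dvd_prime_iff_eq hr Fact.out).1 h1)
  suffices h : ∃ A B : SL(2, F), pslMk F A * pslMk F A = 1 ∧ pslMk F B * pslMk F B = 1 ∧
      (A * B).1.trace = β by
    obtain ⟨A, B, hA, hB, h1⟩ := h
    have h3 := orderOf_dvd_of_trace hc1 (h1.trans hβ)
    rw [hc] at h3
    have h4 : pslMk F (A * B) ≠ 1 := fun e => by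
      rcases pslMk_eq_one_iff'.1 e with e | e
      · rw [e] at h1
        apply hreg
        rw [← h1]
        simp
        norm_num
      · rw [e] at h1
        apply hreg
        rw [← h1]
        simp
        norm_num
    refine ⟨pslMk F (A * B), pslMk F A, ((Nat.dvd_prime hr).1 h3).resolve_left
      fun e => h4 (orderOf_eq_one_iff.1 e), ?_⟩
    rw [map_mul, _root_.mul_inv_rev, inv_eq_of_mul_eq_one_right hA, inv_eq_of_mul_eq_one_right hB,
      ← mul_assoc, hA, one_mul]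
  by_cases h2 : (2 : F) = 0
  · obtain ⟨A, hA⟩ := exists_sl2 (0 : F) 1 1 0 (by linear_combination -h2)
    obtain ⟨B, hB⟩ := exists_sl2 (1 : F) 0 β 1 (by ring)
    refine ⟨A, B, ?_, ?_, ?_⟩
    · rw [← map_mul, pslMk_eq_one_iff, Matrix.SpecialLinearGroup.coe_mul, hA]
      simp [IsScal]
    · rw [← map_mul, pslMk_eq_one_iff, Matrix.SpecialLinearGroup.coe_mul, hB]
      simp only [IsScal]
      simp
      linear_combination β * h2
    · rw [Matrix.SpecialLinearGroup.coe_mul, hA, hB]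
      simp [trace_fin_two]
  · obtain ⟨a, b, h⟩ := exists_quad h2 one_ne_zero 0 1 β
    obtain ⟨A, hA⟩ := exists_sl2 (0 : F) 1 (-1) 0 (by ring)
    obtain ⟨B, hB⟩ := exists_sl2 a b (b + β) (-a) (by linear_combination -h)
    refine ⟨A, B, ?_, ?_, ?_⟩
    · rw [← map_mul, pslMk_eq_one_iff, Matrix.SpecialLinearGroup.coe_mul, hA]
      simp [IsScal]
    · rw [← map_mul, pslMk_eq_one_iff, Matrix.SpecialLinearGroup.coe_mul, hB]
      simp only [IsScal]
      simp
      ring_nf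
      simp
    · rw [Matrix.SpecialLinearGroup.coe_mul, hA, hB]
      simp [trace_fin_two]

theorem Hom.psl2 (h : Hom π PSL(2, F)) (h2 : 2 ∉ π) (h3 : 3 < Fintype.card F) :
    IsPiNum πᶜ (Nat.card PSL(2, F)) := by
  obtain ⟨p, hc⟩ := CharP.exists F
  have hp : Fact p.Prime := ⟨CharP.char_is_prime F p⟩
  have h1 : ∀ r : ℕ, r.Prime → r ≠ p → r ∣ Nat.card PSL(2, F) → r ∉ π := by
    intro r hr hrp hd hπ
    obtain ⟨x, t, hx, ht⟩ := exists_real_psl2 p hr hrp hd
    have := h.eq_one_of_real h2 (hx ▸ isPiNum_prime hr hπ) ht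
    rw [this, orderOf_one] at hx
    exact hr.one_lt.ne hx
  intro r hr hd hπ
  by_cases hrp : r = p
  swap
  · exact h1 r hr hrp hd hπ
  subst hrp
  obtain ⟨μ, hμ⟩ : ∃ μ : Fˣ, μ ≠ 1 ∧ μ ≠ -1 := by
    by_contra h
    push Not at h
    have : (Finset.univ : Finset Fˣ) ⊆ {1, -1} := fun x _ => by
      by_cases h1 : x = 1
      · simp [h1]
      · simp [h x h1]
    have h1 := (Finset.card_le_card this).trans Finset.card_le_two
    rw [Finset.card_univ, Fintype.card_units] at h1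
    omega
  have hU : IsPiNum π (Nat.card ((unipSL F).map (pslMk F))) :=
    IsPiNum.of_isPGroup ((isPGroup_unipSL r).map _) hπ
  have hdn : pslMk F (MinTr.diag F μ) ∈ normalizer (((unipSL F).map (pslMk F) : Subgroup _) : Set _) :=
    le_normalizer_map _ ⟨_, by rw [normalizer_unipSL]; exact mem_borelSL.2 rfl, rfl⟩
  have hdo : IsPiNum πᶜ (orderOf (pslMk F (MinTr.diag F μ))) := by
    intro s hs hsd
    refine h1 s hs ?_ (hsd.trans (orderOf_dvd_natCard _))
    rintro rfl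
    refine not_char_dvd_pred (F := F) s ?_
    rw [← Fintype.card_units]
    exact hsd.trans (((orderOf_map_dvd _ _).trans (orderOf_map_dvd _ _)).trans orderOf_dvd_card)
  have h4 := h _ hU _ hdn hdo (pslMk F (upSL 1 1)) ⟨_, ⟨1, rfl⟩, rfl⟩
  rw [← map_mul, ← map_mul] at h4
  have hμ0 : (μ : F) ≠ 0 := μ.ne_zero
  rcases pslMk_eq_iff.1 h4 with e | e
  · have e1 := congrArg (fun g : SL(2, F) => g.1 0 1) e
    simp only [Matrix.SpecialLinearGroup.coe_mul, coe_diag, coe_upSL] at e1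
    simp at e1
    have h5 : (μ : F) * μ = 1 := by
      nth_rewrite 1 [← e1]; exact inv_mul_cancel₀ hμ0
    rcases mul_self_eq_one_iff.1 h5 with h | h
    · exact hμ.1 (Units.ext h)
    · exact hμ.2 (Units.ext h)
  · have e1 := congrArg (fun g : SL(2, F) => g.1 0 0) e
    simp only [Matrix.SpecialLinearGroup.coe_mul, Matrix.SpecialLinearGroup.coe_neg, coe_diag,
      coe_upSL] at e1
    simp at e1
    have h6 : (2 : F) ≠ 0 := two_ne_zero_of_char_ne r (fun e => h2 (e ▸ hπ))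
    exact mul_ne_zero h6 hμ0 (by linear_combination e1)

end PSL2

theorem card_sl33 : Nat.card SL(3, ZMod 3) = 2 ^ 4 * 3 ^ 3 * 13 := by
  haveI : Fact (Nat.Prime 3) := ⟨Nat.prime_three⟩
  have h := CL.SL.card_SL_mul (F := ZMod 3) 3 (by norm_num)
  simp only [ZMod.card, Fin.prod_univ_three] at h
  apply Nat.eq_of_mul_eq_mul_left (show 0 < 3 - 1 by norm_num)
  exact h.trans (by decide)

theorem exists_sl33_three : ∃ t y : SL(3, ZMod 3), y ^ 3 = 1 ∧ y ≠ 1 ∧ y * (t * y) = t :=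
  ⟨⟨!![0, 2, 0; 2, 0, 0; 0, 0, 2], by decide +kernel⟩, ⟨!![0, 1, 0; 0, 0, 1; 1, 0, 0], by decide +kernel⟩,
    by decide +kernel, fun e => absurd (congrArg Subtype.val e) (by decide +kernel),
    Subtype.ext (by decide +kernel)⟩

theorem exists_sl33_thirteen : ∃ c f : SL(3, ZMod 3), c ^ 13 = 1 ∧ c ≠ 1 ∧ f ^ 3 = 1 ∧ f ≠ 1 ∧
    f * c = c ^ 3 * f ∧ c * f ≠ f * c :=
  ⟨⟨!![0, 0, 1; 0, 1, 1; 2, 1, 1], by decide +kernel⟩, ⟨!![0, 0, 1; 0, 1, 0; 2, 2, 2], by decide +kernel⟩,
    by decide +kernel, fun e => absurd (congrArg Subtype.val e) (by decide +kernel), by decide +kernel,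
    fun e => absurd (congrArg Subtype.val e) (by decide +kernel), by decide +kernel,
    fun e => absurd (congrArg Subtype.val e) (by decide +kernel)⟩

theorem Hom.sl33 (h : Hom π SL(3, ZMod 3)) (h2 : 2 ∉ π) :
    IsPiNum πᶜ (Nat.card SL(3, ZMod 3)) := by
  have h3 : 3 ∉ π := by
    intro h3
    obtain ⟨t, y, hy, hy1, hty⟩ := exists_sl33_three
    have : Fact (Nat.Prime 3) := ⟨Nat.prime_three⟩
    refine hy1 (h.eq_one_of_real h2 (x := y) (t := t) ?_ (by
      rw [mul_inv_eq_iff_eq_mul, eq_inv_mul_iff_mul_eq]; exact hty))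
    rw [orderOf_eq_prime hy hy1]
    exact isPiNum_prime Nat.prime_three h3
  have h13 : 13 ∉ π := by
    intro h13
    obtain ⟨c, f, hc, hc1, hf, hf1, hfc, hn⟩ := exists_sl33_thirteen
    have : Fact (Nat.Prime 3) := ⟨Nat.prime_three⟩
    have : Fact (Nat.Prime 13) := ⟨by norm_num⟩
    have hfc' : f * c * f⁻¹ = c ^ 3 := by rwa [mul_inv_eq_iff_eq_mul]
    exact hn (h (zpowers c) (by
      rw [Nat.card_zpowers, orderOf_eq_prime hc hc1]; exact isPiNum_prime (by norm_num) h13) f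
      (mem_normalizer_zpowers (hfc' ▸ pow_mem (mem_zpowers c) 3))
      (by rw [orderOf_eq_prime hf hf1]; exact isPiNum_prime (π := πᶜ) Nat.prime_three h3) c
      (mem_zpowers c))
  rw [card_sl33]
  exact ((isPiNum_of_mem (π := πᶜ) Nat.prime_two h2 4).mul
    (isPiNum_of_mem (π := πᶜ) Nat.prime_three h3 3)).mul (isPiNum_prime (π := πᶜ) (by norm_num) h13)

theorem tor_real [Finite G] {P N : Subgroup G} {s : ℕ} (T : Sz.Tor P N s) {c : G} (hc : c ∈ P) :
    ∃ t : G, t * c * t⁻¹ = c⁻¹ := by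
  have h2 : 2 ∣ Nat.card N := by
    rw [T.card]
    rcases T.s_eq with rfl | rfl
    · exact dvd_mul_right _ _
    · exact Dvd.dvd.mul_right (by norm_num) _
  obtain ⟨t, ht⟩ := exists_prime_orderOf_dvd_card' 2 h2
  rw [← Subgroup.orderOf_coe] at ht
  have h3 : (t : G) * t = 1 := by rw [← pow_two, ← ht, pow_orderOf_eq_one]
  exact ⟨t, by rw [inv_eq_of_mul_eq_one_right h3]; exact T.conj_eq_inv t.2 ht hc⟩

theorem Hom.sz [Finite G] (h : Hom π G) (h2 : 2 ∉ π) (hG : Lie.IsoSuzuki G) :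
    IsPiNum πᶜ (Nat.card G) := by
  obtain ⟨F, _, _, _, m, hm, hF, ⟨M⟩⟩ := S4F.exists_model hG
  obtain ⟨t, ht0, ht1⟩ := Sz.exists_ne_zero_one hm hF
  intro r hr hd hπ
  have := Fact.mk hr
  have key : ∀ {P N : Subgroup G} {s : ℕ}, Sz.Tor P N s → ∀ c ∈ P, orderOf c = r → False := by
    intro P N s T c hc ho
    obtain ⟨t, ht⟩ := tor_real T hc
    have := h.eq_one_of_real h2 (ho ▸ isPiNum_prime hr hπ) ht
    rw [this, orderOf_one] at ho
    exact hr.one_lt.ne ho
  rw [M.card_G] at hd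
  rcases (Nat.Prime.dvd_mul hr).1 hd with hd | hd
  · rcases (Nat.Prime.dvd_mul hr).1 hd with hd | hd
    · rw [Nat.card_eq_fintype_card, hF] at hd
      have := (Nat.prime_dvd_prime_iff_eq hr Nat.prime_two).1
        (hr.dvd_of_dvd_pow (hr.dvd_of_dvd_pow hd))
      exact h2 (this ▸ hπ)
    · obtain ⟨g, hg1, hg⟩ := M.exists_pow_eq_one hd hr.one_lt
      have hf : M.FPF g := M.FPF_iff.2 ⟨hg1, by
        obtain ⟨k, hk⟩ := hd
        rw [hk, pow_mul, hg, one_pow]⟩
      exact key (hf.tor hm hF) g (mem_centralizer_singleton_iff.2 rfl) (orderOf_eq_prime hg hg1)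
  · rw [← M.card_H] at hd
    obtain ⟨c, hc⟩ := exists_prime_orderOf_dvd_card' r hd
    exact key (M.tor_H ht0 ht1) c c.2 (by rw [Subgroup.orderOf_coe, hc])

theorem Hom.minList [Finite G] (h : Hom π G) (h2 : 2 ∉ π) (hG : S2L.MinList G) :
    IsPiNum πᶜ (Nat.card G) := by
  classical
  rcases hG with ⟨F, _, _, hF, ⟨e⟩⟩ | ⟨F, _, _, hF, ⟨e⟩⟩ | ⟨F, _, _, m, hm, -, hF, e⟩
  · rw [Nat.card_congr e.toEquiv]
    refine (h.of_injective e.symm.toMonoidHom e.symm.injective).psl2 h2 ?_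
    rcases hF with ⟨r, hr, hF⟩ | ⟨r, hr, -, hF⟩ | ⟨-, hF, -⟩ | hF
    · rw [hF]
      calc 3 < 2 ^ 2 := by norm_num
        _ ≤ 2 ^ r := Nat.pow_le_pow_right (by norm_num) hr.two_le
    · rw [hF]
      calc 3 < 3 ^ 2 := by norm_num
        _ ≤ 3 ^ r := Nat.pow_le_pow_right (by norm_num) hr.two_le
    · omega
    · omega
  · obtain ⟨e'⟩ := nonempty_psl33 hF
    rw [Nat.card_congr (e.trans e').toEquiv]
    exact (h.of_injective (e.trans e').symm.toMonoidHom (e.trans e').symm.injective).sl33 h2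
  · exact h.sz h2 ⟨F, _, _, m, hm, hF, e⟩

/-- A `π`-homogeneous group (`2 ∉ π`) with solvable `π'`-subgroups is `π`-separable. -/
theorem Hom.sep_of_solvable (h2 : 2 ∉ π) (G : Type u) [Group G] [Finite G] (h : Hom π G)
    (hs : ∀ H : Subgroup G, IsPiNum πᶜ (Nat.card H) → Group.IsSolvable H) : IsPiSeparable π G := by
  have hsub : ∀ (G : Type u) [Group G] [Finite G] (N : Subgroup G),
      (∀ H : Subgroup G, IsPiNum πᶜ (Nat.card H) → Group.IsSolvable H) →
      ∀ H : Subgroup N, IsPiNum πᶜ (Nat.card H) → Group.IsSolvable H := by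
    intro G _ _ N hs H hH
    have := hs (H.map N.subtype) (by rwa [card_map_of_injective (subtype_injective _)])
    exact Group.isSolvable_of_isSolvable_injective
      (f := (equivMapOfInjective H _ (subtype_injective N)).toMonoidHom)
      (equivMapOfInjective H _ (subtype_injective N)).injective
  refine sep_of_simple (π := π) (fun G _ _ => Hom π G ∧
    ∀ H : Subgroup G, IsPiNum πᶜ (Nat.card H) → Group.IsSolvable H) ?_ ?_ ?_ G ⟨h, hs⟩
  · intro G _ _ ih hP N _ hN
    exact ih N (card_lt_of_ne_top hN) ⟨hP.1.subgroup N, hsub G N hP.2⟩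
  · intro G _ _ hP N _ hN
    refine ⟨hP.1.quotient N, fun U hU => ?_⟩
    obtain ⟨Y, hY, rfl⟩ := exists_lift (π := πᶜ) (QuotientGroup.mk' N) (QuotientGroup.mk'_surjective N)
      (by rw [QuotientGroup.ker_mk']; exact hN.compl) hU
    have := hP.2 Y hY
    exact Group.isSolvable_of_surjective ((QuotientGroup.mk' N).subgroupMap_surjective Y)
  · intro G _ _ _ hc ih hP
    have hmin : IsMinimalSimple G := by
      refine ⟨inferInstance, hc, fun H hH => ?_⟩
      have hH1 := hP.1.subgroup H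
      have hH2 := hsub G H hP.2
      obtain ⟨K, hK⟩ := hH1.cl (ih H (card_lt_of_ne_top hH) ⟨hH1, hH2⟩)
      obtain ⟨k1, k2, k3⟩ := Cfsg.Agent.S4050.closed_aux hK
      have k4 := hH2 K k2
      have k5 : Group.IsSolvable (H ⧸ K) := by
        apply isSolvable_of_not_two_dvd
        intro hd
        obtain ⟨P⟩ : Nonempty (Sylow 2 H) := inferInstance
        exact P.not_dvd_index (hd.trans (index_dvd_of_le (k3 2 P Nat.prime_two h2 P.isPGroup')))
      exact Group.isSolvable_of_ker_le_range K.subtype (QuotientGroup.mk' K) (by simp)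
    exact isPiSeparable_of_isPiNum_compl (hP.1.minList h2 (S2L.minimal hmin))

end CL.PiHom
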