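import Cfsg.Agent.FGS.PiHomog
import Cfsg.Agent.INV.SmallBasic
import Cfsg.Agent.PLOC.Involves

/-!
`π`-homogeneous simple groups: cyclic Sylow subgroups, trivial-intersection Sylow `2`-subgroups.
-/

set_option autoImplicit false
open Cfsg Subgroup CL.MSS
open scoped Pointwise

namespace CL.PiHom

universe u v

variable {G : Type u} {X : Type v} [Group G] [Group X] {π : Set ℕ}

theorem Hom.of_involves [Finite G] (h : Hom π G) (hX : Involves X G) : Hom π X := by
  obtain ⟨K, f, hf⟩ := Sec.involves_iff.1 hX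
  exact (h.subgroup K).of_surjective f hf

/-- A simple `π`-homogeneous group with cyclic Sylow subgroups for the primes of `π` is a
`π'`-group. -/
theorem Hom.compl_of_cyclic [Finite G] [IsSimpleGroup G] (hG : ¬ IsMulCommutative G) (h : Hom π G)
    (hc : ∀ (p : ℕ) [Fact p.Prime], p ∈ π → ∀ P : Sylow p G, IsCyclic P) :
    IsPiNum πᶜ (Nat.card G) := by
  intro p
  induction p using Nat.strong_induction_on with
  | _ p ih =>
  intro hp hd hπ
  have := Fact.mk hp
  obtain ⟨P⟩ : Nonempty (Sylow p G) := inferInstance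
  have hP := hc p hπ P
  have hcomm : IsMulCommutative P := inferInstance
  refine Small.not_normalizer_le_centralizer hG P hd (relIndex_eq_one.1 ?_)
  by_contra h1
  obtain ⟨r, hr, hrd⟩ := Nat.exists_prime_and_dvd h1
  have key := card_dvd_of_injective _
    (QuotientGroup.kerLift_injective (P : Subgroup G).normalizerMonoidHom)
  rw [normalizerMonoidHom_ker, ← index, ← relIndex] at key
  obtain ⟨k, hk⟩ := P.2.exists_card_eq
  have hb : (P : Subgroup G) ≠ ⊥ := P.ne_bot_of_dvd_card hd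
  have hrπ : r ∈ π := hom_iff.1 h P hb (IsPiNum.of_isPGroup P.2 hπ) r hr hrd
  have hrG : r ∣ Nat.card G := (hrd.trans (relIndex_dvd_card _ _)).trans (card_subgroup_dvd_card _)
  have hrp : r ≠ p := by
    rintro rfl
    exact P.not_dvd_index ((hrd.trans (relIndex_dvd_of_le_left _ P.le_centralizer)).trans
      (relIndex_dvd_index_of_le P.le_normalizer))
  have h0 : 0 < k := Nat.pos_of_ne_zero fun h0 => hb (by
    rw [h0, pow_zero] at hk; exact eq_bot_of_card_eq _ hk)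
  rw [hP.card_mulAut, hk, Nat.totient_prime_pow hp h0] at key
  rcases (Nat.Prime.dvd_mul hr).1 (hrd.trans key) with h2 | h2
  · exact hrp ((Nat.prime_dvd_prime_iff_eq hr hp).1 (hr.dvd_of_dvd_pow h2))
  · have := Nat.le_of_dvd (by have := hp.two_le; omega) h2
    exact ih r (by have := hp.two_le; omega) hr hrG hrπ

theorem not_hom_alt_four (h2 : 2 ∈ π) (h3 : 3 ∉ π) : ¬ Hom π (alternatingGroup (Fin 4)) := by
  intro h
  let V : Subgroup (alternatingGroup (Fin 4)) := permFourV.subgroupOf _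
  have : permFourV.Normal := permFourV_normal
  have hV : IsPGroup 2 V := by
    intro x
    refine ⟨1, Subtype.ext (Subtype.ext ?_)⟩
    have := (mem_permFourV.1 x.2).1
    simpa [pow_two] using this
  let c : alternatingGroup (Fin 4) :=
    ⟨Equiv.swap 0 1 * Equiv.swap 1 2, Equiv.Perm.mem_alternatingGroup.2 (by decide)⟩
  let v : alternatingGroup (Fin 4) :=
    ⟨Equiv.swap 0 1 * Equiv.swap 2 3, Equiv.Perm.mem_alternatingGroup.2 (by decide)⟩
  have hc : orderOf c = 3 := by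
    have := Fact.mk Nat.prime_three
    exact orderOf_eq_prime (by decide) (by decide)
  have h1 := h V (IsPiNum.of_isPGroup hV h2) c (by rw [normalizer_eq_top]; trivial)
    (by rw [hc, ← pow_one 3]; exact isPiNum_of_mem Nat.prime_three h3 1) v
    (mem_permFourV.2 ⟨by decide, by decide⟩)
  revert h1
  decide

/-- Every `π`-subgroup is `2`-closed. -/
def TC (π : Set ℕ) (G : Type u) [Group G] : Prop :=
  ∀ H : Subgroup G, IsPiNum π (Nat.card H) → Cl {2} H

theorem TC.of_injective (h : TC π G) (f : X →* G) (hf : Function.Injective f) : TC π X :=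
  fun H hH => (h (H.map f) (by rwa [card_map_of_injective hf])).of_injective
    (H.equivMapOfInjective f hf).toMonoidHom (H.equivMapOfInjective f hf).injective

theorem TC.of_surjective [Finite G] (h : TC π G) (f : G →* X) (hf : Function.Surjective f)
    (hk : IsPiSeparable π f.ker) : TC π X := by
  intro U hU
  obtain ⟨Y, hY, rfl⟩ := exists_lift f hf hk hU
  exact (h Y hY).of_surjective (f.subgroupMap Y) (f.subgroupMap_surjective Y)

theorem isPiNum_inverted [Finite G] (h2 : 2 ∈ π) {x a : G} {k : ℕ} (hx : x ^ 2 ^ k = 1)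
    (ha : IsPiNum π (orderOf a)) (hxa : x * a * x⁻¹ = a⁻¹) :
    IsPiNum π (Nat.card ↥(zpowers x ⊔ zpowers a)) := by
  have hn : zpowers x ≤ normalizer (zpowers a : Set G) := by
    refine zpowers_le.2 (mem_normalizer_fintype fun n hn => ?_)
    obtain ⟨i, rfl⟩ := hn
    change x * a ^ i * x⁻¹ ∈ zpowers a
    rw [← conj_zpow, hxa]
    exact zpow_mem (inv_mem (mem_zpowers a)) i
  refine IsPiNum.of_dvd ?_ (card_sup_dvd_mul_of_le_normalizer hn)
  rw [Nat.card_zpowers, Nat.card_zpowers]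
  exact ((isPiNum_of_mem Nat.prime_two h2 k).of_dvd (orderOf_dvd_of_pow_eq_one hx)).mul ha

theorem TC.eq_one_of_inverts [Finite G] (h : TC π G) (h2 : 2 ∈ π) {x a : G} {k : ℕ}
    (hx : x ^ 2 ^ k = 1) (ha : IsPiNum π (orderOf a)) (hodd : Odd (orderOf a))
    (hxa : x * a * x⁻¹ = a⁻¹) : a = 1 := by
  obtain ⟨K, hK⟩ := h _ (isPiNum_inverted h2 hx ha hxa)
  let x' : ↥(zpowers x ⊔ zpowers a) := ⟨x, mem_sup_left (mem_zpowers x)⟩
  let a' : ↥(zpowers x ⊔ zpowers a) := ⟨a, mem_sup_right (mem_zpowers a)⟩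
  have hx' : IsPiNum {2} (orderOf x') := by
    rw [orderOf_mk]
    exact (isPiNum_of_mem (π := {2}) Nat.prime_two rfl k).of_dvd (orderOf_dvd_of_pow_eq_one hx)
  have h1 : x' ∈ K := (hK _).2 hx'
  have h3 : a' * x' * a'⁻¹ ∈ K := (hK _).2 (by
    rwa [show a' * x' * a'⁻¹ = MulAut.conj a' x' from rfl, MulEquiv.orderOf_eq])
  have h4 := (hK _).1 (K.mul_mem h3 (K.inv_mem h1))
  have h5 : ((a' * x' * a'⁻¹ * x'⁻¹ : ↥(zpowers x ⊔ zpowers a)) : G) = a ^ 2 := by
    change a * x * a⁻¹ * x⁻¹ = _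
    have : x * a⁻¹ * x⁻¹ = a := by rw [← conj_inv, hxa, inv_inv]
    rw [pow_two, mul_assoc, mul_assoc, ← mul_assoc x, this]
  rw [← orderOf_coe, h5, (hodd.coprime_two_right).orderOf_pow] at h4
  have h6 : IsPiNum {2}ᶜ (orderOf a) :=
    (isPiNum_compl_singleton_iff Nat.prime_two).2 hodd.coprime_two_right
  exact orderOf_eq_one_iff.1 (h4.eq_one h6)

theorem exists_invol_of_inverted [Finite G] {j k : G} (hjk : j * k * j⁻¹ = k⁻¹)
    (h : ¬ Odd (orderOf k)) : ∃ z ∈ zpowers k, z ≠ 1 ∧ z * z = 1 ∧ j * z = z * j := by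
  obtain ⟨m, hm⟩ := Nat.not_odd_iff_even.1 h
  have h0 := orderOf_pos k
  have h1 : k ^ m * k ^ m = 1 := by rw [← pow_add, ← hm, pow_orderOf_eq_one]
  refine ⟨k ^ m, pow_mem (mem_zpowers k) m, pow_ne_one_of_lt_orderOf (by omega) (by omega), h1, ?_⟩
  rw [← mul_inv_eq_iff_eq_mul, ← conj_pow, hjk, inv_pow, inv_eq_of_mul_eq_one_right h1]

theorem exists_invol_conj {s u : G} (hs : s * s = 1) (hu : u * u = 1)
    (h : Odd (orderOf (s * u))) : ∃ j : G, j * j = 1 ∧ j * s * j⁻¹ = u := by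
  obtain ⟨m, hm⟩ := h
  have hsi : s⁻¹ = s := inv_eq_of_mul_eq_one_right hs
  have hui : u⁻¹ = u := inv_eq_of_mul_eq_one_right hu
  have h1 : s * (s * u) * s⁻¹ = (s * u)⁻¹ := by
    rw [← mul_assoc, hs, one_mul, mul_inv_rev, hui]
  have h2 : s * (s * u) ^ m * s⁻¹ = ((s * u) ^ m)⁻¹ := by rw [← conj_pow, h1, inv_pow]
  have h3 : s * ((s * u) ^ m)⁻¹ * s⁻¹ = (s * u) ^ m := by rw [← conj_inv, h2, inv_inv]
  have h4 : (s * u) ^ m * (s * u) ^ m * (s * u) = 1 := by
    rw [← pow_add, ← pow_succ, ← two_mul, ← hm, pow_orderOf_eq_one]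
  refine ⟨(s * u) ^ m * s, ?_, ?_⟩
  · calc (s * u) ^ m * s * ((s * u) ^ m * s) = (s * u) ^ m * (s * (s * u) ^ m * s⁻¹) := by
          rw [hsi]; simp only [mul_assoc]
      _ = 1 := by rw [h2, mul_inv_cancel]
  · calc (s * u) ^ m * s * s * ((s * u) ^ m * s)⁻¹
        = (s * u) ^ m * (s * ((s * u) ^ m)⁻¹ * s⁻¹) * s := by group
      _ = (s * u) ^ m * (s * u) ^ m * (s * u) * (u⁻¹ * s⁻¹ * s) := by rw [h3]; group
      _ = u := by rw [h4, hui]; group

/-- In a simple group whose Sylow `2`-normalizer contains the centralizers of its involutions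
there is an element of odd order, inverted by an involution, that normalizes the Sylow subgroup and
moves a given involution to another given one. -/
theorem exists_inverted_move [Finite G] [IsSimpleGroup G] (hG : ¬ IsMulCommutative G)
    (T : Sylow 2 G) (hcen : ∀ v ∈ (T : Subgroup G), v * v = 1 → ∀ t ∈ (T : Subgroup G), t * v = v * t)
    (hN : ∀ v ∈ (T : Subgroup G), v * v = 1 → v ≠ 1 →
      centralizer ({v} : Set G) ≤ normalizer ((T : Subgroup G) : Set G))
    {s t : G} (hs : s ∈ (T : Subgroup G)) (ht : t ∈ (T : Subgroup G)) (hs2 : s * s = 1)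
    (ht2 : t * t = 1) (hs1 : s ≠ 1) (ht1 : t ≠ 1) :
    ∃ j k : G, j * j = 1 ∧ Odd (orderOf k) ∧ j * k * j⁻¹ = k⁻¹ ∧
      k ∈ normalizer ((T : Subgroup G) : Set G) ∧ k * s * k⁻¹ = t := by
  set B := normalizer ((T : Subgroup G) : Set G) with hB
  have hp2 : ∀ {P : Subgroup G}, IsPGroup 2 P → P ≤ B → P ≤ T := fun {P} hP hPB =>
    le_sup_left.trans (T.3 (hP.to_sup_of_normal_right' T.2 hPB) le_sup_right).le
  have hinv : ∀ z ∈ B, z * z = 1 → z ∈ (T : Subgroup G) := fun z hz h2 =>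
    hp2 (P := zpowers z) (IsPGroup.of_card_dvd_pow (n := 1) (by
      rw [Nat.card_zpowers, pow_one]
      exact orderOf_dvd_of_pow_eq_one (by rw [pow_two, h2]))) (zpowers_le.2 hz) (mem_zpowers z)
  have hout : ∀ {j k : G}, j ∉ B → k ∈ B → j * k * j⁻¹ = k⁻¹ → Odd (orderOf k) := by
    intro j k hj hk hjk
    by_contra h
    obtain ⟨z, hz, h1, h2, h3⟩ := exists_invol_of_inverted hjk h
    exact hj (hN z (hinv z (zpowers_le.2 hk hz) h2) h2 h1 (mem_centralizer_singleton_iff.2 h3))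
  have h2 : 2 ∣ Nat.card G := by
    rw [← orderOf_eq_prime (p := 2) (by rw [pow_two, hs2]) hs1]; exact orderOf_dvd_natCard s
  obtain ⟨g, hg⟩ : ∃ g : G, g * s * g⁻¹ ∉ B := by
    by_contra! h
    have h1 : normalClosure {s} ≤ B := by
      refine (closure_le _).2 fun x hx => ?_
      obtain ⟨a, ha, hc⟩ := Group.mem_conjugatesOfSet_iff.1 hx
      obtain ⟨c, rfl⟩ := isConj_iff.1 hc
      rw [Set.mem_singleton_iff.1 ha]
      exact h c
    rcases (normalClosure_normal (s := {s})).eq_bot_or_eq_top with h3 | h3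
    · exact hs1 (mem_bot.1 (h3 ▸ subset_normalClosure (Set.mem_singleton s)))
    · exact Small.sylow_normalizer_ne_top hG T h2 (top_le_iff.1 (h3 ▸ h1))
  set u := g * s * g⁻¹ with hu
  have hu2 : u * u = 1 := by rw [hu, conj_mul, hs2]; simp
  have key : ∀ v ∈ (T : Subgroup G), v * v = 1 → v ≠ 1 → ∃ j : G, j * j = 1 ∧ j * v * j⁻¹ = u := by
    intro v hv hv2 hv1
    refine exists_invol_conj hv2 hu2 ?_
    by_contra h
    have hvi : v⁻¹ = v := inv_eq_of_mul_eq_one_right hv2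
    have hui : u⁻¹ = u := inv_eq_of_mul_eq_one_right hu2
    obtain ⟨z, hz, h1, h3, h4⟩ := exists_invol_of_inverted (j := v) (k := v * u)
      (by rw [← mul_assoc, hv2, one_mul, mul_inv_rev, hui]) h
    have h5 : z ∈ (T : Subgroup G) :=
      hinv z (hN v hv hv2 hv1 (mem_centralizer_singleton_iff.2 h4.symm)) h3
    have h6 : v * u ∈ centralizer ({z} : Set G) := by
      obtain ⟨i, rfl⟩ := hz
      exact mem_centralizer_singleton_iff.2 ((Commute.refl _).zpow_right i).eq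
    have h7 := hN z h5 h3 h1 h6
    exact hg ((B.mul_mem_cancel_left (le_normalizer hv)).1 h7)
  obtain ⟨js, hjs, hjs'⟩ := key s hs hs2 hs1
  obtain ⟨jt, hjt, hjt'⟩ := key t ht ht2 ht1
  have hsi : js⁻¹ = js := inv_eq_of_mul_eq_one_right hjs
  have hti : jt⁻¹ = jt := inv_eq_of_mul_eq_one_right hjt
  have hk : jt * js * s * (jt * js)⁻¹ = t := by
    calc jt * js * s * (jt * js)⁻¹ = jt * (js * s * js⁻¹) * jt⁻¹ := by group
      _ = jt * jt * t * (jt * jt)⁻¹ := by rw [hjs', ← hjt']; group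
      _ = t := by rw [hjt]; simp
  have hkB : jt * js ∈ B := by
    refine mem_normalizer_fintype fun n hn => ?_
    refine hp2 (P := (T : Subgroup G).map (MulAut.conj (jt * js)).toMonoidHom) (T.2.map _) ?_
      ⟨n, hn, rfl⟩
    rintro _ ⟨y, hy, rfl⟩
    refine hN t ht ht2 ht1 (mem_centralizer_singleton_iff.2 ?_)
    change jt * js * y * (jt * js)⁻¹ * t = t * (jt * js * y * (jt * js)⁻¹)
    rw [← hk, conj_mul, conj_mul, hcen s hs hs2 y hy]
  have hinvt : js * (jt * js) * js⁻¹ = (jt * js)⁻¹ := by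
    rw [mul_inv_rev, hsi, hti, mul_assoc, mul_assoc, hjs, mul_one]
  refine ⟨js, jt * js, hjs, hout (fun h => hg ?_) hkB hinvt, hinvt, hkB, hk⟩
  rw [← hjs']
  exact B.mul_mem (B.mul_mem h (le_normalizer hs)) (B.inv_mem h)

theorem Hom.exists_inverted [Finite G] [IsSimpleGroup G] (hG : ¬ IsMulCommutative G)
    (h : Hom π G) (h2 : 2 ∈ π) (T : Sylow 2 G)
    (hcen : ∀ v ∈ (T : Subgroup G), v * v = 1 → ∀ t ∈ (T : Subgroup G), t * v = v * t)
    (hN : ∀ v ∈ (T : Subgroup G), v * v = 1 → v ≠ 1 →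
      centralizer ({v} : Set G) ≤ normalizer ((T : Subgroup G) : Set G))
    {s t : G} (hs : s ∈ (T : Subgroup G)) (ht : t ∈ (T : Subgroup G)) (hs2 : s * s = 1)
    (ht2 : t * t = 1) (hs1 : s ≠ 1) (ht1 : t ≠ 1) (hst : s ≠ t) :
    ∃ j a : G, j * j = 1 ∧ a ≠ 1 ∧ Odd (orderOf a) ∧ IsPiNum π (orderOf a) ∧
      j * a * j⁻¹ = a⁻¹ := by
  obtain ⟨j, k, hj, hk, hjk, hkN, hks⟩ := exists_inverted_move hG T hcen hN hs ht hs2 ht2 hs1 ht1
  obtain ⟨a, ha, b, hb, ha', hb', hab⟩ := PiCl.exists_pi_decomp π k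
  refine ⟨j, a, hj, ?_, hk.of_dvd_nat (orderOf_dvd_of_mem_zpowers ha), ha', ?_⟩
  · rintro rfl
    rw [one_mul] at hab
    subst hab
    have := h T (IsPiNum.of_isPGroup T.2 h2) b hkN hb' s hs
    exact hst (by rw [← hks, ← this]; simp)
  · obtain ⟨i, rfl⟩ := ha
    change j * k ^ i * j⁻¹ = (k ^ i)⁻¹
    rw [← conj_zpow, hjk, inv_zpow]

end CL.PiHom
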