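import Mathlib
import Cfsg.Agent.FGS.PiClass2
import Cfsg.Agent.FGS.PiClass3
import Cfsg.Agent.FGS.SqFree
import Cfsg.Agent.FGS.Acd
import Cfsg.Agent.S0581

/-!
Many classes of `π`-elements: basic counting lemmas.
-/

set_option autoImplicit false

universe u

namespace CL.PiNil

open Subgroup CL.MSS CL.PiCl Cfsg

/-- The `π`-part of a number. -/
def part (π : Finset ℕ) (n : ℕ) : ℕ := π.prod fun r => r ^ n.factorization r

/-- The number of classes of `π`-elements. -/
noncomputable abbrev kp (π : Set ℕ) (G : Type*) [Group G] : ℕ :=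
  kq G fun x => IsPiNum π (orderOf x)

section Part

variable {π : Finset ℕ}

theorem part_mul {a b : ℕ} (ha : a ≠ 0) (hb : b ≠ 0) : part π (a * b) = part π a * part π b := by
  simp only [part, Nat.factorization_mul ha hb, Finsupp.add_apply, pow_add, Finset.prod_mul_distrib]

theorem part_of_compl (hπ : ∀ r ∈ π, r.Prime) {n : ℕ} (h : IsPiNum (π : Set ℕ)ᶜ n) :
    part π n = 1 := by
  refine Finset.prod_eq_one fun r hr => ?_
  rw [Nat.factorization_eq_zero_of_not_dvd fun hd => h r (hπ r hr) hd hr, pow_zero]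

theorem part_of_isPiNum {n : ℕ} (hn : n ≠ 0) (h : IsPiNum π n) : part π n = n := by
  conv_rhs => rw [← Nat.prod_factorization_pow_eq_self hn]
  refine (Finset.prod_subset (fun r hr => ?_) fun r _ hr => ?_).symm
  · exact h r (Nat.prime_of_mem_primeFactors hr) (Nat.dvd_of_mem_primeFactors hr)
  · rw [Finsupp.notMem_support_iff.1 hr, pow_zero]

theorem part_pos (hπ : ∀ r ∈ π, r.Prime) (n : ℕ) : 0 < part π n :=
  Finset.prod_pos fun r hr => pow_pos (hπ r hr).pos _

theorem isPiNum_part (hπ : ∀ r ∈ π, r.Prime) (n : ℕ) : IsPiNum π (part π n) := by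
  intro q hq hd
  obtain ⟨r, hr, h⟩ := (Prime.dvd_finsetProd_iff hq.prime _).1 hd
  rw [(Nat.prime_dvd_prime_iff_eq hq (hπ r hr)).1 (hq.dvd_of_dvd_pow h)]
  exact hr

theorem exists_eq_part_mul (hπ : ∀ r ∈ π, r.Prime) {n : ℕ} (hn : n ≠ 0) :
    ∃ b, n = part π n * b ∧ IsPiNum (π : Set ℕ)ᶜ b := by
  obtain ⟨a, b, rfl, ha, hb⟩ := exists_pi_mul_pi_compl (π : Set ℕ) hn
  refine ⟨b, ?_, hb⟩
  rw [part_mul (left_ne_zero_of_mul hn) (right_ne_zero_of_mul hn), part_of_compl hπ hb,
    part_of_isPiNum (left_ne_zero_of_mul hn) ha, mul_one]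

theorem part_dvd (hπ : ∀ r ∈ π, r.Prime) {n : ℕ} (hn : n ≠ 0) : part π n ∣ n := by
  obtain ⟨b, h, -⟩ := exists_eq_part_mul hπ hn
  exact ⟨b, h⟩

theorem part_dvd_part {m n : ℕ} (hn : n ≠ 0) (h : m ∣ n) : part π m ∣ part π n := by
  obtain ⟨k, rfl⟩ := h
  rw [part_mul (left_ne_zero_of_mul hn) (right_ne_zero_of_mul hn)]
  exact dvd_mul_right _ _

theorem part_erase {q : ℕ} (hq : q ∈ π) (n : ℕ) :
    part π n = part (π.erase q) n * q ^ n.factorization q :=
  (Finset.prod_erase_mul _ _ hq).symm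

theorem isPiHall_iff_part (hπ : ∀ r ∈ π, r.Prime) {G : Type*} [Group G] [Finite G]
    {H : Subgroup G} : IsPiHall π H ↔ Nat.card H = part π (Nat.card G) := by
  obtain ⟨b, h, hb⟩ := exists_eq_part_mul hπ (Nat.card_pos (α := G)).ne'
  exact isPiHall_iff_card_eq h (isPiNum_part hπ _) hb

end Part

variable {G : Type*} [Group G]

theorem kp_le_of_equiv {H : Type*} [Group H] [Finite H] (π : Set ℕ) (e : G ≃* H) :
    kp π G ≤ kp π H := by
  refine Nat.card_le_card_of_injective (fun c => ⟨ConjClasses.map e.toMonoidHom c, ?_⟩) ?_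
  · obtain ⟨c, hc⟩ := c
    obtain ⟨y, rfl⟩ := ConjClasses.mk_surjective c
    intro x hx
    refine isPiNum_conj (e y) x (mem_carrier_mk_iff.1 hx) ?_
    rw [e.orderOf_eq]
    exact hc y ConjClasses.mem_carrier_mk
  · rintro ⟨c, hc⟩ ⟨d, hd⟩ hcd
    obtain ⟨x, rfl⟩ := ConjClasses.mk_surjective c
    obtain ⟨y, rfl⟩ := ConjClasses.mk_surjective d
    have h1 : IsConj (e x) (e y) := ConjClasses.mk_eq_mk_iff_isConj.1 (congrArg Subtype.val hcd)
    have h2 := (e.symm.toMonoidHom).map_isConj h1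
    simp only [MulEquiv.toMonoidHom_eq_coe, MonoidHom.coe_coe, MulEquiv.symm_apply_apply] at h2
    exact Subtype.ext (ConjClasses.mk_eq_mk_iff_isConj.2 h2)

theorem kp_centralizer_conj [Finite G] (π : Set ℕ) (g x : G) :
    kp π (centralizer ({x} : Set G)) ≤ kp π (centralizer ({g * x * g⁻¹} : Set G)) := by
  rw [← cj_centralizer_singleton]
  exact kp_le_of_equiv π ((centralizer ({x} : Set G)).equivMapOfInjective
    (MulAut.conj g).toMonoidHom (MulAut.conj g).injective)

theorem sum_class [Fintype G] [DecidableEq (ConjClasses G)] (c : ConjClasses G) :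
    ∑ x ∈ Finset.univ.filter (fun x : G => ConjClasses.mk x = c),
      Nat.card (centralizer ({x} : Set G)) = Nat.card G := by
  rw [← kq_mul_card (fun x : G => ConjClasses.mk x = c)
    (fun x y h hx => (ConjClasses.mk_eq_mk_iff_isConj.2 h).symm.trans hx)]
  have : kq G (fun x : G => ConjClasses.mk x = c) = 1 := by
    rw [kq, Nat.card_eq_one_iff_exists]
    refine ⟨⟨c, fun x hx => ConjClasses.mem_carrier_iff_mk_eq.1 hx⟩, ?_⟩
    rintro ⟨d, hd⟩
    obtain ⟨y, rfl⟩ := ConjClasses.mk_surjective d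
    exact Subtype.ext (hd y ConjClasses.mem_carrier_mk)
  rw [this, one_mul]

theorem class_sum [Finite G] [Fintype (ConjClasses G)] (π σ : Set ℕ) (d : ℕ)
    (B : ConjClasses G → ℕ)
    [DecidablePred fun c : ConjClasses G => ∀ x ∈ c.carrier, IsPiNum σ (orderOf x)]
    (h : ∀ x : G, IsPiNum σ (orderOf x) →
      d * kp (π \ σ) (centralizer ({x} : Set G)) ≤ B (ConjClasses.mk x)) :
    d * kp π G ≤
      ∑ c : ConjClasses G, if ∀ x ∈ c.carrier, IsPiNum σ (orderOf x) then B c else 0 := by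
  classical
  have := Fintype.ofFinite G
  refine Nat.le_of_mul_le_mul_right ?_ (Nat.card_pos (α := G))
  rw [mul_assoc]
  refine (Nat.mul_le_mul_left d (kq_mul_card_le π σ)).trans ?_
  rw [Finset.mul_sum, Finset.sum_mul, ← Finset.sum_fiberwise_of_maps_to
    (g := ConjClasses.mk) (t := Finset.univ) (fun _ _ => Finset.mem_univ _)]
  refine Finset.sum_le_sum fun c _ => ?_
  split_ifs with hc
  · rw [← sum_class c, Finset.mul_sum]
    refine (Finset.sum_le_sum (g := fun x => B c * Nat.card (centralizer ({x} : Set G)))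
      fun x hx => ?_).trans (Finset.sum_le_sum_of_subset fun x hx => ?_)
    · simp only [Finset.mem_filter, Finset.mem_univ, true_and] at hx
      rw [← mul_assoc, ← hx.2]
      exact Nat.mul_le_mul_right _ (h x hx.1)
    · simp only [Finset.mem_filter, Finset.mem_univ, true_and] at hx ⊢
      exact hx.2
  · refine le_of_eq ((Finset.sum_eq_zero fun x hx => absurd (fun y hy => ?_) hc).trans
      (zero_mul _).symm)
    simp only [Finset.mem_filter, Finset.mem_univ, true_and] at hx
    rw [← hx.2] at hy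
    exact isPiNum_conj x y (mem_carrier_mk_iff.1 hy) hx.1

theorem card_conjClasses_eq_kq : Nat.card (ConjClasses G) = kq G fun _ => True :=
  Nat.card_congr (Equiv.subtypeUnivEquiv fun _ _ _ => trivial).symm

theorem le_of_dvd {p m n : ℕ} (hp : ∀ r, r.Prime → r ∣ n → p ≤ r) (hm : m ∣ n) (h0 : m ≠ 0)
    (h1 : m ≠ 1) : p ≤ m := by
  obtain ⟨r, hr, hd⟩ := Nat.exists_prime_and_dvd h1
  exact (hp r hr (hd.trans hm)).trans (Nat.le_of_dvd (Nat.pos_of_ne_zero h0) hd)

/-- Non-abelian groups have few classes. -/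
theorem nonab_bound [Finite G] {p : ℕ} (hp0 : 0 < p)
    (hp : ∀ r, r.Prime → r ∣ Nat.card G → p ≤ r) (hG : ¬ IsMulCommutative G) :
    p ^ 3 * Nat.card (ConjClasses G) + Nat.card G ≤ (p ^ 2 + p) * Nat.card G := by
  obtain ⟨p, rfl⟩ : ∃ k, p = k + 1 := ⟨p - 1, by omega⟩
  have h1 := weighted' (fun _ : G => True) (p + 1) 1 p ((⊤ : Subgroup G) : Set G)
    ((center G : Subgroup G) : Set G) fun x _ => by
    have h2 := one_le_cnt (S := ((⊤ : Subgroup G) : Set G)) (x := x) (mem_top x) (IsConj.refl x)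
    by_cases hx : x ∈ center G
    · have h3 := one_le_cnt (S := ((center G : Subgroup G) : Set G)) (x := x) hx (IsConj.refl x)
      nlinarith
    · have h3 := relIndex_le_cnt (H := ⊤) (Q := ⊤) (x := x) (y := x) le_normalizer (mem_top x)
        (IsConj.refl x)
      have h4 : p + 1 ≤ (centralizer ({x} : Set G)).relIndex ⊤ := by
        rw [relIndex_top_right]
        refine le_of_dvd hp (index_dvd_card _) index_ne_zero_of_finite fun h => hx ?_
        rw [mem_center_iff]
        intro g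
        exact mem_centralizer_singleton_iff.1 (index_eq_one.1 h ▸ mem_top g)
      omega
  have h2 : (p + 1) ^ 2 ≤ (center G).index := by
    have h3 : ¬ IsCyclic (G ⧸ center G) := fun h => hG
      ((QuotientGroup.mk' (center G)).isMulCommutative_of_isCyclic_of_ker_le_center
        (by rw [QuotientGroup.ker_mk']))
    have h4 : (center G).index ≠ 1 := fun h => h3 (by
      have : Subsingleton (G ⧸ center G) := (Nat.card_eq_one_iff_unique.1 h).1
      infer_instance)
    obtain ⟨r, hr, m, hm⟩ := Nat.exists_prime_and_dvd h4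
    have h5 : m ≠ 1 := fun h => h3 (by
      have := Fact.mk hr
      exact isCyclic_of_prime_card (p := r) (by rw [← mul_one r, ← h, ← hm]; rfl))
    have h6 : m ≠ 0 := fun h => (index_ne_zero_of_finite (H := center G)) (by rw [hm, h, mul_zero])
    rw [hm, sq]
    exact Nat.mul_le_mul (hp r hr ((Dvd.intro m hm.symm).trans (index_dvd_card _)))
      (le_of_dvd hp ((Dvd.intro_left r hm.symm).trans (index_dvd_card _)) h6 h5)
  have h3 := (center G).card_mul_index
  have h4 : (((⊤ : Subgroup G) : Set G)).ncard = Nat.card G := by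
    rw [coe_top, Set.ncard_univ]
  have h5 : ((center G : Subgroup G) : Set G).ncard = Nat.card (center G) := rfl
  rw [← card_conjClasses_eq_kq, h4, h5, one_mul] at h1
  have h6 := Nat.mul_le_mul_left (Nat.card (center G)) h2
  rw [h3] at h6
  have h7 := Nat.mul_le_mul_left ((p + 1) ^ 2) h1
  have h8 := Nat.mul_le_mul_left p h6
  nlinarith

open CL.Char in
/-- Groups with many classes have small derived subgroup. -/
theorem card_commutator_le [Finite G] {p : ℕ} (hp2 : 2 ≤ p)
    (hp : ∀ r, r.Prime → r ∣ Nat.card G → p ≤ r) (h : Nat.card G < p * Nat.card (ConjClasses G)) :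
    Nat.card (_root_.commutator G) ≤ p := by
  classical
  have h1 := sum_degree_sq (G := G)
  simp_rw [Blk.irr_one_eq] at h1
  have h2 : ∑ χ : IrrCharacter G, charDegree (χ : G → ℂ) ^ 2 = Nat.card G := by exact_mod_cast h1
  have h3 : p ^ 2 * Nat.card (ConjClasses G) + (_root_.commutator G).index ≤
      Nat.card G + p ^ 2 * (_root_.commutator G).index := by
    rw [Acd.index_eq_sum, ← h2, ← card_irr, Nat.card_eq_fintype_card, mul_comm (p ^ 2),
      ← smul_eq_mul _ (p ^ 2), ← Finset.card_univ, ← Finset.sum_const, Finset.mul_sum,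
      ← Finset.sum_add_distrib, ← Finset.sum_add_distrib]
    refine Finset.sum_le_sum fun χ _ => ?_
    split_ifs with h6
    · rw [h6]; omega
    · have h4 := le_of_dvd hp (Blk.charDegree_dvd_card χ) (Blk.charDegree_pos χ).ne' h6
      have := Nat.pow_le_pow_left h4 2
      omega
  have h4 := (_root_.commutator G).card_mul_index
  by_contra hcon
  have h5 := Nat.mul_le_mul_right (_root_.commutator G).index (not_le.1 hcon)
  rw [h4] at h5
  obtain ⟨p, rfl⟩ : ∃ k, p = k + 1 := ⟨p - 1, by omega⟩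
  have h6 := Nat.mul_le_mul_left p h5
  have h7 := Nat.mul_lt_mul_of_pos_left h (show 0 < p + 1 by omega)
  nlinarith

theorem kp_le_card_conjClasses [Finite G] {π : Set ℕ} {H : Subgroup G}
    (h : ∀ x : G, IsPiNum π (orderOf x) → ∃ y ∈ H, IsConj x y) :
    kp π G ≤ Nat.card (ConjClasses H) := by
  rw [kp, kq, ← Set.ncard_univ (ConjClasses H)]
  refine le_trans (Set.ncard_le_ncard (t := ConjClasses.map H.subtype '' Set.univ)
    (s := {c : ConjClasses G | ∀ x ∈ c.carrier, IsPiNum π (orderOf x)}) ?_)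
    (Set.ncard_image_le)
  intro c hc
  obtain ⟨x, rfl⟩ := ConjClasses.mk_surjective c
  obtain ⟨y, hy, h⟩ := h x (hc x ConjClasses.mem_carrier_mk)
  exact ⟨ConjClasses.mk ⟨y, hy⟩, trivial, (ConjClasses.mk_eq_mk_iff_isConj.2 h).symm⟩

theorem exists_isConj_mem_hall [Finite G] {π : Set ℕ} {H : Subgroup G} (hH : IsPiHall π H)
    (hn : Group.IsNilpotent H) (x : G) (hx : IsPiNum π (orderOf x)) : ∃ y ∈ H, IsConj x y := by
  obtain ⟨g, -, hg⟩ := Cfsg.Agent.S0581.aux (zpowers x) π ⊤ H (isPiHallOf_top.2 hH) hn le_top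
    (by rwa [Nat.card_zpowers])
  obtain ⟨y, hy, h⟩ := hg (mem_zpowers x)
  exact ⟨y, hy, (isConj_iff.2 ⟨g, h⟩).symm⟩

theorem nil_sup [Finite G] {A B : Subgroup G} (hA : Group.IsNilpotent A)
    (hB : Group.IsNilpotent B) (h : A ≤ centralizer (B : Set G))
    (hc : (Nat.card A).Coprime (Nat.card B)) :
    Group.IsNilpotent ↥(A ⊔ B) ∧ Nat.card ↥(A ⊔ B) = Nat.card A * Nat.card B := by
  let f : A × B →* G := MonoidHom.noncommCoprod A.subtype B.subtype
    fun a b => (h a.2 b b.2).symm
  have hf : f.range = A ⊔ B :=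
    (MonoidHom.noncommCoprod_range _ _ _).trans (by rw [range_subtype, range_subtype])
  refine ⟨?_, Nat.dvd_antisymm ?_
    (hc.mul_dvd_of_dvd_of_dvd (card_dvd_of_le le_sup_left) (card_dvd_of_le le_sup_right))⟩
  · rw [← hf]
    exact Group.nilpotent_of_surjective f.rangeRestrict f.rangeRestrict_surjective
  · rw [← hf, ← Nat.card_prod]
    exact card_range_dvd f

end CL.PiNil
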