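import Mathlib
import Cfsg.Agent.FGS.PiNil1

/-!
Many classes of `π`-elements: the case of a normal subgroup of prime index.
-/

set_option autoImplicit false

namespace CL.PiNil

open Subgroup CL.MSS CL.PiCl Cfsg

variable {G : Type*} [Group G] [Finite G]

/-- `C_T(R)` is a Hall subgroup of `C(R)`. -/
theorem hall_inf_centralizer {μ : Set ℕ} {r : ℕ} [hr : Fact r.Prime] (hrμ : r ∉ μ)
    {N T R : Subgroup G} [N.Normal] (hN : N.index = r) (hT : IsPiHall μ T) (hTN : T ≤ N)
    (hR : SylIn r R ⊤) (hRT : R ≤ normalizer (T : Set G))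
    (hc : T ≤ centralizer ((R ⊓ N : Subgroup G) : Set G)) :
    IsPiHallOf μ (T ⊓ centralizer (R : Set G)) (centralizer (R : Set G)) := by
  refine ⟨inf_le_right, fun s hs hd => hT.1 s hs (hd.trans (card_dvd_of_le inf_le_left)),
    fun s hs hsμ => ?_⟩
  have := Fact.mk hs
  have hsr : s ≠ r := fun h => hrμ (h ▸ hsμ)
  have hRN : SylIn r (R ⊓ N) N := hR.inf_normal_of_le le_normalizer_of_normal le_top
  set Y := centralizer ((R ⊓ N : Subgroup G) : Set G) ⊓ N with hY
  have hRY : R ≤ normalizer (Y : Set G) := le_normalizer_inf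
    (le_normalizer_centralizer (le_normalizer_inf le_normalizer le_normalizer_of_normal))
    le_normalizer_of_normal
  have hnpc : HasNormalPComplement r Y := by
    let P : Sylow r Y := default
    refine hasNPC_of_normalizer_le_centralizer P fun y _ z hz => Subtype.ext ?_
    have h1 := sylIn_map_subtype P
    have h2 : (P : Subgroup Y).map Y.subtype ≤ R ⊓ N :=
      hRN.le_of_normalizes h1.pgroup (h1.le.trans inf_le_right)
        ((h1.le.trans inf_le_left).trans (centralizer_le_normalizer _))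
    exact y.2.1 z (h2 ⟨z, hz, rfl⟩)
  set K := (pResidual r Y).map Y.subtype with hK
  have hKc : (Nat.card K).Coprime r := by
    rw [hK, card_map_of_injective Y.subtype_injective]
    exact hasNPC_iff_coprime_card_pResidual.1 hnpc
  have hle : ∀ X : Subgroup G, X ≤ Y → (Nat.card X).Coprime r → X ≤ K := fun X hX hX' x hx =>
    ⟨⟨x, hX hx⟩, mem_pResidual_of_coprime (by
      rw [orderOf_mk]
      exact hX'.coprime_dvd_left (X.orderOf_dvd_natCard hx)), rfl⟩
  have hTr : (Nat.card T).Coprime r := ((Nat.Prime.coprime_iff_not_dvd hr.out).2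
    fun h => hrμ (hT.1 r hr.out h)).symm
  have hTK : T ≤ K := hle T (le_inf hc hTN) hTr
  have hRK : R ≤ normalizer (K : Set G) :=
    hRY.trans (normalizer_le_normalizer_map_subtype Y _)
  obtain ⟨S, hS⟩ := coprime_exists_invariant_sylow R T hRT
    (coprime_card_of_isPGroup hR.pgroup hTr).symm (Or.inl (isSolvable_of_isPGroup hR.pgroup)) s
  have hS1 := sylIn_map_subtype S
  set S₁ := (S : Subgroup T).map T.subtype with hS₁
  have hS2 : SylIn s S₁ K := sylIn_of_not_dvd_relIndex hS1.pgroup (hS1.le.trans hTK) (by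
    rw [← relIndex_mul_relIndex _ _ _ hS1.le hTK]
    intro h
    rcases (Nat.Prime.dvd_mul hs).1 h with h | h
    · exact hS1.not_dvd_relIndex h
    · exact hT.2 s hs hsμ (h.trans (relIndex_dvd_index_of_le hTK)))
  obtain ⟨S₂, hS₂⟩ := coprime_invariant_sylow_inf_centralizer R K hRK
    (coprime_card_of_isPGroup hR.pgroup hKc).symm (Or.inl (isSolvable_of_isPGroup hR.pgroup)) s
    hS2.toSylow (by rwa [hS2.map_toSylow])
  rw [hS2.map_toSylow] at hS₂
  have hS3 := sylIn_map_subtype S₂
  rw [hS₂] at hS3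
  obtain ⟨S₀, hS₀⟩ := exists_sylIn s (centralizer (R : Set G))
  have hS0r : (Nat.card S₀).Coprime r := by
    obtain ⟨k, hk⟩ := IsPGroup.iff_card.1 hS₀.pgroup
    rw [hk]
    exact Nat.Coprime.pow_left _ ((Nat.coprime_primes hs hr.out).2 hsr)
  have hS0N : S₀ ≤ N := by
    rw [← relIndex_eq_one]
    exact Nat.eq_one_of_dvd_coprimes hS0r (relIndex_dvd_card _ _)
      (hN ▸ relIndex_dvd_index_of_normal _ _)
  have hS0K : S₀ ≤ K := hle S₀ (le_inf (hS₀.le.trans (centralizer_le inf_le_left)) hS0N) hS0r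
  have hS4 : SylIn s (S₁ ⊓ centralizer (R : Set G)) (centralizer (R : Set G)) :=
    hS₀.of_card_le hS3.pgroup inf_le_right (hS3.card_le hS₀.pgroup (le_inf hS0K hS₀.le))
  exact fun h => hS4.not_dvd_relIndex
    (h.trans (relIndex_dvd_of_le_left _ (inf_le_inf_right _ hS1.le)))

theorem card_sylow_centralizer {r : ℕ} [hr : Fact r.Prime] {R : Subgroup G} (hR : SylIn r R ⊤)
    (x : G) : kp {r} (centralizer ({x} : Set G)) ≤ Nat.card R ∧
      (r ∣ (centralizer ({x} : Set G)).index →
        r * kp {r} (centralizer ({x} : Set G)) ≤ Nat.card R) := by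
  rw [kp, kq_singleton hr.out]
  have h8 := kq_le_card_sylow (default : Sylow r (centralizer ({x} : Set G)))
  have h9 := Sylow.card_eq_multiplicity (default : Sylow r (centralizer ({x} : Set G)))
  have h10 := hR.card_eq_pow_factorization
  have h11 := (centralizer ({x} : Set G)).card_mul_index
  rw [card_top, ← h11, Nat.factorization_mul Nat.card_pos.ne' index_ne_zero_of_finite,
    Finsupp.add_apply, pow_add, ← h9] at h10
  rw [h10]
  refine ⟨h8.trans (Nat.le_mul_of_pos_right _ (pow_pos hr.out.pos _)), fun h12 => ?_⟩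
  rw [mul_comm]
  exact Nat.mul_le_mul h8 (Nat.le_self_pow
    (hr.out.factorization_pos_of_dvd index_ne_zero_of_finite h12).ne' r)

theorem exists_conj_mem_centralizer {r : ℕ} [hr : Fact r.Prime] {R : Subgroup G}
    (hR : SylIn r R ⊤) {x : G} (hx : ¬ r ∣ (centralizer ({x} : Set G)).index) :
    ∃ g : G, g * x * g⁻¹ ∈ centralizer (R : Set G) := by
  obtain ⟨S, hS⟩ := exists_sylIn r (centralizer ({x} : Set G))
  have hS' : SylIn r S ⊤ := sylIn_of_not_dvd_relIndex hS.pgroup le_top (by
    rw [relIndex_top_right, ← relIndex_mul_index hS.le]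
    exact fun h => (hr.out.dvd_mul.1 h).elim hS.not_dvd_relIndex hx)
  obtain ⟨g, -, hg⟩ := hS'.exists_conj hR
  refine ⟨g, fun y hy => ?_⟩
  have h7 := cj_mono g hS.le (hg ▸ hy)
  rw [cj_centralizer_singleton] at h7
  exact mem_centralizer_singleton_iff.1 h7

theorem case_normal {π : Finset ℕ} (hπ : ∀ r ∈ π, r.Prime) {r : ℕ} (hrπ : r ∈ π)
    (N : Subgroup G) [N.Normal] (hN : N.index = r) {H : Subgroup G} (hH : IsPiHallOf π H N)
    (hHn : Group.IsNilpotent H) (h : part π (Nat.card G) < r * kp π G) :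
    ∃ K : Subgroup G, Group.IsNilpotent K ∧ Nat.card K = part π (Nat.card G) := by
  classical
  have hr := hπ r hrπ
  have := Fact.mk hr
  set μ := π.erase r with hμ
  have hμπ : ∀ s ∈ μ, s.Prime := fun s hs => hπ s (Finset.mem_of_mem_erase hs)
  have hrμ : r ∉ (μ : Set ℕ) := Finset.notMem_erase r π
  obtain ⟨T, hT⟩ := exists_isPiHallOf (μ : Set ℕ) H IsNilpotent.to_isSolvable
  have hTn : Group.IsNilpotent T := Group.nilpotent_of_mulEquiv (subgroupOfEquivOfLe hT.1)
  have hTN : IsPiHallOf μ T N := IsPiHallOf.trans hT hH.1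
    ((IsPiHallOf.relIndex hH).mono fun s hs h => hs (Finset.mem_of_mem_erase h))
  have hTG : IsPiHall μ T := IsPiHallOf.isPiHall hTN (by
    rw [hN]
    exact fun s hs hd h => hrμ ((Nat.prime_dvd_prime_iff_eq hs hr).1 hd ▸ h))
  have hTr : (Nat.card T).Coprime r := (hr.coprime_iff_not_dvd.2
    fun h => hrμ (hTG.1 r hr h)).symm
  obtain ⟨R₀, hR₀⟩ := exists_sylIn r H
  have hR₀N : SylIn r R₀ N := sylIn_of_not_dvd_relIndex hR₀.pgroup (hR₀.le.trans hH.1) (by
    rw [← relIndex_mul_relIndex _ _ _ hR₀.le hH.1]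
    exact fun h => (hr.dvd_mul.1 h).elim hR₀.not_dvd_relIndex (hH.2.2 r hr hrπ))
  have hTR₀ : T ≤ centralizer (R₀ : Set G) := le_centralizer_of_coprime_of_le_nilpotent hHn hT.1
    hR₀.le (coprime_card_of_isPGroup hR₀.pgroup hTr)
  have hM : ¬ normalizer (T : Set G) ≤ N := by
    obtain ⟨g, hg⟩ : ∃ g, g ∉ N := by
      by_contra hcon
      push Not at hcon
      exact hr.one_lt.ne' (hN ▸ index_eq_one.2 (eq_top_iff.2 fun x _ => hcon x))
    obtain ⟨x, hx, h1⟩ := Cfsg.Agent.S0581.aux (g •ᶜ T) μ N T hTN hTn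
      (cj_le_of_mem_normalizer hTN.1 (le_normalizer_of_normal (mem_top g)))
      (by rw [card_cj]; exact hTN.2.1)
    rw [pointwise_smul_eq_cj, le_cj_iff, ← cj_mul] at h1
    intro h2
    exact hg (by simpa using N.mul_mem hx (h2 (mem_normalizer_of_cj_le h1)))
  have hrel : ∀ X : Subgroup G, ¬ X ≤ N → N.relIndex X = r := fun X hX =>
    ((Nat.dvd_prime hr).1 (hN ▸ relIndex_dvd_index_of_normal N X)).resolve_left
      fun h => hX (relIndex_eq_one.1 h)
  obtain ⟨R, hR, hR₀R⟩ := exists_sylIn_ge (H := normalizer (T : Set G)) hR₀.pgroup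
    ((le_centralizer_iff.1 hTR₀).trans (centralizer_le_normalizer _))
  have hRN : ¬ R ≤ N := fun h => hR.not_dvd_relIndex (by
    rw [← relIndex_mul_relIndex _ _ _ (le_inf h hR.le) inf_le_right, inf_relIndex_right,
      hrel _ hM]
    exact dvd_mul_left _ _)
  have hRR₀ : R ⊓ N = R₀ :=
    hR₀N.max _ (hR.pgroup.to_le inf_le_left) (le_inf hR₀R hR₀N.le) inf_le_right
  have hRG : SylIn r R ⊤ := sylIn_of_not_dvd_relIndex hR.pgroup le_top (by
    have h1 := relIndex_mul_index hR₀R
    have h2 := relIndex_mul_index hR₀N.le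
    rw [← hRR₀, inf_relIndex_left, hrel R hRN, hRR₀, ← h2, hN, mul_comm] at h1
    rw [relIndex_top_right, Nat.eq_of_mul_eq_mul_right hr.pos h1]
    exact hR₀N.not_dvd_relIndex)
  have hcard : part π (Nat.card G) = Nat.card R * Nat.card T := by
    rw [part_erase hrπ, (isPiHall_iff_part hμπ).1 hTG, hRG.card_eq_pow_factorization, card_top,
      mul_comm]
  by_cases hRT : R ≤ centralizer (T : Set G)
  · obtain ⟨h1, h2⟩ := nil_sup hR.pgroup.isNilpotent hTn hRT
      (coprime_card_of_isPGroup hR.pgroup hTr).symm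
    exact ⟨R ⊔ T, h1, h2.trans hcard.symm⟩
  exfalso
  set J := T ⊓ centralizer (R : Set G) with hJ
  have hJH := hall_inf_centralizer hrμ hN hTG hTN.1 hRG hR.le (by rwa [hRR₀])
  have hJn : Group.IsNilpotent J :=
    Group.nilpotent_of_mulEquiv (subgroupOfEquivOfLe (inf_le_left : J ≤ T))
  have h1 : (r + 1) * Nat.card J ≤ Nat.card T := by
    have h2 := CL.SN.relIndex_centralizer_modEq_one hR.pgroup hR.le
      (hr.coprime_iff_not_dvd.1 hTr.symm)
    have h3 := card_inf_mul_relIndex (centralizer (R : Set G)) T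
    rw [inf_comm, ← hJ] at h3
    rw [← h3, mul_comm]
    refine Nat.mul_le_mul_left _ ?_
    have h4 : (centralizer (R : Set G)).relIndex T ≠ 1 :=
      fun h => hRT (le_centralizer_iff.1 (relIndex_eq_one.1 h))
    have h5 : (centralizer (R : Set G)).relIndex T ≠ 0 := index_ne_zero_of_finite
    have h6 := Nat.le_of_dvd (by omega) ((Nat.modEq_iff_dvd' (by omega)).1 h2.symm)
    omega
  have := Fintype.ofFinite (ConjClasses G)
  obtain ⟨m, hm⟩ : ∃ m, r ^ 2 = m + 1 := ⟨r ^ 2 - 1, by have := pow_pos hr.pos 2; omega⟩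
  have h2 := class_sum π μ (r ^ 2)
    (fun c => Nat.card R * (cnt (T : Set G) c + m * cnt (J : Set G) c)) fun x hx => by
    rw [show (π : Set ℕ) \ μ = {r} by
      ext s
      simp only [hμ, Set.mem_sdiff, Finset.mem_coe, Finset.mem_erase, Set.mem_singleton_iff]
      constructor
      · tauto
      · rintro rfl
        exact ⟨hrπ, by simp⟩]
    obtain ⟨h3, h4⟩ := card_sylow_centralizer hRG x
    have h5 : ∀ y ∈ J, IsConj x y → r ^ 2 ≤ cnt T (ConjClasses.mk x) +
        m * cnt J (ConjClasses.mk x) := fun y hy hxy => by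
      have h6 := one_le_cnt (S := T) hy.1 hxy
      have h7 := one_le_cnt (S := J) hy hxy
      nlinarith
    by_cases hd : r ∣ (centralizer ({x} : Set G)).index
    · have h6 : r ≤ cnt T (ConjClasses.mk x) + m * cnt J (ConjClasses.mk x) := by
        obtain ⟨y, hy, hxy⟩ := exists_isConj_mem_hall hTG hTn x hx
        by_cases hyR : y ∈ centralizer (R : Set G)
        · exact (Nat.le_self_pow two_ne_zero r).trans (h5 y ⟨hy, hyR⟩ hxy)
        · have h7 := relIndex_le_cnt hR.le hy hxy
          obtain ⟨k, hk⟩ := IsPGroup.iff_card.1 hR.pgroup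
          have h8 := le_of_dvd (p := r) (fun s hs hd => by
            rw [hk] at hd
            exact ((Nat.prime_dvd_prime_iff_eq hs hr).1 (hs.dvd_of_dvd_pow hd)).ge)
            (relIndex_dvd_card (centralizer ({y} : Set G)) R) index_ne_zero_of_finite
            (relIndex_ne_one hyR)
          omega
      rw [sq, mul_assoc, mul_comm (Nat.card R)]
      exact Nat.mul_le_mul h6 (h4 hd)
    · obtain ⟨g, hg⟩ := exists_conj_mem_centralizer hRG hd
      have hxg : IsConj x (g * x * g⁻¹) := isConj_iff.2 ⟨g, rfl⟩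
      obtain ⟨a, -, ha⟩ := Cfsg.Agent.S0581.aux (zpowers (g * x * g⁻¹)) μ _ J hJH hJn
        (zpowers_le.2 hg) (by rw [Nat.card_zpowers]; exact isPiNum_conj _ _ hxg hx)
      obtain ⟨y, hy, hy'⟩ := ha (mem_zpowers _)
      rw [mul_comm (Nat.card R)]
      exact Nat.mul_le_mul (h5 y hy (hxg.trans (isConj_iff.2 ⟨a, hy'⟩).symm)) h3
  have h3 := h2.trans (Finset.sum_le_sum
    (g := fun c => Nat.card R * (cnt (T : Set G) c + m * cnt (J : Set G) c))
    fun c _ => by split_ifs <;> simp)
  rw [← Finset.mul_sum, Finset.sum_add_distrib, ← Finset.mul_sum, sum_cnt, sum_cnt] at h3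
  have h4 : (T : Set G).ncard = Nat.card T := rfl
  have h5 : (J : Set G).ncard = Nat.card J := rfl
  rw [h4, h5] at h3
  rw [hcard] at h
  obtain ⟨k, rfl⟩ : ∃ k, r = k + 1 := ⟨r - 1, by have := hr.pos; omega⟩
  have h6 : m = k * (k + 1 + 1) := by nlinarith
  have h7 := Nat.mul_le_mul_left (Nat.card R * k) h1
  have h8 := Nat.mul_lt_mul_of_pos_left h (show 0 < k + 1 by omega)
  subst h6
  nlinarith

end CL.PiNil
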