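import Mathlib
import Cfsg.Agent.FGS.PiNil2

/-!
Many classes of `π`-elements force a nilpotent Hall `π`-subgroup.
-/

set_option autoImplicit false

universe u

namespace CL.PiNil

open Subgroup CL.MSS CL.PiCl Cfsg

section

variable {G : Type*} [Group G] [Finite G]

theorem inf_centralizer_eq_bot {r : ℕ} [Fact r.Prime] (P : Sylow r G)
    (hP : IsMulCommutative (P : Subgroup G)) (h : pResidual r G = ⊤) :
    (P : Subgroup G) ⊓ centralizer (normalizer ((P : Subgroup G) : Set G) : Set G) = ⊥ := by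
  rw [eq_bot_iff]
  intro z hz
  exact CL.CS.eq_one_of_abelian_sylow P hP hz.1
    (CL.Tr.sylow_le_commutator_of_pResidual_eq_top P h hz.1)
    fun g hg => mem_centralizer_singleton_iff.2 (hz.2 g hg)

theorem two_mul_kp_le {r : ℕ} [hr : Fact r.Prime] (P : Sylow r G)
    (hP : IsMulCommutative (P : Subgroup G)) (h : pResidual r G = ⊤) :
    2 * kp {r} G ≤ Nat.card P + 1 := by
  have := two_mul_kq_le P le_rfl
  rwa [inf_centralizer_eq_bot P hP h, card_bot, ← kq_singleton hr.out] at this

theorem cube_mul_le {r : ℕ} [hr : Fact r.Prime] {P : Type*} [Group P] [Finite P]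
    (hP : IsPGroup r P) (h : ¬ IsMulCommutative P) :
    r ^ 3 * Nat.card (ConjClasses P) + Nat.card P ≤ (r ^ 2 + r) * Nat.card P := by
  obtain ⟨k, hk⟩ := IsPGroup.iff_card.1 hP
  refine nonab_bound hr.out.pos (fun s hs hd => ?_) h
  rw [hk] at hd
  exact ((Nat.prime_dvd_prime_iff_eq hs hr.out).1 (hs.dvd_of_dvd_pow hd)).ge

theorem comm_of_lt' {p q : ℕ} [hq : Fact q.Prime] (hpq : p < q) (Q : Sylow q G)
    (h : Nat.card Q < p * kp {q} G) : IsMulCommutative (Q : Subgroup G) := by
  by_contra hcon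
  have h1 := cube_mul_le Q.isPGroup' hcon
  have h2 := kq_le_card_conjClasses Q
  rw [← kq_singleton hq.out] at h2
  have h3 := h.trans_le (Nat.mul_le_mul (Nat.le_sub_one_of_lt hpq) h2)
  obtain ⟨m, rfl⟩ : ∃ m, q = m + 1 := ⟨q - 1, by omega⟩
  have h4 := Nat.mul_lt_mul_of_pos_left h3 (pow_pos hq.out.pos 3)
  have h5 := Nat.mul_le_mul_left m h1
  rw [Nat.add_sub_cancel] at h4
  have h6 : 0 < Nat.card Q := Nat.card_pos
  nlinarith

theorem comm_min {s q : ℕ} [hs : Fact s.Prime] [Fact q.Prime] (hsq : s < q) (S : Sylow s G)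
    (Q : Sylow q G) (hQ : q ≤ Nat.card Q) (h2 : 2 * kp {q} G ≤ Nat.card Q + 1)
    (h : Nat.card S * Nat.card Q < s * kp {s, q} G) : IsMulCommutative (S : Subgroup G) := by
  by_contra hcon
  obtain ⟨m, hm⟩ : ∃ m, s ^ 2 + s = m + 1 := ⟨s ^ 2 + s - 1, by have := hs.out.pos; omega⟩
  have h3 := kq_le_mul (G := G) {s, q} {q} (m * Nat.card S / s ^ 3) fun x _ => by
    rw [show ({s, q} : Set ℕ) \ {q} = {s} by
      ext r; simp only [Set.mem_sdiff, Set.mem_insert_iff, Set.mem_singleton_iff]; omega,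
      kq_singleton hs.out, Nat.le_div_iff_mul_le (pow_pos hs.out.pos 3), mul_comm]
    let P : Sylow s (centralizer ({x} : Set G)) := default
    have h4 := kq_le_card_conjClasses P
    have h5 := sylIn_map_subtype P
    obtain ⟨g, -, hg⟩ := (sylIn_top S).exists_conj_le h5.pgroup le_top
    have h6 : Nat.card (g •ᶜ (P : Subgroup _).map (centralizer ({x} : Set G)).subtype :
        Subgroup G) = Nat.card P := by
      rw [card_cj, card_map_of_injective (subtype_injective _)]
    by_cases hP : IsMulCommutative (P : Subgroup (centralizer ({x} : Set G)))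
    · have h7 := mul_card_le_of_lt S.isPGroup' hg fun h => hcon (by
        rw [le_antisymm h hg]
        exact isMulCommutative_cj g (map_isMulCommutative _ _))
      rw [card_conjClasses_of_comm _ hP] at h4
      rw [h6] at h7
      have h8 := Nat.mul_le_mul_left (s ^ 3) h4
      have h9 := Nat.mul_le_mul_left (s ^ 2) h7
      have h10 : s ^ 2 ≤ m := by have := hs.out.pos; omega
      have h11 := Nat.mul_le_mul_right (Nat.card S) h10
      nlinarith
    · have h7 := cube_mul_le P.isPGroup' hP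
      have h8 := Nat.mul_le_mul_left m (h6 ▸ card_le_of_le hg)
      have h9 := Nat.mul_le_mul_left (s ^ 3) h4
      rw [hm] at h7
      nlinarith
  have h4 := Nat.div_mul_le_self (m * Nat.card S) (s ^ 3)
  set M := m * Nat.card S / s ^ 3
  have h5 := h.trans_le (Nat.mul_le_mul_left s h3)
  have h6 := Nat.mul_lt_mul_of_pos_left h5 (show 0 < 2 * s ^ 2 by have := hs.out.pos; positivity)
  have h7 := Nat.mul_le_mul h4 h2
  have h8 : 0 < Nat.card S := Nat.card_pos
  have h9 : Nat.card S * (2 * s ^ 2 * Nat.card Q) < Nat.card S * (m * (Nat.card Q + 1)) := by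
    nlinarith
  have h10 := Nat.lt_of_mul_lt_mul_left h9
  obtain ⟨k, rfl⟩ : ∃ k, s = k + 1 := ⟨s - 1, by have := hs.out.pos; omega⟩
  obtain rfl : m = k ^ 2 + 3 * k + 1 := by nlinarith
  obtain ⟨n, hn⟩ : ∃ n, Nat.card Q = k + 2 + n := ⟨Nat.card Q - (k + 2), by omega⟩
  rw [hn] at h10
  nlinarith

theorem count_main {μ : Set ℕ} {q : ℕ} [hq : Fact q.Prime] (hqμ : q ∉ μ) (Q : Sylow q G)
    (hQ : (Q : Subgroup G) ⊓ centralizer (normalizer ((Q : Subgroup G) : Set G) : Set G) = ⊥) :
    2 * q * kp (insert q μ) G + 2 * Nat.card Q ≤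
      q * (Nat.card Q + 1) * kp μ (centralizer ((Q : Subgroup G) : Set G)) +
        2 * Nat.card Q * kp μ G := by
  classical
  set C := centralizer ((Q : Subgroup G) : Set G) with hC
  have := Fintype.ofFinite (ConjClasses G)
  have := Fintype.ofFinite (ConjClasses C)
  let m : ConjClasses G → ℕ := fun c =>
    (Finset.univ.filter fun d : ConjClasses C => ConjClasses.map C.subtype d = c).card
  have h1 := class_sum (insert q μ) μ (2 * q)
    (fun c => q * (Nat.card Q + 1) * m c + if c = ConjClasses.mk 1 then 0 else 2 * Nat.card Q)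
    fun x hx => by
    rw [show insert q μ \ μ = {q} by
      ext r
      simp only [Set.mem_sdiff, Set.mem_insert_iff, Set.mem_singleton_iff]
      exact ⟨by tauto, fun h => ⟨Or.inl h, h ▸ hqμ⟩⟩]
    obtain ⟨h3, h4⟩ := card_sylow_centralizer (sylIn_top Q) x
    by_cases hd : q ∣ (centralizer ({x} : Set G)).index
    · rw [if_neg, mul_assoc]
      · exact (Nat.mul_le_mul_left 2 (h4 hd)).trans (Nat.le_add_left _ _)
      · intro h
        rw [ConjClasses.mk_eq_mk_iff_isConj, isConj_one_left] at h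
        rw [h, index_eq_one.2 (eq_top_iff.2 fun g _ => mem_centralizer_singleton_iff.2 (by simp))]
          at hd
        exact hq.out.not_dvd_one hd
    refine le_trans ?_ (Nat.le_add_right _ _)
    obtain ⟨g, hg⟩ := exists_conj_mem_centralizer (sylIn_top Q) hd
    have h5 := kp_centralizer_conj {q} g x
    have hxy : IsConj x (g * x * g⁻¹) := isConj_iff.2 ⟨g, rfl⟩
    set y := g * x * g⁻¹ with hy
    have hmem : ∀ (z : G) (hz : z ∈ C), IsConj x z → ConjClasses.mk (⟨z, hz⟩ : C) ∈
        Finset.univ.filter fun d : ConjClasses C =>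
          ConjClasses.map C.subtype d = ConjClasses.mk x := fun z hz h =>
      Finset.mem_filter.2 ⟨Finset.mem_univ _, (ConjClasses.mk_eq_mk_iff_isConj.2 h).symm⟩
    rw [mul_comm 2, mul_assoc, mul_assoc]
    refine Nat.mul_le_mul_left _ ?_
    by_cases hW : ∀ w ∈ normalizer ((Q : Subgroup G) : Set G), ∃ c ∈ C,
        c * y * c⁻¹ = w * y * w⁻¹
    · have h6 : 1 ≤ m (ConjClasses.mk x) := Finset.card_pos.2 ⟨_, hmem y hg hxy⟩
      have hQy : (Q : Subgroup G) ≤ centralizer ({y} : Set G) :=
        fun z hz => mem_centralizer_singleton_iff.2 (hg z hz)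
      have h7 := two_mul_kq_le (Q.subtype hQy)
        (H := (normalizer ((Q : Subgroup G) : Set G)).subgroupOf (centralizer ({y} : Set G))) (by
          intro w hw
          rw [mem_normalizer_iff]
          intro z
          exact mem_normalizer_iff.1 (mem_subgroupOf.1 hw) z)
      rw [← kq_singleton hq.out, (eq_bot_iff.2 ?_ : (_ ⊓ _ : Subgroup _) = ⊥), card_bot,
        Sylow.coe_subtype, Nat.card_congr (subgroupOfEquivOfLe hQy).toEquiv] at h7
      · exact ((Nat.mul_le_mul_left 2 h5).trans h7).trans (Nat.le_mul_of_pos_right _ h6)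
      · intro z hz
        refine mem_bot.2 (Subtype.ext (mem_bot.1 (hQ ▸ mem_inf.2 ⟨hz.1, fun w hw => ?_⟩)))
        obtain ⟨c, hc, h8⟩ := hW w hw
        have h9 : c⁻¹ * w ∈ centralizer ({y} : Set G) := by
          rw [mem_centralizer_singleton_iff]
          calc c⁻¹ * w * y = c⁻¹ * (w * y * w⁻¹) * w := by group
            _ = _ := by rw [← h8]; group
        have h10 : c⁻¹ * w * z = z * (c⁻¹ * w) := congrArg Subtype.val (hz.2 ⟨_, h9⟩
          (mem_subgroupOf.2 (mul_mem (inv_mem (centralizer_le_normalizer _ hc)) hw)))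
        have h11 : (z : G) * c = c * z := hc z hz.1
        calc w * z = c * (c⁻¹ * w * z) := by group
          _ = c * z * (c⁻¹ * w) := by rw [h10]; group
          _ = _ := by rw [← h11]; group
    · push Not at hW
      obtain ⟨w, hw, hW⟩ := hW
      have hwy : w * y * w⁻¹ ∈ C :=
        conj_mem_of_normalizes (normalizer_le_normalizer_centralizer _) hw hg
      have h6 : 2 ≤ m (ConjClasses.mk x) := Finset.one_lt_card.2
        ⟨_, hmem y hg hxy, _, hmem _ hwy (hxy.trans (isConj_iff.2 ⟨w, rfl⟩)), fun h => by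
          obtain ⟨c, hc⟩ := isConj_iff.1 (ConjClasses.mk_eq_mk_iff_isConj.1 h)
          exact hW c c.2 (congrArg Subtype.val hc)⟩
      rw [mul_comm]
      exact Nat.mul_le_mul (h3.trans (Nat.le_succ _)) h6
  have h2 : ∑ c : ConjClasses G, (if ∀ x ∈ c.carrier, IsPiNum μ (orderOf x) then m c else 0) ≤
      kp μ C := by
    rw [← Finset.sum_filter, kp, kq_eq_sum, Finset.sum_boole, Nat.cast_id,
      ← Finset.card_biUnion]
    · refine Finset.card_le_card fun d hd => ?_
      simp only [Finset.mem_biUnion, Finset.mem_filter, Finset.mem_univ, true_and] at hd ⊢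
      obtain ⟨c, hc, rfl⟩ := hd
      intro z hz
      rw [← orderOf_coe]
      refine hc z ?_
      rw [ConjClasses.mem_carrier_iff_mk_eq] at hz ⊢
      rw [← hz]
      rfl
    · intro c _ d _ hcd
      exact Finset.disjoint_filter.2 fun e _ h1 h2 => hcd (h1.symm.trans h2)
  have h3 : ∑ c : ConjClasses G, (if ∀ x ∈ c.carrier, IsPiNum μ (orderOf x) then
      (if c = ConjClasses.mk 1 then 0 else 2 * Nat.card Q) else 0) + 2 * Nat.card Q ≤
      2 * Nat.card Q * kp μ G := by
    rw [kp, kq_eq_sum, Finset.mul_sum]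
    have h4 : 2 * Nat.card Q =
        ∑ c : ConjClasses G, if c = ConjClasses.mk 1 then 2 * Nat.card Q else 0 := by simp
    nth_rw 2 [h4]
    rw [← Finset.sum_add_distrib]
    refine Finset.sum_le_sum fun c _ => ?_
    split_ifs with h5 h6 h6
    · simp
    · simp
    · exfalso
      refine h5 fun x hx => ?_
      rw [h6, mem_carrier_mk_iff, isConj_one_right] at hx
      rw [hx, orderOf_one]
      exact IsPiNum.one _
    · simp
  have h4 : ∀ c : ConjClasses G, (if ∀ x ∈ c.carrier, IsPiNum μ (orderOf x) then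
      q * (Nat.card Q + 1) * m c + (if c = ConjClasses.mk 1 then 0 else 2 * Nat.card Q) else 0) =
      q * (Nat.card Q + 1) * (if ∀ x ∈ c.carrier, IsPiNum μ (orderOf x) then m c else 0) +
      (if ∀ x ∈ c.carrier, IsPiNum μ (orderOf x) then
        (if c = ConjClasses.mk 1 then 0 else 2 * Nat.card Q) else 0) := fun c => by
    split_ifs <;> simp
  simp_rw [h4] at h1
  rw [Finset.sum_add_distrib, ← Finset.mul_sum] at h1
  have h5 := Nat.mul_le_mul_left (q * (Nat.card Q + 1)) h2
  omega

theorem case_perfect {π : Finset ℕ} (hπ : ∀ r ∈ π, r.Prime) {s q : ℕ} [hq : Fact q.Prime]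
    (hsπ : s ∈ π) (hqπ : q ∈ π) (hsq : s < q) (hmin : ∀ r ∈ π, s ≤ r) (hmax : ∀ r ∈ π, r ≤ q)
    (hd : ∀ r ∈ π, r ∣ Nat.card G) (hno : ∀ r ∈ π, pResidual r G = ⊤)
    (h : part π (Nat.card G) < s * kp π G) (Q : Sylow q G) :
    part (π.erase q) (Nat.card G) <
      s * kp (π.erase q : Finset ℕ) (centralizer ((Q : Subgroup G) : Set G)) := by
  classical
  have hs := Fact.mk (hπ s hsπ)
  let S : Sylow s G := default
  have hsub : ∀ σ ⊆ π, part σ (Nat.card G) < s * kp σ G := fun σ hσ => by
    have := lt_kq_of_subset (c := 1) (d := s) hπ hσ (by rwa [one_mul])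
    rwa [one_mul] at this
  have hQ : IsMulCommutative (Q : Subgroup G) := comm_of_lt' hsq Q (by
    have := hsub {q} (Finset.singleton_subset_iff.2 hqπ)
    rwa [part, Finset.prod_singleton, Finset.coe_singleton, ← Sylow.card_eq_multiplicity Q]
      at this)
  have hQq : q ≤ Nat.card Q := Nat.le_of_dvd Nat.card_pos (Q.dvd_card_of_dvd_card (hd q hqπ))
  have hSs : s ≤ Nat.card S := Nat.le_of_dvd Nat.card_pos (S.dvd_card_of_dvd_card (hd s hsπ))
  have hS : IsMulCommutative (S : Subgroup G) :=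
    comm_min hsq S Q hQq (two_mul_kp_le Q hQ (hno q hqπ)) (by
      have := hsub {s, q} (Finset.insert_subset hsπ (Finset.singleton_subset_iff.2 hqπ))
      rwa [part, Finset.prod_pair hsq.ne, Finset.coe_pair, ← Sylow.card_eq_multiplicity Q,
        ← Sylow.card_eq_multiplicity S] at this)
  have h1 := two_mul_kp_le S hS (hno s hsπ)
  set μ := π.erase q with hμ
  have hsμ : s ∈ μ := Finset.mem_erase.2 ⟨hsq.ne, hsπ⟩
  have h2 := count_main (μ := μ) (Finset.notMem_erase q π) Q
    (inf_centralizer_eq_bot Q hQ (hno q hqπ))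
  rw [← Finset.coe_insert, Finset.insert_erase hqπ] at h2
  have h3 := kq_le_part_mul (G := G) μ {s} fun r hr => hπ r (Finset.mem_of_mem_erase hr)
  rw [Finset.sdiff_singleton_eq_erase, Finset.coe_singleton] at h3
  change _ ≤ part (μ.erase s) (Nat.card G) * kp {s} G at h3
  have h4 := part_erase hsμ (Nat.card G)
  rw [← Sylow.card_eq_multiplicity S] at h4
  rw [part_erase hqπ, ← Sylow.card_eq_multiplicity Q, ← hμ] at h
  have h5 : s + 2 ≤ q ∨ part (μ.erase s) (Nat.card G) = 1 := by
    by_cases h6 : s + 2 ≤ q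
    · exact Or.inl h6
    · refine Or.inr ?_
      rw [Finset.eq_empty_of_forall_notMem (s := μ.erase s) fun r hr => ?_]
      · rfl
      · simp only [hμ, Finset.mem_erase] at hr
        have := hmin r hr.2.2
        have := hmax r hr.2.2
        omega
  by_contra hcon
  push Not at hcon
  set a := part (μ.erase s) (Nat.card G)
  set kC := kp μ (centralizer ((Q : Subgroup G) : Set G))
  set kμ := kp μ G
  have h6 : 2 * kμ ≤ a * (Nat.card S + 1) := by nlinarith
  have h7 : s * (a * (Nat.card S + 1)) + a * Nat.card S ≤ q * (a * Nat.card S) + 2 * s := by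
    rcases h5 with h5 | h5
    · have := Nat.mul_le_mul_left a hSs
      have := Nat.mul_le_mul_right (a * Nat.card S) h5
      nlinarith
    · have := Nat.mul_le_mul_right (Nat.card S) (Nat.succ_le_of_lt hsq)
      rw [h5]
      nlinarith
  rw [h4] at h hcon
  set b := a * Nat.card S
  have h8 := Nat.mul_le_mul_left s h2
  have h9 := Nat.mul_lt_mul_of_pos_left h (show 0 < 2 * q by have := hq.out.pos; omega)
  have h10 := Nat.mul_le_mul_left (q * (Nat.card Q + 1)) hcon
  have h11 := Nat.mul_le_mul_left (s * Nat.card Q) h6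
  have h12 := Nat.mul_le_mul_left (Nat.card Q) h7
  have h13 := Nat.mul_le_mul_left b hQq
  nlinarith

end

theorem exists_nilpotent (π : Finset ℕ) : (∀ r ∈ π, r.Prime) →
    ∀ (G : Type u) [Group G] [Finite G] (p : ℕ), (∀ r ∈ π, p ≤ r) →
      part π (Nat.card G) < p * kp π G →
      ∃ K : Subgroup G, Group.IsNilpotent K ∧ Nat.card K = part π (Nat.card G) := by
  classical
  induction π using Finset.strongInduction with | H π ihπ => ?_
  intro hπ G _ _
  induction hn : Nat.card G using Nat.strong_induction_on generalizing G with | h n ih => ?_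
  subst hn
  intro p hp h
  by_cases hd : ∃ r ∈ π, ¬ r ∣ Nat.card G
  · obtain ⟨r, hr, hd⟩ := hd
    have h1 := lt_kq_of_subset (c := 1) (d := p) hπ (Finset.erase_subset r π) (by rwa [one_mul])
    rw [one_mul] at h1
    obtain ⟨K, h2, h3⟩ := ihπ _ (Finset.erase_ssubset hr)
      (fun s hs => hπ s (Finset.mem_of_mem_erase hs)) G p
      (fun s hs => hp s (Finset.mem_of_mem_erase hs)) h1
    refine ⟨K, h2, ?_⟩
    rw [h3, part_erase hr, Nat.factorization_eq_zero_of_not_dvd hd, pow_zero, mul_one]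
  push Not at hd
  by_cases hno : ∃ r ∈ π, pResidual r G ≠ ⊤
  · obtain ⟨r, hr, hno⟩ := hno
    have := Fact.mk (hπ r hr)
    obtain ⟨N, hNn, -, hN⟩ := CL.Tr.exists_normal_index_prime_of_pResidual_ne_top hno
    have h1 : part π r = r := part_of_isPiNum (hπ r hr).ne_zero
      (by simpa using isPiNum_of_mem (π := π) (hπ r hr) hr 1)
    have h2 : part π (Nat.card G) = part π (Nat.card N) * r := by
      rw [← N.card_mul_index, part_mul Nat.card_pos.ne' index_ne_zero_of_finite, hN, h1]
    have h3 : kp π G ≤ kp π N * r := by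
      refine (kq_le_mul_quotient π N).trans (Nat.mul_le_mul_left _ ?_)
      have := kq_le_part π hπ (G ⧸ N)
      change _ ≤ part π N.index at this
      rwa [hN, h1] at this
    obtain ⟨K, h4, h5⟩ := ih (Nat.card N) (by
      rw [← N.card_mul_index, hN]
      exact lt_mul_of_one_lt_right Nat.card_pos (hπ r hr).one_lt) N rfl p hp (by
      have := h.trans_le (Nat.mul_le_mul_left p h3)
      rw [h2, ← mul_assoc] at this
      exact Nat.lt_of_mul_lt_mul_right this)
    exact case_normal hπ hr N hN (isPiHallOf_map_subtype_iff.2 ((isPiHall_iff_part hπ).2 h5))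
      (Group.nilpotent_of_mulEquiv (K.equivMapOfInjective _ N.subtype_injective))
      (h.trans_le (Nat.mul_le_mul_right _ (hp r hr)))
  push Not at hno
  rcases π.eq_empty_or_nonempty with rfl | hne
  · exact ⟨⊥, inferInstance, card_bot⟩
  set q := π.max' hne
  set s := π.min' hne
  have hqπ : q ∈ π := π.max'_mem hne
  have hsπ : s ∈ π := π.min'_mem hne
  have hq := Fact.mk (hπ q hqπ)
  let Q : Sylow q G := default
  have hQ := Sylow.card_eq_multiplicity Q
  have hμ : ∀ r ∈ π.erase q, r.Prime := fun s hs => hπ s (Finset.mem_of_mem_erase hs)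
  by_cases hsq : s = q
  · refine ⟨Q, Q.isPGroup'.isNilpotent, ?_⟩
    rw [part_erase hqπ, Finset.eq_empty_of_forall_notMem (s := π.erase q) fun r hr => ?_, hQ]
    · exact (one_mul _).symm
    · rw [Finset.mem_erase] at hr
      exact hr.1 (le_antisymm (π.le_max' r hr.2) (hsq ▸ π.min'_le r hr.2))
  have hsq' : s < q := lt_of_le_of_ne (π.min'_le q hqπ) hsq
  have h1 := case_perfect hπ hsπ hqπ hsq' (fun r hr => π.min'_le r hr) (fun r hr => π.le_max' r hr)
    hd hno (h.trans_le (Nat.mul_le_mul_right _ (hp s hsπ))) Q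
  set C := centralizer ((Q : Subgroup G) : Set G)
  obtain ⟨m, hm⟩ := part_dvd_part (π := π.erase q) Nat.card_pos.ne' (card_subgroup_dvd_card C)
  have h2 := kq_le_part _ hμ C
  change _ ≤ part _ _ at h2
  have hm1 : m = 1 := by
    by_contra hm1
    have h3 := le_of_dvd (p := s) (fun r hr hd => π.min'_le r
      (Finset.mem_of_mem_erase (isPiNum_part hμ (Nat.card G) r hr hd))) (Dvd.intro_left _ hm.symm)
      (fun h0 => (part_pos hμ _).ne' (by rw [hm, h0, mul_zero])) hm1
    have := Nat.mul_le_mul h3 h2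
    rw [hm, mul_comm] at h1
    exact absurd h1 (not_lt.2 this)
  rw [hm1, mul_one] at hm
  obtain ⟨K, h3, h4⟩ := ihπ _ (Finset.erase_ssubset hqπ) hμ C s
    (fun r hr => π.min'_le r (Finset.mem_of_mem_erase hr)) (hm ▸ h1)
  have h5 : Nat.card (K.map C.subtype) = part (π.erase q) (Nat.card G) := by
    rw [card_map_of_injective C.subtype_injective, h4, hm]
  obtain ⟨h6, h7⟩ := nil_sup (A := K.map C.subtype) (B := Q)
    (Group.nilpotent_of_mulEquiv (K.equivMapOfInjective _ C.subtype_injective))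
    Q.isPGroup'.isNilpotent (map_subtype_le K) (coprime_card_of_isPGroup Q.isPGroup' (by
      rw [h5]
      exact (hq.out.coprime_iff_not_dvd.2 fun h =>
        Finset.notMem_erase q π (isPiNum_part hμ _ q hq.out h)).symm))
  exact ⟨_, h6, by rw [h7, h5, hQ, ← part_erase hqπ]⟩

theorem exists_hall {G : Type*} [Group G] [Finite G] (π : Set ℕ) (p : ℕ)
    (hmin : ∀ q ∈ π, p ≤ q) (m : ℕ) (hm : m ∣ Nat.card G)
    (hmπ : ∀ q : ℕ, q.Prime → q ∣ m → q ∈ π) (hm' : ∀ q ∈ π, ¬ q ∣ Nat.card G / m)
    (h : m < p * kp π G) : ∃ H : Subgroup G, Nat.card H = m ∧ Group.IsNilpotent H ∧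
      kp π G ≤ Nat.card (ConjClasses H) := by
  have hG : Nat.card G ≠ 0 := Nat.card_pos.ne'
  obtain ⟨k, hk⟩ := hm
  have hm0 : m ≠ 0 := fun h => hG (by rw [hk, h, zero_mul])
  have hk0 : k ≠ 0 := fun h => hG (by rw [hk, h, mul_zero])
  rw [hk, Nat.mul_div_cancel_left _ (Nat.pos_of_ne_zero hm0)] at hm'
  have hpr : ∀ r ∈ m.primeFactors, r.Prime := fun r hr => Nat.prime_of_mem_primeFactors hr
  have h1 : kp π G = kp m.primeFactors G := kq_congr fun x => by
    rw [isPiNum_primeFactors_iff hm0]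
    refine ⟨fun h r hr hd => ?_, fun h r hr hd => hmπ r hr (h r hr hd)⟩
    exact ((Nat.Prime.dvd_mul hr).1 (hk ▸ hd.trans (orderOf_dvd_natCard x))).resolve_right
      (hm' r (h r hr hd))
  have h2 : part m.primeFactors (Nat.card G) = m := by
    rw [hk, part_mul hm0 hk0, part_of_isPiNum hm0 ((isPiNum_primeFactors_iff hm0).2
      fun _ _ h => h), part_of_compl hpr fun r hr hd h =>
      hm' r (hmπ r hr (Nat.dvd_of_mem_primeFactors h)) hd, mul_one]
  obtain ⟨H, h3, h4⟩ := exists_nilpotent m.primeFactors hpr G p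
    (fun r hr => hmin r (hmπ r (hpr r hr) (Nat.dvd_of_mem_primeFactors hr))) (by rwa [h2, ← h1])
  exact ⟨H, h4.trans h2, h3, h1 ▸ kp_le_card_conjClasses
    (exists_isConj_mem_hall ((isPiHall_iff_part hpr).2 h4) h3)⟩

end CL.PiNil
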