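import Mathlib
import Cfsg.Agent.PERM.JordanCycle
import Cfsg.Agent.PERM.Deg11
import Cfsg.Agent.PERM.SymIndex
import Cfsg.Agent.PERM.TwoTrans
import Cfsg.Agent.S0678
import Cfsg.Agent.SOLV.HallConverse
import Cfsg.Agent.SOLV.MinNormal

/-!
# Permutation groups containing long cycles of prime length
-/

set_option autoImplicit false

namespace CL.FGS.PCycle

open MulAction CL.MSS Equiv Equiv.Perm SubMulAction

section general
variable {G : Type*} [Group G] [Finite G]

theorem index_centralizer_dvd {p : ℕ} (hp : p.Prime) {x : G} (hx : orderOf x = p) :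
    ((Subgroup.centralizer (Subgroup.zpowers x : Set G)).subgroupOf
      (Subgroup.normalizer (Subgroup.zpowers x : Set G))).index ∣ p - 1 := by
  rw [← Subgroup.normalizerMonoidHom_ker, Subgroup.index_ker, ← Nat.totient_prime hp, ← hx,
    ← Nat.card_zpowers, ← IsCyclic.card_mulAut]
  exact Subgroup.card_subgroup_dvd_card _

omit [Finite G] in
theorem sylIn_zpowers {p : ℕ} [hp : Fact p.Prime] {x : G} (hx : orderOf x = p)
    (h : ¬ p ^ 2 ∣ Nat.card G) {H : Subgroup G} (hxH : x ∈ H) :
    SylIn p (Subgroup.zpowers x) H := by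
  refine sylIn_of_not_dvd_relIndex (IsPGroup.of_card (n := 1) (by rw [Nat.card_zpowers, hx, pow_one]))
    (Subgroup.zpowers_le.2 hxH) fun hd => h ?_
  have h1 := (Subgroup.zpowers x).card_mul_index
  rw [Nat.card_zpowers, hx] at h1
  rw [← h1, pow_two]
  exact Nat.mul_dvd_mul_left p (hd.trans (Subgroup.relIndex_dvd_index_of_le
    (Subgroup.zpowers_le.2 hxH)))

/-- with a Sylow `p`-subgroup central in its normaliser, an element of order `p` normalises a
non-trivial `r`-subgroup -/
theorem exists_normalized {p r : ℕ} [hp : Fact p.Prime] [hr : Fact r.Prime] (hpr : p ≠ r)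
    (P : Sylow p G) (hP : Subgroup.normalizer (P : Set G) ≤ Subgroup.centralizer (P : Set G))
    (h1 : p ∣ Nat.card G) (h2 : r ∣ Nat.card G) :
    ∃ (R : Subgroup G) (y : G), IsPGroup r R ∧ R ≠ ⊥ ∧ orderOf y = p ∧
      y ∈ Subgroup.normalizer (R : Set G) := by
  have hc := MonoidHom.ker_transferSylow_isComplement' P hP
  set L := (MonoidHom.transferSylow P hP).ker
  have hL : ¬ p ∣ Nat.card L := by
    rw [← hc.index_eq_card]
    exact P.not_dvd_index
  have hrL : r ∣ Nat.card L := by
    rw [← hc.card_mul_card] at h2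
    refine ((Nat.Prime.dvd_mul hr.out).1 h2).resolve_right fun h => ?_
    obtain ⟨k, hk⟩ := IsPGroup.iff_card.1 P.isPGroup'
    rw [hk] at h
    exact hpr ((Nat.prime_dvd_prime_iff_eq hr.out hp.out).1 (hr.out.dvd_of_dvd_pow h)).symm
  obtain ⟨R⟩ : Nonempty (Sylow r L) := inferInstance
  have hF := R.normalizer_sup_eq_top
  have h3 := CL.card_sup_dvd_mul
    (Subgroup.normalizer (((R : Subgroup L).map L.subtype : Subgroup G) : Set G)) L
  rw [hF, Subgroup.card_top] at h3
  obtain ⟨y, hy⟩ := exists_prime_orderOf_dvd_card' p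
    (((Nat.Prime.dvd_mul hp.out).1 (h1.trans h3)).resolve_right hL)
  refine ⟨_, y, R.isPGroup'.map _, fun h => ?_, by rw [Subgroup.orderOf_coe, hy], y.2⟩
  rw [Subgroup.map_eq_bot_iff_of_injective _ L.subtype_injective] at h
  exact R.ne_bot_of_dvd_card hrL h

variable {α : Type*} [MulAction G α]

omit [Finite G] in
theorem period_eq_ncard [Finite α] (g : G) (z : α) :
    period g z = (orbit (Subgroup.zpowers g) z).ncard := by
  have : Fintype (orbit (Subgroup.zpowers g) z) := Fintype.ofFinite _
  rw [period_eq_minimalPeriod, minimalPeriod_eq_card, ← Nat.card_eq_fintype_card,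
    Nat.card_coe_set_eq]

omit [Finite G] in
theorem fix_of_pow_fix {w : G} {s k : ℕ} (hw : w ^ s = 1) (hk : k.Coprime s) {z : α}
    (h : w ^ k • z = z) : w • z = z :=
  period_eq_one_iff.1 (Nat.eq_one_of_dvd_coprimes hk (pow_smul_eq_iff_period_dvd.1 h)
    (pow_smul_eq_iff_period_dvd.1 (by rw [hw, one_smul])))

omit [Finite G] in
theorem fix_or_fix [Finite α] {u w : G} {r s : ℕ} (hr : r.Prime) (hs : s.Prime) (hrs : r ≠ s)
    (hu : u ^ r = 1) (hw : w ^ s = 1) (hc : Commute u w) (h : Nat.card α < r * s) (z : α) :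
    u • z = z ∨ w • z = z := by
  have hco : r.Coprime s := (Nat.coprime_primes hr hs).2 hrs
  have h1 : period (u * w) z ∣ r * s := pow_smul_eq_iff_period_dvd.1 (by
    rw [hc.mul_pow, pow_mul, hu, one_pow, mul_comm r, pow_mul, hw, one_pow, one_mul, one_smul])
  have h2 : period (u * w) z < r * s := by
    rw [period_eq_ncard]
    exact (Set.ncard_le_card _).trans_lt h
  obtain ⟨a, b, ha, hb, hab⟩ := (Nat.dvd_mul).1 h1
  rcases (Nat.dvd_prime hr).1 ha with rfl | rfl
  · have : (u * w) ^ s • z = z := pow_smul_eq_iff_period_dvd.2 (by rw [← hab, one_mul]; exact hb)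
    rw [hc.mul_pow, hw, mul_one] at this
    exact Or.inl (fix_of_pow_fix hu hco.symm this)
  rcases (Nat.dvd_prime hs).1 hb with rfl | rfl
  · have : (u * w) ^ a • z = z := pow_smul_eq_iff_period_dvd.2 (by rw [← hab, mul_one])
    rw [hc.mul_pow, hu, one_mul] at this
    exact Or.inr (fix_of_pow_fix hw hco this)
  · omega

end general

variable {α : Type*} [Fintype α] [DecidableEq α]

theorem prim_fix {G : Subgroup (Perm α)} {g : Perm α} (hp : g.support.card.Prime)
    (hgc : g.IsCycle) (hg : g ∈ G) :
    IsPreprimitive (fixingSubgroup G (g.support : Set α)ᶜ)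
      (ofFixingSubgroup G (g.support : Set α)ᶜ) := by
  have hcard : Nat.card (ofFixingSubgroup G (g.support : Set α)ᶜ) = g.support.card := by
    rw [← Set.ncard_coe_finset]
    exact congrArg Set.ncard (compl_compl (g.support : Set α))
  have := isPretransitive_of_isCycle_mem hgc hg
  exact IsPreprimitive.of_prime_card (hcard ▸ hp)

theorem isPreprimitive_of_cycle {G : Subgroup (Perm α)} [IsPretransitive G α] {g : Perm α}
    (hp : g.support.card.Prime) (hgc : g.IsCycle) (hg : g ∈ G)
    (h : Fintype.card α < 2 * g.support.card) : IsPreprimitive G α := by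
  have := prim_fix hp hgc hg
  refine IsPreprimitive.of_card_lt
    (f := ofFixingSubgroup_equivariantMap G (g.support : Set α)ᶜ) ?_
  have : Set.range (ofFixingSubgroup_equivariantMap G (g.support : Set α)ᶜ) = g.support := by
    ext x
    constructor
    · rintro ⟨y, rfl⟩
      have := y.2
      rw [mem_ofFixingSubgroup_iff, Set.notMem_compl_iff] at this
      exact this
    · intro hx
      exact ⟨⟨x, by simpa [mem_ofFixingSubgroup_iff] using hx⟩, rfl⟩
  rwa [this, Set.ncard_coe_finset, Nat.card_eq_fintype_card]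

theorem multTrans_of_cycle {G : Subgroup (Perm α)} (hG : IsPreprimitive G α) {g : Perm α}
    (hp : g.support.card.Prime) (hgc : g.IsCycle) (hg : g ∈ G) {k : ℕ}
    (hk : Fintype.card α = g.support.card + (k + 1)) : IsMultiplyPretransitive G α (k + 2) := by
  have hΔ : ((g.support : Set α)ᶜ).ncard = k + 1 := by
    have := Set.ncard_add_ncard_compl (g.support : Set α)
    rw [Set.ncard_coe_finset, Nat.card_eq_fintype_card] at this
    omega
  have hp2 := hp.two_le
  have := hG.isMultiplyPreprimitive hΔ (by rw [Nat.card_eq_fintype_card]; omega)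
    (prim_fix hp hgc hg)
  infer_instance

theorem mem_zpowers_of_commute {G : Subgroup (Perm α)}
    (hsm : ∀ h ∈ G, h.support.card ≤ 3 → h = 1) {x c : G} (hx : (x : Perm α).IsCycle)
    (hcard : Fintype.card α ≤ (x : Perm α).support.card + 3) (hc : Commute c x) :
    c ∈ Subgroup.zpowers x := by
  obtain ⟨z, hz, -⟩ := id hx
  have hc' : Commute (c : Perm α) x := congrArg Subtype.val hc.eq
  have hcz : (x : Perm α) ((c : Perm α) z) ≠ (c : Perm α) z := by
    rw [← Perm.mul_apply, ← hc'.eq, Perm.mul_apply]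
    exact fun e => hz ((c : Perm α).injective e)
  obtain ⟨i, hi⟩ := hx.exists_zpow_eq hz hcz
  have : (((x ^ i)⁻¹ * c : G) : Perm α) = 1 := by
    refine hsm _ ((x ^ i)⁻¹ * c).2 ?_
    have : (((x ^ i)⁻¹ * c : G) : Perm α).support ⊆ (x : Perm α).supportᶜ := by
      intro w hw
      rw [Finset.mem_compl, mem_support]
      intro hxw
      obtain ⟨j, rfl⟩ := hx.exists_zpow_eq hz hxw
      apply mem_support.1 hw
      have h1 : Commute (((x : Perm α) ^ i)⁻¹ * c) ((x : Perm α) ^ j) :=
        ((Commute.zpow_zpow_self _ i j).inv_left).mul_left (hc'.zpow_right j)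
      change (((x : Perm α) ^ i)⁻¹ * c) _ = _
      rw [← Perm.mul_apply, h1.eq, Perm.mul_apply, Perm.mul_apply, ← hi, Perm.inv_def,
        Equiv.symm_apply_apply]
    have := Finset.card_le_card this
    rw [Finset.card_compl] at this
    omega
  exact ⟨i, (inv_mul_eq_one.1 (Subtype.ext this))⟩

theorem isCycle_of_orderOf {g : Perm α} {p : ℕ} (hp : p.Prime) (hg : orderOf g = p)
    (h : g.support.card < 2 * p) : g.IsCycle ∧ g.support.card = p := by
  have h1 := isCycle_of_prime_order (hg ▸ hp) (hg ▸ h)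
  exact ⟨h1, by rw [← h1.orderOf, hg]⟩

theorem deg_seven (hα : Fintype.card α = 7) {G : Subgroup (Perm α)} (hG : IsPreprimitive G α)
    {x : Perm α} (hxG : x ∈ G) (hx : orderOf x = 5) : alternatingGroup α ≤ G := by
  by_contra hA
  have h7 := Finset.card_le_univ x.support
  obtain ⟨hc, hs⟩ := isCycle_of_orderOf Nat.prime_five hx (by omega)
  have h5 : 5 ∣ Nat.card G := by
    rw [← hx, ← Subgroup.orderOf_mk x hxG]; exact orderOf_dvd_natCard _
  by_cases hsol : Group.IsSolvable G
  · have : Nontrivial G := Finite.one_lt_card_iff_nontrivial.1 (by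
      have := Nat.le_of_dvd Nat.card_pos h5; omega)
    obtain ⟨N, p, hN, -, hE, -⟩ := CL.exists_isMinNormal_isElementaryAbelian G
    have := hN.normal
    have h3 := multTrans_of_cycle hG (hs ▸ Nat.prime_five) hc hxG (k := 1) (by omega)
    rcases CL.Perm.jordan_normal (by norm_num) (by rw [Nat.card_eq_fintype_card]; omega) h3 N
      hN.ne_bot with h | ⟨-, -, -, m, hm⟩
    · obtain ⟨a, b, c, -, -, -, hab, hac, hbc⟩ := (Finset.two_lt_card_iff (s := (Finset.univ : Finset α))).1
        (by rw [Finset.card_univ]; omega)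
      obtain ⟨g, hg1, hg2⟩ := CL.Perm.exists_fix_smul_eq_of_isMultiplyPretransitive h
        (by rw [Nat.card_eq_fintype_card]; omega) {a} (by simp) (a := b) (b := c)
        (by simpa using hab.symm) (by simpa using hac.symm)
      have := hE.1
      have h1 : (g : G) = 1 := CL.Perm.eq_one_of_commute_of_transitive N
        (CL.Perm.isPretransitive_of_normal_of_ne_bot hG N hN.ne_bot)
        (fun m hm => setLike_mul_comm (s := N) g.2 hm) (a := a) (hg1 a (by simp))
      apply hbc
      rw [← hg2, Subgroup.smul_def, h1, one_smul]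
    · rw [Nat.card_eq_fintype_card, hα] at hm
      rcases m with _ | m
      · omega
      · rw [pow_succ] at hm; omega
  · have := (Cfsg.Agent.S0678.result hα G hsol hA).1
    omega

theorem deg_thirteen (hα : Fintype.card α = 13) {G : Subgroup (Perm α)} (hG : IsPreprimitive G α)
    {x : Perm α} (hxG : x ∈ G) (hx : orderOf x = 11) : alternatingGroup α ≤ G := by
  by_contra hA
  have hsm : ∀ h ∈ G, h.support.card ≤ 3 → h = 1 := fun h hh h3 => by
    by_contra h1
    exact hA (CL.Perm.alternatingGroup_le_of_card_support_le_three G hG hh h1 h3)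
  have hle : ∀ g : Perm α, g.support.card ≤ 13 := fun g => hα ▸ Finset.card_le_univ g.support
  have hGc := G.index_mul_card
  rw [Nat.card_perm, Nat.card_eq_fintype_card (α := α), hα] at hGc
  have hnc : Nat.card α = 13 := by rw [Nat.card_eq_fintype_card, hα]
  by_cases h5 : 5 ∣ Nat.card G
  · have : Fact (Nat.Prime 5) := ⟨Nat.prime_five⟩
    have hn5 : ∀ g ∈ G, g.IsCycle → g.support.card ≠ 5 := fun g hg hc hs =>
      hA (CL.Perm.alternatingGroup_le_of_prime_cycle G hG Nat.prime_five (by omega) hc hs hg)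
    have h25 : ¬ 5 ^ 2 ∣ Nat.card G := fun h => by
      have := Nat.mul_dvd_mul (CL.PermMod.dvd_index_of_cycle Nat.prime_five (by omega) hn5) h
      rw [hGc] at this
      norm_num [Nat.factorial] at this
    obtain ⟨u, hu⟩ := exists_prime_orderOf_dvd_card' 5 h5
    have hu' : orderOf (u : Perm α) = 5 := by rw [Subgroup.orderOf_coe, hu]
    have hs : (u : Perm α).support.card = 10 := by
      obtain ⟨n, hn⟩ := cycleType_prime_order (hu' ▸ Nat.prime_five)
      have h1 := (u : Perm α).sum_cycleType
      rw [hn, hu', Multiset.sum_replicate, smul_eq_mul] at h1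
      have h2 := hle u
      by_contra h3
      obtain ⟨h4, h6⟩ := isCycle_of_orderOf Nat.prime_five hu' (by omega)
      exact hn5 _ u.2 h4 h6
    have hF : (fixedBy α u).ncard = 3 := by
      have := CL.PermMod.card_fixedBy_add (u : Perm α)
      rw [← CL.PermMod.card_fixedBy_coe, Nat.card_coe_set_eq] at this
      omega
    obtain ⟨a, ha⟩ : (fixedBy α u).Nonempty := Set.nonempty_of_ncard_ne_zero (by omega)
    have hfix : ∀ z, z ∈ fixedPoints (Subgroup.zpowers u) α ↔ z ∈ fixedBy α u := fun z =>
      ⟨fun h => h ⟨u, Subgroup.mem_zpowers _⟩, by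
        rintro h ⟨_, n, rfl⟩
        exact zpow_apply_eq_self_of_apply_eq_self h n⟩
    have h3 := CL.PermMod.ncard_dvd_card_of_trans
      (Subgroup.normalizer (Subgroup.zpowers u : Set G)) (fixedBy α u) (a := a)
      (fun h hh => (hfix _).1
        (CL.Perm.smul_mem_fixedPoints_of_mem_normalizer hh ((hfix _).2 ha))) (fun v hv => by
        obtain ⟨g, hg⟩ := exists_smul_eq G a v
        obtain ⟨k, -, hk1, hk2⟩ := CL.Perm.witt_conj ⊤ (s := {a}) (sylIn_zpowers hu h25
          (show u ∈ ⊤ ⊓ fixingSubgroup G {a} from ⟨trivial, by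
            rw [CL.Perm.fixingSubgroup_singleton']; exact ha⟩)) g
          (by rw [Set.smul_set_singleton, hg]; exact Set.singleton_subset_iff.2 ((hfix _).2 hv))
        exact ⟨_, hk1, by rw [hk2 a rfl, hg]⟩)
    rw [hF, ← ((Subgroup.centralizer (Subgroup.zpowers u : Set G)).subgroupOf
      (Subgroup.normalizer (Subgroup.zpowers u : Set G))).card_mul_index] at h3
    have h4 := index_centralizer_dvd Nat.prime_five hu
    have : Fact (Nat.Prime 3) := ⟨Nat.prime_three⟩
    obtain ⟨w, hw⟩ := exists_prime_orderOf_dvd_card' 3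
      (((Nat.Prime.dvd_mul Nat.prime_three).1 h3).resolve_right fun h => by
        have := h.trans h4; norm_num at this)
    have hwo : orderOf ((w : Subgroup.normalizer (Subgroup.zpowers u : Set G)) : G) = 3 := by
      rw [Subgroup.orderOf_coe, Subgroup.orderOf_coe, hw]
    set w' : G := ((w : Subgroup.normalizer (Subgroup.zpowers u : Set G)) : G)
    have hc : Commute u w' := (Subgroup.mem_subgroupOf.1 w.2) u (Subgroup.mem_zpowers u)
    have h6 : (w' : Perm α).support ⊆ (u : Perm α).supportᶜ := by
      intro z hz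
      rcases fix_or_fix Nat.prime_five Nat.prime_three (by norm_num) (hu ▸ pow_orderOf_eq_one u)
        (hwo ▸ pow_orderOf_eq_one w') hc (by omega) z with h | h
      · rw [Finset.mem_compl, mem_support, not_not]; exact h
      · exact absurd h (mem_support.1 hz)
    have h7 := Finset.card_le_card h6
    rw [Finset.card_compl] at h7
    have h8 : w' = 1 := Subtype.ext (hsm _ w'.2 (by omega))
    rw [h8, orderOf_one] at hwo
    omega
  have : Fact (Nat.Prime 11) := ⟨by norm_num⟩
  have : Fact (Nat.Prime 3) := ⟨Nat.prime_three⟩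
  have hcyc : ∀ g : Perm α, orderOf g = 11 → g.IsCycle ∧ g.support.card = 11 := fun g hg =>
    isCycle_of_orderOf (by norm_num) hg (by have := hle g; omega)
  have h121 : ¬ 11 ^ 2 ∣ Nat.card G := fun h => by
    have := h.trans (Dvd.intro_left _ hGc)
    norm_num [Nat.factorial] at this
  set x' : G := ⟨x, hxG⟩ with hx'
  have hxo : orderOf x' = 11 := by rw [hx', Subgroup.orderOf_mk, hx]
  obtain ⟨a, b, hab, hF⟩ : ∃ a b, a ≠ b ∧ x.supportᶜ = {a, b} :=
    Finset.card_eq_two.1 (by rw [Finset.card_compl, (hcyc x hx).2, hα])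
  have hfix : ∀ z, z ∈ fixedPoints (Subgroup.zpowers x') α ↔ z = a ∨ z = b := fun z => by
    have : x z = z ↔ z = a ∨ z = b := by
      rw [← notMem_support, ← Finset.mem_compl, hF]; simp
    rw [← this]
    exact ⟨fun h => h ⟨x', Subgroup.mem_zpowers _⟩, by
        rintro h ⟨_, n, rfl⟩
        exact zpow_apply_eq_self_of_apply_eq_self h n⟩
  have hxa : x' ∈ stabilizer G a := (hfix a).2 (Or.inl rfl) ⟨x', Subgroup.mem_zpowers _⟩
  have hCa : ∀ c ∈ Subgroup.centralizer (Subgroup.zpowers x' : Set G), c • a = a := fun c hc =>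
    (hfix a).2 (Or.inl rfl) ⟨c, mem_zpowers_of_commute hsm (hcyc x hx).1
      (by rw [(hcyc x hx).2]; omega) (hc x' (Subgroup.mem_zpowers _)).symm⟩
  obtain ⟨t, ht, hta⟩ : ∃ t ∈ Subgroup.normalizer (Subgroup.zpowers x' : Set G), t • a = b := by
    obtain ⟨g, hg⟩ := exists_smul_eq G a b
    obtain ⟨k, -, hk1, hk2⟩ := CL.Perm.witt_conj ⊤ (s := {a}) (sylIn_zpowers hxo h121
      (show x' ∈ ⊤ ⊓ fixingSubgroup G {a} from ⟨trivial, by
        rw [CL.Perm.fixingSubgroup_singleton']; exact hxa⟩)) g
      (by rw [Set.smul_set_singleton, hg]; exact Set.singleton_subset_iff.2 ((hfix _).2 (Or.inr rfl)))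
    exact ⟨_, hk1, by rw [hk2 a rfl, hg]⟩
  have hNC : ∀ n ∈ Subgroup.normalizer (Subgroup.zpowers x' : Set G), n • a = a →
      n ∈ Subgroup.centralizer (Subgroup.zpowers x' : Set G) := by
    intro n hn hna
    by_contra hnC
    have htC : t ∉ Subgroup.centralizer (Subgroup.zpowers x' : Set G) := fun h =>
      hab ((hCa t h).symm.trans hta)
    set C := (Subgroup.centralizer (Subgroup.zpowers x' : Set G)).subgroupOf
      (Subgroup.normalizer (Subgroup.zpowers x' : Set G))
    have h1 : C.index ∣ 2 * 5 := index_centralizer_dvd (by norm_num) hxo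
    have h2 : C.index ∣ 2 := Nat.Coprime.dvd_of_dvd_mul_right
      ((Nat.Prime.coprime_iff_not_dvd Nat.prime_five).2 fun h =>
        h5 (h.trans (C.index_dvd_card.trans (Subgroup.card_subgroup_dvd_card _)))).symm h1
    rcases (Nat.dvd_prime Nat.prime_two).1 h2 with h | h
    · rw [Subgroup.index_eq_one] at h
      have : (⟨t, ht⟩ : Subgroup.normalizer (Subgroup.zpowers x' : Set G)) ∈ C := h ▸ trivial
      exact htC this
    · have : (⟨n, hn⟩ * ⟨t, ht⟩ : Subgroup.normalizer (Subgroup.zpowers x' : Set G)) ∈ C :=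
        (Subgroup.mul_mem_iff_of_index_two h).2 (iff_of_false hnC htC)
      have h3 := hCa (n * t) this
      rw [mul_smul, hta] at h3
      exact hab (smul_left_cancel n (hna.trans h3.symm))
  have hS := sylIn_zpowers hxo h121 hxa
  have hH : 12 ∣ Nat.card (stabilizer G a) := by
    have h3 := multTrans_of_cycle hG ((hcyc x hx).2 ▸ (by norm_num : Nat.Prime 11)) (hcyc x hx).1 hxG
      (k := 1) (by rw [(hcyc x hx).2, hα])
    have h2 := CL.PermMod.mul_dvd_card_of_two_transitive
      (isMultiplyPretransitive_of_le (G := G) (α := α) (n := 1 + 2) (m := 2) (by omega) (by omega))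
      (by omega)
    rw [hα, ← (stabilizer G a).index_mul_card, index_stabilizer_of_transitive, hnc] at h2
    exact Nat.dvd_of_mul_dvd_mul_left (by norm_num) h2
  obtain ⟨R, y, hR, hR1, hy, hyR⟩ := exists_normalized (p := 11) (r := 3) (by norm_num) hS.toSylow
    (by
      intro n hn
      have hn' : (n : G) ∈ Subgroup.normalizer (Subgroup.zpowers x' : Set G) := by
        refine Subgroup.mem_normalizer_fintype fun w hw => ?_
        exact (Subgroup.mem_normalizer_iff.1 hn ⟨w, hS.le hw⟩).1 hw
      intro w hw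
      exact Subtype.ext (hNC n hn' n.2 w hw))
    (by rw [← hxo, ← Subgroup.orderOf_mk x' hxa]; exact orderOf_dvd_natCard _)
    ((by norm_num : 3 ∣ 12).trans hH)
  have hy' : orderOf ((y : G) : Perm α) = 11 := by rw [Subgroup.orderOf_coe, Subgroup.orderOf_coe, hy]
  obtain ⟨j, hj⟩ := IsPGroup.iff_card.1 hR
  set M := Subgroup.zpowers y ⊔ R with hM
  have hMc : Nat.card M ∣ 11 * 3 ^ j := by
    have := CL.card_sup_dvd_mul_of_le_normalizer (Subgroup.zpowers_le.2 hyR)
    rwa [Nat.card_zpowers, hy, hj] at this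
  have : (R.subgroupOf M).Normal := (Subgroup.normal_subgroupOf_iff_le_normalizer le_sup_right).2
    (sup_le (Subgroup.zpowers_le.2 hyR) Subgroup.le_normalizer)
  refine hR1 (eq_bot_iff.2 fun r hr => Subgroup.mem_bot.2 (Subtype.ext (Subtype.ext
    (hsm _ (r : G).2 ?_))))
  have h6 : ((r : G) : Perm α).support ⊆ ((y : G) : Perm α).supportᶜ := by
    intro z hz
    rw [Finset.mem_compl]
    intro hzy
    have h7 : ((((y : G) : Perm α).support : Set α)) ⊆ orbit M z := by
      intro w hw
      obtain ⟨i, hi⟩ := (hcyc _ hy').1.exists_zpow_eq (mem_support.1 hzy) (mem_support.1 hw)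
      exact ⟨⟨y ^ i, Subgroup.mem_sup_left (Subgroup.zpow_mem_zpowers _ _)⟩, hi⟩
    have h8 := Set.ncard_le_ncard h7
    have h9 := Set.ncard_le_card (orbit M z)
    rw [Set.ncard_coe_finset, (hcyc _ hy').2, ← index_stabilizer] at h8
    rw [hnc, ← index_stabilizer] at h9
    have h10 := (stabilizer M z).index_dvd_card.trans hMc
    have h11 : (stabilizer M z).index = 11 := by
      by_contra hne
      rcases (show (stabilizer M z).index = 12 ∨ (stabilizer M z).index = 13 by omega) with h | h
      · rw [h] at h10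
        have := (Nat.Prime.dvd_mul Nat.prime_two).1 ((by norm_num : 2 ∣ 12).trans h10)
        rcases this with h | h
        · norm_num at h
        · have := Nat.prime_two.dvd_of_dvd_pow h; norm_num at this
      · rw [h] at h10
        rcases (Nat.Prime.dvd_mul (by norm_num : Nat.Prime 13)).1 h10 with h | h
        · norm_num at h
        · have := (by norm_num : Nat.Prime 13).dvd_of_dvd_pow h; norm_num at this
    have h12 : R.subgroupOf M ≤ stabilizer M z := CL.normal_le_of_coprime_index (by
      rw [CL.card_subgroupOf_of_le le_sup_right, hj, h11]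
      exact Nat.Coprime.pow_left _ (by norm_num))
    exact mem_support.1 hz (h12 (show (⟨r, Subgroup.mem_sup_right hr⟩ : M) ∈ R.subgroupOf M from hr))
  have h7 := Finset.card_le_card h6
  rw [Finset.card_compl, (hcyc _ hy').2] at h7
  omega

end CL.FGS.PCycle
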