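import Mathlib
import Cfsg.Agent.FGS.TwoSizes
import Cfsg.Agent.FGS.CoprimeCS
import Cfsg.Agent.FGS.ClassSizeReg
import Cfsg.Agent.SOLV.Primitive

/-!
# Groups with class sizes `1, m, m n` (Dolfi-Jabara)
-/

set_option linter.style.haveILetI false
set_option autoImplicit false

namespace CL.CS

open Subgroup Cfsg
open scoped commutatorElement

variable {G : Type*} [Group G] [Finite G]

theorem pow_dvd_relIndex_sylow {p : ℕ} [hp : Fact p.Prime] (S : Sylow p G) {H : Subgroup G}
    {j : ℕ} (h : p ^ j ∣ H.index) : p ^ j ∣ H.relIndex S := by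
  have h1 : H.index ∣ H.relIndex S * (S : Subgroup G).index := by
    rw [← inf_relIndex_right, relIndex_mul_index inf_le_right]
    exact index_dvd_of_le inf_le_left
  exact (Nat.Coprime.pow_left j ((hp.out.coprime_iff_not_dvd).2 S.not_dvd_index)).dvd_of_dvd_mul_right
    (h.trans h1)

theorem exists_relIndex_eq_pow {p : ℕ} [Fact p.Prime] {S : Subgroup G} (hS : IsPGroup p S)
    (H : Subgroup G) : ∃ j, H.relIndex S = p ^ j :=
  hS.index (H.subgroupOf S)

omit [Finite G] in
theorem le_normalizer_cen_of_second {S : Subgroup G} {a : G}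
    (hS : ∀ s ∈ S, ⁅s, a⁆ ∈ center G) : S ≤ normalizer (centralizer ({a} : Set G) : Set G) := by
  intro s hs
  rw [CL.mem_normalizer_iff_conj_smul_eq, ← cen_conj, CL.PG.conj_eq_commutator_mul,
    cen_mul_of_mem_center' a (hS s hs)]

theorem relIndex_dvd_index_of_le_normalizer {S H : Subgroup G}
    (h : S ≤ normalizer (H : Set G)) : H.relIndex S ∣ H.index := by
  have h1 : H.relIndex S = H.relIndex (H ⊔ S) := by
    haveI : (H.subgroupOf (normalizer (H : Set G))).Normal := normal_in_normalizer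
    have h2 := relIndex_sup_left (S.subgroupOf (normalizer (H : Set G)))
      (H.subgroupOf (normalizer (H : Set G)))
    rw [← subgroupOf_sup le_normalizer h, relIndex_subgroupOf (sup_le le_normalizer h),
      relIndex_subgroupOf h] at h2
    exact h2.symm
  rw [h1]
  exact Dvd.intro _ (relIndex_mul_index le_sup_left)

theorem relIndex_dvd_relIndex_of_normal {Z T H : Subgroup G} [Z.Normal] (h : T ≤ H) :
    Z.relIndex T ∣ Z.relIndex H := by
  rw [← relIndex_sup_left T Z, ← relIndex_sup_left H Z]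
  exact Dvd.intro _ (relIndex_mul_relIndex _ _ _ le_sup_left (sup_le_sup_left h Z))

/-- A `p`-element acting on a `p'`-group with only central fixed points. -/
theorem relIndex_center_modEq_one {p : ℕ} [hp : Fact p.Prime] {s : G} {k : ℕ}
    (hs : s ^ p ^ k = 1) {T : Subgroup G} (hT : (Nat.card T).Coprime p)
    (hn : s ∈ normalizer (T : Set G)) (hfix : T ⊓ centralizer {s} ≤ center G) :
    (center G).relIndex T ≡ 1 [MOD p] := by
  have hA : IsPGroup p (zpowers s) := by
    obtain ⟨j, -, hj⟩ := (Nat.dvd_prime_pow hp.out).1 (orderOf_dvd_of_pow_eq_one hs)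
    exact IsPGroup.of_card (n := j) (by rw [Nat.card_zpowers, hj])
  have h1 := CL.Prim.card_modEq_card_inf_centralizer hA (zpowers_le.2 hn)
  rw [cen_zpowers] at h1
  have h2 : T ⊓ centralizer {s} = center G ⊓ T :=
    le_antisymm (le_inf hfix inf_le_left) (le_inf inf_le_right (inf_le_left.trans (center_le_cen s)))
  rw [h2] at h1
  have h3 : (center G).relIndex T * Nat.card ↥(center G ⊓ T) = Nat.card T := by
    rw [← inf_relIndex_right, ← relIndex_bot_left, ← relIndex_bot_left, mul_comm]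
    exact relIndex_mul_relIndex _ _ _ bot_le inf_le_right
  have h4 : (Nat.card ↥(center G ⊓ T)).Coprime p :=
    Nat.Coprime.coprime_dvd_left (card_dvd_of_le inf_le_right) hT
  rw [← h3] at h1
  have h5 : (center G).relIndex T * Nat.card ↥(center G ⊓ T) ≡ 1 * Nat.card ↥(center G ⊓ T)
      [MOD p] := by rwa [one_mul]
  exact Nat.ModEq.cancel_right_of_coprime h4.symm h5

/-- The subgroup generated by the `p'`-elements of `H`. -/
def resid (p : ℕ) (H : Subgroup G) : Subgroup G := (pResidual p H).map H.subtype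

omit [Finite G] in
theorem resid_le (p : ℕ) (H : Subgroup G) : resid p H ≤ H := map_subtype_le _

omit [Finite G] in
theorem mem_resid {p : ℕ} {H : Subgroup G} {g : G} (hg : g ∈ H) (ho : (orderOf g).Coprime p) :
    g ∈ resid p H :=
  ⟨⟨g, hg⟩, CL.mem_pResidual_of_coprime (by rwa [← Subgroup.orderOf_coe]), rfl⟩

theorem card_resid_coprime {p : ℕ} [Fact p.Prime] {H : Subgroup G}
    (h : HasNormalPComplement p H) : (Nat.card (resid p H)).Coprime p := by
  rw [resid, card_map_of_injective H.subtype_injective]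
  exact CL.hasNPC_iff_coprime_card_pResidual.1 h

omit [Finite G] in
theorem normalizer_le_normalizer_resid (p : ℕ) (H : Subgroup G) :
    normalizer (H : Set G) ≤ normalizer (resid p H : Set G) := by
  haveI := CL.pResidual_characteristic p H
  exact CL.normalizer_le_normalizer_map_subtype H _

theorem exists_relIndex_resid {p : ℕ} [Fact p.Prime] (H : Subgroup G) :
    ∃ k, (resid p H).relIndex H = p ^ k := by
  obtain ⟨k, hk⟩ := CL.exists_pResidual_index (p := p) (G := H)
  refine ⟨k, ?_⟩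
  rw [relIndex, resid, ← hk]
  congr 1
  exact comap_map_eq_self_of_injective H.subtype_injective _

omit [Finite G] in
theorem coprime_of_mem_of_card {p : ℕ} {K : Subgroup G} (h : (Nat.card K).Coprime p) {g : G}
    (hg : g ∈ K) : (orderOf g).Coprime p :=
  Nat.Coprime.coprime_dvd_left (K.orderOf_dvd_natCard hg) h

omit [Finite G] in
theorem coprime_orderOf_of_pow {p k : ℕ} {a y : G} (ha : a ^ p ^ k = 1)
    (hy : (orderOf y).Coprime p) : (orderOf a).Coprime (orderOf y) :=
  Nat.Coprime.coprime_dvd_left (orderOf_dvd_of_pow_eq_one ha) (hy.symm.pow_left k)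

omit [Finite G] in
theorem coprime_of_pow_of_ne {p r k : ℕ} (hp : p.Prime) (hr : r.Prime) (hne : r ≠ p) {y : G}
    (hy : y ^ r ^ k = 1) : (orderOf y).Coprime p :=
  Nat.Coprime.coprime_dvd_left (orderOf_dvd_of_pow_eq_one hy)
    (((Nat.coprime_primes hr hp).2 hne).pow_left k)

omit [Finite G] in
theorem exists_sylow_mem {p : ℕ} [hp : Fact p.Prime] {a : G} {k : ℕ} (ha : a ^ p ^ k = 1) :
    ∃ S : Sylow p G, a ∈ (S : Subgroup G) := by
  have hA : IsPGroup p (zpowers a) := by
    obtain ⟨j, -, hj⟩ := (Nat.dvd_prime_pow hp.out).1 (orderOf_dvd_of_pow_eq_one ha)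
    exact IsPGroup.of_card (n := j) (by rw [Nat.card_zpowers, hj])
  obtain ⟨S, hS⟩ := hA.exists_le_sylow
  exact ⟨S, hS (mem_zpowers a)⟩

/-- A prime dividing the order of a non-central element modulo the centre. -/
theorem exists_prime_dvd_relIndex {p : ℕ} {H : Subgroup G} {y : G} (hyH : y ∈ H)
    (hyZ : y ∉ center G) (hy : (orderOf y).Coprime p) (hp : p.Prime) :
    ∃ r, r.Prime ∧ r ≠ p ∧ r ∣ (center G).relIndex H := by
  set o := orderOf ((⟨y, hyH⟩ : H) : H ⧸ (center G).subgroupOf H) with ho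
  have h1 : o ≠ 1 := by
    intro e
    rw [ho, orderOf_eq_one_iff, QuotientGroup.eq_one_iff, mem_subgroupOf] at e
    exact hyZ e
  have h2 : o ∣ orderOf y := by
    rw [ho, ← Subgroup.orderOf_mk y hyH]
    exact orderOf_map_dvd (QuotientGroup.mk' _) _
  have h3 : o ∣ (center G).relIndex H := orderOf_dvd_natCard _
  refine ⟨o.minFac, Nat.minFac_prime h1, ?_, (Nat.minFac_dvd o).trans h3⟩
  intro e
  have : p ∣ orderOf y := e ▸ (Nat.minFac_dvd o).trans h2
  exact (hp.coprime_iff_not_dvd.1 hy.symm) this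

theorem not_dvd_of_forall_pow {p a b r : ℕ} (hp : p.Prime) (ha : a ≠ 0)
    (h : ∀ j, p ^ j ∣ b → p ^ j ∣ a) (hr : r * a ∣ b) : ¬ p ∣ r := by
  intro hd
  apply Nat.pow_succ_factorization_not_dvd ha hp
  apply h
  rw [pow_succ']
  exact (Nat.mul_dvd_mul hd (Nat.ordProj_dvd a p)).trans hr

/-- The class sizes of `G` are exactly `1, m, m n` with `m, n > 1` coprime. -/
structure Three (G : Type*) [Group G] (m n : ℕ) : Prop where
  hm : 1 < m
  hn : 1 < n
  cop : m.Coprime n
  sizes : ∀ x : G, (centralizer ({x} : Set G)).index = 1 ∨ (centralizer ({x} : Set G)).index = m ∨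
    (centralizer ({x} : Set G)).index = m * n
  exm : ∃ x : G, (centralizer ({x} : Set G)).index = m
  exmn : ∃ x : G, (centralizer ({x} : Set G)).index = m * n

namespace Three

variable {m n : ℕ} (h : Three G m n)
include h

omit [Finite G] in
theorem index_eq {x : G} (hx : x ∉ center G) :
    (centralizer ({x} : Set G)).index = m ∨ (centralizer ({x} : Set G)).index = m * n :=
  (h.sizes x).resolve_left fun e => hx (index_cen_eq_one_iff.1 e)

omit [Finite G] in
theorem m_dvd {x : G} (hx : x ∉ center G) : m ∣ (centralizer ({x} : Set G)).index := by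
  rcases h.index_eq hx with e | e <;> rw [e]
  exact dvd_mul_right m n

omit [Finite G] in
theorem dvd_mn (x : G) : (centralizer ({x} : Set G)).index ∣ m * n := by
  rcases h.sizes x with e | e | e <;> rw [e]
  · exact one_dvd _
  · exact dvd_mul_right m n

omit [Finite G] in
theorem coprime_n {p : ℕ} (hpm : p ∣ m) : p.Coprime n := Nat.Coprime.coprime_dvd_left hpm h.cop

omit [Finite G] in
theorem pow_dvd {p : ℕ} (hpm : p ∣ m) {x y : G} (hy : y ∉ center G) (j : ℕ)
    (hj : p ^ j ∣ (centralizer ({x} : Set G)).index) : p ^ j ∣ (centralizer ({y} : Set G)).index :=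
  (((h.coprime_n hpm).pow_left j).dvd_of_dvd_mul_right (hj.trans (h.dvd_mn x))).trans (h.m_dvd hy)

omit [Finite G] in
theorem mn_dvd : m * n ∣ (center G).index := by
  obtain ⟨x, hx⟩ := h.exmn
  exact hx ▸ index_cen_dvd_index_center x

theorem mem_center_of_sylow_le {p : ℕ} [Fact p.Prime] (hpm : p ∣ m) (S : Sylow p G) {x : G}
    (hx : (S : Subgroup G) ≤ centralizer {x}) : x ∈ center G := by
  by_contra hxZ
  exact not_dvd_index_of_sylow_le hx (hpm.trans (h.m_dvd hxZ))

theorem exists_noncentral {p : ℕ} [Fact p.Prime] (hp : p ∣ m * n) :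
    ∃ x : G, x ∉ center G ∧ ∃ k, x ^ p ^ k = 1 := by
  have : p ∣ (center G).relIndex ⊤ := by rw [relIndex_top_right]; exact hp.trans h.mn_dvd
  obtain ⟨x, -, hx⟩ := exists_pElement_not_mem_of_dvd_relIndex this
  exact ⟨x, hx⟩

theorem dvd_relIndex_center {p : ℕ} [hp : Fact p.Prime] (hpm : p ∣ m) {g : G}
    (hg : g ∉ center G) : p ∣ (center G).relIndex (centralizer {g}) := by
  obtain ⟨x, hxZ, k, hk⟩ := h.exists_noncentral (hpm.trans (dvd_mul_right m n))
  have h1 := dvd_relIndex_of_pElement (self_mem_cen x) hxZ hk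
  by_contra hnd
  refine not_dvd_of_forall_pow (b := (center G).index) hp.out (index_cen_pos x).ne' ?_
    (relIndex_center_mul_index x).dvd h1
  intro j hj
  rw [← relIndex_center_mul_index g] at hj
  exact h.pow_dvd hpm hxZ j
    (((hp.out.coprime_iff_not_dvd.2 hnd).pow_left j).dvd_of_dvd_mul_left hj)

theorem exists_pElement {p : ℕ} [hp : Fact p.Prime] (hpm : p ∣ m) {g : G} (hg : g ∉ center G) :
    ∃ b ∈ centralizer ({g} : Set G), b ∉ center G ∧ ∃ k, b ^ p ^ k = 1 :=
  exists_pElement_not_mem_of_dvd_relIndex (h.dvd_relIndex_center hpm hg)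

theorem regular_cen {p : ℕ} [hp : Fact p.Prime] (hpm : p ∣ m) {a : G} {k : ℕ}
    (haZ : a ∉ center G) (ha : a ^ p ^ k = 1) (y : centralizer ({a} : Set G))
    (hy : (orderOf y).Coprime p) :
    ¬ p ∣ (centralizer ({y} : Set (centralizer ({a} : Set G)))).index := by
  rw [index_cen_subgroup]
  rw [← Subgroup.orderOf_coe] at hy
  have h1 := index_cen_mul_of_coprime (mem_cen'.1 y.2) (coprime_orderOf_of_pow ha hy)
  exact not_dvd_of_forall_pow hp.out (index_cen_pos a).ne' (h.pow_dvd hpm haZ) h1.symm.dvd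

theorem commute_of_cen {p : ℕ} [hp : Fact p.Prime] (hpm : p ∣ m) {a : G} {k : ℕ}
    (haZ : a ∉ center G) (ha : a ^ p ^ k = 1) {u y : G} (hu : u ∈ centralizer ({a} : Set G))
    (hy : y ∈ centralizer ({a} : Set G)) {j : ℕ} (huj : u ^ p ^ j = 1)
    (hyo : (orderOf y).Coprime p) : Commute u y := by
  have huj' : (⟨u, hu⟩ : centralizer ({a} : Set G)) ^ p ^ j = 1 := Subtype.ext huj
  obtain ⟨P, hP⟩ := exists_sylow_mem huj'
  haveI := sylow_normal_of_regular (h.regular_cen hpm haZ ha) P
  have h1 := le_cen_of_normal_isPGroup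
    (h.regular_cen hpm haZ ha ⟨y, hy⟩ (by rwa [Subgroup.orderOf_mk])) P.isPGroup' hP
  exact congrArg Subtype.val (mem_cen.1 h1).eq

theorem card_resid {p : ℕ} [hp : Fact p.Prime] (hpm : p ∣ m) {a : G} {k : ℕ}
    (haZ : a ∉ center G) (ha : a ^ p ^ k = 1) :
    (Nat.card (resid p (centralizer ({a} : Set G)))).Coprime p :=
  card_resid_coprime (hasNPC_of_regular (h.regular_cen hpm haZ ha))

theorem mem_cen_of_fix {p : ℕ} [hp : Fact p.Prime] (hpm : p ∣ m) (S : Sylow p G) {a k : G}
    (hS : ∀ s ∈ (S : Subgroup G), ⁅s, a⁆ ∈ center G) (hkZ : k ∉ center G)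
    (hk : (S : Subgroup G) ⊓ centralizer {a} ≤ centralizer {k}) {s : G} (hs : s ∈ (S : Subgroup G))
    (hsk : s ∈ centralizer ({k} : Set G)) : s ∈ centralizer ({a} : Set G) := by
  obtain ⟨j, hj⟩ := exists_relIndex_eq_pow S.isPGroup' (centralizer ({a} : Set G))
  have h1 : p ^ j ∣ (centralizer ({k} : Set G)).relIndex S :=
    pow_dvd_relIndex_sylow S (h.pow_dvd hpm hkZ j
      (hj ▸ relIndex_dvd_index_of_le_normalizer (le_normalizer_cen_of_second hS)))
  have h2 := relIndex_mul_relIndex ((S : Subgroup G) ⊓ centralizer {a})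
    ((S : Subgroup G) ⊓ centralizer {k}) S (le_inf inf_le_left hk) inf_le_left
  rw [inf_relIndex_left (S : Subgroup G), inf_relIndex_left (S : Subgroup G), hj] at h2
  have h3 : (centralizer ({k} : Set G)).relIndex S = p ^ j :=
    Nat.dvd_antisymm (Dvd.intro_left _ h2) h1
  rw [h3] at h2
  have h4 := Nat.eq_of_mul_eq_mul_right (pow_pos hp.out.pos j) (h2.trans (one_mul _).symm)
  exact (relIndex_eq_one.1 h4 ⟨hs, hsk⟩).2

theorem exists_good {p : ℕ} [hp : Fact p.Prime] (hpm : p ∣ m) :
    ∃ (S : Sylow p G) (a y : G), a ∈ (S : Subgroup G) ∧ a ∉ center G ∧ a ^ p ∈ center G ∧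
      (∀ s ∈ (S : Subgroup G), ⁅s, a⁆ ∈ center G) ∧ y ∈ centralizer ({a} : Set G) ∧
      y ∉ center G ∧ (orderOf y).Coprime p := by
  obtain ⟨x, hxZ, k, hk⟩ := h.exists_noncentral (hpm.trans (dvd_mul_right m n))
  obtain ⟨S, a, haS, -, haZ, hap, hS⟩ := exists_second_center (N := ⊤) (mem_top x) hxZ hk
  by_cases hy : ∃ y ∈ centralizer ({a} : Set G), y ∉ center G ∧ (orderOf y).Coprime p
  · obtain ⟨y, h1, h2, h3⟩ := hy
    exact ⟨S, a, y, haS, haZ, hap, hS, h1, h2, h3⟩
  have hR : ∀ r, r.Prime → r ∣ (center G).relIndex (centralizer {a}) → r = p := by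
    intro r hr hd
    by_contra hne
    haveI := Fact.mk hr
    obtain ⟨y, h1, h2, j, hj⟩ := exists_pElement_not_mem_of_dvd_relIndex hd
    exact hy ⟨y, h1, h2, coprime_of_pow_of_ne hp.out hr hne hj⟩
  have hr := Nat.minFac_prime h.hn.ne'
  have hrp : n.minFac ≠ p := fun e =>
    (hp.out.coprime_iff_not_dvd.1 (h.coprime_n hpm)) (e ▸ Nat.minFac_dvd n)
  have ha : (centralizer ({a} : Set G)).index = m * n := by
    refine (h.index_eq haZ).resolve_left fun e => hrp (hR _ hr ((Nat.minFac_dvd n).trans ?_))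
    have h1 := h.mn_dvd
    rw [← relIndex_center_mul_index a, e, mul_comm] at h1
    exact Nat.dvd_of_mul_dvd_mul_right (by have := h.hm; omega) h1
  have hmp : m = p ^ m.primeFactorsList.length :=
    Nat.eq_prime_pow_of_unique_prime_dvd (by have := h.hm; omega) fun {r} hr hd => by
      haveI := Fact.mk hr
      exact hR r hr (h.dvd_relIndex_center hd haZ)
  have hidx : ∀ g y : G, g ∉ center G → y ∈ centralizer ({g} : Set G) → y ∉ center G →
      (orderOf y).Coprime p → (centralizer ({g} : Set G)).index = m := by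
    intro g y hg h1 h2 h3
    refine (h.index_eq hg).resolve_right fun e => ?_
    obtain ⟨r, hr, hne, hd⟩ := exists_prime_dvd_relIndex h1 h2 h3 hp.out
    have h4 := (relIndex_center_mul_index g).trans (relIndex_center_mul_index a).symm
    rw [e, ha] at h4
    rw [Nat.eq_of_mul_eq_mul_right (ha ▸ index_cen_pos a) h4] at hd
    exact hne (hR r hr hd)
  haveI := Fact.mk hr
  obtain ⟨y, hyZ, j, hj⟩ := h.exists_noncentral ((Nat.minFac_dvd n).trans (dvd_mul_left n m))
  have hyo := coprime_of_pow_of_ne hp.out hr hrp hj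
  obtain ⟨b, hby, hbZ, i, hi⟩ := h.exists_pElement hpm hyZ
  have hc : Commute b y := mem_cen.1 hby
  have hco := coprime_orderOf_of_pow hi hyo
  have hb : (centralizer ({b} : Set G)).index = m := hidx b y hbZ (mem_cen_comm.1 hby) hyZ hyo
  have hbyZ : b * y ∉ center G := by
    intro e
    have := index_cen_dvd_mul_left hc hco
    rw [index_cen_eq_one_iff.2 e, Nat.dvd_one, index_cen_eq_one_iff] at this
    exact hbZ this
  have hby' : (centralizer ({b * y} : Set G)).index = m :=
    hidx _ y hbyZ (mem_cen.2 (hc.symm.mul_right (Commute.refl y))) hyZ hyo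
  have hle : centralizer ({b} : Set G) ≤ centralizer {y} :=
    cen_le_cen_of_index_mul_le hc hco (by rw [hb, hby'])
  have hbO : b ∈ pCore p G := mem_pCore_of_index_eq_pow hi (hb.trans hmp)
  have hA : IsPGroup p (zpowers b) := by
    obtain ⟨j, -, hj⟩ := (Nat.dvd_prime_pow hp.out).1 (orderOf_dvd_of_pow_eq_one hi)
    exact IsPGroup.of_card (n := j) (by rw [Nat.card_zpowers, hj])
  have hO := CL.thompson_p_times_q (zpowers b) (zpowers y) (pCore p G) hA
    (by rwa [Nat.card_zpowers]) (CL.isPGroup_pCore p G)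
    (by rw [cen_zpowers]; exact zpowers_le.2 hby) le_normalizer_of_normal le_normalizer_of_normal
    (by rw [cen_zpowers, cen_zpowers]; exact inf_le_right.trans hle)
  rw [cen_zpowers] at hO
  obtain ⟨S', a', h1, h2, h3, h4, h5⟩ := exists_second_center hbO hbZ hi
  exact ⟨S', a', y, h1, h3, h4, h5, mem_cen_comm.1 (hO h2), hyZ, hyo⟩

theorem not_sq_dvd {p : ℕ} [hp : Fact p.Prime] (hpm : p ∣ m) (x : G) :
    ¬ p ^ 2 ∣ (centralizer ({x} : Set G)).index := by
  obtain ⟨S, a, y, haS, haZ, hap, hS, hya, hyZ, hyo⟩ := h.exists_good hpm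
  obtain ⟨k, hk⟩ := pow_eq_one_of_mem_isPGroup S.isPGroup' haS
  have hSH := le_normalizer_cen_of_second hS
  have hDB : ∀ u ∈ (S : Subgroup G) ⊓ centralizer {a}, ∀ b ∈ resid p (centralizer ({a} : Set G)),
      Commute u b := by
    intro u hu b hb
    obtain ⟨j, hj⟩ := pow_eq_one_of_mem_isPGroup S.isPGroup' hu.1
    exact h.commute_of_cen hpm haZ hk hu.2 (resid_le _ _ hb) hj
      (coprime_of_mem_of_card (h.card_resid hpm haZ hk) hb)
  have h1 := relIndex_dvd_prime_of_fpf (S := S) (D := (S : Subgroup G) ⊓ centralizer {a})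
    (B := resid p (centralizer ({a} : Set G))) (Z := center G) S.isPGroup' ?_ ?_
    (h.card_resid hpm haZ hk) (hSH.trans (normalizer_le_normalizer_resid _ _)) ?_ ?_ ?_
  · rw [inf_relIndex_left] at h1
    exact fun hd => not_sq_dvd_index_of_relIndex_dvd S h1 (h.pow_dvd hpm haZ 2 hd)
  · intro u hu v hv
    refine ⟨?_, ?_⟩
    · show ⁅u, v⁆ ∈ (S : Subgroup G)
      rw [commutatorElement_def]
      exact mul_mem (mul_mem (mul_mem hu hv) (inv_mem hu)) (inv_mem hv)
    · have := commutator_inv_mem_cen (hS _ (inv_mem hu)) (hS _ (inv_mem hv))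
      rwa [inv_inv, inv_inv] at this
  · intro u hu
    refine ⟨pow_mem hu p, ?_⟩
    show u ^ p ∈ centralizer ({a} : Set G)
    rw [mem_cen, ← commutatorElement_eq_one_iff_commute,
      CL.PG.commutator_pow_left (mem_center_iff.1 (hS u hu) u),
      ← CL.PG.commutator_pow_right (mem_center_iff.1 (hS u hu) a),
      commutatorElement_eq_one_iff_mul_comm]
    exact mem_center_iff.1 hap u
  · intro u hu
    rw [mem_centralizer_iff]
    exact fun b hb => (hDB u hu b hb).eq.symm
  · intro s hs hsD b hb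
    by_contra hbZ
    exact hsD ⟨hs, h.mem_cen_of_fix hpm S hS hbZ (fun u hu => mem_cen.2 (hDB u hu b hb.1)) hs
      (mem_cen_comm.1 hb.2)⟩
  · exact fun e => hyZ (e (mem_resid hya hyo))

theorem second {p : ℕ} [hp : Fact p.Prime] (hpm : p ∣ m) (S : Sylow p G) {a : G}
    (ha : a ∈ (S : Subgroup G)) : ∀ s ∈ (S : Subgroup G), ⁅s, a⁆ ∈ center G :=
  fun _ hs => (commutator_mem_center_of_not_sq_dvd (h.not_sq_dvd hpm) S.isPGroup' hs ha).1

theorem relIndex_eq_of_dvd {p : ℕ} [hp : Fact p.Prime] (hpm : p ∣ m) (S : Sylow p G) {x : G}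
    (hx : x ∉ center G)
    (hd : (centralizer ({x} : Set G)).relIndex S ∣ (centralizer ({x} : Set G)).index) :
    (centralizer ({x} : Set G)).relIndex S = p := by
  obtain ⟨j, hj⟩ := exists_relIndex_eq_pow S.isPGroup' (centralizer ({x} : Set G))
  rw [hj] at hd ⊢
  rcases j with _ | _ | j
  · exact absurd (h.mem_center_of_sylow_le hpm S (relIndex_eq_one.1 hj)) hx
  · simp
  · exact absurd ((pow_dvd_pow p (by omega)).trans hd) (h.not_sq_dvd hpm x)

theorem relIndex_cen_eq {p : ℕ} [hp : Fact p.Prime] (hpm : p ∣ m) (S : Sylow p G) {a : G}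
    (ha : a ∈ (S : Subgroup G)) (haZ : a ∉ center G) :
    (centralizer ({a} : Set G)).relIndex S = p :=
  h.relIndex_eq_of_dvd hpm S haZ
    (relIndex_dvd_index_of_le_normalizer (le_normalizer_cen_of_second (h.second hpm S ha)))

theorem not_cube_dvd {p : ℕ} [hp : Fact p.Prime] (hpm : p ∣ m) : ¬ p ^ 3 ∣ (center G).index := by
  obtain ⟨S, a, y, haS, haZ, -, hS, hya, hyZ, hyo⟩ := h.exists_good hpm
  obtain ⟨k, hk⟩ := pow_eq_one_of_mem_isPGroup S.isPGroup' haS
  have h1 := h.relIndex_cen_eq hpm S haS haZ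
  obtain ⟨s, hs, hsa⟩ : ∃ s ∈ (S : Subgroup G), s ∉ centralizer ({a} : Set G) := by
    by_contra hc
    push Not at hc
    exact haZ (h.mem_center_of_sylow_le hpm S hc)
  obtain ⟨i, hi⟩ := pow_eq_one_of_mem_isPGroup S.isPGroup' hs
  have hsZ : s ∉ center G := fun e => hsa (mem_cen.2 (mem_center_iff.1 e a).symm)
  have hP0 : centralizer ({a} : Set G) ⊓ S ≤ centralizer {y} := by
    intro u hu
    obtain ⟨j, hj⟩ := pow_eq_one_of_mem_isPGroup S.isPGroup' hu.2
    exact mem_cen.2 (h.commute_of_cen hpm haZ hk hu.1 hya hj hyo)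
  have h2 : center G ⊓ (centralizer {a} ⊓ S) = centralizer {s} ⊓ (centralizer {a} ⊓ S) := by
    refine le_antisymm (inf_le_inf_right _ (center_le_cen s)) fun b hb => ⟨?_, hb.2⟩
    by_contra hbZ
    obtain ⟨j, hj⟩ := pow_eq_one_of_mem_isPGroup S.isPGroup' hb.2.2
    have h3 := h.commute_of_cen hpm hbZ hj (mem_cen_comm.1 hb.1) (mem_cen_comm.1 (hP0 hb.2)) hi hyo
    exact hyZ (h.mem_center_of_sylow_le hpm S
      (le_of_relIndex_prime hp.out h1 hs hsa hP0 (mem_cen.2 h3)))
  have h3 : (center G).relIndex (centralizer {a} ⊓ S) ∣ p := by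
    rw [← inf_relIndex_right, h2, inf_relIndex_right]
    exact (relIndex_dvd_relIndex_of_le_normalizer _ inf_le_right
      (le_trans (le_inf (le_normalizer_cen_of_second hS) le_normalizer)
        inf_normalizer_le_normalizer_inf)).trans (h.relIndex_cen_eq hpm S hs hsZ).dvd
  have h4 := relIndex_mul_relIndex (center G ⊓ (centralizer {a} ⊓ S)) (centralizer {a} ⊓ S)
    (S : Subgroup G) inf_le_right inf_le_right
  rw [inf_relIndex_right, inf_relIndex_right, h1, ← inf_assoc, inf_eq_left.2 (center_le_cen a),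
    inf_relIndex_right] at h4
  intro hd
  have h5 := pow_dvd_relIndex_sylow S hd
  rw [← h4] at h5
  have h6 : p ^ 3 ∣ p ^ 2 := by rw [pow_two]; exact h5.trans (Nat.mul_dvd_mul_right h3 p)
  have := (Nat.pow_dvd_pow_iff_le_right hp.out.one_lt).1 h6
  omega

theorem relIndex_center_eq {p : ℕ} [hp : Fact p.Prime] (hpm : p ∣ m) {T : Subgroup G}
    (hT : IsPGroup p T) {g : G} (hg : g ∉ center G) (hTg : T ≤ centralizer {g})
    (hTZ : ¬ T ≤ center G) : (center G).relIndex T = p := by
  obtain ⟨j, hj⟩ := exists_relIndex_eq_pow hT (center G)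
  rw [hj]
  rcases j with _ | _ | j
  · exact absurd (relIndex_eq_one.1 hj) hTZ
  · simp
  · exfalso
    apply h.not_cube_dvd hpm
    rw [← relIndex_center_mul_index g, pow_succ]
    refine Nat.mul_dvd_mul ?_ (hpm.trans (h.m_dvd hg))
    refine ((pow_dvd_pow p (by omega)).trans hj.symm.dvd).trans ?_
    exact relIndex_dvd_relIndex_of_normal hTg

/-- An element of a Sylow subgroup outside `C(a)` has only central fixed points on the normal
complement of `C(a)`. -/
theorem resid_inf_le {p : ℕ} [hp : Fact p.Prime] (hpm : p ∣ m) (S : Sylow p G) {a s : G}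
    (haS : a ∈ (S : Subgroup G)) (haZ : a ∉ center G) (hs : s ∈ (S : Subgroup G))
    (hsa : s ∉ centralizer ({a} : Set G)) :
    resid p (centralizer ({a} : Set G)) ⊓ centralizer {s} ≤ center G := by
  obtain ⟨k, hk⟩ := pow_eq_one_of_mem_isPGroup S.isPGroup' haS
  intro b hb
  by_contra hbZ
  refine hsa (h.mem_cen_of_fix hpm S (h.second hpm S haS) hbZ (fun u hu => ?_) hs
    (mem_cen_comm.1 hb.2))
  obtain ⟨j, hj⟩ := pow_eq_one_of_mem_isPGroup S.isPGroup' hu.1
  exact mem_cen.2 (h.commute_of_cen hpm haZ hk hu.2 (resid_le _ _ hb.1) hj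
    (coprime_of_mem_of_card (h.card_resid hpm haZ hk) hb.1))

theorem exists_not_mem_cen {p : ℕ} [hp : Fact p.Prime] (hpm : p ∣ m) (S : Sylow p G) {a : G}
    (haZ : a ∉ center G) : ∃ s ∈ (S : Subgroup G), s ∉ centralizer ({a} : Set G) := by
  by_contra hc
  push Not at hc
  exact haZ (h.mem_center_of_sylow_le hpm S hc)

theorem prime : m.Prime := by
  by_contra hnp
  have hq := Nat.minFac_prime h.hm.ne'
  set q := m.minFac with hqd
  obtain ⟨c, hc⟩ : q ∣ m := Nat.minFac_dvd m
  have hc1 : c ≠ 1 := fun e => hnp (by rw [hc, e, mul_one]; exact hq)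
  have hp := Nat.minFac_prime hc1
  set p := c.minFac with hpd
  haveI := Fact.mk hp
  haveI := Fact.mk hq
  have hpm : p ∣ m := hc ▸ (Nat.minFac_dvd c).trans (dvd_mul_left c q)
  have hqm : q ∣ m := Nat.minFac_dvd m
  obtain ⟨a, haZ, k, hk⟩ := h.exists_noncentral (hpm.trans (dvd_mul_right m n))
  have hne : q ≠ p := by
    intro e
    apply h.not_sq_dvd hqm a
    refine Dvd.dvd.trans ?_ (h.m_dvd haZ)
    rw [hc, pow_two]
    exact Nat.mul_dvd_mul_left q (e ▸ Nat.minFac_dvd c)
  have hlt : q < p := lt_of_le_of_ne (Nat.minFac_le_of_dvd hp.two_le hpm) hne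
  obtain ⟨S, haS⟩ := exists_sylow_mem hk
  obtain ⟨s, hs, hsa⟩ := h.exists_not_mem_cen hpm S haZ
  obtain ⟨i, hi⟩ := pow_eq_one_of_mem_isPGroup S.isPGroup' hs
  set K := resid p (centralizer ({a} : Set G)) with hK
  have hKc : (Nat.card K).Coprime p := h.card_resid hpm haZ hk
  have hSK : (S : Subgroup G) ≤ normalizer (K : Set G) :=
    (le_normalizer_cen_of_second (h.second hpm S haS)).trans (normalizer_le_normalizer_resid _ _)
  obtain ⟨T, hT⟩ := CL.coprime_exists_invariant_sylow (S : Subgroup G) K hSK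
    (CL.coprime_card_of_isPGroup S.isPGroup' hKc).symm
    (Or.inl (CL.isSolvable_of_isPGroup S.isPGroup')) q
  set T' := (T : Subgroup K).map K.subtype with hT'
  have hTK : T' ≤ K := map_subtype_le _
  have hTZ : ¬ T' ≤ center G := by
    intro hle
    obtain ⟨t, hta, htZ, j, hj⟩ := h.exists_pElement hqm haZ
    have htK : t ∈ K := mem_resid hta (coprime_of_pow_of_ne hp hq hne hj)
    obtain ⟨T₁, hT₁⟩ := exists_sylow_mem (G := K) (a := ⟨t, htK⟩) (Subtype.ext hj)
    obtain ⟨g, hg⟩ := MulAction.exists_smul_eq K T₁ T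
    have h1 : g * ⟨t, htK⟩ * g⁻¹ ∈ (T : Subgroup K) := by
      rw [← hg]
      exact ⟨_, hT₁, rfl⟩
    have h2 : (g : G) * t * (g : G)⁻¹ ∈ center G := hle ⟨_, h1, rfl⟩
    apply htZ
    rw [← index_cen_eq_one_iff, ← index_cen_conj (g : G) t, index_cen_eq_one_iff]
    exact h2
  have h1 := h.relIndex_center_eq hqm (T.isPGroup'.map K.subtype) haZ (hTK.trans (resid_le _ _)) hTZ
  have h2 := relIndex_center_modEq_one hi (Nat.Coprime.coprime_dvd_left (card_dvd_of_le hTK) hKc)
    (hT hs) ((inf_le_inf_right _ hTK).trans (h.resid_inf_le hpm S haS haZ hs hsa))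
  rw [h1] at h2
  have h3 := (Nat.modEq_iff_dvd' hq.one_lt.le).1 h2.symm
  have := Nat.le_of_dvd (by have := hq.one_lt; omega) h3
  omega

end Three

/-- If `x` has prime class size `p` and a `p`-element `s` moves `x`, then every `p'`-element
commuting with `s` fixes `x`. -/
theorem mem_cen_of_index_prime {p : ℕ} [hp : Fact p.Prime] {x s y : G} {k : ℕ}
    (hx : (centralizer ({x} : Set G)).index = p) (hs : s ^ p ^ k = 1)
    (hsx : s ∉ centralizer ({x} : Set G)) (hy : (orderOf y).Coprime p) (hc : Commute s y) :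
    y ∈ centralizer ({x} : Set G) := by
  have hA : IsPGroup p (zpowers s) := by
    obtain ⟨j, -, hj⟩ := (Nat.dvd_prime_pow hp.out).1 (orderOf_dvd_of_pow_eq_one hs)
    exact IsPGroup.of_card (n := j) (by rw [Nat.card_zpowers, hj])
  obtain ⟨j, hj⟩ := exists_relIndex_eq_pow hA (centralizer ({x} : Set G))
  have hj0 : j ≠ 0 := by
    rintro rfl
    exact hsx (relIndex_eq_one.1 hj (mem_zpowers s))
  have h1 : (Set.range fun u : zpowers s => (u : G) * x * (u : G)⁻¹) =
      Set.range fun u : (⊤ : Subgroup G) => (u : G) * x * (u : G)⁻¹ := by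
    refine Set.eq_of_subset_of_ncard_le ?_ ?_
    · rintro _ ⟨u, rfl⟩
      exact ⟨⟨u, mem_top _⟩, rfl⟩
    · rw [ncard_conj_subgroup, ncard_conj_subgroup, relIndex_top_right, hx, hj]
      exact Nat.le_self_pow hj0 p
  obtain ⟨u, hu⟩ : y * x * y⁻¹ ∈ Set.range fun u : zpowers s => (u : G) * x * (u : G)⁻¹ := by
    rw [h1]; exact ⟨⟨y, mem_top _⟩, rfl⟩
  obtain ⟨i, hi⟩ := pow_eq_one_of_mem_isPGroup hA (inv_mem u.2)
  have hcu : Commute (u : G)⁻¹ y := by
    obtain ⟨l, hl⟩ := mem_zpowers_iff.1 u.2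
    rw [← hl]
    exact (hc.zpow_left l).inv_left
  have h2 : x ∈ centralizer ({(u : G)⁻¹ * y} : Set G) := by
    rw [mem_cen]
    show x * ((u : G)⁻¹ * y) = (u : G)⁻¹ * y * x
    have hu' : (u : G) * x * (u : G)⁻¹ = y * x * y⁻¹ := hu
    calc x * ((u : G)⁻¹ * y) = (u : G)⁻¹ * ((u : G) * x * (u : G)⁻¹) * y := by group
      _ = _ := by rw [hu']; group
  rw [cen_mul_of_coprime hcu (coprime_orderOf_of_pow hi hy)] at h2
  exact mem_cen_comm.1 h2.2

namespace Three

variable {p n : ℕ} [hp : Fact p.Prime] (h : Three G p n)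
include h

theorem conj_mem_cen {x b : G} {k : ℕ} (hx : (centralizer ({x} : Set G)).index = p)
    (hb : b ^ p ^ k = 1) (hbx : b ∈ centralizer ({x} : Set G)) (g : G) :
    g * x * g⁻¹ ∈ centralizer ({b} : Set G) := by
  obtain ⟨S, hS⟩ := exists_sylow_mem hb
  obtain ⟨t, ht, c, hc, rfl⟩ := exists_mul_sylow_of_index_eq_pow (hx.trans (pow_one p).symm) S g
  have e : t * c * x * (t * c)⁻¹ = t * x * t⁻¹ := by
    rw [mul_assoc t c x, (mem_cen.1 hc).eq]; group
  rw [e]
  exact (mem_normalizer_iff.1 (le_normalizer_cen_of_second (h.second dvd_rfl S hS) ht) x).1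
    (mem_cen_comm.1 hbx)

theorem exists_index_eq :
    ∃ a : G, (centralizer ({a} : Set G)).index = p ∧ ∃ k, a ^ p ^ k = 1 := by
  by_contra hcon
  have hpn : ∀ (a : G) (k : ℕ), a ∉ center G → a ^ p ^ k = 1 →
      (centralizer ({a} : Set G)).index = p * n :=
    fun a k haZ hk => (h.index_eq haZ).resolve_left fun e => hcon ⟨a, e, k, hk⟩
  have hlt : p < p * n := lt_mul_of_one_lt_right hp.out.pos h.hn
  obtain ⟨x, hx, hxo⟩ : ∃ x : G, (centralizer ({x} : Set G)).index = p ∧ (orderOf x).Coprime p := by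
    obtain ⟨g, hg⟩ := h.exm
    obtain ⟨u, v, hu, hv, ⟨k, hk⟩, hvo, e⟩ := CL.exists_p_part_mul_p'_part (p := p) g
    have huZ : u ∈ center G := by
      by_contra huZ
      have := index_cen_dvd_of_mem_zpowers hu
      rw [hpn u k huZ hk, hg] at this
      exact absurd (Nat.le_of_dvd hp.out.pos this) (not_le.2 hlt)
    exact ⟨v, by rw [← hg, e, cen_mul_of_mem_center' v huZ], hvo⟩
  have hxZ : x ∉ center G := one_lt_index_cen_iff.1 (hx ▸ hp.out.one_lt)
  obtain ⟨a, hax, haZ, k, hk⟩ := h.exists_pElement dvd_rfl hxZ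
  obtain ⟨S, haS⟩ := exists_sylow_mem hk
  obtain ⟨s, hs, hsx⟩ := h.exists_not_mem_cen dvd_rfl S hxZ
  obtain ⟨i, hi⟩ := pow_eq_one_of_mem_isPGroup S.isPGroup' hs
  have hsZ : s ∉ center G := fun e => hsx (center_le_cen x e)
  obtain ⟨y, hys, hyZ, hyo⟩ : ∃ y ∈ centralizer ({s} : Set G), y ∉ center G ∧
      (orderOf y).Coprime p := by
    obtain ⟨r, hr, hne, hd⟩ := exists_prime_dvd_relIndex (mem_cen_comm.1 hax) hxZ hxo hp.out
    have h4 := (relIndex_center_mul_index a).trans (relIndex_center_mul_index s).symm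
    rw [hpn a k haZ hk, hpn s i hsZ hi] at h4
    rw [Nat.eq_of_mul_eq_mul_right (by omega) h4] at hd
    haveI := Fact.mk hr
    obtain ⟨y, h1, h2, j, hj⟩ := exists_pElement_not_mem_of_dvd_relIndex hd
    exact ⟨y, h1, h2, coprime_of_pow_of_ne hp.out hr hne hj⟩
  have hyx : y ∈ centralizer ({x} : Set G) :=
    mem_cen_of_index_prime hx hi hsx hyo (mem_cen'.1 hys)
  have hy : (centralizer ({y} : Set G)).index = p := by
    refine (h.index_eq hyZ).resolve_right fun e => hsx ?_
    have h1 : centralizer ({s} : Set G) ≤ centralizer {y} :=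
      cen_le_cen_of_index_mul_le (mem_cen'.1 hys) (coprime_orderOf_of_pow hi hyo)
        (by rw [hpn s i hsZ hi]; exact Nat.le_of_dvd (by omega) (h.dvd_mn _))
    rw [mem_cen_comm, eq_of_le_of_index_eq h1 (by rw [e, hpn s i hsZ hi])]
    exact mem_cen_comm.1 hyx
  have hS0 : (centralizer ({x} : Set G)).relIndex S = p := by
    obtain ⟨j, hj⟩ := exists_relIndex_eq_pow S.isPGroup' (centralizer ({x} : Set G))
    have h1 : (centralizer ({x} : Set G)).relIndex S ≤ p := by
      have := relIndex_le_of_le_right (H := centralizer ({x} : Set G))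
        (le_top : (S : Subgroup G) ≤ ⊤) (by rw [relIndex_top_right]; exact (index_cen_pos x).ne')
      rwa [relIndex_top_right, hx] at this
    rw [hj] at h1 ⊢
    rcases j with _ | _ | j
    · exact absurd (relIndex_eq_one.1 hj hs) hsx
    · simp
    · exact absurd h1 (not_le.2 (lt_self_pow₀ hp.out.one_lt (by omega)))
  have hP0 : (center G).relIndex (centralizer {x} ⊓ S) = p :=
    h.relIndex_center_eq dvd_rfl (S.isPGroup'.to_le inf_le_right) hxZ inf_le_left
      fun e => haZ (e ⟨hax, haS⟩)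
  have hcen : ∀ e : G, centralizer ({x} : Set G) ⊓ S ≤ centralizer {e} →
      s ∈ centralizer ({e} : Set G) → e ∈ center G := fun e h1 h2 =>
    h.mem_center_of_sylow_le dvd_rfl S (le_of_relIndex_prime hp.out hS0 hs hsx h1 h2)
  have hxy : Commute x y := mem_cen'.1 hyx
  have hxyZ : x * y ∉ center G := by
    intro e
    apply hsx
    have : x = x * y * y⁻¹ := by group
    rw [this, cen_mul_of_mem_center' _ e, cen_inv]
    exact mem_cen_comm.1 hys
  obtain ⟨b, hb, hbZ, j, hj⟩ := h.exists_pElement dvd_rfl hxyZ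
  have hbe : b * x * b⁻¹ * x⁻¹ = x * (y * (b * y * b⁻¹)⁻¹) * x⁻¹ := by
    have e : x * y = b * (x * y) * b⁻¹ := by rw [(mem_cen.1 hb).eq]; group
    calc b * x * b⁻¹ * x⁻¹ = b * (x * y) * b⁻¹ * (b * y * b⁻¹)⁻¹ * x⁻¹ := by group
      _ = _ := by rw [← e]; group
  have hw : y * (b * y * b⁻¹)⁻¹ ∈ center G := by
    apply hcen
    · intro u hu
      obtain ⟨l, hl⟩ := pow_eq_one_of_mem_isPGroup S.isPGroup' hu.2
      have e : y * (b * y * b⁻¹)⁻¹ = x⁻¹ * (b * x * b⁻¹) := by
        calc y * (b * y * b⁻¹)⁻¹ = x⁻¹ * (x * (y * (b * y * b⁻¹)⁻¹) * x⁻¹) * x := by group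
          _ = _ := by rw [← hbe]; group
      rw [e, mem_cen_comm]
      exact mul_mem (inv_mem (mem_cen_comm.1 hu.1)) (h.conj_mem_cen hx hl hu.1 b)
    · rw [mem_cen_comm]
      exact mul_mem hys (inv_mem (h.conj_mem_cen hy hi (mem_cen_comm.1 hys) b))
  have hbx : Commute b x := by
    refine commute_of_commutator_mem_center ?_ (coprime_orderOf_of_pow hj hxo)
    rw [commutatorElement_def, hbe, mem_center_iff.1 hw x, mul_inv_cancel_right]
    exact hw
  have hby : Commute b y := by
    have : y = x⁻¹ * (x * y) := by group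
    rw [this]
    exact hbx.inv_right.mul_right (mem_cen.1 hb)
  obtain ⟨S₁, hS₁⟩ := exists_sylow_mem hj
  obtain ⟨g, hg⟩ := MulAction.exists_smul_eq G S₁ S
  have hgb : g * b * g⁻¹ ∈ (S : Subgroup G) := by
    rw [← hg]
    exact ⟨_, hS₁, rfl⟩
  have hconj : ∀ w : G, (centralizer ({w} : Set G)).index = p → Commute b w →
      g * b * g⁻¹ ∈ centralizer ({w} : Set G) := by
    intro w hw hc
    have h1 := (mem_cen.1 (h.conj_mem_cen hw hj (mem_cen.2 hc) g⁻¹)).eq
    rw [mem_cen]
    show g * b * g⁻¹ * w = w * (g * b * g⁻¹)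
    calc g * b * g⁻¹ * w = g * (b * (g⁻¹ * w * g⁻¹⁻¹)) * g⁻¹ := by group
      _ = _ := by rw [← h1]; group
  have hgZ : g * b * g⁻¹ ∉ center G := by
    rw [← index_cen_eq_one_iff, index_cen_conj, index_cen_eq_one_iff]
    exact hbZ
  exact hyZ (hcen y (le_of_relIndex_prime hp.out hP0 ⟨hconj x hx hbx, hgb⟩ hgZ
    (inf_le_left.trans (center_le_cen y)) (hconj y hy hby)) (mem_cen_comm.1 hys))

theorem structure_thm : p ∣ n - 1 ∧
    (∃ M : Subgroup G, M.Normal ∧ (M : Set G) = {x : G | (centralizer ({x} : Set G)).index = 1 ∨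
      (centralizer ({x} : Set G)).index = p} ∧ M.index = p ∧ IsMulCommutative M) ∧
    (∃ N : Subgroup G, N.Normal ∧ (Nat.card N).Coprime p ∧ ∃ a : ℕ, N.index = p ^ a) ∧
    ∀ P : Sylow p G, Nat.card (_root_.commutator (P : Subgroup G)) = p := by
  obtain ⟨a, ha, k, hk⟩ := h.exists_index_eq
  have haZ : a ∉ center G := one_lt_index_cen_iff.1 (ha ▸ hp.out.one_lt)
  have haS : ∀ S : Sylow p G, a ∈ (S : Subgroup G) := fun S =>
    CL.pCore_le_sylow S (mem_pCore_of_index_eq_pow hk (ha.trans (pow_one p).symm))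
  set M := centralizer ({a} : Set G) with hM
  obtain ⟨S₀⟩ : Nonempty (Sylow p G) := inferInstance
  have hNM : normalizer (M : Set G) = ⊤ := by
    rw [eq_top_iff]
    intro g _
    obtain ⟨t, ht, c, hc, rfl⟩ := exists_mul_sylow_of_index_eq_pow (ha.trans (pow_one p).symm) S₀ g
    exact mul_mem (le_normalizer_cen_of_second (h.second dvd_rfl S₀ (haS S₀)) ht) (le_normalizer hc)
  haveI hMn : M.Normal := normalizer_eq_top_iff.1 hNM
  set K := resid p M with hK
  haveI hKn : K.Normal := normalizer_eq_top_iff.1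
    (eq_top_iff.2 (hNM ▸ normalizer_le_normalizer_resid p M))
  have hKc : (Nat.card K).Coprime p := h.card_resid dvd_rfl haZ hk
  obtain ⟨j, hj⟩ := exists_relIndex_resid (p := p) M
  have hKi : K.index = p ^ (j + 1) := by
    rw [← relIndex_mul_index (resid_le p M), hj, ha, pow_succ]
  have hZi : (center G).relIndex K * (center G ⊔ K).index = (center G).index := by
    rw [← relIndex_sup_left K (center G)]
    exact relIndex_mul_index le_sup_left
  have hL : (center G ⊔ K).index ∣ p ^ (j + 1) := hKi ▸ index_dvd_of_le le_sup_right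
  have hpn : p.Coprime n := h.coprime_n dvd_rfl
  have hn1 : n ∣ (center G).relIndex K := by
    have h1 := (dvd_mul_left n p).trans h.mn_dvd
    rw [← hZi] at h1
    exact (Nat.Coprime.coprime_dvd_right hL (hpn.symm.pow_right _)).dvd_of_dvd_mul_right h1
  have hout : ∀ (s : G) (i : ℕ), s ^ p ^ i = 1 → s ∉ M → K ⊓ centralizer {s} ≤ center G := by
    intro s i hi hs
    obtain ⟨S, hS⟩ := exists_sylow_mem hi
    exact h.resid_inf_le dvd_rfl S (haS S) haZ hS hs
  have hdvd : ∀ (s : G) (i : ℕ), s ^ p ^ i = 1 → s ∉ M →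
      (center G).relIndex K ∣ (centralizer ({s} : Set G)).index := by
    intro s i hi hs
    have h2 : center G ⊓ K = centralizer {s} ⊓ K :=
      le_antisymm (inf_le_inf_right _ (center_le_cen s))
        (le_inf (by rw [inf_comm]; exact hout s i hi hs) inf_le_right)
    rw [← inf_relIndex_right, h2, inf_relIndex_right]
    exact relIndex_dvd_index_of_normal_right _ _
  obtain ⟨s, hs, hsM⟩ := h.exists_not_mem_cen dvd_rfl S₀ haZ
  obtain ⟨i, hi⟩ := pow_eq_one_of_mem_isPGroup S₀.isPGroup' hs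
  have hn2 : (center G).relIndex K = n := by
    refine Nat.dvd_antisymm ?_ hn1
    exact (Nat.Coprime.coprime_dvd_left (relIndex_dvd_card _ _) hKc).dvd_of_dvd_mul_left
      ((hdvd s i hi hsM).trans (h.dvd_mn s))
  have hle : ∀ g y : G, y ∈ centralizer ({g} : Set G) → y ∉ center G → (orderOf y).Coprime p →
      (centralizer ({g} : Set G)).index ≤ p := by
    intro g y h1 h2 h3
    rcases h.sizes g with e | e | e
    · rw [e]; exact hp.out.one_le
    · exact e.le
    exfalso
    obtain ⟨r, hr, hne, hd⟩ := exists_prime_dvd_relIndex h1 h2 h3 hp.out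
    have h4 := (relIndex_center_mul_index g).trans hZi.symm
    rw [e, hn2, ← mul_assoc, mul_comm n] at h4
    have h5 := Nat.eq_of_mul_eq_mul_right (by have := h.hn; omega) h4
    have h6 : r ∣ p ^ (j + 1) := (hd.trans (Dvd.intro _ h5)).trans hL
    exact hne ((Nat.prime_dvd_prime_iff_eq hr hp.out).1 (hr.dvd_of_dvd_pow h6))
  have hv : ∀ v ∈ M, (orderOf v).Coprime p → M ≤ centralizer {v} := by
    intro v hvM hvo
    by_cases hvZ : v ∈ center G
    · rw [cen_eq_top_iff.2 hvZ]; exact le_top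
    have hc : Commute a v := mem_cen'.1 hvM
    refine cen_le_cen_of_index_mul_le hc (coprime_orderOf_of_pow hk hvo) ?_
    rw [ha]
    exact hle _ v (mem_cen.2 (hc.symm.mul_right (Commute.refl v))) hvZ hvo
  obtain ⟨y, hyK, hyZ⟩ : ∃ y ∈ K, y ∉ center G := by
    by_contra hc
    push Not at hc
    have := relIndex_eq_one.2 (show K ≤ center G from hc)
    have := h.hn
    omega
  have hyo := coprime_of_mem_of_card hKc hyK
  have hyM : y ∈ M := resid_le p M hyK
  have hy : (centralizer ({y} : Set G)).index = p :=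
    (h.index_eq hyZ).resolve_right fun e => by
      have h1 := hle y y (self_mem_cen y) hyZ hyo
      have h2 : p < p * n := lt_mul_of_one_lt_right hp.out.pos h.hn
      omega
  have hMy : M = centralizer {y} := eq_of_le_of_index_eq (hv y hyM hyo) (ha.trans hy.symm)
  have hab : ∀ g ∈ M, M ≤ centralizer {g} := by
    intro g hg
    obtain ⟨u, v, hu, hv', ⟨l, hl⟩, hvo, e⟩ := CL.exists_p_part_mul_p'_part (p := p) g
    have huM : u ∈ M := zpowers_le.2 hg hu
    have hc : Commute y u := mem_cen'.1 (hMy ▸ huM)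
    have h1 : M ≤ centralizer {u} := by
      rw [hMy]
      refine cen_le_cen_of_index_mul_le hc (coprime_orderOf_of_pow hl hyo).symm ?_
      rw [hy]
      exact hle _ y (mem_cen.2 ((Commute.refl y).mul_right hc)) hyZ hyo
    rw [e]
    exact (le_inf h1 (hv v (zpowers_le.2 hg hv') hvo)).trans (inf_le_cen_mul u v)
  refine ⟨?_, ⟨M, hMn, ?_, ha, ⟨⟨fun u v => Subtype.ext (mem_cen.1 (hab v v.2 u.2)).eq⟩⟩⟩,
    ⟨K, hKn, hKc, _, hKi⟩, fun P => ?_⟩
  · have h1 := relIndex_center_modEq_one hi hKc (le_normalizer_of_normal (mem_top s))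
      (hout s i hi hsM)
    rw [hn2] at h1
    exact (Nat.modEq_iff_dvd' h.hn.le).1 h1.symm
  · ext g
    constructor
    · intro hg
      exact (Nat.dvd_prime hp.out).1 (ha ▸ index_dvd_of_le (hab g hg))
    · intro hg
      by_contra hgM
      obtain ⟨u, v, hu, hv', ⟨l, hl⟩, hvo, e⟩ := CL.exists_p_part_mul_p'_part (p := p) g
      have hvM : v ∈ M := CL.pResidual_le_of_index M (ha.trans (pow_one p).symm)
        (CL.mem_pResidual_of_coprime hvo)
      have huM : u ∉ M := fun h1 => hgM (e ▸ mul_mem h1 hvM)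
      have hvu : v ∈ centralizer ({u} : Set G) :=
        cen_le_cen_of_mem_zpowers hu (zpowers_le_cen g hv')
      have hvZ : v ∈ center G := hout u l hl huM ⟨mem_resid hvM hvo, hvu⟩
      have h1 := hdvd u l hl huM
      rw [hn2, ← cen_mul_of_mem_center u hvZ, ← e] at h1
      have h2 : n ∣ p := by
        rcases hg with e | e <;> rw [e] at h1
        · exact h1.trans (one_dvd p)
        · exact h1
      exact h.hn.ne' (Nat.Coprime.eq_one_of_dvd hpn.symm h2)
  · have h1 : Nat.card (_root_.commutator (P : Subgroup G)) ∣ p := by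
      refine card_commutator_dvd_of_le_center hp.out ?_ fun g => ?_
      · rw [_root_.commutator_def, commutator_le]
        intro u _ v _
        rw [mem_center_iff]
        intro w
        exact Subtype.ext (mem_center_iff.1 (h.second dvd_rfl P v.2 u u.2) w)
      · rw [index_cen_subgroup]
        by_cases hg : (g : G) ∈ center G
        · rw [cen_eq_top_iff.2 hg, relIndex_top_left]; exact one_dvd p
        · exact (h.relIndex_cen_eq dvd_rfl P g.2 hg).dvd
    refine ((Nat.dvd_prime hp.out).1 h1).resolve_left fun e => haZ ?_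
    refine h.mem_center_of_sylow_le dvd_rfl P fun u hu => ?_
    have h2 : ⁅(⟨u, hu⟩ : (P : Subgroup G)), ⟨a, haS P⟩⁆ ∈ _root_.commutator (P : Subgroup G) :=
      commutator_mem_commutator (mem_top _) (mem_top _)
    rw [card_eq_one.1 e, mem_bot, commutatorElement_eq_one_iff_mul_comm] at h2
    exact mem_cen.2 (congrArg Subtype.val h2)

end Three

end CL.CS
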