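import Mathlib
import Cfsg.Agent.FGS.OrbitPow
import Cfsg.Agent.FGS.ThreeSizes
import Cfsg.Agent.FGS.Kazarin
import Cfsg.Agent.SOLV.Frattini

/-!
# `q`-Baer groups (Camina-Camina)
-/

set_option linter.style.haveILetI false
set_option autoImplicit false

namespace CL.CS

open Subgroup Cfsg
open scoped commutatorElement

variable {G : Type*} [Group G] [Finite G] {q : ℕ} [hq : Fact q.Prime]

theorem pResidual_le_centralizer_of_gen (Q : Sylow q G) [(Q : Subgroup G).Normal]
    (hgen : ∀ L : Subgroup G, (∀ y ∈ (Q : Subgroup G),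
      (∃ k, (centralizer ({y} : Set G)).index = q ^ k) → y ∈ L) → (Q : Subgroup G) ≤ L) :
    pResidual q G ≤ centralizer (Q : Subgroup G) := by
  set F : Subgroup G := ⁅(Q : Subgroup G), (Q : Subgroup G)⁆ with hF
  have h1 := hgen ((center (G ⧸ F)).comap (QuotientGroup.mk' F)) fun y hy ⟨k, hk⟩ => by
    rw [mem_comap, mem_center_iff]
    intro g
    obtain ⟨g, rfl⟩ := QuotientGroup.mk'_surjective F g
    obtain ⟨u, hu, c, hc, rfl⟩ := exists_mul_sylow_of_index_eq_pow hk Q g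
    rw [← commutatorElement_eq_one_iff_mul_comm, ← map_commutatorElement, QuotientGroup.mk'_apply,
      QuotientGroup.eq_one_iff]
    have e : ⁅u * c, y⁆ = ⁅u, y⁆ := by
      rw [commutatorElement_def, commutatorElement_def, mul_assoc u c y, (mem_cen.1 hc).eq]; group
    rw [e]
    exact commutator_mem_commutator hu hy
  rw [CL.pResidual_le_iff]
  intro g hg
  haveI := Q.isPGroup'.isNilpotent
  have h2 := CL.coprime_le_centralizer_of_commutator_le_frattini (zpowers g) (Q : Subgroup G)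
    le_normalizer_of_normal (by
      rw [Nat.card_zpowers]
      exact CL.coprime_card_of_isPGroup (Q.isPGroup'.to_subgroup _) hg) (by
      refine le_trans ?_ (Subgroup.map_mono (CL.commutator_le_frattini_of_isNilpotent _))
      rw [map_subtype_commutator, commutator_le]
      intro a ha b _
      have := mem_center_iff.1 (h1 ha) (QuotientGroup.mk' F b)
      rw [eq_comm, ← commutatorElement_eq_one_iff_mul_comm, ← map_commutatorElement,
        QuotientGroup.mk'_apply, QuotientGroup.eq_one_iff] at this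
      exact this)
  rw [cen_zpowers] at h2
  exact le_cen_iff.1 h2

theorem exists_conj_mem_sylow (S : Sylow q G) {y : G} {k : ℕ} (hy : y ^ q ^ k = 1) :
    ∃ g : G, g * y * g⁻¹ ∈ (S : Subgroup G) := by
  obtain ⟨S₁, hS₁⟩ := exists_sylow_mem hy
  obtain ⟨g, hg⟩ := MulAction.exists_smul_eq G S₁ S
  exact ⟨g, by rw [← hg]; exact ⟨_, hS₁, rfl⟩⟩

theorem qBaer_pair (hB : ∀ (x : G) (k : ℕ), x ^ q ^ k = 1 →
      ∃ r a : ℕ, r.Prime ∧ (centralizer ({x} : Set G)).index = r ^ a)
    {x y : G} {k l p r a b : ℕ} (hx : x ^ q ^ k = 1) (hy : y ^ q ^ l = 1) (hp : p.Prime)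
    (hr : r.Prime) (hpr : p ≠ r) (hxa : (centralizer ({x} : Set G)).index = p ^ a)
    (hyb : (centralizer ({y} : Set G)).index = r ^ b) (ha : a ≠ 0) (hlt : p ^ a < r ^ b) :
    r = q ∧ x ∈ pCore q G := by
  obtain ⟨S, hS⟩ := exists_sylow_mem hx
  obtain ⟨g, hg⟩ := exists_conj_mem_sylow S hy
  set y' := g * y * g⁻¹ with hy'
  have hyb' : (centralizer ({y'} : Set G)).index = r ^ b := by rw [hy', index_cen_conj, hyb]
  have hcop : (centralizer ({x} : Set G)).index.Coprime (centralizer ({y'} : Set G)).index := by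
    rw [hxa, hyb']; exact ((Nat.coprime_primes hp hr).2 hpr).pow a b
  obtain ⟨j, hj⟩ := pow_eq_one_of_mem_isPGroup S.isPGroup' (mul_mem hS hg)
  obtain ⟨s, c, hs, hc⟩ := hB _ j hj
  have h1 := index_cen_le_mul_of_coprime_index' hcop
  have h2 := index_cen_mul_dvd_of_coprime_index hcop
  rw [hc, hyb'] at h1
  rw [hc, hxa, hyb'] at h2
  have heq : (centralizer ({x * y'} : Set G)).index = (centralizer ({y'} : Set G)).index := by
    rw [hc, hyb']
    by_cases hsp : s = p
    · subst hsp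
      have := Nat.le_of_dvd (pow_pos hs.pos a)
        ((((Nat.coprime_primes hs hr).2 hpr).pow c b).dvd_of_dvd_mul_right h2)
      omega
    · exact le_antisymm (Nat.le_of_dvd (pow_pos hr.pos b)
        ((((Nat.coprime_primes hs hp).2 hsp).pow c a).dvd_of_dvd_mul_left h2)) h1
  constructor
  · by_contra hrq
    have h3 := mem_center_of_index_mul_eq hcop heq (by
      rw [hyb']
      exact Nat.Coprime.coprime_dvd_left (orderOf_dvd_of_pow_eq_one hx)
        (((Nat.coprime_primes hq.out hr).2 (Ne.symm hrq)).pow k b))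
    rw [index_cen_eq_one_iff.2 h3] at hxa
    exact (Nat.one_lt_pow ha hp.one_lt).ne hxa
  · refine CL.le_pCore (N := normalClosure {x}) (fun w => ⟨k, Subtype.ext ?_⟩)
      (subset_normalClosure (Set.mem_singleton x))
    obtain ⟨t, ht⟩ := orderOf_dvd_of_pow_eq_one hx
    rw [coe_pow, ht, pow_mul, pow_eq_one_of_mem_normalClosure_of_index_mul_eq hcop heq w.2, one_pow,
      coe_one]

theorem qBaer_single (hB : ∀ (x : G) (k : ℕ), x ^ q ^ k = 1 →
      ∃ r a : ℕ, r.Prime ∧ (centralizer ({x} : Set G)).index = r ^ a) :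
    ∃ p : ℕ, p.Prime ∧ ∀ (x : G) (k : ℕ), x ^ q ^ k = 1 →
      ∃ a : ℕ, (centralizer ({x} : Set G)).index = p ^ a := by
  by_cases hall : ∀ (x : G) (k : ℕ), x ^ q ^ k = 1 →
      ∃ a : ℕ, (centralizer ({x} : Set G)).index = q ^ a
  · exact ⟨q, hq.out, hall⟩
  push Not at hall
  obtain ⟨x, k, hx, hxq⟩ := hall
  obtain ⟨p, a, hp, hxa⟩ := hB x k hx
  have hpq : p ≠ q := fun e => hxq a (e ▸ hxa)
  have ha : a ≠ 0 := fun e => hxq 0 (by rw [hxa, e, pow_zero, pow_zero])
  refine ⟨p, hp, fun y l hy => ?_⟩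
  by_contra hyp
  push Not at hyp
  obtain ⟨r, b, hr, hyb⟩ := hB y l hy
  have hpr : p ≠ r := fun e => hyp b (e ▸ hyb)
  have hb : b ≠ 0 := fun e => hyp 0 (by rw [hyb, e, pow_zero, pow_zero])
  have hne : ∀ {s t c d : ℕ}, s.Prime → t.Prime → s ≠ t → c ≠ 0 → s ^ c ≠ t ^ d :=
    fun hs ht hst hc e => hst ((Nat.prime_dvd_prime_iff_eq hs ht).1
      (hs.dvd_of_dvd_pow (e ▸ dvd_pow_self _ hc)))
  obtain rfl : r = q := by
    rcases lt_or_gt_of_ne (hne (d := b) hp hr hpr ha) with h | h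
    · exact (qBaer_pair hB hx hy hp hr hpr hxa hyb ha h).1
    · exact absurd (qBaer_pair hB hy hx hr hp hpr.symm hyb hxa hb h).1 hpq
  have hO : ∀ (w : G) (j : ℕ), w ^ r ^ j = 1 → w ∈ pCore r G := by
    intro w j hw
    obtain ⟨s, c, hs, hc⟩ := hB w j hw
    by_cases hsr : s = r
    · exact mem_pCore_of_index_eq_pow hw (hsr ▸ hc)
    by_cases hc0 : c = 0
    · exact mem_pCore_of_index_eq_pow hw (k := 0) (by rw [hc, hc0, pow_zero, pow_zero])
    rcases lt_or_gt_of_ne (hne (d := b) hs hr hsr hc0) with h | h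
    · exact (qBaer_pair hB hw hy hs hr hsr hc hyb hc0 h).2
    · exact absurd (qBaer_pair hB hy hw hr hs (Ne.symm hsr) hyb hc hb h).1 hsr
  obtain ⟨Q⟩ : Nonempty (Sylow r G) := inferInstance
  have hQ : (Q : Subgroup G) = pCore r G := le_antisymm (fun w hw => by
    obtain ⟨j, hj⟩ := pow_eq_one_of_mem_isPGroup Q.isPGroup' hw
    exact hO w j hj) (CL.pCore_le_sylow Q)
  haveI : (Q : Subgroup G).Normal := hQ ▸ inferInstance
  have hyQ : y ∈ (Q : Subgroup G) := hQ ▸ hO y l hy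
  have hdich : ∀ w ∈ (Q : Subgroup G), (∃ k, (centralizer ({w} : Set G)).index = r ^ k) ∨
      (Q : Subgroup G) ≤ centralizer {w} := by
    intro w hw
    obtain ⟨j, hj⟩ := pow_eq_one_of_mem_isPGroup Q.isPGroup' hw
    obtain ⟨s, c, hs, hc⟩ := hB w j hj
    by_cases hsr : s = r
    · exact Or.inl ⟨c, hsr ▸ hc⟩
    · refine Or.inr (le_cen_of_normal_isPGroup (fun hd => hsr ?_) Q.isPGroup')
      rw [hc] at hd
      exact ((Nat.prime_dvd_prime_iff_eq hr hs).1 (hr.dvd_of_dvd_pow hd)).symm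
  have h1 := pResidual_le_centralizer_of_gen Q fun L hL w hw => by
    rcases hdich w hw with h | h
    · exact hL w hw h
    rcases hdich _ (mul_mem hw hyQ) with h' | h'
    · exact (mul_mem_cancel_right (hL y hyQ ⟨b, hyb⟩)).1 (hL _ (mul_mem hw hyQ) h')
    · exfalso
      refine not_dvd_index_of_sylow_le (P := Q) (H := centralizer {y}) (fun u hu => ?_)
        (hyb ▸ dvd_pow_self r hb)
      have e : y = w⁻¹ * (w * y) := by group
      rw [mem_cen, e]
      exact (mem_cen.1 (h hu)).inv_right.mul_right (mem_cen.1 (h' hu))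
  obtain ⟨j, hj⟩ := CL.exists_pResidual_index (p := r) (G := G)
  have h2 : pResidual r G ≤ centralizer {x} :=
    h1.trans (centralizer_le (Set.singleton_subset_iff.2 (hQ ▸ hO x k hx : x ∈ (Q : Subgroup G))))
  obtain ⟨i, -, hi⟩ := (Nat.dvd_prime_pow hr).1 (hj ▸ index_dvd_of_le h2)
  exact hxq i hi

theorem qBaer_same (hB : ∀ (x : G) (k : ℕ), x ^ q ^ k = 1 →
      ∃ a : ℕ, (centralizer ({x} : Set G)).index = q ^ a) (Q : Sylow q G) :
    (Q : Subgroup G).Normal ∧ HasNormalPComplement q G := by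
  have hQ : (Q : Subgroup G) = pCore q G := le_antisymm (fun w hw => by
    obtain ⟨j, hj⟩ := pow_eq_one_of_mem_isPGroup Q.isPGroup' hw
    obtain ⟨a, ha⟩ := hB w j hj
    exact mem_pCore_of_index_eq_pow hj ha) (CL.pCore_le_sylow Q)
  haveI : (Q : Subgroup G).Normal := hQ ▸ inferInstance
  refine ⟨inferInstance, hasNPC_of_sup_centralizer_eq_top Q ?_⟩
  have h1 := pResidual_le_centralizer_of_gen Q fun L hL w hw => by
    obtain ⟨j, hj⟩ := pow_eq_one_of_mem_isPGroup Q.isPGroup' hw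
    exact hL w hw (hB w j hj)
  exact eq_top_iff.2 (CL.pResidual_sup_sylow Q ▸ sup_le_sup_right h1 _)

omit hq in
theorem qBaer_comm {p : ℕ} [hp : Fact p.Prime] (hB : ∀ (x : G) (k : ℕ), x ^ q ^ k = 1 →
      ∃ a : ℕ, (centralizer ({x} : Set G)).index = p ^ a) {x y : G} {k l : ℕ}
    (hx : x ^ q ^ k = 1) (hy : y ^ q ^ l = 1) : ⁅x, y⁆ ∈ pCore p G := by
  obtain ⟨a, ha⟩ := hB x k hx
  obtain ⟨b, hb⟩ := hB y l hy
  exact commutator_mem_pCore_of_index_eq_pow ha hb

theorem qBaer_abelian {p : ℕ} [hp : Fact p.Prime] (hpq : p ≠ q)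
    (hB : ∀ (x : G) (k : ℕ), x ^ q ^ k = 1 →
      ∃ a : ℕ, (centralizer ({x} : Set G)).index = p ^ a) (Q : Sylow q G) :
    IsMulCommutative (Q : Subgroup G) := by
  refine ⟨⟨fun x y => Subtype.ext ?_⟩⟩
  obtain ⟨k, hk⟩ := pow_eq_one_of_mem_isPGroup Q.isPGroup' x.2
  obtain ⟨l, hl⟩ := pow_eq_one_of_mem_isPGroup Q.isPGroup' y.2
  have h1 : ⁅(x : G), (y : G)⁆ ∈ pCore p G ⊓ Q := ⟨qBaer_comm hB hk hl, by
    show _ ∈ (Q : Subgroup G)
    rw [commutatorElement_def]
    exact mul_mem (mul_mem (mul_mem x.2 y.2) (inv_mem x.2)) (inv_mem y.2)⟩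
  rw [disjoint_iff.1 (IsPGroup.disjoint_of_ne p q hpq _ _ (CL.isPGroup_pCore p G) Q.isPGroup'),
    mem_bot] at h1
  exact commutatorElement_eq_one_iff_mul_comm.1 h1

theorem qBaer_normal {p : ℕ} [hp : Fact p.Prime]
    (hB : ∀ (x : G) (k : ℕ), x ^ q ^ k = 1 →
      ∃ a : ℕ, (centralizer ({x} : Set G)).index = p ^ a) (Q : Sylow q G) :
    (pCore p G ⊔ (Q : Subgroup G)).Normal := by
  set f := QuotientGroup.mk' (pCore p G) with hf
  have hs := QuotientGroup.mk'_surjective (pCore p G)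
  have h1 : ((Q : Subgroup G).map f).Normal := by
    refine ⟨?_⟩
    rintro _ ⟨x, hx, rfl⟩ g
    obtain ⟨g, rfl⟩ := hs g
    obtain ⟨k, hk⟩ := pow_eq_one_of_mem_isPGroup Q.isPGroup' hx
    have hk' : (g * x * g⁻¹) ^ q ^ k = 1 := by rw [conj_pow, hk]; simp
    rw [← map_inv, ← map_mul, ← map_mul]
    have hz : IsPGroup q (zpowers (f (g * x * g⁻¹))) := by
      obtain ⟨j, -, hj⟩ := (Nat.dvd_prime_pow hq.out).1 (orderOf_dvd_of_pow_eq_one
        (show f (g * x * g⁻¹) ^ q ^ k = 1 by rw [← map_pow, hk', map_one]))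
      exact IsPGroup.of_card (n := j) (by rw [Nat.card_zpowers, hj])
    have hn : zpowers (f (g * x * g⁻¹)) ≤ normalizer (((Q : Subgroup G).map f : Subgroup _) : Set _) := by
      refine le_trans ?_ (centralizer_le_normalizer _)
      rw [zpowers_le, mem_centralizer_iff]
      rintro _ ⟨y, hy, rfl⟩
      obtain ⟨l, hl⟩ := pow_eq_one_of_mem_isPGroup Q.isPGroup' hy
      rw [← commutatorElement_eq_one_iff_mul_comm, ← map_commutatorElement, hf,
        QuotientGroup.mk'_apply, QuotientGroup.eq_one_iff]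
      exact qBaer_comm hB hl hk'
    have h2 := (Q.mapSurjective hs).is_maximal'
      (hz.to_sup_of_normal_right' (Q.isPGroup'.map f) hn) le_sup_right
    exact (le_sup_left.trans h2.le) (mem_zpowers _)
  have h2 := h1.comap f
  rwa [comap_map_eq, hf, QuotientGroup.ker_mk', sup_comm] at h2

theorem qBaer_solvable {p : ℕ} [hp : Fact p.Prime] (hpq : p ≠ q)
    (hB : ∀ (x : G) (k : ℕ), x ^ q ^ k = 1 →
      ∃ a : ℕ, (centralizer ({x} : Set G)).index = p ^ a) :
    Group.IsSolvable (G ⧸ pPrimeCore q G) := by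
  obtain ⟨Q⟩ : Nonempty (Sylow q G) := inferInstance
  set f := QuotientGroup.mk' (pPrimeCore q G) with hf
  have hs := QuotientGroup.mk'_surjective (pPrimeCore q G)
  set V := (Q : Subgroup G).map f with hV
  haveI := qBaer_abelian hpq hB Q
  have hO : pCore p G ≤ pPrimeCore q G := CL.le_pPrimeCore
    (CL.coprime_card_of_isPGroup (CL.isPGroup_pCore p G)
      ((Nat.coprime_primes hq.out hp.out).2 hpq.symm)).symm
  haveI : V.Normal := by
    have h1 := (qBaer_normal hB Q).map f hs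
    rwa [Subgroup.map_sup, (Subgroup.map_eq_bot_iff _).2 (by rwa [hf, QuotientGroup.ker_mk']),
      bot_sup_eq] at h1
  have hVq : IsPGroup q V := Q.isPGroup'.map f
  have hVi : V.index.Coprime q :=
    (hq.out.coprime_iff_not_dvd.2 (Q.mapSurjective hs).not_dvd_index).symm
  obtain ⟨A, hA⟩ := exists_right_complement'_of_coprime
    (CL.coprime_card_of_isPGroup hVq hVi).symm
  have hAc : (Nat.card A).Coprime q := by rw [← hA.symm.index_eq_card]; exact hVi
  have hdec : ∀ g, ∃ v ∈ V, ∃ a ∈ A, v * a = g := fun g =>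
    mem_sup_of_normal_left.1 (hA.sup_eq_top ▸ mem_top g)
  have h1 : Group.IsSolvable A := by
    refine CL.OP.isSolvable_of_relIndex (p := p) (V := V) ?_
      (CL.coprime_card_of_isPGroup hVq hAc) ?_
    · haveI : (A ⊓ centralizer (V : Set _)).Normal := by
        refine ⟨fun c hc g => ⟨?_, Normal.conj_mem inferInstance c hc.2 g⟩⟩
        obtain ⟨v, hv, a, ha, rfl⟩ := hdec g
        have h2 : a * c * a⁻¹ ∈ centralizer (V : Set _) := Normal.conj_mem inferInstance c hc.2 a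
        have e : v * a * c * (v * a)⁻¹ = a * c * a⁻¹ := by
          calc v * a * c * (v * a)⁻¹ = v * (a * c * a⁻¹) * v⁻¹ := by group
            _ = _ := by rw [mem_centralizer_iff.1 h2 v hv, mul_inv_cancel_right]
        show _ ∈ A
        rw [e]
        exact mul_mem (mul_mem ha hc.1) (inv_mem ha)
      exact eq_bot_iff.2 ((CL.le_pPrimeCore (Nat.Coprime.coprime_dvd_left
        (card_dvd_of_le inf_le_left) hAc)).trans (CL.pPrimeCore_quotient_pPrimeCore q G).le)
    · rintro _ ⟨x, hx, rfl⟩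
      obtain ⟨k, hk⟩ := pow_eq_one_of_mem_isPGroup Q.isPGroup' hx
      obtain ⟨a, ha⟩ := hB x k hk
      obtain ⟨j, -, hj⟩ := (Nat.dvd_prime_pow hp.out).1 (ha ▸ index_cen_map_dvd hs x)
      refine ⟨j, ?_⟩
      rw [← hj, ← relIndex_top_right, ← ncard_conj_subgroup, ← ncard_conj_subgroup]
      congr 1
      refine Set.Subset.antisymm ?_ ?_
      · rintro _ ⟨u, rfl⟩
        exact ⟨⟨u, mem_top _⟩, rfl⟩
      · rintro _ ⟨⟨g, -⟩, rfl⟩
        obtain ⟨v, hv, a, ha, rfl⟩ := hdec g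
        refine ⟨⟨a, ha⟩, ?_⟩
        have h2 : a * f x * a⁻¹ ∈ V := Normal.conj_mem inferInstance _ (mem_map_of_mem f hx) a
        calc a * f x * a⁻¹ = v * (a * f x * a⁻¹) * v⁻¹ := by
              rw [setLike_mul_comm hv h2, mul_inv_cancel_right]
          _ = v * a * f x * (v * a)⁻¹ := by group
  have h2 := CL.isSolvable_sup_of_normal h1 (CL.isSolvable_of_isPGroup hVq)
  rw [hA.symm.sup_eq_top] at h2
  exact CL.isSolvable_of_mulEquiv topEquiv

end CL.CS
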