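import Mathlib
import Cfsg.Agent.FGS.RealKey
import Cfsg.Agent.FGS.SylowNum
import Cfsg.Agent.SOLV.Fitting
import Cfsg.Agent.SOLV.Coprime
import Cfsg.Agent.SOLV.MinNormal
import Cfsg.Agent.SOLV.CoprimeSylow
import Cfsg.Agent.SOLV.OddOrderCor
import Cfsg.Agent.SIG.FStar
import Cfsg.Agent.S3861
import Cfsg.Agent.S3863

/-!
Real elements of odd order: lifting along quotients, and the structure of groups whose real class sizes
have a disconnected prime graph.
-/

set_option autoImplicit false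
set_option maxHeartbeats 400000

namespace CL.RCls

open Subgroup Cfsg CL.CS CL.RKey
open scoped Pointwise commutatorElement

theorem exists_fix {α : Type*} [Finite α] (h : Odd (Nat.card α)) (f : α → α) {k : ℕ}
    (hf : ∀ a, f^[2 ^ k] a = a) : ∃ a, f a = a := by
  classical
  cases nonempty_fintype α
  have hinj : Function.Injective f := by
    obtain ⟨m, hm⟩ : ∃ m, 2 ^ k = m + 1 := ⟨2 ^ k - 1, by have := Nat.one_le_two_pow (n := k); omega⟩
    intro a b hab
    rw [← hf a, ← hf b, hm, Function.iterate_succ_apply, Function.iterate_succ_apply, hab]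
  let σ : Equiv.Perm α := Equiv.ofBijective f (Finite.injective_iff_bijective.1 hinj)
  have hσ : σ ^ 2 ^ k = 1 := by
    ext a
    rw [Equiv.Perm.coe_pow]
    exact hf a
  exact Equiv.Perm.exists_fixed_point_of_prime (p := 2) (by
    rw [← Nat.card_eq_fintype_card, ← even_iff_two_dvd, Nat.not_even_iff_odd]; exact h) hσ

variable {G : Type*} [Group G] [Finite G]

theorem odd_of_dvd {a b : ℕ} (h : a ∣ b) (hb : Odd b) : Odd a := Odd.of_dvd_nat hb h

/-- lifting real elements of odd order along a normal `2`-subgroup -/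
theorem lift_two (O : Subgroup G) [O.Normal] (hO : IsPGroup 2 O) {y : G ⧸ O} (ho : Odd (orderOf y))
    (hr : IsConj y y⁻¹) : ∃ z : G, (z : G ⧸ O) = y ∧ Odd (orderOf z) ∧ IsConj z z⁻¹ := by
  obtain ⟨w, rfl⟩ := QuotientGroup.mk_surjective y
  obtain ⟨a, b, k, ha, hb, hab⟩ := exists_split w
  obtain ⟨z, hz⟩ : ∃ z, z = w ^ a := ⟨_, rfl⟩
  rw [← hz] at ha hab
  have h1 : ((w : G ⧸ O)) ^ b = 1 := by
    refine eq_one_of_odd (odd_of_dvd (orderOf_pow_dvd b) ho) (k := k) ?_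
    rw [← QuotientGroup.mk_pow, ← QuotientGroup.mk_pow, hb, QuotientGroup.mk_one]
  have hzw : (z : G ⧸ O) = w := by
    conv_rhs => rw [← hab]
    rw [QuotientGroup.mk_mul, QuotientGroup.mk_pow, h1, mul_one]
  refine ⟨z, hzw, ha, ?_⟩
  rw [← hzw] at hr
  obtain ⟨t, htz⟩ := isConj_iff.1 hr
  have hcop : (Nat.card (zpowers z)).Coprime (Nat.card O) := by
    rw [Nat.card_zpowers]; exact coprime_card_of_isPGroup hO (Nat.coprime_two_right.2 ha)
  have hN := normalizer_map_mk'_of_coprime O (zpowers z) hcop (Or.inr (isSolvable_of_isPGroup hO))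
  have htN : t ∈ normalizer (((zpowers z).map (QuotientGroup.mk' O) : Subgroup (G ⧸ O)) :
      Set (G ⧸ O)) := by
    rw [MonoidHom.map_zpowers]
    refine mem_normalizer_fintype ?_
    rintro _ ⟨i, rfl⟩
    simp only [QuotientGroup.mk'_apply]
    rw [← conj_zpow, htz]
    exact zpow_mem (inv_mem (mem_zpowers _)) i
  rw [hN] at htN
  obtain ⟨s, hs, rfl⟩ := htN
  have h2 : s * z * s⁻¹ * z ∈ zpowers z ⊓ O := by
    refine ⟨mul_mem ((mem_normalizer_iff.1 hs z).1 (mem_zpowers z)) (mem_zpowers z), ?_⟩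
    refine (QuotientGroup.eq_one_iff _).1 ?_
    simp only [QuotientGroup.mk'_apply] at htz
    simp only [QuotientGroup.mk_mul, QuotientGroup.mk_inv, htz, inv_mul_cancel]
  rw [disjoint_iff.1 (Subgroup.disjoint_of_coprime_natCard hcop), mem_bot, mul_eq_one_iff_eq_inv] at h2
  exact isConj_iff.2 ⟨s, h2⟩

/-- lifting real elements of odd order along a normal subgroup of odd order -/
theorem lift_odd (N : Subgroup G) [hN : N.Normal] (hodd : Odd (Nat.card N)) {y : G ⧸ N}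
    (ho : Odd (orderOf y)) (hr : IsConj y y⁻¹) :
    ∃ z : G, (z : G ⧸ N) = y ∧ Odd (orderOf z) ∧ IsConj z z⁻¹ := by
  obtain ⟨t, ⟨j, hj⟩, ht⟩ := (Cfsg.Agent.S3863.result y hr).1
  obtain ⟨w, rfl⟩ := QuotientGroup.mk_surjective y
  obtain ⟨t0, rfl⟩ := QuotientGroup.mk_surjective t
  obtain ⟨a, b, k, ha, hb, hab⟩ := exists_split t0
  obtain ⟨s, hs⟩ : ∃ s, s = t0 ^ b := ⟨_, rfl⟩
  rw [← hs] at hb hab
  have h1 : ((t0 ^ a : G) : G ⧸ N) = 1 := by
    refine eq_one_of_odd (odd_of_dvd (orderOf_map_dvd (QuotientGroup.mk' N) _) ha) (k := j) ?_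
    rw [QuotientGroup.mk_pow, ← pow_mul, mul_comm, pow_mul, ← hj, pow_orderOf_eq_one, one_pow]
  have hst : (s : G ⧸ N) = t0 := by
    conv_rhs => rw [← hab]
    rw [QuotientGroup.mk_mul, h1, one_mul]
  rw [← hst] at ht
  have hmem : ∀ n : N, w⁻¹ * (s * (w * n)⁻¹ * s⁻¹) ∈ N := by
    intro n
    refine (QuotientGroup.eq_one_iff _).1 ?_
    have hn : ((n : G) : G ⧸ N) = 1 := (QuotientGroup.eq_one_iff _).2 n.2
    have ht' : (s : G ⧸ N) * (w : G ⧸ N)⁻¹ * (s : G ⧸ N)⁻¹ = w := by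
      calc (s : G ⧸ N) * (w : G ⧸ N)⁻¹ * (s : G ⧸ N)⁻¹ = ((s : G ⧸ N) * w * (s : G ⧸ N)⁻¹)⁻¹ := by group
        _ = w := by rw [ht, inv_inv]
    simp only [QuotientGroup.mk_mul, QuotientGroup.mk_inv, hn, mul_one, ht', inv_mul_cancel]
  let f : N → N := fun n => ⟨_, hmem n⟩
  have hf1 : ∀ n : N, w * (f n : G) = s * (w * n)⁻¹ * s⁻¹ := fun n => by
    simp only [f, mul_inv_cancel_left]
  have hf2 : ∀ (m : ℕ) (n : N), w * (f^[2 * m] n : N) = s ^ (2 * m) * (w * n) * (s ^ (2 * m))⁻¹ := by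
    intro m
    induction m with
    | zero => intro n; simp
    | succ m ih =>
      intro n
      rw [show 2 * (m + 1) = 2 * m + 1 + 1 by ring, Function.iterate_succ_apply',
        Function.iterate_succ_apply', hf1, hf1, ih]
      group
  obtain ⟨n, hn⟩ := exists_fix hodd f (k := k + 1) (fun n => by
    have := hf2 (2 ^ k) n
    rw [mul_comm 2 (2 ^ k), pow_mul s, hb, one_pow, ← pow_succ] at this
    apply Subtype.ext
    simpa using this)
  have hz : s * (w * n)⁻¹ * s⁻¹ = w * n := by rw [← hf1, hn]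
  have hzw : ((w * n : G) : G ⧸ N) = w := by
    rw [QuotientGroup.mk_mul, (QuotientGroup.eq_one_iff _).2 n.2, mul_one]
  refine ⟨w * n, hzw, ?_, (isConj_iff.2 ⟨s, hz⟩).symm⟩
  have h2 : (w * n) ^ orderOf (w : G ⧸ N) ∈ N := by
    refine (QuotientGroup.eq_one_iff _).1 ?_
    rw [QuotientGroup.mk_pow, hzw, pow_orderOf_eq_one]
  have h3 : (w * n) ^ (orderOf (w : G ⧸ N) * Nat.card N) = 1 := by
    rw [pow_mul]
    have := congrArg Subtype.val (pow_card_eq_one' (x := (⟨_, h2⟩ : N)))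
    rwa [Subgroup.coe_pow, Subgroup.coe_one] at this
  exact odd_of_dvd (orderOf_dvd_of_pow_eq_one h3) (ho.mul hodd)

/-- a product of real elements with coprime class sizes is real -/
theorem real_mul {x y : G} (hx : IsConj x x⁻¹) (hy : IsConj y y⁻¹)
    (h : (𝐂[x]).index.Coprime (𝐂[y]).index) : IsConj (x * y) (x * y)⁻¹ := by
  obtain ⟨a, ha⟩ := isConj_iff.1 hx
  obtain ⟨b, hb⟩ := isConj_iff.1 hy
  have h1 := isConj_mul_of_coprime_index h a b
  rw [ha, hb] at h1
  exact h1.trans (isConj_iff.2 ⟨x, by group⟩)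

theorem even_index {x : G} (h : IsConj x x⁻¹) (h1 : x ≠ 1) (ho : Odd (orderOf x)) : 2 ∣ (𝐂[x]).index := by
  by_contra h2
  have := Cfsg.Agent.S3863.sq_eq_one_of_odd_index h
    (by rw [← Nat.not_even_iff_odd, even_iff_two_dvd]; exact h2)
  exact h1 (eq_one_of_odd ho (k := 1) (by simpa using this))

/-- if all real class sizes are odd, there are no two coprime class sizes with the product of the wrong type -/
theorem part1 (hodd : ∀ x : G, IsConj x x⁻¹ → ¬ 2 ∣ (𝐂[x]).index) {x y : G} (hx : IsConj x x⁻¹)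
    (hy : IsConj y y⁻¹) (h : (𝐂[x]).index.Coprime (𝐂[y]).index)
    (h' : (𝐂[x * y]).index.Coprime (𝐂[x]).index) : (𝐂[x]).index = 1 := by
  have hsq : ∀ u : G, IsConj u u⁻¹ → u * u = 1 := fun u hu => by
    have := Cfsg.Agent.S3863.sq_eq_one_of_odd_index hu
      (by rw [← Nat.not_even_iff_odd, even_iff_two_dvd]; exact hodd u hu)
    rwa [sq] at this
  have heq : (𝐂[x * y]).index = (𝐂[y]).index :=
    le_antisymm (Nat.le_of_dvd (index_cen_pos y)
      (h'.dvd_of_dvd_mul_left (index_cen_mul_dvd_of_coprime_index h)))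
      (index_cen_le_mul_of_coprime_index' h)
  rw [index_cen_eq_one_iff, mem_center_iff]
  intro a
  obtain ⟨u, hu⟩ : ∃ u, u = a * x * a⁻¹ := ⟨_, rfl⟩
  have hxx := hsq x hx
  have huu : u * u = 1 := by
    rw [hu]
    calc a * x * a⁻¹ * (a * x * a⁻¹) = a * (x * x) * a⁻¹ := by group
      _ = 1 := by rw [hxx]; group
  have hsub : ∀ c : G, (fun d => c * x * c⁻¹ * d) '' {d | IsConj y d} ⊆ {w | IsConj (x * y) w} := by
    rintro c _ ⟨d, hd, rfl⟩
    obtain ⟨b, rfl⟩ := isConj_iff.1 hd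
    exact isConj_mul_of_coprime_index h c b
  have himg : (fun d => a * x * a⁻¹ * d) '' {d | IsConj y d} = {w | IsConj (x * y) w} := by
    refine Set.eq_of_subset_of_ncard_le (hsub a) ?_
    rw [Set.ncard_image_of_injective _ (mul_right_injective _), ncard_isConj_eq_index,
      ncard_isConj_eq_index, heq]
  have hmem : ∀ d, IsConj y d → IsConj y (u * x * d) := by
    intro d hd
    have h1 : x * d ∈ {w | IsConj (x * y) w} := hsub 1 ⟨d, hd, by simp⟩
    rw [← himg] at h1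
    obtain ⟨e, he, hed⟩ := h1
    have : u * x * d = e := by
      simp only [← hu] at hed
      rw [mul_assoc, ← hed, ← mul_assoc, huu, one_mul]
    rw [this]; exact he
  have hux : u * x * (u * x) = 1 := hsq _ (isConj_iff.2 ⟨x, by
    rw [mul_inv_rev, ← eq_inv_of_mul_eq_one_left hxx, ← eq_inv_of_mul_eq_one_left huu]
    calc x * (u * x) * x = x * u * (x * x) := by group
      _ = x * u := by rw [hxx, mul_one]⟩)
  obtain ⟨⟨d, hd⟩, hfix⟩ := exists_fix (α := {d | IsConj y d}) (by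
    rw [Nat.card_coe_set_eq, ncard_isConj_eq_index, ← Nat.not_even_iff_odd, even_iff_two_dvd]
    exact hodd y hy) (fun d => ⟨u * x * d, hmem d d.2⟩) (k := 1) (fun d => by
      apply Subtype.ext
      show u * x * (u * x * d) = d
      rw [← mul_assoc, hux, one_mul])
  have h1 : u * x = 1 := by
    have := congrArg Subtype.val hfix
    simpa using this
  have h2 : u = x := by
    rw [eq_inv_of_mul_eq_one_left h1, ← eq_inv_of_mul_eq_one_left hxx]
  rw [hu] at h2
  calc a * x = a * x * a⁻¹ * a := by group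
    _ = x * a := by rw [h2]

/-- a product of components without normal `2`-subgroups has a real class of odd elements whose size is not
prime to the number of Sylow `2`-subgroups -/
theorem subsingleton_of_layer (hL : layer G = ⊤) (hO : pCore 2 G = ⊥)
    (h : ∀ y : G, y ≠ 1 → Odd (orderOf y) → IsConj y y⁻¹ →
      (𝐂[y]).index.Coprime (Nat.card (Sylow 2 G))) : layer G = ⊥ := by
  by_contra hne
  have h2 : 2 ∣ Nat.card G := by
    by_contra h2
    exact hne (Comp.layer_eq_bot_of_isSolvable (isSolvable_of_not_two_dvd G h2))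
  have hYr : ∀ y : G, YY y → IsConj y y⁻¹ := by
    rintro y ⟨-, -, S, z, hz, hzy⟩
    exact isConj_iff.2 ⟨z, by rw [← eq_inv_of_mul_eq_one_left hz.2.1, hzy]⟩
  have tr : ∀ y : G, YY y → ∀ S S' : Sylow 2 G, ∃ c : G, c * y = y * c ∧ c • S = S' := by
    intro y hy S S'
    have hc := h y hy.1 hy.2.1 (hYr y hy)
    rw [SN.card_sylow_eq_index S] at hc
    obtain ⟨g, rfl⟩ := MulAction.exists_smul_eq G S S'
    obtain ⟨a, ha, b, hb, rfl⟩ := exists_mul_eq_of_coprime_index _ _ hc g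
    refine ⟨a, (mem_cen.1 ha).eq, ?_⟩
    rw [mul_smul, Sylow.smul_eq_iff_mem_normalizer.2 hb]
  have hex : ∃ y : G, YY y := by
    obtain ⟨S⟩ : Nonempty (Sylow 2 G) := inferInstance
    have hS : Nontrivial (S : Subgroup G) := by
      rw [Subgroup.nontrivial_iff_ne_bot]
      intro hb
      have := S.not_dvd_index
      rw [hb, index_bot] at this
      exact this h2
    have hZ := S.isPGroup'.center_nontrivial
    obtain ⟨n, hn0, hn⟩ := (S.isPGroup'.to_subgroup (center (S : Subgroup G))).nontrivial_iff_card.1 hZ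
    obtain ⟨t, ht⟩ := exists_prime_orderOf_dvd_card' (G := center (S : Subgroup G)) 2
      (by rw [hn]; exact dvd_pow_self 2 hn0.ne')
    obtain ⟨z, hz⟩ : ∃ z : G, z = ((t : (S : Subgroup G)) : G) := ⟨_, rfl⟩
    have hz2 : orderOf z = 2 := by rw [hz, Subgroup.orderOf_coe, Subgroup.orderOf_coe, ht]
    have hzz : z * z = 1 := by rw [← sq, ← hz2, pow_orderOf_eq_one]
    obtain ⟨y, hy1, hyo, hzy⟩ := Cfsg.Agent.S0200.result z hz2 (by
      intro N hN hN2 hzN
      have := le_pCore hN2 hzN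
      rw [hO, mem_bot] at this
      simp [this] at hz2)
    refine ⟨y, hy1, hyo, S, z, ⟨hz ▸ (t : (S : Subgroup G)).2, hzz, fun s hs => ?_⟩, ?_⟩
    · have := congrArg Subtype.val (mem_center_iff.1 t.2 ⟨s, hs⟩)
      rw [hz]; exact this
    · rw [← hzy, ← eq_inv_of_mul_eq_one_left hzz]
  obtain ⟨y, hy, hall⟩ := key tr hex
  obtain ⟨W, hW⟩ : ∃ W : Subgroup G, W = closure {t | ∃ S : Sylow 2 G, Om S t} := ⟨_, rfl⟩
  have hWn : W.Normal := by
    refine ⟨fun n hn g => ?_⟩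
    rw [hW] at hn ⊢
    induction hn using closure_induction with
    | mem t ht => obtain ⟨S, hS⟩ := ht; exact subset_closure ⟨_, hS.smul g⟩
    | one => simp
    | mul a b _ _ ha hb =>
      have := mul_mem ha hb
      rwa [show g * a * g⁻¹ * (g * b * g⁻¹) = g * (a * b) * g⁻¹ by group] at this
    | inv a _ ha =>
      have := inv_mem ha
      rwa [show (g * a * g⁻¹)⁻¹ = g * a⁻¹ * g⁻¹ by group] at this
  have hWN : W ≤ normalizer (zpowers y : Set G) := by
    rw [hW, closure_le]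
    rintro t ⟨S, hS⟩
    refine mem_normalizer_fintype ?_
    rintro _ ⟨i, rfl⟩
    simp only
    rw [← conj_zpow, ← eq_inv_of_mul_eq_one_left hS.2.1]
    rcases hall S t hS with e | e
    · rw [e]; exact zpow_mem (mem_zpowers _) i
    · rw [e]; exact zpow_mem (inv_mem (mem_zpowers _)) i
  obtain ⟨hy1, hyo, S, z, hz, hzy⟩ := hy
  have hzW : z ∈ W := hW ▸ subset_closure ⟨S, hz⟩
  have hyW : y ∈ W := by
    have h1 : y * z * y⁻¹ * z ∈ W := mul_mem (hWn.conj_mem z hzW y) hzW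
    have h2 : y * z * y⁻¹ * z = y * y := by
      have h3 : z * y⁻¹ * z = y := by
        rw [← hzy]
        calc z * (z * y * z) * z = z * z * y * (z * z) := by group
          _ = y := by rw [hz.2.1]; group
      calc y * z * y⁻¹ * z = y * (z * y⁻¹ * z) := by group
        _ = y * y := by rw [h3]
    obtain ⟨k, hk⟩ := exists_sq_eq hyo
    rw [h2] at h1
    have h4 := pow_mem h1 k
    rwa [(Commute.refl y).mul_pow, hk] at h4
  have hsn : (zpowers y).IsSubnormal := by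
    refine Subgroup.IsSubnormal.step _ W ((zpowers_le).2 hyW) hWn.isSubnormal ?_
    exact normal_subgroupOf_of_le_normalizer hWN
  have hc := Comp.layer_commutator_eq_bot_of_isSolvable_subnormal hsn inferInstance
  rw [hL, commutator_eq_bot_iff_le_centralizer] at hc
  have h5 : y * z = z * y := hc (mem_top z) y (mem_zpowers y)
  refine hy1 (eq_one_of_odd hyo (k := 1) ?_)
  have h6 : y = y⁻¹ := by
    rw [← hzy, ← h5, mul_assoc, hz.2.1, mul_one]
  rw [pow_one, sq]
  exact mul_eq_one_iff_eq_inv.2 h6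

theorem caseA {c : ℕ} (hO : pCore 2 G = ⊥) (hn : Nat.card (Sylow 2 G) ∣ c)
    (h : ∀ y : G, y ≠ 1 → Odd (orderOf y) → IsConj y y⁻¹ → (𝐂[y]).index.Coprime c)
    {y : G} (ho : Odd (orderOf y)) (hr : IsConj y y⁻¹) : y ∈ fittingSubgroup G := by
  by_cases hy1 : y = 1
  · rw [hy1]; exact one_mem _
  obtain ⟨S⟩ : Nonempty (Sylow 2 G) := inferInstance
  have hL : layer G = ⊥ := by
    have hE : layer ↥(layer G) = ⊤ := Comp.layerOf_eq_self_iff.1 Comp.layerOf_layer
    have h1 := subsingleton_of_layer hE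
      (pCore_eq_bot_of_isSubnormal (Comp.layer_normal (G := G)).isSubnormal hO) (by
        intro u hu1 huo hur
        have h2 := h u (fun e => hu1 (Subtype.ext e)) (by rwa [Subgroup.orderOf_coe])
          (by simpa using (layer G).subtype.map_isConj hur)
        have h3 : Nat.card (Sylow 2 (layer G)) ∣ c := by
          refine dvd_trans ?_ hn
          rw [SN.card_sylow_eq_mul_mul S (layer G)]
          exact Dvd.dvd.mul_right (Dvd.intro_left _ rfl) _
        exact Nat.Coprime.coprime_dvd_left (index_cen_normal_dvd u) (h2.coprime_dvd_right h3))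
    rw [hE] at h1
    rw [eq_bot_iff]
    intro x hx
    have : (⟨x, hx⟩ : layer G) ∈ (⊥ : Subgroup (layer G)) := h1 ▸ mem_top _
    rw [mem_bot] at this ⊢
    exact congrArg Subtype.val this
  refine Comp.centralizer_fitting_le_iff.2 hL (le_cen_iff.1 ?_)
  rw [fittingSubgroup_eq_iSup_pCore, iSup_le_iff]
  rintro ⟨p, hp⟩
  haveI : Fact p.Prime := ⟨hp⟩
  show pCore p G ≤ _
  by_cases hp2 : p = 2
  · subst hp2; rw [hO]; exact bot_le
  by_cases hpc : p ∣ c
  · refine le_cen_of_normal_isPGroup (p := p) (fun hd => ?_) (isPGroup_pCore p G)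
    exact hp.one_lt.ne' (Nat.eq_one_of_dvd_coprimes (h y hy1 ho hr) hd hpc)
  have h1 : pCore p G ≤ normalizer ((S : Subgroup G) : Set G) := by
    obtain ⟨P, hP⟩ := exists_sylow_le_of_not_dvd_index (p := p)
      (H := normalizer ((S : Subgroup G) : Set G)) (fun hd => hpc (by
        rw [← SN.card_sylow_eq_index S] at hd; exact hd.trans hn))
    exact (pCore_le_sylow P).trans hP
  have h2 : (S : Subgroup G) ≤ centralizer (pCore p G : Set G) := by
    intro s hs x hx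
    have h3 : x * s * x⁻¹ * s⁻¹ ∈ pCore p G ⊓ (S : Subgroup G) := by
      refine mem_inf.2 ⟨?_, mul_mem ((mem_normalizer_iff.1 (h1 hx) s).1 hs) (inv_mem hs)⟩
      have := mul_mem hx ((inferInstance : (pCore p G).Normal).conj_mem _ (inv_mem hx) s)
      rwa [show x * (s * x⁻¹ * s⁻¹) = x * s * x⁻¹ * s⁻¹ by group] at this
    rw [disjoint_iff.1 (IsPGroup.disjoint_of_ne p 2 hp2 _ _ (isPGroup_pCore p G) S.isPGroup'),
      mem_bot] at h3
    calc x * s = x * s * x⁻¹ * s⁻¹ * (s * x) := by group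
      _ = s * x := by rw [h3, one_mul]
  obtain ⟨hy, -⟩ := (Cfsg.Agent.S3863.result y hr).2.2 (centralizer (pCore p G : Set G)) (by
    rw [← Nat.not_even_iff_odd, even_iff_two_dvd]; exact not_dvd_index_of_sylow_le h2)
  exact le_cen_iff.2 hy

/-- if all real elements of odd order lie in a normal subgroup `N` of odd order, then `G / N` is `2`-closed -/
theorem finish (N : Subgroup G) [N.Normal] (hodd : Odd (Nat.card N))
    (h : ∀ y : G, Odd (orderOf y) → IsConj y y⁻¹ → y ∈ N) :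
    ∃ M : Subgroup G, M.Normal ∧ Odd M.index ∧ Group.IsSolvable M ∧ ∃ k, Nat.card M = 2 ^ k * Nat.card N := by
  obtain ⟨P⟩ : Nonempty (Sylow 2 (G ⧸ N)) := inferInstance
  have hP : (P : Subgroup (G ⧸ N)).Normal := (Cfsg.Agent.S3861.result P).1 (by
    intro x hx1 hxo hxr
    obtain ⟨z, rfl, hzo, hzr⟩ := lift_odd N hodd hxo hxr
    exact hx1 ((QuotientGroup.eq_one_iff _).2 (h z hzo hzr)))
  obtain ⟨k, hk⟩ := P.isPGroup'.exists_card_eq
  refine ⟨(P : Subgroup (G ⧸ N)).comap (QuotientGroup.mk' N), inferInstance, ?_, ?_, k, ?_⟩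
  · rw [index_comap_mk', ← Nat.not_even_iff_odd, even_iff_two_dvd]; exact P.not_dvd_index
  · refine isSolvable_comap _ _ (isSolvable_of_isPGroup P.isPGroup') ?_
    rw [QuotientGroup.ker_mk']
    exact isSolvable_of_odd _ hodd
  · rw [card_comap_mk', hk]

section main

variable {ρ σ : Set ℕ} (hd : Disjoint ρ σ)
  (hcls : ∀ x : G, IsConj x x⁻¹ → IsPiNum ρ (𝐂[x]).index ∨ IsPiNum σ (𝐂[x]).index)
include hd

theorem coprime_of {a b : ℕ} (ha : IsPiNum ρ a) (hb : IsPiNum σ b) : a.Coprime b :=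
  ha.coprime (hb.mono fun _ h1 h2 => Set.disjoint_left.1 hd h2 h1)

include hcls

/-- some real class size is even -/
theorem exists_even {x y : G} (hx : IsConj x x⁻¹) (hy : IsConj y y⁻¹) (hxρ : IsPiNum ρ (𝐂[x]).index)
    (hyσ : IsPiNum σ (𝐂[y]).index) (hx1 : (𝐂[x]).index ≠ 1) (hy1 : (𝐂[y]).index ≠ 1) :
    ∃ u : G, IsConj u u⁻¹ ∧ 2 ∣ (𝐂[u]).index := by
  by_contra hne
  push Not at hne
  have hc := coprime_of hd hxρ hyσ
  rcases hcls _ (real_mul hx hy hc) with h | h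
  · refine hy1 (part1 hne hy hx hc.symm ?_)
    rw [← index_cen_of_isConj (isConj_iff.2 ⟨y, by group⟩ : IsConj (x * y) (y * x))]
    exact coprime_of hd h hyσ
  · exact hx1 (part1 hne hx hy hc (coprime_of hd hxρ h).symm)

variable (h2 : 2 ∉ σ) {i : G} (hi : IsConj i i⁻¹) (hiσ : IsPiNum σ (𝐂[i]).index) (hi1 : (𝐂[i]).index ≠ 1)
include h2

theorem piNum_of_odd {y : G} (hy1 : y ≠ 1) (ho : Odd (orderOf y)) (hr : IsConj y y⁻¹) :
    IsPiNum ρ (𝐂[y]).index :=
  (hcls y hr).resolve_right fun h => h2 (h 2 Nat.prime_two (even_index hr hy1 ho))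

include hi hiσ

omit hd hcls in
theorem sq_eq_one : i * i = 1 := by
  have := Cfsg.Agent.S3863.sq_eq_one_of_odd_index hi
    (by rw [← Nat.not_even_iff_odd, even_iff_two_dvd]; exact fun h => h2 (hiσ 2 Nat.prime_two h))
  rwa [sq] at this

include hi1

theorem not_comm {y : G} (hy1 : y ≠ 1) (ho : Odd (orderOf y)) (hr : IsConj y y⁻¹) : ¬ Commute i y := by
  intro hc
  have hy := piNum_of_odd hd hcls h2 hy1 ho hr
  have hco : (orderOf i).Coprime (orderOf y) :=
    Nat.Coprime.coprime_dvd_left (orderOf_dvd_of_pow_eq_one (n := 2) (by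
      rw [sq]; exact sq_eq_one h2 hi hiσ)) (Nat.coprime_two_left.2 ho)
  rcases hcls _ (real_mul hi hr (coprime_of hd hy hiσ).symm) with h | h
  · exact hi1 (Nat.eq_one_of_dvd_coprimes (coprime_of hd h hiσ) (index_cen_dvd_mul_left hc hco) dvd_rfl)
  · exact h2 (h 2 Nat.prime_two ((even_index hr hy1 ho).trans (index_cen_dvd_mul_right hc hco)))

theorem card_sylow_dvd : Nat.card (Sylow 2 G) ∣ (𝐂[i]).index := by
  obtain ⟨S, hS⟩ := exists_sylow_le_of_not_dvd_index (p := 2) (H := 𝐂[i])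
    (fun h => h2 (hiσ 2 Nat.prime_two h))
  have hn : ((S.subtype hS : Sylow 2 𝐂[i]) : Subgroup 𝐂[i]).Normal :=
    (Cfsg.Agent.S3861.result _).1 (fun x hx1 hxo hxr =>
      not_comm hd hcls h2 hi hiσ hi1 (y := x) (fun e => hx1 (Subtype.ext e))
        (by rwa [Subgroup.orderOf_coe]) (by simpa using (𝐂[i]).subtype.map_isConj hxr)
        (mem_cen'.1 x.2))
  rw [SN.card_sylow_eq_index S]
  refine index_dvd_of_le ?_
  rw [Sylow.coe_subtype] at hn
  exact (normal_subgroupOf_iff_le_normalizer hS).1 hn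

theorem piNum_order {y : G} (ho : Odd (orderOf y)) (hr : IsConj y y⁻¹) : IsPiNum σ (orderOf y) := by
  intro p hp hpd
  by_contra hpσ
  haveI : Fact p.Prime := ⟨hp⟩
  obtain ⟨u, hu⟩ : ∃ u, u = y ^ (orderOf y / p) := ⟨_, rfl⟩
  have huo : orderOf u = p := by
    rw [hu]; exact orderOf_pow_orderOf_div (orderOf_pos y).ne' hpd
  have hur : IsConj u u⁻¹ := by
    rw [hu, ← inv_pow]; exact hr.pow _
  obtain ⟨P, hP⟩ := exists_sylow_le_of_not_dvd_index (p := p) (H := 𝐂[i]) (fun h => hpσ (hiσ p hp h))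
  have hpu : IsPGroup p (zpowers u) := IsPGroup.of_card (n := 1) (by rw [Nat.card_zpowers, huo, pow_one])
  obtain ⟨Q, hQ⟩ := hpu.exists_le_sylow
  obtain ⟨g, rfl⟩ := MulAction.exists_smul_eq G Q P
  have h1 : g * u * g⁻¹ ∈ 𝐂[i] := by
    apply hP
    rw [Sylow.coe_subgroup_smul]
    exact conj_mem_conj_smul (hQ (mem_zpowers u))
  have hc : IsConj u (g * u * g⁻¹) := isConj_iff.2 ⟨g, rfl⟩
  have ho' : orderOf (g * u * g⁻¹) = p := by
    rw [← huo]; exact (MulAut.conj g).orderOf_eq u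
  refine not_comm hd hcls h2 hi hiσ hi1 (y := g * u * g⁻¹) (fun e => ?_) ?_ ?_ (mem_cen'.1 h1)
  · rw [e, orderOf_one] at ho'; exact hp.one_lt.ne ho'
  · rw [ho']; exact odd_of_dvd hpd ho
  · exact hc.symm.trans (hur.trans (isConj_iff.2 ⟨g, by group⟩))

theorem main : ∃ M : Subgroup G, M.Normal ∧ Odd M.index ∧ Group.IsSolvable M ∧
    IsPiNum ({2} ∪ σ) (Nat.card M) := by
  have hO := isPGroup_pCore 2 G
  have hNσ := isPiNum_card_piCore σ (G ⧸ pCore 2 G)
  obtain ⟨M, hM, hMi, hMs, k, hk⟩ := finish (piCore σ (G ⧸ pCore 2 G)) (by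
    rw [← Nat.not_even_iff_odd, even_iff_two_dvd]; exact fun h => h2 (hNσ 2 Nat.prime_two h)) (by
    intro y ho hr
    have hF := caseA (c := (𝐂[i]).index) (pCore_quotient_pCore 2 G) (by
      rw [SN.card_sylow_quotient_of_isPGroup _ hO]; exact card_sylow_dvd hd hcls h2 hi hiσ hi1) (by
      intro u hu1 huo hur
      obtain ⟨z, rfl, hzo, hzr⟩ := lift_two _ hO huo hur
      exact Nat.Coprime.coprime_dvd_left (index_cen_mk'_dvd _ z)
        (coprime_of hd (piNum_of_odd hd hcls h2 (fun e => hu1 (by simp [e])) hzo hzr) hiσ)) ho hr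
    obtain ⟨z, rfl, hzo, hzr⟩ := lift_two _ hO ho hr
    refine le_piCore_of_le_fittingSubgroup ((zpowers_le).2 hF) ?_ (mem_zpowers _)
    rw [Nat.card_zpowers]
    exact (piNum_order hd hcls h2 hi hiσ hi1 hzo hzr).of_dvd
      (orderOf_map_dvd (QuotientGroup.mk' (pCore 2 G)) z))
  refine ⟨M.comap (QuotientGroup.mk' _), inferInstance, by rwa [index_comap_mk'], ?_, ?_⟩
  · refine isSolvable_comap _ _ hMs ?_
    rw [QuotientGroup.ker_mk']
    exact isSolvable_of_isPGroup hO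
  · rw [card_comap_mk', hk]
    exact ((isPiNum_of_mem Nat.prime_two (Or.inl rfl) k).mul (hNσ.mono Set.subset_union_right)).mul
      (IsPiNum.of_isPGroup hO (Or.inl rfl))

end main

/-- unpacking the hypothesis on the prime graph -/
theorem setup {π₁ π₂ : Set ℕ} (h₁ : π₁.Nonempty) (h₂ : π₂.Nonempty) (hdisj : Disjoint π₁ π₂)
    (hsub : ∀ q ∈ π₁ ∪ π₂, q.Prime ∧ ∃ n ∈ {n : ℕ | ∃ x : G, IsConj x x⁻¹ ∧ (𝐂[x]).index = n}, q ∣ n)
    (hcover : ∀ q : ℕ, q.Prime → (∃ n ∈ {n : ℕ | ∃ x : G, IsConj x x⁻¹ ∧ (𝐂[x]).index = n}, q ∣ n) →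
      q ∈ π₁ ∨ q ∈ π₂)
    (hno : ∀ a ∈ π₁, ∀ b ∈ π₂, ∀ n ∈ {n : ℕ | ∃ x : G, IsConj x x⁻¹ ∧ (𝐂[x]).index = n},
      ¬ (a ∣ n ∧ b ∣ n)) :
    (∃ u : G, IsConj u u⁻¹ ∧ 2 ∣ (𝐂[u]).index) ∧ ∃ (ρ σ : Set ℕ) (i : G), Disjoint ρ σ ∧
      (∀ x : G, IsConj x x⁻¹ → IsPiNum ρ (𝐂[x]).index ∨ IsPiNum σ (𝐂[x]).index) ∧ 2 ∉ σ ∧
      IsConj i i⁻¹ ∧ IsPiNum σ (𝐂[i]).index ∧ (𝐂[i]).index ≠ 1 := by
  have hcls : ∀ x : G, IsConj x x⁻¹ → IsPiNum π₁ (𝐂[x]).index ∨ IsPiNum π₂ (𝐂[x]).index := by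
    intro x hx
    by_contra hne
    simp only [IsPiNum, not_or, not_forall] at hne
    obtain ⟨⟨a, ha, had, ha1⟩, b, hb, hbd, hb2⟩ := hne
    exact hno b ((hcover b hb ⟨_, ⟨x, hx, rfl⟩, hbd⟩).resolve_right hb2) a
      ((hcover a ha ⟨_, ⟨x, hx, rfl⟩, had⟩).resolve_left ha1) _ ⟨x, hx, rfl⟩ ⟨hbd, had⟩
  obtain ⟨a, ha⟩ := h₁
  obtain ⟨b, hb⟩ := h₂
  obtain ⟨hap, _, ⟨x, hx, rfl⟩, had⟩ := hsub a (Or.inl ha)
  obtain ⟨hbp, _, ⟨y, hy, rfl⟩, hbd⟩ := hsub b (Or.inr hb)
  have hx1 : (𝐂[x]).index ≠ 1 := fun e => hap.one_lt.ne' (Nat.dvd_one.1 (e ▸ had))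
  have hy1 : (𝐂[y]).index ≠ 1 := fun e => hbp.one_lt.ne' (Nat.dvd_one.1 (e ▸ hbd))
  have hxρ := (hcls x hx).resolve_right fun h => Set.disjoint_left.1 hdisj ha (h a hap had)
  have hyσ := (hcls y hy).resolve_left fun h => Set.disjoint_left.1 hdisj (h b hbp hbd) hb
  refine ⟨exists_even hdisj hcls hx hy hxρ hyσ hx1 hy1, ?_⟩
  by_cases h2 : 2 ∈ π₂
  · exact ⟨π₂, π₁, x, hdisj.symm, fun u hu => (hcls u hu).symm,
      fun h => Set.disjoint_left.1 hdisj h h2, hx, hxρ, hx1⟩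
  · exact ⟨π₁, π₂, y, hdisj, hcls, h2, hy, hyσ, hy1⟩

end CL.RCls
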