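import Mathlib
import Cfsg.Agent.FGS.TwoSizes
import Cfsg.Agent.SOLV.MinNormal
import Cfsg.Agent.SOLV.OddOrderCor

/-!
# Groups acting on an abelian group with all fixed points in a fixed subgroup
-/

set_option linter.style.haveILetI false
set_option autoImplicit false

namespace CL.CS.Semi

open Subgroup Cfsg

variable {A W : Type*} [CommGroup A] [Finite A] [Group W] [Finite W] (φ : W →* MulAut A)
  (Z : Subgroup A) (hZ : ∀ w, ∀ z ∈ Z, φ w z = z) (hf : ∀ w, w ≠ 1 → ∀ a, φ w a = a → a ∈ Z)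

include hZ hf

theorem key {q : ℕ} [hq : Fact q.Prime] {a₀ : A} {i : ℕ} (ha : a₀ ^ q ^ i = 1) (haZ : a₀ ∉ Z)
    {w : W} {j : ℕ} (hw : w ^ q ^ j = 1) (hw1 : w ≠ 1) {K : Subgroup W}
    (hK : (Nat.card K).Coprime q) (hn : w ∈ normalizer (K : Set W)) : K = ⊥ := by
  classical
  by_contra hne
  haveI := Fintype.ofFinite K
  let τ : A →* A :=
    { toFun := fun a => ∏ k : K, φ k a
      map_one' := by simp
      map_mul' := fun a b => by simp [Finset.prod_mul_distrib] }
  have hτ : ∀ a, τ a = ∏ k : K, φ k a := fun _ => rfl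
  have hτZ : ∀ z ∈ Z, τ z = z ^ Nat.card K := by
    intro z hz
    rw [hτ, Finset.prod_congr rfl fun (k : K) _ => hZ k z hz]
    simp
  have hτmem : ∀ a, τ a ∈ Z := by
    intro a
    obtain ⟨k₀, hk₀⟩ := (Subgroup.ne_bot_iff_exists_ne_one.1 hne)
    refine hf k₀ (fun e => hk₀ (Subtype.ext e)) _ ?_
    rw [hτ, map_prod]
    refine Fintype.prod_equiv (Equiv.mulLeft k₀) _ _ fun k => ?_
    simp
  have hτw : ∀ a, τ (φ w a) = φ w (τ a) := by
    intro a
    rw [hτ, hτ, map_prod]
    let e : K ≃ K :=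
      { toFun := fun k => ⟨w⁻¹ * k * w, by
          have := (mem_normalizer_iff.1 (inv_mem hn) k).1 k.2
          simpa using this⟩
        invFun := fun k => ⟨w * k * w⁻¹, (mem_normalizer_iff.1 hn k).1 k.2⟩
        left_inv := fun k => by ext; simp [mul_assoc]
        right_inv := fun k => by ext; simp [mul_assoc] }
    refine Fintype.prod_equiv e _ _ fun k => ?_
    change φ k (φ w a) = φ w (φ (w⁻¹ * k * w) a)
    rw [← MulAut.mul_apply, ← MulAut.mul_apply, ← map_mul, ← map_mul]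
    congr 2
    group
  let E : Subgroup A :=
    { carrier := {a | a ^ q ^ i = 1 ∧ τ a = 1}
      one_mem' := ⟨one_pow _, map_one _⟩
      mul_mem' := fun {a b} ha hb => ⟨by rw [mul_pow, ha.1, hb.1, one_mul],
        by rw [map_mul, ha.2, hb.2, one_mul]⟩
      inv_mem' := fun {a} ha => ⟨by rw [inv_pow, ha.1, inv_one], by rw [map_inv, ha.2, inv_one]⟩ }
  have hEp : IsPGroup q E := fun e => ⟨i, Subtype.ext e.2.1⟩
  have hEne : E ≠ ⊥ := by
    intro hb
    have h1 : a₀ ^ Nat.card K * (τ a₀)⁻¹ ∈ E := by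
      refine ⟨?_, ?_⟩
      · rw [mul_pow, ← pow_mul, mul_comm (Nat.card K), pow_mul, ha, one_pow, inv_pow, ← map_pow,
          ha, map_one, inv_one, one_mul]
      · rw [map_mul, map_inv, hτZ _ (hτmem a₀), map_pow, mul_inv_cancel]
    rw [hb, mem_bot, mul_inv_eq_one] at h1
    exact haZ (mem_of_pow_mem_of_coprime (hK.pow_right i) (h1 ▸ hτmem a₀) (ha ▸ one_mem _))
  have hEw : ∀ v : W, (∀ a, τ (φ v a) = φ v (τ a)) → ∀ a ∈ E, φ v a ∈ E := by
    intro v hv a ha
    exact ⟨by rw [← map_pow, ha.1, map_one], by rw [hv, ha.2, map_one]⟩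
  have hτw' : ∀ a, τ (φ w⁻¹ a) = φ w⁻¹ (τ a) := by
    intro a
    have := hτw (φ w⁻¹ a)
    rw [← MulAut.mul_apply, ← map_mul, mul_inv_cancel, map_one, MulAut.one_apply] at this
    rw [this, ← MulAut.mul_apply, ← map_mul, inv_mul_cancel, map_one, MulAut.one_apply]
  let σ : Equiv.Perm E :=
    { toFun := fun e => ⟨φ w e, hEw w hτw e e.2⟩
      invFun := fun e => ⟨φ w⁻¹ e, hEw w⁻¹ hτw' e e.2⟩
      left_inv := fun e => by ext; simp
      right_inv := fun e => by ext; simp }
  have hσ : ∀ n : ℕ, ∀ e : E, ((σ ^ n) e : A) = φ (w ^ n) e := by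
    intro n
    induction n with
    | zero => intro e; simp
    | succ n ih =>
      intro e
      rw [pow_succ', Equiv.Perm.mul_apply, pow_succ', map_mul, MulAut.mul_apply, ← ih]
      rfl
  haveI := Fintype.ofFinite E
  have hd : q ∣ Fintype.card E := by
    obtain ⟨n, hn⟩ := hEp.exists_card_eq
    rw [← Nat.card_eq_fintype_card, hn]
    refine dvd_pow_self q ?_
    rintro rfl
    exact hEne (Subgroup.eq_bot_of_card_eq _ (by simpa using hn))
  obtain ⟨b, hb, hb1⟩ := Equiv.Perm.exists_fixed_point_of_prime' (n := j) hd (σ := σ)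
    (by ext e; rw [hσ, hw]; simp) (a := 1) (by ext; simp [σ])
  have hbZ : (b : A) ∈ Z := hf w hw1 _ (congrArg Subtype.val hb)
  apply hb1
  apply Subtype.ext
  have h2 : (b : A) ^ Nat.card K = 1 := by rw [← hτZ _ hbZ]; exact b.2.2
  exact mem_bot.1 (mem_of_pow_mem_of_coprime (hK.pow_right i) (mem_bot.2 h2) (mem_bot.2 b.2.1))

omit [Finite A] [Finite W] in
theorem pow_eq_one_of_triv {n : ℕ} {a : A} (ha : a ^ n = 1) (haZ : a ∉ Z) {w : W}
    (hw : φ w a * a⁻¹ ∈ Z) : w ^ n = 1 := by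
  by_contra hne
  refine haZ (hf _ hne a ?_)
  have h : ∀ k : ℕ, φ (w ^ k) a = (φ w a * a⁻¹) ^ k * a := by
    intro k
    induction k with
    | zero => simp
    | succ k ih =>
      rw [pow_succ', map_mul, MulAut.mul_apply, ih, map_mul, map_pow, hZ w _ hw, pow_succ]
      simp [mul_assoc]
  rw [h, mul_pow, ← map_pow, inv_pow, ha]
  simp

theorem two_primes {q r : ℕ} [hq : Fact q.Prime] [hr : Fact r.Prime] (hqr : q ≠ r)
    {a b : A} {i j : ℕ} (ha : a ^ q ^ i = 1) (haZ : a ∉ Z) (hb : b ^ r ^ j = 1) (hbZ : b ∉ Z)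
    {v w : W} {k l : ℕ} (hv : v ^ q ^ k = 1) (hv1 : v ≠ 1) (hw : w ^ r ^ l = 1) (hw1 : w ≠ 1) :
    False := by
  have main : ∀ (t : ℕ), t.Prime → ∀ T : Subgroup W, T.Normal → IsPGroup t T → T = ⊥ := by
    intro t ht T hTn hT
    haveI : Fact t.Prime := ⟨ht⟩
    obtain ⟨n, hn⟩ := hT.exists_card_eq
    by_cases htq : t = q
    · refine key φ Z hZ hf hb hbZ hw hw1 ?_ (by rw [normalizer_eq_top]; trivial)
      rw [hn, htq]
      exact Nat.Coprime.pow_left _ ((Nat.coprime_primes hq.out hr.out).2 hqr)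
    · refine key φ Z hZ hf ha haZ hv hv1 ?_ (by rw [normalizer_eq_top]; trivial)
      rw [hn]
      exact Nat.Coprime.pow_left _ ((Nat.coprime_primes ht hq.out).2 htq)
  by_cases h2 : 2 ∣ Nat.card W
  · obtain ⟨t, ht⟩ := exists_prime_orderOf_dvd_card' 2 h2
    have hinv : ∀ s : W, orderOf s = 2 → ∀ c, φ s c * c ∈ Z := by
      intro s hs c
      have hs1 : s ≠ 1 := by rintro rfl; simp at hs
      refine hf s hs1 _ ?_
      have : s * s = 1 := by rw [← pow_two, ← hs, pow_orderOf_eq_one]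
      rw [map_mul, ← MulAut.mul_apply, ← map_mul, this, map_one, MulAut.one_apply, mul_comm]
    have huniq : ∀ s : W, orderOf s = 2 → t * s = 1 := by
      intro s hs
      have htriv : ∀ c, φ (t * s) c * c⁻¹ ∈ Z := by
        intro c
        have h1 := hinv s hs c
        have h2 := hinv t ht c
        have e : φ (t * s) c * c⁻¹ = (φ s c * c) * (φ t c * c)⁻¹ := by
          have h3 := hZ t _ h1
          rw [map_mul] at h3
          rw [map_mul, MulAut.mul_apply, ← h3]
          simp [mul_assoc, mul_comm, mul_left_comm]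
        rw [e]
        exact mul_mem h1 (inv_mem h2)
      have e1 := pow_eq_one_of_triv φ Z hZ hf ha haZ (htriv a)
      have e2 := pow_eq_one_of_triv φ Z hZ hf hb hbZ (htriv b)
      exact mem_bot.1 (mem_of_pow_mem_of_coprime
        (Nat.Coprime.pow i j ((Nat.coprime_primes hq.out hr.out).2 hqr)) (mem_bot.2 e1)
        (mem_bot.2 e2))
    have hcen : t ∈ center W := by
      rw [mem_center_iff]
      intro g
      have h1 := huniq (g * t * g⁻¹) (by
        rw [← ht]; exact (MulAut.conj g).orderOf_eq t)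
      have h2 := huniq t ht
      have h3 : g * t * g⁻¹ = t := mul_left_cancel (h1.trans h2.symm)
      exact mul_inv_eq_iff_eq_mul.1 h3
    have hle : zpowers t ≤ center W := by rwa [zpowers_le]
    have := main 2 Nat.prime_two (zpowers t) ⟨fun n hn g => by
      rw [mem_center_iff.1 (hle hn) g]; simpa using hn⟩
      (IsPGroup.of_card (n := 1) (by rw [Nat.card_zpowers, ht]; rfl))
    rw [zpowers_eq_bot] at this
    rw [this] at ht
    simp at ht
  · haveI := CL.isSolvable_of_not_two_dvd W h2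
    haveI : Nontrivial W := ⟨⟨v, 1, hv1⟩⟩
    obtain ⟨t, ht, hne⟩ := CL.exists_pCore_ne_bot W
    exact hne (main t ht _ inferInstance (CL.isPGroup_pCore t W))

end CL.CS.Semi
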