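import Mathlib
import Cfsg.Agent.FGS.RegTwoA
import Cfsg.Agent.FGS.CoprimeCS

/-!
# Groups with two class sizes of `p`-regular elements
-/

set_option linter.style.haveILetI false
set_option autoImplicit false

namespace CL.CS

open Subgroup Cfsg
open scoped commutatorElement

variable {G : Type*} [Group G] [Finite G]

theorem semi_two_primes {A : Subgroup G} [hA : IsMulCommutative A]
    (hf : ∀ n ∈ normalizer (A : Set G), ∀ a ∈ A, a ∉ center G → Commute n a →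
      n ∈ centralizer (A : Set G))
    {q r : ℕ} [hq : Fact q.Prime] [hr : Fact r.Prime] (hqr : q ≠ r)
    {a b : G} {i j : ℕ} (haA : a ∈ A) (ha : a ^ q ^ i = 1) (haZ : a ∉ center G)
    (hbA : b ∈ A) (hb : b ^ r ^ j = 1) (hbZ : b ∉ center G)
    {v w : G} {k l : ℕ} (hvN : v ∈ normalizer (A : Set G)) (hv : v ^ q ^ k = 1)
    (hv1 : v ∉ centralizer (A : Set G)) (hwN : w ∈ normalizer (A : Set G)) (hw : w ^ r ^ l = 1)
    (hw1 : w ∉ centralizer (A : Set G)) : False := by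
  letI : CommGroup A := { (inferInstance : Group A) with mul_comm := hA.is_comm.comm }
  let f := A.normalizerMonoidHom
  have hfa : ∀ (n : normalizer (A : Set G)) (a : A), (f n a : G) = n * a * (n : G)⁻¹ :=
    fun _ _ => rfl
  have hker : ∀ n : normalizer (A : Set G), f n = 1 ↔ (n : G) ∈ centralizer (A : Set G) := by
    intro n
    rw [← MonoidHom.mem_ker, normalizerMonoidHom_ker, mem_subgroupOf]
  refine Semi.two_primes (A := A) (W := f.range) f.range.subtype ((center G).subgroupOf A) ?_ ?_ hqr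
    (a := ⟨a, haA⟩) (b := ⟨b, hbA⟩) (i := i) (j := j) (Subtype.ext ha) haZ (Subtype.ext hb) hbZ
    (v := ⟨f ⟨v, hvN⟩, _, rfl⟩) (w := ⟨f ⟨w, hwN⟩, _, rfl⟩) (k := k) (l := l) ?_ ?_ ?_ ?_
  · rintro ⟨_, n, rfl⟩ z hz
    apply Subtype.ext
    change (f n z : G) = z
    rw [hfa, mem_center_iff.1 (mem_subgroupOf.1 hz) n]; group
  · rintro ⟨_, n, rfl⟩ hne c hc
    by_contra hcZ
    have h1 : (n : G) * c * (n : G)⁻¹ = c := by rw [← hfa]; exact congrArg Subtype.val hc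
    exact hne (Subtype.ext ((hker n).2 (hf n n.2 c c.2 hcZ (mul_inv_eq_iff_eq_mul.1 h1))))
  · apply Subtype.ext
    change f ⟨v, hvN⟩ ^ q ^ k = 1
    rw [← map_pow, show (⟨v, hvN⟩ : normalizer (A : Set G)) ^ q ^ k = 1 from Subtype.ext hv, map_one]
  · exact fun e => hv1 ((hker ⟨v, hvN⟩).1 (congrArg Subtype.val e))
  · apply Subtype.ext
    change f ⟨w, hwN⟩ ^ r ^ l = 1
    rw [← map_pow, show (⟨w, hwN⟩ : normalizer (A : Set G)) ^ r ^ l = 1 from Subtype.ext hw, map_one]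
  · exact fun e => hw1 ((hker ⟨w, hwN⟩).1 (congrArg Subtype.val e))

omit [Finite G] in
theorem cop_of_pow {q r i : ℕ} (hq : q.Prime) (hr : r.Prime) (h : q ≠ r) {x : G}
    (hx : x ^ q ^ i = 1) : (orderOf x).Coprime r :=
  Nat.Coprime.coprime_dvd_left (orderOf_dvd_of_pow_eq_one hx)
    (Nat.Coprime.pow_left _ ((Nat.coprime_primes hq hr).2 h))

omit [Finite G] in
theorem cop_of_pow_pow {q r i j : ℕ} (hq : q.Prime) (hr : r.Prime) (h : q ≠ r) {x y : G}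
    (hx : x ^ q ^ i = 1) (hy : y ^ r ^ j = 1) : (orderOf x).Coprime (orderOf y) :=
  Nat.Coprime.coprime_dvd_right (orderOf_dvd_of_pow_eq_one hy)
    ((cop_of_pow hq hr h hx).pow_right _)

omit [Finite G] in
theorem cop_mul {x y : G} {n : ℕ} (h : Commute x y) (hx : (orderOf x).Coprime n)
    (hy : (orderOf y).Coprime n) : (orderOf (x * y)).Coprime n :=
  Nat.Coprime.coprime_dvd_left h.orderOf_mul_dvd_mul_orderOf (Nat.Coprime.mul_left hx hy)

section Reg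

variable {p m : ℕ} [hp : Fact p.Prime]
  (H : ∀ x : G, (orderOf x).Coprime p → x ∉ center G → 𝐂[x].index = m)
include H

omit hp in
theorem reg_le {x y : G} (hx : (orderOf x).Coprime p) (hxZ : x ∉ center G)
    (hy : (orderOf y).Coprime p) (hc : Commute x y) (hco : (orderOf x).Coprime (orderOf y)) :
    𝐂[x] ≤ 𝐂[y] := by
  refine cen_le_cen_of_index_mul_le hc hco ?_
  by_cases hZ : x * y ∈ center G
  · rw [index_cen_eq_one_iff.2 hZ]; exact index_cen_pos x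
  · rw [H _ (cop_mul hc hx hy) hZ, H x hx hxZ]

omit hp in
theorem reg_eq {x y : G} (hx : (orderOf x).Coprime p) (hxZ : x ∉ center G)
    (hy : (orderOf y).Coprime p) (hyZ : y ∉ center G) (h : 𝐂[x] ≤ 𝐂[y]) : 𝐂[x] = 𝐂[y] :=
  eq_of_le_of_index_eq h (by rw [H x hx hxZ, H y hy hyZ])

theorem reg_exists {x : G} (hx : (orderOf x).Coprime p) (hxZ : x ∉ center G) {s : ℕ}
    (hs : s.Prime) (hsp : s ≠ p) (hd : s ∣ (center G).index) :
    ∃ y ∈ 𝐂[x], y ∉ center G ∧ ∃ k, y ^ s ^ k = 1 := by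
  haveI : Fact s.Prime := ⟨hs⟩
  obtain ⟨y, -, hyZ, k, hk⟩ := exists_pElement_not_mem_of_dvd_relIndex (Z := center G) (H := ⊤)
    (p := s) (by rwa [relIndex_top_right])
  have h1 := dvd_relIndex_of_pElement (self_mem_cen y) hyZ hk
  have h2 := relIndex_center_mul_index y
  have h3 := relIndex_center_mul_index x
  rw [H y (cop_of_pow hs hp.out hsp hk) hyZ] at h2
  have hm : 0 < m := H x hx hxZ ▸ index_cen_pos x
  rw [H x hx hxZ, ← h2] at h3
  rw [← Nat.eq_of_mul_eq_mul_right hm h3] at h1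
  exact exists_pElement_not_mem_of_dvd_relIndex h1

section II

variable (HII : ∀ q : ℕ, q.Prime → q ≠ p → ∃ s : ℕ, s.Prime ∧ s ≠ p ∧ s ≠ q ∧ s ∣ (center G).index)
include HII

theorem reg_good {q i : ℕ} (hq : q.Prime) (hqp : q ≠ p) {x : G} (hx : x ^ q ^ i = 1)
    (hxZ : x ∉ center G) {w : G} (hw : w ∈ 𝐂[x]) (hwp : (orderOf w).Coprime p) : 𝐂[x] ≤ 𝐂[w] := by
  have hxp := cop_of_pow hq hp.out hqp hx
  obtain ⟨s, hs, hsp, hsq, hd⟩ := HII q hq hqp
  obtain ⟨y, hyx, hyZ, k, hk⟩ := reg_exists H hxp hxZ hs hsp hd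
  have hyp := cop_of_pow hs hp.out hsp hk
  have hxy : 𝐂[x] = 𝐂[y] := reg_eq H hxp hxZ hyp hyZ
    (reg_le H hxp hxZ hyp (mem_cen'.1 hyx) (cop_of_pow_pow hq hs hsq.symm hx hk))
  rw [le_cen_iff]
  refine mem_of_forall_primePow_mem fun u hu t j ht huj => ?_
  rw [← le_cen_iff]
  have hux : u ∈ 𝐂[x] := (zpowers_le.2 hw) hu
  have hup : (orderOf u).Coprime p := hwp.coprime_dvd_left (orderOf_dvd_of_mem_zpowers hu)
  by_cases htq : t = q
  · subst htq
    rw [hxy] at hux ⊢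
    exact reg_le H hyp hyZ hup (mem_cen'.1 hux) (cop_of_pow_pow hs ht hsq hk huj)
  · exact reg_le H hxp hxZ hup (mem_cen'.1 hux) (cop_of_pow_pow hq ht (Ne.symm htq) hx huj)

theorem reg_A {q i : ℕ} (hq : q.Prime) (hqp : q ≠ p) {x : G} (hx : x ^ q ^ i = 1)
    (hxZ : x ∉ center G) : ∃ A : Subgroup G, IsMulCommutative A ∧
      (∀ a, a ∈ A ↔ a ∈ 𝐂[x] ∧ (orderOf a).Coprime p) ∧ centralizer (A : Set G) = 𝐂[x] ∧
      (∀ a ∈ A, a ∉ center G → 𝐂[a] = 𝐂[x]) ∧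
      (∀ g : G, 𝐂[g * x * g⁻¹] = 𝐂[x] → g ∈ normalizer (A : Set G)) := by
  have hxp := cop_of_pow hq hp.out hqp hx
  have hg := fun w => reg_good H HII hq hqp hx hxZ (w := w)
  let A : Subgroup G :=
    { carrier := {a | a ∈ 𝐂[x] ∧ (orderOf a).Coprime p}
      one_mem' := ⟨one_mem _, by simp⟩
      mul_mem' := fun {a b} ha hb => ⟨mul_mem ha.1 hb.1,
        cop_mul (mem_cen.1 (hg b hb.1 hb.2 ha.1)) ha.2 hb.2⟩
      inv_mem' := fun {a} ha => ⟨inv_mem ha.1, by rw [orderOf_inv]; exact ha.2⟩ }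
  refine ⟨A, ⟨⟨fun a b => Subtype.ext (mem_cen.1 (hg b b.2.1 b.2.2 a.2.1)).eq⟩⟩, fun a => Iff.rfl,
    ?_, ?_, ?_⟩
  · apply le_antisymm
    · intro g hgA
      exact mem_cen'.2 (mem_centralizer_iff.1 hgA x ⟨self_mem_cen x, hxp⟩)
    · intro g hgx
      rw [mem_centralizer_iff]
      intro a ha
      exact (mem_cen'.1 (hg a ha.1 ha.2 hgx)).eq
  · intro a ha haZ
    exact (reg_eq H hxp hxZ ha.2 haZ (hg a ha.1 ha.2)).symm
  · intro g hgx
    rw [mem_normalizer_iff]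
    intro a
    have h1 : a ∈ 𝐂[x] ↔ g * a * g⁻¹ ∈ 𝐂[x] := by
      nth_rewrite 2 [← hgx]
      rw [mem_cen, mem_cen]
      exact ⟨fun h => h.map (MulAut.conj g), fun h => by
        simpa [mul_assoc] using h.map (MulAut.conj g⁻¹)⟩
    have h2 : orderOf (g * a * g⁻¹) = orderOf a := (MulAut.conj g).orderOf_eq a
    change a ∈ 𝐂[x] ∧ (orderOf a).Coprime p ↔ g * a * g⁻¹ ∈ 𝐂[x] ∧ (orderOf (g * a * g⁻¹)).Coprime p
    rw [h1, h2]

theorem reg_norm {q i : ℕ} (hq : q.Prime) (hqp : q ≠ p) {x : G} (hx : x ^ q ^ i = 1)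
    (hxZ : x ∉ center G) {r : ℕ} (hr : r.Prime) (hrp : r ≠ p) (hrm : r ∣ m) :
    (∃ u ∈ 𝐂[x], u ∉ center G ∧ ∃ k, u ^ r ^ k = 1) ∧
    ∃ g : G, 𝐂[g * x * g⁻¹] = 𝐂[x] ∧ g ∉ 𝐂[x] ∧ ∃ k, g ^ r ^ k = 1 := by
  haveI : Fact r.Prime := ⟨hr⟩
  have hxp := cop_of_pow hq hp.out hqp hx
  have hd : r ∣ (center G).index := (H x hxp hxZ ▸ hrm).trans (index_cen_dvd_index_center x)
  obtain ⟨u, hux, huZ, k, hk⟩ := reg_exists H hxp hxZ hr hrp hd
  refine ⟨⟨u, hux, huZ, k, hk⟩, ?_⟩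
  obtain ⟨A, -, hA, -, hAc, -⟩ := reg_A H HII hq hqp hx hxZ
  have hup := cop_of_pow hr hp.out hrp hk
  obtain ⟨S, hS⟩ := FGS.exists_sylow_mem_of_pow_eq_one hk
  have hlt : (S : Subgroup G) ⊓ 𝐂[x] < S := by
    refine lt_of_le_of_ne inf_le_left fun e => ?_
    exact not_dvd_index_of_sylow_le (inf_eq_left.1 e) (H x hxp hxZ ▸ hrm)
  obtain ⟨g, ⟨hgN, hgS⟩, hgn⟩ := SetLike.exists_of_lt
    (CL.lt_normalizer_inf_of_isNilpotent S.isPGroup'.isNilpotent hlt)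
  have h1 : g * u * g⁻¹ ∈ 𝐂[x] := ((mem_normalizer_iff.1 hgN u).1 ⟨hS, hux⟩).2
  have h2 : 𝐂[g * u * g⁻¹] = 𝐂[x] := by
    refine hAc _ ((hA _).2 ⟨h1, ?_⟩) fun hZ => huZ ?_
    · rw [show orderOf (g * u * g⁻¹) = orderOf u from (MulAut.conj g).orderOf_eq u]; exact hup
    · rw [← index_cen_eq_one_iff] at hZ ⊢
      rwa [index_cen_conj] at hZ
  have h3 : 𝐂[u] = 𝐂[x] := hAc _ ((hA _).2 ⟨hux, hup⟩) huZ
  refine ⟨g, ?_, fun hgx => hgn ⟨hgS, hgx⟩, pow_eq_one_of_mem_isPGroup S.isPGroup' hgS⟩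
  rw [cen_conj, ← h3, ← cen_conj, h2, h3]

theorem reg_one_prime {q r : ℕ} (hq : q.Prime) (hqp : q ≠ p) (hqm : q ∣ m) (hr : r.Prime)
    (hrp : r ≠ p) (hrm : r ∣ m) {x₀ : G} (hx₀ : (orderOf x₀).Coprime p) (hx₀Z : x₀ ∉ center G) :
    q = r := by
  by_contra hqr
  haveI : Fact r.Prime := ⟨hr⟩
  haveI : Fact q.Prime := ⟨hq⟩
  have hd : q ∣ (center G).index := (H x₀ hx₀ hx₀Z ▸ hqm).trans (index_cen_dvd_index_center x₀)
  obtain ⟨x, -, hxZ, i, hx⟩ := reg_exists H hx₀ hx₀Z hq hqp hd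
  obtain ⟨A, hAc, hA, hC, hAe, hN⟩ := reg_A H HII hq hqp hx hxZ
  obtain ⟨⟨a, hax, haZ, i1, ha⟩, v, hv1, hv2, k, hv⟩ := reg_norm H HII hq hqp hx hxZ hq hqp hqm
  obtain ⟨⟨b, hbx, hbZ, i2, hb⟩, w, hw1, hw2, l, hw⟩ := reg_norm H HII hq hqp hx hxZ hr hrp hrm
  refine semi_two_primes (A := A) ?_ hqr ((hA a).2 ⟨hax, cop_of_pow hq hp.out hqp ha⟩) ha haZ
    ((hA b).2 ⟨hbx, cop_of_pow hr hp.out hrp hb⟩) hb hbZ (hN v hv1) hv (hC ▸ hv2) (hN w hw1) hw
    (hC ▸ hw2)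
  intro n _ c hc hcZ hnc
  rw [hC, ← hAe c hc hcZ]
  exact mem_cen.2 hnc

theorem reg_false {q : ℕ} (hq : q.Prime) (hqp : q ≠ p) (hqm : q ∣ m)
    {x₀ : G} (hx₀ : (orderOf x₀).Coprime p) (hx₀Z : x₀ ∉ center G) : False := by
  haveI : Fact q.Prime := ⟨hq⟩
  have hd : q ∣ (center G).index := (H x₀ hx₀ hx₀Z ▸ hqm).trans (index_cen_dvd_index_center x₀)
  obtain ⟨x₁, -, hx₁Z, i₁, hx₁⟩ := reg_exists H hx₀ hx₀Z hq hqp hd
  obtain ⟨S, x, hxS, -, hxZ, hxq, hS⟩ := exists_second_center (N := ⊤) (mem_top x₁) hx₁Z hx₁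
  obtain ⟨i, hx⟩ := pow_eq_one_of_mem_isPGroup S.isPGroup' hxS
  have hxp := cop_of_pow hq hp.out hqp hx
  obtain ⟨A, hAc, hA, hC, hAe, hN⟩ := reg_A H HII hq hqp hx hxZ
  obtain ⟨s, hs, hsp, hsq, hsd⟩ := HII q hq hqp
  obtain ⟨y, hyx, hyZ, k, hk⟩ := reg_exists H hxp hxZ hs hsp hsd
  have hyA : y ∈ A := (hA y).2 ⟨hyx, cop_of_pow hs hp.out hsp hk⟩
  have hSN : (S : Subgroup G) ≤ normalizer (A : Set G) := by
    intro g hg
    apply hN
    rw [CL.PG.conj_eq_commutator_mul, cen_mul_of_mem_center' x (hS g hg)]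
  have hSH : (S : Subgroup G) ≤ normalizer (𝐂[x] : Set G) := by
    rw [← hC]; exact CL.le_normalizer_centralizer hSN
  have hsq2 : ¬ q ^ 2 ∣ m := by
    rw [← H x hxp hxZ]
    refine not_sq_dvd_index_of_relIndex_dvd S (relIndex_dvd_prime_of_fpf (D := 𝐂[x])
      (B := powKer A (s ^ k)) (Z := center G) S.isPGroup' ?_ ?_
      (card_powKer_coprime _ (Nat.Coprime.pow_left _ ((Nat.coprime_primes hs hq).2 hsq)))
      (hSN.trans (normalizer_le_normalizer_powKer _ _)) ?_ ?_ ?_)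
    · intro a ha c hc
      have := commutator_inv_mem_cen (hS _ (inv_mem ha)) (hS _ (inv_mem hc))
      simpa using this
    · intro a ha
      rw [mem_cen, ← commutatorElement_eq_one_iff_commute,
        CL.PG.commutator_pow_left (mem_center_iff.1 (hS a ha) a),
        ← CL.PG.commutator_pow_right (mem_center_iff.1 (hS a ha) x),
        commutatorElement_eq_one_iff_mul_comm]
      exact mem_center_iff.1 hxq a
    · rw [← hC]
      exact centralizer_le fun a ha => ha.1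
    · intro g _ hgH a ha
      by_contra haZ
      exact hgH (hAe a ha.1.1 haZ ▸ mem_cen_comm.1 ha.2)
    · exact fun e => hyZ (e ⟨hyA, hk⟩)
  obtain ⟨g, hgS, hgx⟩ : ∃ g ∈ (S : Subgroup G), g ∉ 𝐂[x] := by
    by_contra hcon
    push Not at hcon
    exact not_dvd_index_of_sylow_le hcon (H x hxp hxZ ▸ hqm)
  obtain ⟨j, hg⟩ := pow_eq_one_of_mem_isPGroup S.isPGroup' hgS
  have hgZ : g ∉ center G := fun h => hgx (center_le_cen x h)
  have hgp := cop_of_pow hq hp.out hqp hg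
  -- the image of `g` modulo the centre has `p`-power class size
  obtain ⟨e, he⟩ : ∃ e, 𝐂[(g : G ⧸ center G)].index = p ^ e := by
    set D : Subgroup G := 𝐂[(g : G ⧸ center G)].comap (QuotientGroup.mk' (center G)) with hD
    have hDi : D.index = 𝐂[(g : G ⧸ center G)].index :=
      index_comap_of_surjective _ (QuotientGroup.mk'_surjective _)
    have hle : 𝐂[g] ≤ D := fun a ha =>
      mem_cen.2 ((mem_cen.1 ha).map (QuotientGroup.mk' (center G)))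
    have hDN : D ≤ normalizer (𝐂[g] : Set G) := by
      intro d hd
      have h1 : ⁅d, g⁆ ∈ center G := commutator_mem_of_commute_mk (mem_cen.1 hd)
      rw [CL.mem_normalizer_iff_conj_smul_eq, ← cen_conj, CL.PG.conj_eq_commutator_mul,
        cen_mul_of_mem_center' g h1]
    haveI := CL.normal_subgroupOf_of_le_normalizer hDN
    have hxD : x ∈ D := by
      have h1 := hS g hgS
      rw [← QuotientGroup.eq_one_iff] at h1
      exact mem_cen'.2 (commutatorElement_eq_one_iff_commute.1 h1)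
    have h1 : q ∣ (𝐂[g].subgroupOf D).relIndex ⊤ :=
      dvd_relIndex_of_pElement (g := (⟨x, hxD⟩ : D)) (mem_top _)
        (fun h => hgx (mem_cen_comm.1 (mem_subgroupOf.1 h))) (k := i) (Subtype.ext hx)
    rw [relIndex_top_right] at h1
    have h2 := relIndex_mul_index hle
    rw [H g hgp hgZ] at h2
    rw [← hDi]
    refine ⟨_, Nat.eq_prime_pow_of_unique_prime_dvd FiniteIndex.index_ne_zero ?_⟩
    intro t ht htd
    by_contra htp
    have htm : t ∣ m := h2 ▸ htd.mul_left _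
    have := reg_one_prime H HII hq hqp hqm ht htp htm hx₀ hx₀Z
    subst this
    exact hsq2 (h2 ▸ (pow_two q).symm ▸ Nat.mul_dvd_mul h1 htd)
  have he' : 𝐂[((y * g * y⁻¹ : G) : G ⧸ center G)].index = p ^ e := by
    rw [← he]
    exact index_cen_conj (y : G ⧸ center G) g
  have h1 := commutator_mem_pCore_of_index_eq_pow he he'
  obtain ⟨n, hn⟩ := pow_eq_one_of_mem_isPGroup (CL.isPGroup_pCore p _) h1
  have hB : ∀ b ∈ powKer A (s ^ k), ⁅g, b⁆ ∈ powKer A (s ^ k) := by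
    intro b hb
    rw [commutatorElement_def]
    exact mul_mem ((mem_normalizer_iff.1 (normalizer_le_normalizer_powKer _ _ (hSN hgS)) b).1 hb)
      (inv_mem hb)
  have hfix : ∀ b ∈ powKer A (s ^ k), ⁅g, b⁆ ∈ center G → b ∈ center G := by
    intro b hb hc
    by_contra hbZ
    have := commute_of_commutator_mem_center hc (cop_of_pow_pow hq hs hsq.symm hg hb.2)
    exact hgx (hAe b hb.1 hbZ ▸ mem_cen.2 this)
  have hv : ⁅g, y⁆ ∈ powKer A (s ^ k) := hB y ⟨hyA, hk⟩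
  have hv' := inv_mem hv
  refine hyZ (hfix y ⟨hyA, hk⟩ ((inv_mem_iff).1 (hfix _ hv' ?_)))
  refine mem_of_pow_mem_of_coprime (a := p ^ n) (b := s ^ k)
    (Nat.Coprime.pow _ _ ((Nat.coprime_primes hp.out hs).2 hsp.symm)) ?_
    ((hB _ hv').2 ▸ one_mem _)
  rw [← QuotientGroup.eq_one_iff, QuotientGroup.mk_pow, ← hn]
  congr 1
  simp only [commutatorElement_def, QuotientGroup.mk_mul, QuotientGroup.mk_inv]
  group

end II

theorem reg_two : (∀ x : G, (orderOf x).Coprime p → ∃ k, 𝐂[x].index = p ^ k) ∨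
    ∃ q : ℕ, q.Prime ∧ q ≠ p ∧ ∀ s : ℕ, s.Prime → s ∣ (center G).index → s = p ∨ s = q := by
  by_contra hcon
  rw [not_or] at hcon
  obtain ⟨h1, h2⟩ := hcon
  apply h1
  intro x hx
  by_cases hxZ : x ∈ center G
  · exact ⟨0, index_cen_eq_one_iff.2 hxZ⟩
  refine ⟨_, Nat.eq_prime_pow_of_unique_prime_dvd (index_cen_pos x).ne' ?_⟩
  intro t ht htd
  by_contra htp
  refine reg_false H ?_ ht htp (H x hx hxZ ▸ htd) hx hxZ
  intro q hq hqp
  by_contra hne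
  refine h2 ⟨q, hq, hqp, fun s hs hsd => ?_⟩
  by_contra hs'
  rw [not_or] at hs'
  exact hne ⟨s, hs, hs'.1, hs'.2, hsd⟩

end Reg

end CL.CS
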