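import Mathlib
import Cfsg.Agent.PERM.Sims
import Cfsg.Agent.INV.SmallInter

/-!
Glauberman's form of Sims' argument for an arbitrary prime.
-/

set_option autoImplicit false

namespace CL.SimsP

open Subgroup CL.MSS CL.Sims
open scoped commutatorElement

variable {G : Type*} [Group G]

/-- A shift-invariant sequence of elements of order `p` whose short intervals are `p`-groups. -/
structure PSys (p : ℕ) (τ : G) (n : ℕ) (a : ℤ → G) : Prop where
  pos : 0 < n
  shift : ∀ i, a (i + 1) = τ * a i * τ⁻¹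
  card : ∀ (i : ℤ) (r : ℕ), r ≤ n → Nat.card (I a i (i + r - 1)) = p ^ r
  inf : ∀ i j : ℤ, i < j → j ≤ i + n → I a i (j - 1) ⊓ I a (i + 1) j = I a (i + 1) (j - 1)

variable [Finite G] {p : ℕ} [hp : Fact p.Prime]

theorem exists_psys {T : Subgroup G} {τ : G} (hT : IsPGroup p T)
    (h0 : (T ⊓ τ⁻¹ •ᶜ T).relIndex T = p)
    (h1 : ∀ Q ≤ T, T ≤ normalizer (Q : Set G) → τ •ᶜ Q = Q → Q = ⊥) :
    ∃ n a, PSys p τ n a ∧ ∀ i : ℤ, I a i (i + n - 1) = τ ^ i •ᶜ T := by
  classical
  have hWle : ∀ j, W T τ (j + 1) ≤ W T τ j := fun j => inf_le_left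
  have hWT : ∀ j, W T τ j ≤ T := fun j => antitone_nat_of_succ_le hWle j.zero_le
  have hWτ : ∀ j, τ •ᶜ W T τ (j + 1) = τ •ᶜ W T τ j ⊓ W T τ j := fun j => by
    rw [W, cj_inf, cj_inv_cj]
  have hW2 : ∀ j, (W T τ (j + 1)).relIndex (W T τ j) ≤ p := by
    intro j
    induction j with
    | zero => exact h0.le
    | succ j ih =>
      rw [W, inf_relIndex_left]
      refine (relIndex_le_of_le_right (inf_le_right : W T τ (j + 1) ≤ τ⁻¹ •ᶜ W T τ j)
        index_ne_zero_of_finite).trans ?_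
      rwa [relIndex_cj]
  have hex : ∃ j, W T τ (j + 1) = W T τ j := by
    obtain ⟨j, hj⟩ := WellFoundedLT.antitone_chain_condition (antitone_nat_of_succ_le hWle)
    exact ⟨j, (hj _ j.le_succ).symm⟩
  obtain ⟨n, hn, hlt⟩ : ∃ n, W T τ (n + 1) = W T τ n ∧ ∀ j < n, W T τ (j + 1) ≠ W T τ j :=
    ⟨Nat.find hex, Nat.find_spec hex, fun j hj => Nat.find_min hex hj⟩
  have hinv : ∀ j, W T τ (j + 1) = W T τ j ↔ τ •ᶜ W T τ j = W T τ j := by
    intro j
    rw [W, inf_eq_left, le_cj_iff, inv_inv]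
    exact ⟨cj_eq_of_le, le_of_eq⟩
  have hn0 : 0 < n := Nat.pos_of_ne_zero (by
    rintro rfl
    exact hp.out.ne_one (h0.symm.trans (relIndex_eq_one.2 hn.ge)))
  have hidx : ∀ j < n, (W T τ (j + 1)).relIndex (W T τ j) = p := by
    intro j hj
    obtain ⟨k, hk⟩ := (hT.to_le (hWT j)).index ((W T τ (j + 1)).subgroupOf (W T τ j))
    refine (hW2 j).antisymm (hk.ge.trans' (Nat.le_self_pow (fun h => ?_) p))
    exact hlt j hj (le_antisymm (hWle j) (relIndex_eq_one.mp (hk.trans (by rw [h, pow_zero]))))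
  have hsup : ∀ j, j + 1 < n → W T τ (j + 1) ⊔ τ •ᶜ W T τ (j + 1) = W T τ j := fun j hj =>
    sup_eq_of_relIndex_prime (hWle j) (hWτ j ▸ inf_le_right) ((hidx j (by omega)).symm ▸ hp.out)
      fun h => hlt _ hj ((hinv _).mpr (cj_eq_of_le h))
  have hbot : W T τ n = ⊥ := by
    have h1' : τ ∈ normalizer (W T τ n : Set G) := mem_normalizer_iff_cj.mpr ((hinv n).mp hn)
    have h2 : ∀ r j, j + r + 1 = n → W T τ j ≤ normalizer (W T τ n : Set G) := by
      intro r
      induction r with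
      | zero =>
        rintro j rfl
        exact Small.le_normalizer_of_relIndex_prime (hT.to_le (hWT j)) (hWle j) (hidx j (by omega))
      | succ r ih =>
        intro j hj
        rw [← hsup j (by omega)]
        exact sup_le (ih _ (by omega)) (cj_le_of_mem (ih _ (by omega)) h1')
    exact h1 _ (hWT n) (h2 (n - 1) 0 (by omega)) ((hinv n).mp hn)
  have hcard : ∀ r j, j + r = n → Nat.card (W T τ j) = p ^ r := by
    intro r
    induction r with
    | zero => rintro j rfl; rw [show j + 0 = j from rfl] at hbot; rw [hbot, card_bot, pow_zero]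
    | succ r ih =>
      intro j hj
      rw [← card_mul_relIndex_of_le (hWle j), ih _ (by omega), hidx j (by omega), pow_succ]
  obtain ⟨x, hx⟩ : ∃ x : G, W T τ (n - 1) = zpowers x := by
    have : IsCyclic (W T τ (n - 1)) :=
      isCyclic_of_prime_card (p := p) ((hcard 1 (n - 1) (by omega)).trans (pow_one p))
    obtain ⟨x, hx⟩ := (isCyclic_iff_exists_zpowers_eq_top).mp this
    refine ⟨x, ?_⟩
    have := MonoidHom.map_zpowers (W T τ (n - 1)).subtype x
    rwa [hx, ← MonoidHom.range_eq_map, range_subtype] at this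
  let a : ℤ → G := fun i => τ ^ i * x * (τ ^ i)⁻¹
  have hI : ∀ r j, j + r = n → ∀ i : ℤ, I a i (i + r - 1) = τ ^ i •ᶜ W T τ j := by
    intro r
    induction r using Nat.twoStepInduction with
    | zero =>
      rintro j rfl i
      rw [show j + 0 = j from rfl] at hbot
      rw [hbot, cj_bot, I_eq_bot a (by omega)]
    | one =>
      intro j hj i
      rw [show j = n - 1 by omega, hx, cj_zpowers, show i + (1 : ℕ) - 1 = i by omega, I_self]
    | more r _ ih =>
      intro j hj i
      rw [← I_sup a (by omega), ← hsup j (by omega), cj_sup, ← cj_mul, ← zpow_add_one,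
        ← ih _ (by omega), ← ih _ (by omega)]
      congr 2 <;> omega
  refine ⟨n, a, ⟨hn0, fun i => ?_, fun i r hr => ?_, fun i j h1 h2 => ?_⟩, hI n 0 (by omega)⟩
  · simp only [a, add_comm i, zpow_one_add]
    group
  · rw [hI r (n - r) (by omega), card_cj, hcard r _ (by omega)]
  · obtain ⟨r, rfl⟩ : ∃ r : ℕ, j = i + r + 1 := ⟨(j - i - 1).toNat, by omega⟩
    have e1 := hI (r + 1) (n - r - 1) (by omega) i
    have e2 := hI (r + 1) (n - r - 1) (by omega) (i + 1)
    have e3 := hI r (n - r - 1 + 1) (by omega) (i + 1)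
    rw [W, cj_inf, ← cj_mul, ← zpow_sub_one, add_sub_cancel_right, ← e1, ← e2, inf_comm] at e3
    rw [show i + r + 1 - 1 = i + (r + 1 : ℕ) - 1 by omega,
      show i + r + 1 = i + 1 + (r + 1 : ℕ) - 1 by omega, ← e3]
    congr 1
    omega

namespace PSys

variable {τ : G} {n : ℕ} {a : ℤ → G} (h : PSys p τ n a)
include h

omit [Finite G] hp in
theorem card_I {i j : ℤ} {r : ℕ} (hr : j = i + r - 1) (hn : r ≤ n) : Nat.card (I a i j) = p ^ r :=
  hr ▸ h.card i r hn

omit [Finite G] hp in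
theorem isPGroup {i j : ℤ} (h1 : i ≤ j) (h2 : j < i + n) : IsPGroup p (I a i j) :=
  .of_card (h.card_I (r := (j - i + 1).toNat) (by omega) (by omega))

omit hp in
theorem relIndex_left {i j : ℤ} (h1 : i ≤ j) (h2 : j < i + n) :
    (I a (i + 1) j).relIndex (I a i j) = p := by
  obtain ⟨r, rfl⟩ : ∃ r : ℕ, j = i + r := ⟨(j - i).toNat, by omega⟩
  refine relIndex_eq_of_card (I_mono a (by omega) le_rfl) ?_
  rw [h.card_I (r := r + 1) (by omega) (by omega), h.card_I (r := r) (by omega) (by omega),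
    pow_succ']

omit hp in
theorem relIndex_right {i j : ℤ} (h1 : i ≤ j) (h2 : j < i + n) :
    (I a i (j - 1)).relIndex (I a i j) = p := by
  obtain ⟨r, rfl⟩ : ∃ r : ℕ, j = i + r := ⟨(j - i).toNat, by omega⟩
  refine relIndex_eq_of_card (I_mono a le_rfl (by omega)) ?_
  rw [h.card_I (r := r + 1) (by omega) (by omega), h.card_I (r := r) (by omega) (by omega),
    pow_succ']

theorem mem_left {i j : ℤ} (h2 : j < i + n) {x y : G} (hx : x ∈ I a i j) (hy : Commute x y)
    (hc : ∀ l, i < l → l ≤ j → Commute (a l) y) (hn : ¬ Commute (a i) y) : x ∈ I a (i + 1) j := by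
  by_cases h1 : i ≤ j
  · by_contra h3
    have h4 := sup_eq_of_relIndex_prime (I_mono a (by omega) le_rfl) (zpowers_le_of_mem hx)
      ((h.relIndex_left h1 h2).symm ▸ hp.out) (mt zpowers_le.1 h3)
    exact hn (mem_centralizer_singleton_iff.1 ((h4.ge.trans (sup_le (I_le fun l h5 h6 =>
      mem_centralizer_singleton_iff.2 (hc l h5 h6)) (zpowers_le_of_mem
        (mem_centralizer_singleton_iff.2 hy)))) (mem_I a le_rfl h1)))
  · rwa [I_eq_bot a (by omega)] at hx ⊢

theorem mem_right {i j : ℤ} (h2 : j < i + n) {x y : G} (hx : x ∈ I a i j) (hy : Commute x y)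
    (hc : ∀ l, i ≤ l → l < j → Commute (a l) y) (hn : ¬ Commute (a j) y) : x ∈ I a i (j - 1) := by
  by_cases h1 : i ≤ j
  · by_contra h3
    have h4 := sup_eq_of_relIndex_prime (I_mono a le_rfl (by omega)) (zpowers_le_of_mem hx)
      ((h.relIndex_right h1 h2).symm ▸ hp.out) (mt zpowers_le.1 h3)
    exact hn (mem_centralizer_singleton_iff.1 ((h4.ge.trans (sup_le (I_le fun l h5 h6 =>
      mem_centralizer_singleton_iff.2 (hc l h5 (by omega))) (zpowers_le_of_mem
        (mem_centralizer_singleton_iff.2 hy)))) (mem_I a h1 le_rfl)))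
  · rwa [I_eq_bot a (by omega)] at hx ⊢

omit [Finite G] hp in
theorem orderOf_eq (i : ℤ) : orderOf (a i) = p := by
  rw [← Nat.card_zpowers, ← I_self, h.card_I (r := 1) (by omega) h.pos, pow_one]

omit [Finite G] in
theorem ne_one (i : ℤ) : a i ≠ 1 := fun e =>
  hp.out.ne_one ((h.orderOf_eq i).symm.trans (orderOf_eq_one_iff.2 e))

theorem comm_mem {i j : ℤ} (h1 : i < j) (h2 : j < i + n) : ⁅a i, a j⁆ ∈ I a (i + 1) (j - 1) := by
  rw [← h.inf i j h1 h2.le]
  exact ⟨commutator_le_left_of_normalizes (Small.le_normalizer_of_relIndex_prime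
      (h.isPGroup h1.le h2) (I_mono a le_rfl (by omega)) (h.relIndex_right h1.le h2))
      (commutator_mem_commutator (mem_I a le_rfl (by omega)) (mem_I a h1.le le_rfl)),
    commutator_le_right_of_normalizes (Small.le_normalizer_of_relIndex_prime
      (h.isPGroup h1.le h2) (I_mono a (by omega) le_rfl) (h.relIndex_left h1.le h2))
      (commutator_mem_commutator (mem_I a le_rfl h1.le) (mem_I a (by omega) le_rfl))⟩

omit [Finite G] hp in
theorem shift_zpow (i d : ℤ) : a (i + d) = τ ^ d * a i * (τ ^ d)⁻¹ := by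
  induction d using Int.induction_on with
  | zero => simp
  | succ d ih => rw [← add_assoc, h.shift, ih, add_comm (d : ℤ), zpow_one_add]; group
  | pred d ih =>
    have := h.shift (i + (-d - 1))
    rw [show i + (-d - 1) + 1 = i + -d by omega, ih] at this
    rw [show a (i + (-d - 1)) = τ⁻¹ * (τ * a (i + (-d - 1)) * τ⁻¹) * τ by group, ← this]
    group

omit [Finite G] hp in
theorem commute_shift {i j : ℤ} (hc : Commute (a i) (a j)) {i' j' : ℤ} (e : j' - i' = j - i) :
    Commute (a i') (a j') := by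
  obtain ⟨d, rfl⟩ : ∃ d, i' = i + d := ⟨i' - i, by omega⟩
  obtain rfl : j' = j + d := by omega
  rw [h.shift_zpow, h.shift_zpow]
  exact hc.map (MulAut.conj (τ ^ d))

theorem comm_mem_of_k {k : ℕ} (hk0 : 0 < k) (hkn : k < n)
    (hc : ∀ i j : ℤ, i < j + k → j < i + k → Commute (a i) (a j))
    (hnc : ∀ i j : ℤ, j = i + k → ¬ Commute (a i) (a j)) (s : ℤ) :
    ⁅a s, a (s + k)⁆ ∈ I a (s + (n - k)) (s + (2 * k - n)) := by
  have hL : ∀ μ : ℕ, 1 ≤ μ → μ + k ≤ n → ⁅a s, a (s + k)⁆ ∈ I a (s + μ) (s + k - 1) := by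
    intro μ h1
    induction μ, h1 using Nat.le_induction with
    | base => exact fun _ => h.comm_mem (by omega) (by omega)
    | succ μ h1 ih =>
      intro h2
      replace ih := ih (by omega)
      rw [Nat.cast_succ, ← add_assoc]
      by_cases hμ : k ≤ μ
      · rwa [I_eq_bot a (by omega)] at ih ⊢
      refine h.mem_left (by omega) ih ?_ (fun l _ _ => hc _ _ (by omega) (by omega))
        (hnc _ (s + μ + k) rfl)
      have hw := h.comm_mem (i := s) (j := s + μ + k) (by omega) (by omega)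
      have e1 : Commute ⁅a s, a (s + μ + k)⁆ (a (s + k)) :=
        commute_of_mem_I (fun l _ _ => hc _ _ (by omega) (by omega)) hw
      have e2 : Commute ⁅a s, a (s + μ + k)⁆ ⁅a s, a (s + k)⁆ := commute_of_mem_I (fun l _ _ =>
        (commute_of_mem_I (fun l' _ _ => hc _ _ (by omega) (by omega)) ih).symm) hw
      have e3 : Commute (a (s + k)) (a (s + μ + k)) := hc _ _ (by omega) (by omega)
      generalize a (s + μ + k) = y at *
      generalize a (s + k) = z at *
      have : y * ⁅a s, z⁆ * y⁻¹ = ⁅a s, z⁆ := by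
        calc y * ⁅a s, z⁆ * y⁻¹ = ⁅a s, y⁆⁻¹ * (a s * (y * z * y⁻¹) * (a s)⁻¹) *
              (⁅a s, y⁆ * (y * z * y⁻¹)⁻¹) := by simp only [commutatorElement_def]; group
          _ = ⁅a s, y⁆⁻¹ * (⁅a s, z⁆ * ⁅a s, y⁆) := by
              rw [← e3.eq, mul_inv_cancel_right, e1.inv_right.eq, commutatorElement_def (a s) z]
              group
          _ = _ := by rw [← e2.eq, inv_mul_cancel_left]
      exact (mul_inv_eq_iff_eq_mul.mp this).symm
  have hR : ∀ d : ℕ, d + k < n → ⁅a s, a (s + k)⁆ ∈ I a (s + (n - k)) (s + k - 1 - d) := by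
    intro d
    induction d with
    | zero =>
      intro _
      convert hL (n - k) (by omega) (by omega) using 2 <;> omega
    | succ d ih =>
      intro h2
      replace ih := ih (by omega)
      obtain ⟨ν, hν⟩ : ∃ ν : ℤ, ν = s + k - 1 - d := ⟨_, rfl⟩
      rw [← hν] at ih
      rw [show s + k - 1 - (d + 1 : ℕ) = ν - 1 by omega]
      by_cases hμ : ν < s + (n - k)
      · rwa [I_eq_bot a (by omega)] at ih ⊢
      refine h.mem_right (by omega) ih ?_ (fun l _ _ => hc _ _ (by omega) (by omega))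
        fun h3 => hnc (ν - k) ν (by omega) h3.symm
      have hw := h.comm_mem (i := ν - k) (j := s + k) (by omega) (by omega)
      have e1 : Commute ⁅a (ν - k), a (s + k)⁆ (a s) :=
        commute_of_mem_I (fun l _ _ => hc _ _ (by omega) (by omega)) hw
      have e2 : Commute ⁅a (ν - k), a (s + k)⁆ ⁅a s, a (s + k)⁆ := commute_of_mem_I (fun l _ _ =>
        (commute_of_mem_I (fun l' _ _ => hc _ _ (by omega) (by omega)) ih).symm) hw
      have e3 : Commute (a s) (a (ν - k)) := hc _ _ (by omega) (by omega)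
      generalize a (ν - k) = y at *
      generalize a (s + k) = z at *
      have : y * ⁅a s, z⁆ * y⁻¹ = ⁅a s, z⁆ := by
        calc y * ⁅a s, z⁆ * y⁻¹ = ((y * a s * y⁻¹) * ⁅y, z⁆) * z * (y * a s * y⁻¹)⁻¹ *
              z⁻¹ * ⁅y, z⁆⁻¹ := by simp only [commutatorElement_def]; group
          _ = ⁅y, z⁆ * ⁅a s, z⁆ * ⁅y, z⁆⁻¹ := by
              rw [← e3.eq, mul_inv_cancel_right, ← e1.eq, commutatorElement_def (a s) z]
              group
          _ = _ := by rw [e2.eq, mul_inv_cancel_right]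
      exact (mul_inv_eq_iff_eq_mul.mp this).symm
  convert hR (n - k - 1) (by omega) using 2
  omega

theorem exists_k {m : ℕ} (hz : ∀ i : ℤ, 0 ≤ i → i < n → ∃ l : ℤ, -m ≤ l ∧ l < n ∧
    ¬ Commute (a l) (a i)) : ∃ k : ℕ, 0 < k ∧
    (∀ i j : ℤ, i < j + k → j < i + k → Commute (a i) (a j)) ∧
    (∀ i j : ℤ, j = i + k → ¬ Commute (a i) (a j)) ∧
    (n ≤ k ∧ k ≤ m ∨ k < n ∧ 2 * k ≤ n + m ∧ 2 * n ≤ 3 * k) := by
  classical
  have h0 := h.pos
  have hex : ∃ k : ℕ, ¬ Commute (a 0) (a k) := by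
    obtain ⟨l, -, -, h1⟩ := hz 0 le_rfl (by omega)
    rcases le_total 0 l with h2 | h2
    · exact ⟨l.toNat, fun h3 => h1 (h.commute_shift h3.symm (by omega))⟩
    · exact ⟨(-l).toNat, fun h3 => h1 (h.commute_shift h3 (by omega))⟩
  obtain ⟨k, hk, hlt⟩ : ∃ k : ℕ, ¬ Commute (a 0) (a k) ∧ ∀ j < k, Commute (a 0) (a (j : ℕ)) :=
    ⟨Nat.find hex, Nat.find_spec hex, fun j hj => not_not.mp (Nat.find_min hex hj)⟩
  have hk0 : 0 < k := Nat.pos_of_ne_zero (by rintro rfl; exact hk (Commute.refl _))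
  have hc : ∀ i j : ℤ, i < j + k → j < i + k → Commute (a i) (a j) := by
    intro i j h1 h2
    rcases le_total i j with h3 | h3
    · exact h.commute_shift (hlt (j - i).toNat (by omega)) (by omega)
    · exact (h.commute_shift (hlt (i - j).toNat (by omega)) (by omega)).symm
  have hnc : ∀ i j : ℤ, j = i + k → ¬ Commute (a i) (a j) := fun i j e h1 =>
    hk (h.commute_shift h1 (by omega))
  refine ⟨k, hk0, hc, hnc, (le_or_gt n k).imp (fun h1 => ⟨h1, by_contra fun h2 => ?_⟩)
    fun h1 => ⟨h1, by_contra fun h2 => ?_, by_contra fun h2 => ?_⟩⟩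
  · obtain ⟨l, h3, h4, h5⟩ := hz 0 le_rfl (by omega)
    exact h5 (hc _ _ (by omega) (by omega))
  · obtain ⟨l, h3, h4, h5⟩ := hz (n - k) (by omega) (by omega)
    exact h5 (hc _ _ (by omega) (by omega))
  · have := h.comm_mem_of_k hk0 h1 hc hnc 0
    rw [I_eq_bot a (by omega), mem_bot, commutatorElement_eq_one_iff_commute] at this
    exact hnc _ _ rfl this

end PSys

end CL.SimsP
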