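import Mathlib
import Cfsg.Agent.FGS.AbelMax
import Cfsg.Agent.FGS.ClassCount
import Cfsg.Agent.FGS.SubgroupCount
import Cfsg.Agent.PLOC.PRank
import Cfsg.Agent.TECH.Conj
import Cfsg.Agent.S3807

/-! Soft subgroups of finite `p`-groups (Héthelyi). -/

set_option autoImplicit false

namespace CL.Soft

open Subgroup CL.MSS
open scoped commutatorElement

universe u

variable {P : Type*} [Group P] {p : ℕ}

/-- A self-centralizing abelian subgroup of index `p` in its normalizer. -/
structure IsSoft (p : ℕ) (E : Subgroup P) : Prop where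
  comm : IsMulCommutative E
  cent : centralizer (E : Set P) ≤ E
  idx : E.relIndex (normalizer (E : Set P)) = p

theorem map_normalizer {Q : Type*} [Group Q] {f : P →* Q} (hf : Function.Surjective f)
    {H : Subgroup P} (h : f.ker ≤ H) :
    (normalizer (H : Set P)).map f = normalizer ((H.map f : Subgroup Q) : Set Q) := by
  rw [← map_comap_eq_self_of_surjective hf (normalizer ((H.map f : Subgroup Q) : Set Q)),
    comap_normalizer_eq_of_surjective _ hf, comap_map_eq_self h]

theorem relIndex_map {Q : Type*} [Group Q] {f : P →* Q} {H K : Subgroup P} (h : f.ker ≤ H)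
    (hK : f.ker ≤ K) : (H.map f).relIndex (K.map f) = H.relIndex K := by
  rw [relIndex_map_map, sup_eq_left.mpr h, sup_eq_left.mpr hK]

theorem IsSoft.subgroupOf {E G : Subgroup P} (h : IsSoft p E) (hG : normalizer (E : Set P) ≤ G) :
    IsSoft p (E.subgroupOf G) := by
  have := h.comm
  have h1 : E ≤ G := le_normalizer.trans hG
  refine ⟨inferInstance, fun x hx => h.cent fun y hy => ?_, ?_⟩
  · exact congrArg Subtype.val (hx ⟨y, h1 hy⟩ hy)
  · rw [← subgroupOf_normalizer_eq h1, relIndex_subgroupOf hG, h.idx]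

variable [Finite P] [hp : Fact p.Prime]

theorem normalizer_le_of_lt (hP : IsPGroup p P) {D K : Subgroup P}
    (h : D.relIndex (normalizer (D : Set P)) = p) (hK : D < K) : normalizer (D : Set P) ≤ K := by
  have h1 := CL.PN.lt_inf_normalizer (hP.to_subgroup K).isNilpotent hK
  have h2 := CL.PN.card_mul_relIndex (le_normalizer (H := D))
  rw [h, mul_comm] at h2
  rcases CL.PG.eq_or_eq_of_card hp.out h1.le inf_le_right h2.symm with h3 | h3
  · exact (h1.ne' h3).elim
  · exact inf_eq_right.mp h3

theorem exists_mem_normalizer (hP : IsPGroup p P) {K : Subgroup P} (hK : K ≠ ⊤) :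
    ∃ g ∈ normalizer (K : Set P), g ∉ K := by
  obtain ⟨x, -, h⟩ := CL.PN.exists_mem_normalizer_not_mem (hP.to_subgroup ⊤).isNilpotent
    (le_top : K ≤ ⊤) fun h => hK (top_le_iff.mp h)
  exact ⟨x, h⟩

omit [Finite P] in
theorem IsSoft.not_le {E : Subgroup P} (h : IsSoft p E) : ¬ normalizer (E : Set P) ≤ E := fun h1 =>
  hp.out.one_lt.ne' (h.idx.symm.trans (relIndex_eq_one.mpr h1))

theorem IsSoft.normalizer_spec (hP : IsPGroup p P) {E : Subgroup P} (h : IsSoft p E)
    (hN : normalizer (E : Set P) ≠ ⊤) :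
    (normalizer (E : Set P)).relIndex (normalizer (normalizer (E : Set P) : Set P)) = p ∧
      Nat.card ↥⁅normalizer (E : Set P), normalizer (E : Set P)⁆ = p := by
  set N := normalizer (E : Set P) with hNd
  set L := normalizer (N : Set P) with hL
  have := h.comm
  have hna : ¬ IsMulCommutative N := fun hc =>
    h.not_le (((CL.AbM.le_centralizer hc).trans (centralizer_le le_normalizer)).trans h.cent)
  have hle : ∀ g : L, (g : P) •ᶜ E ≤ N := fun g => cj_le_of_mem_normalizer le_normalizer g.2
  let f : L → Subgroup N := fun g => ((g : P) •ᶜ E).subgroupOf N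
  have h1 : (Set.range f).ncard = N.relIndex L := by
    apply CL.ncard_range_eq_index
    intro a b
    simp only [f]
    rw [subgroupOf_inj, inf_eq_left.mpr (hle a), inf_eq_left.mpr (hle b), mem_subgroupOf,
      cj_eq_iff, ← cj_mul, eq_comm, ← mem_normalizer_iff_cj]
    rfl
  have h2 : Set.range f ⊆ {B : Subgroup N | IsMulCommutative B ∧ B.index = p} := by
    rintro _ ⟨g, rfl⟩
    have := isMulCommutative_cj (g : P) h.comm
    refine ⟨inferInstance, ?_⟩
    rw [← h.idx, ← relIndex_cj (g : P), cj_eq_of_mem_normalizer g.2]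
    rfl
  have h3 := Set.ncard_le_ncard h2
  obtain ⟨g, hg, hgN⟩ := exists_mem_normalizer hP hN
  obtain ⟨k, hk⟩ := (hP.to_subgroup L).index (N.subgroupOf L)
  have hk' : N.relIndex L = p ^ k := hk
  have hk0 : k ≠ 0 := by
    rintro rfl
    exact hgN (relIndex_eq_one.mp hk' hg)
  have h4 := hp.out.two_le
  rw [h1, hk'] at h3
  rcases (Cfsg.Agent.S3807.result p (hP.to_subgroup N) hna (E.subgroupOf N) inferInstance
    h.idx).2 with ⟨h5, -, -, h6⟩ | ⟨-, h5⟩
  · refine ⟨?_, ?_⟩
    · have h7 : {B : Subgroup N | IsMulCommutative B ∧ B.index = p}.ncard = p + 1 :=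
        (Nat.card_coe_set_eq _).symm.trans h6
      rw [h7] at h3
      have : k < 2 := (Nat.pow_lt_pow_iff_right hp.out.one_lt).mp (by nlinarith)
      rw [hk', show k = 1 by omega, pow_one]
    · rw [← map_subtype_commutator, card_map_of_injective N.subtype_injective, h5]
  · have h7 : {B : Subgroup N | IsMulCommutative B ∧ B.index = p}.ncard ≤ 1 :=
      (Set.ncard_le_one).mpr fun a ha b hb => (h5 a ha.1 ha.2).trans (h5 b hb.1 hb.2).symm
    have := Nat.one_lt_pow hk0 hp.out.one_lt
    omega

omit [Finite P] hp in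
theorem centralizer_map_le {Q : Type*} [Group Q] {f : P →* Q} (hf : Function.Surjective f)
    {E : Subgroup P} [IsMulCommutative E] (h : f.ker ≤ E) :
    centralizer ((E.map f : Subgroup Q) : Set Q) ≤ (normalizer (E : Set P)).map f := by
  rw [map_normalizer hf h]; exact centralizer_le_normalizer _

theorem IsSoft.map_normalizer (hP : IsPGroup p P) {Q : Type*} [Group Q] {f : P →* Q}
    (hf : Function.Surjective f) {E : Subgroup P} (h : IsSoft p E) (hE : f.ker ≤ E)
    (hN : normalizer (E : Set P) ≠ ⊤) (hc : IsMulCommutative ((normalizer (E : Set P)).map f)) :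
    IsSoft p ((normalizer (E : Set P)).map f) := by
  have := h.comm
  refine ⟨hc, (centralizer_le (map_mono le_normalizer)).trans (centralizer_map_le hf hE), ?_⟩
  rw [← CL.Soft.map_normalizer hf (hE.trans le_normalizer), relIndex_map (hE.trans le_normalizer)
    ((hE.trans le_normalizer).trans le_normalizer), (h.normalizer_spec hP hN).1]

theorem IsSoft.map_or (hP : IsPGroup p P) {Q : Type*} [Group Q] {f : P →* Q}
    (hf : Function.Surjective f) {E : Subgroup P} (h : IsSoft p E) (hE : f.ker ≤ E)
    (hN : normalizer (E : Set P) ≠ ⊤) :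
    IsSoft p (E.map f) ∨ IsSoft p ((normalizer (E : Set P)).map f) := by
  have := h.comm
  by_cases hc : centralizer ((E.map f : Subgroup Q) : Set Q) ≤ E.map f
  · refine Or.inl ⟨inferInstance, hc, ?_⟩
    rw [← CL.Soft.map_normalizer hf hE, relIndex_map hE (hE.trans le_normalizer), h.idx]
  · refine Or.inr (h.map_normalizer hP hf hE hN ?_)
    obtain ⟨x, hx, hxE⟩ := SetLike.not_le_iff_exists.mp hc
    obtain ⟨y, hy, rfl⟩ := centralizer_map_le hf hE hx
    have h2 := CL.PN.card_mul_relIndex (le_normalizer (H := E))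
    rw [h.idx, mul_comm] at h2
    rw [← CL.PG.sup_zpowers_eq_of_card hp.out le_normalizer h2.symm hy
      fun hh => hxE (mem_map_of_mem f hh), Subgroup.map_sup, MonoidHom.map_zpowers]
    exact CL.PG.isMulCommutative_sup_zpowers inferInstance hx

omit [Finite P] hp in
theorem map_ne_top {Q : Type*} [Group Q] {f : P →* Q} {K : Subgroup P} (h : f.ker ≤ K)
    (hK : K ≠ ⊤) : K.map f ≠ ⊤ := fun h1 => hK (by rw [← comap_map_eq_self h, h1, comap_top])

theorem relIndex_normalizer_aux (n : ℕ) : ∀ (P : Type u) [Group P] [Finite P], Nat.card P = n →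
    IsPGroup p P → ∀ E K : Subgroup P, IsSoft p E → E ≤ K → K ≠ ⊤ →
      K.relIndex (normalizer (K : Set P)) = p := by
  induction n using Nat.strong_induction_on with
  | _ n ih =>
    intro P _ _ hn hP E K h hEK hK
    rcases hEK.eq_or_lt with rfl | hlt
    · exact h.idx
    have h1 := normalizer_le_of_lt hP h.idx hlt
    have hN : normalizer (E : Set P) ≠ ⊤ := fun h2 => hK (top_le_iff.mp (h2 ▸ h1))
    have : Nontrivial P := by
      by_contra hh
      rw [not_nontrivial_iff_subsingleton] at hh
      exact hK (Subsingleton.elim _ _)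
    obtain ⟨Z, _, hZ, hc⟩ := CL.Cnt.exists_central hP
    have hs := QuotientGroup.mk'_surjective Z
    have hE : (QuotientGroup.mk' Z).ker ≤ E := by
      rw [QuotientGroup.ker_mk']; exact (hZ.trans (center_le_centralizer _)).trans h.cent
    have hlt2 : Nat.card (P ⧸ Z) < n := by
      rw [← hn, card_eq_card_quotient_mul_card_subgroup Z, hc]
      exact lt_mul_of_one_lt_right Nat.card_pos hp.out.one_lt
    rw [← relIndex_map (hE.trans hEK) ((hE.trans hEK).trans le_normalizer),
      map_normalizer hs (hE.trans hEK)]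
    rcases h.map_or hP hs hE hN with h2 | h2
    · exact ih _ hlt2 _ rfl (hP.to_quotient Z) _ _ h2 (map_mono hEK) (map_ne_top (hE.trans hEK) hK)
    · exact ih _ hlt2 _ rfl (hP.to_quotient Z) _ _ h2 (map_mono h1) (map_ne_top (hE.trans hEK) hK)

theorem IsSoft.relIndex_normalizer (hP : IsPGroup p P) {E K : Subgroup P} (h : IsSoft p E)
    (hEK : E ≤ K) (hK : K ≠ ⊤) : K.relIndex (normalizer (K : Set P)) = p :=
  relIndex_normalizer_aux _ P rfl hP E K h hEK hK

theorem IsSoft.le_total (hP : IsPGroup p P) {E K L : Subgroup P} (h : IsSoft p E)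
    (hK : E ≤ K) (hL : E ≤ L) : K ≤ L ∨ L ≤ K := by
  by_contra hh
  push Not at hh
  have h1 : K ⊓ L < K := inf_lt_left.mpr hh.1
  have h2 : K ⊓ L < L := inf_lt_right.mpr hh.2
  have h3 := h.relIndex_normalizer hP (le_inf hK hL) h1.ne_top
  have h4 := le_inf (normalizer_le_of_lt hP h3 h1) (normalizer_le_of_lt hP h3 h2)
  exact hp.out.one_lt.ne' (h3.symm.trans (relIndex_eq_one.mpr h4))

theorem le_centralizer_of_card (hP : IsPGroup p P) {Y K : Subgroup P} (hY : Nat.card Y = p)
    (h : K ≤ normalizer (Y : Set P)) : Y ≤ centralizer (K : Set P) := by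
  have h1 := CL.PN.inf_centralizer_ne_bot_of_isPGroup (hP.to_subgroup Y) (hP.to_subgroup K) h
    fun h0 => hp.out.one_lt.ne' (by rw [← hY, h0, card_bot])
  rw [Ne, inf_comm, CL.Cnt.inf_eq_bot_iff_of_card_prime hp.out hY, not_not] at h1
  exact h1

theorem IsSoft.commutator_le_centralizer (hP : IsPGroup p P) {E : Subgroup P} (h : IsSoft p E)
    (K : Subgroup P) : normalizer (E : Set P) ≤ K → K ≠ ⊤ →
      ⁅normalizer (E : Set P), normalizer (E : Set P)⁆ ≤ centralizer (K : Set P) := by
  induction K using WellFoundedLT.induction with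
  | _ K ih =>
  intro hNK hK
  set N := normalizer (E : Set P) with hNd
  have hN : N ≠ ⊤ := fun h2 => hK (top_le_iff.mp (h2 ▸ hNK))
  have hY := (h.normalizer_spec hP hN).2
  rcases hNK.eq_or_lt with rfl | hlt
  · exact le_centralizer_of_card hP hY (le_normalizer_commutator le_normalizer le_normalizer)
  obtain ⟨M, ⟨hNM, hMK⟩, hmax⟩ := (wellFounded_gt (α := Subgroup P)).has_min
    {M | N ≤ M ∧ M < K} ⟨N, le_rfl, hlt⟩
  have hEM : E ≤ M := le_normalizer.trans hNM
  have hMi := h.relIndex_normalizer hP hEM hMK.ne_top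
  have hMK' : normalizer (M : Set P) = K := by
    by_contra hne
    exact hmax _ ⟨hNM.trans le_normalizer, lt_of_le_of_ne (normalizer_le_of_lt hP hMi hMK) hne⟩
      (lt_of_le_not_ge le_normalizer fun h1 =>
        hp.out.one_lt.ne' (hMi.symm.trans (relIndex_eq_one.mpr h1)))
  have hYM := ih M hMK hNM hMK.ne_top
  obtain ⟨g, hg, hgK⟩ := exists_mem_normalizer hP hK
  have hgK' := cj_eq_of_mem_normalizer hg
  have hKM : K ≤ normalizer (M : Set P) := hMK'.ge
  have hKM' : K ≤ normalizer ((g •ᶜ M : Subgroup P) : Set P) := by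
    rw [← cj_normalizer, hMK', hgK']
  have hM'K : g •ᶜ M ≤ K := cj_le_of_mem_normalizer hMK.le hg
  have hne : g •ᶜ M ≠ M := fun h1 => hgK (hMK' ▸ mem_normalizer_iff_cj.mpr h1)
  have hcard : Nat.card K = p * Nat.card M := by
    rw [← CL.PN.card_mul_relIndex hMK.le, ← hMK', hMi, mul_comm]
  have hsup : M ⊔ g •ᶜ M = K :=
    (CL.PG.eq_or_eq_of_card hp.out le_sup_left (sup_le hMK.le hM'K) hcard).resolve_left
      fun h1 => hne (cj_eq_of_le (sup_eq_left.mp h1))
  have hER : E ⊔ M ⊓ g •ᶜ M = M := by
    have h1 := CL.PN.card_sup_mul_card_inf (hMK.le.trans hKM')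
    rw [hsup, hcard, card_cj, mul_right_comm] at h1
    refine (CL.PG.eq_or_eq_of_card hp.out le_sup_right (sup_le hEM inf_le_left)
      (Nat.eq_of_mul_eq_mul_right Nat.card_pos h1).symm).resolve_left fun h2 => hne ?_
    rcases h.le_total hP hEM ((sup_eq_right.mp h2).trans inf_le_right) with h3 | h3
    · exact cj_eq_of_ge h3
    · exact cj_eq_of_le h3
  set R := M ⊓ g •ᶜ M with hR
  have hKR : K ≤ normalizer (R : Set P) := le_normalizer_inf hKM hKM'
  by_cases hV : R ⊓ centralizer (R : Set P) ≤ centralizer (M : Set P)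
  · intro y hy
    have hKK : ⁅K, K⁆ ≤ M := by
      have h1 : (M.subgroupOf K).index = p := by
        rw [← hMK']; exact hMi
      have h2 := map_mono (f := K.subtype) (CL.PG.commutator_le_coatom (hP.to_subgroup K)
        (CL.PG.isCoatom_of_index_eq_prime hp.out h1))
      rw [map_subtype_commutator, subgroupOf_map_subtype] at h2
      exact h2.trans inf_le_left
    have h1 : g * y * g⁻¹ ∈ centralizer ((g •ᶜ M : Subgroup P) : Set P) := by
      rw [← cj_centralizer]; exact conj_mem_cj (hYM hy)
    have h2 : g * y * g⁻¹ ∈ R := by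
      have h3 : y ∈ ⁅K, K⁆ := commutator_mono hNK hNK hy
      refine ⟨hKK ?_, conj_mem_cj (hKK h3)⟩
      rw [← hgK', ← cj_commutator]; exact conj_mem_cj h3
    have h3 := hV ⟨h2, centralizer_le inf_le_right h1⟩
    rw [← conj_mem_cj_iff (g := g), cj_centralizer, hgK', ← hsup]
    have h4 : M ⊔ g •ᶜ M ≤ centralizer ({g * y * g⁻¹} : Set P) := sup_le
      (fun m hm => mem_centralizer_singleton_iff.mpr (h3 m hm))
      (fun m hm => mem_centralizer_singleton_iff.mpr (h1 m hm))
    exact fun m hm => mem_centralizer_singleton_iff.mp (h4 hm)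
  obtain ⟨D, ⟨hD1, hD2, hD3⟩, hmin⟩ := (wellFounded_lt (α := Subgroup P)).has_min
    {D | D ≤ R ⊓ centralizer (R : Set P) ∧ K ≤ normalizer (D : Set P) ∧
      ¬ D ≤ centralizer (M : Set P)}
    ⟨_, le_rfl, le_normalizer_inf hKR (le_normalizer_centralizer hKR), hV⟩
  have hDK : D ≤ K := (hD1.trans inf_le_left).trans (inf_le_left.trans hMK.le)
  have h1 : ⁅D, K⁆ < D := CL.PN.commutator_lt (hP.to_subgroup K).isNilpotent hDK le_rfl hD2
    fun h0 => hD3 (h0 ▸ bot_le)
  have h2 : ⁅D, K⁆ ≤ centralizer (M : Set P) := by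
    by_contra hh
    exact hmin _ ⟨h1.le.trans hD1, le_normalizer_commutator hD2 le_normalizer, hh⟩ h1
  have h3 : D ≤ N := by
    rw [hNd, le_normalizer_iff_commutator_le_right]
    exact (commutator_mono le_rfl (hEM.trans hMK.le)).trans
      (h2.trans ((centralizer_le hEM).trans h.cent))
  have h4 : ⁅D, M⁆ ≤ ⁅N, N⁆ := by
    rw [commutator_le]
    intro d hd m hm
    rw [← hER] at hm
    obtain ⟨e, he, r, hr, rfl⟩ := (mem_sup_of_normalizes_right
      ((hEM.trans hMK.le).trans hKR)).mp hm
    rw [commutatorElement_mul_right_eq_mul_conj,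
      commutatorElement_eq_one_iff_mul_comm.mpr ((hD1 hd).2 r hr).symm, mul_one,
      mul_inv_cancel_right]
    exact commutator_mem_commutator (h3 hd) (le_normalizer he)
  have h5 : ⁅D, M⁆ = ⁅N, N⁆ := by
    by_contra hne2
    have h6 := CL.PG.card_le_pow_of_lt hP (lt_of_le_of_ne h4 hne2) (k := 0) (by simpa using hY.le)
    rw [pow_zero, card_le_one_iff_eq_bot, commutator_eq_bot_iff_le_centralizer] at h6
    exact hD3 h6
  exact le_centralizer_of_card hP hY (h5 ▸ le_normalizer_commutator hD2 hKM)

theorem lcs_eq_bot_aux (i : ℕ) : ∀ (P : Type u) [Group P] [Finite P], IsPGroup p P →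
    ∀ E K : Subgroup P, IsSoft p E → E ≤ K → K ≠ ⊤ → E.relIndex K = p ^ i →
      K.lowerCentralSeries (i + 1) = ⊥ := by
  induction i with
  | zero =>
    intro P _ _ _ E K h hEK _ hi
    obtain rfl : E = K := le_antisymm hEK (relIndex_eq_one.mp hi)
    exact commutator_eq_bot_iff_le_centralizer.mpr (CL.AbM.le_centralizer h.comm)
  | succ i ih =>
    have key : ∀ (P : Type u) [Group P] [Finite P], IsPGroup p P →
        ∀ E K : Subgroup P, K.Normal → IsSoft p E → normalizer (E : Set P) ≤ K → K ≠ ⊤ →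
        E.relIndex K = p ^ (i + 1) → K.lowerCentralSeries (i + 2) = ⊥ := by
      intro P _ _ hP E K _ h hNK hK hi
      have hN : normalizer (E : Set P) ≠ ⊤ := fun h2 => hK (top_le_iff.mp (h2 ▸ hNK))
      have hEK : E ≤ K := le_normalizer.trans hNK
      have hs := QuotientGroup.mk'_surjective (K ⊓ centralizer (K : Set P))
      have hE : (QuotientGroup.mk' (K ⊓ centralizer (K : Set P))).ker ≤ E := by
        rw [QuotientGroup.ker_mk']; exact inf_le_right.trans ((centralizer_le hEK).trans h.cent)
      have h1 := ih _ (hP.to_quotient _) _ (K.map _) (h.map_normalizer hP hs hE hN (by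
        apply CL.AbM.isMulCommutative_of_le_centralizer
        rw [← commutator_eq_bot_iff_le_centralizer, ← map_commutator, Subgroup.map_eq_bot_iff,
          QuotientGroup.ker_mk']
        exact le_inf ((commutator_mono hNK hNK).trans (commutator_le_left _ _))
          (h.commutator_le_centralizer hP K hNK hK))) (map_mono hNK)
        (map_ne_top (hE.trans hEK) hK) (by
          rw [relIndex_map (hE.trans le_normalizer) (hE.trans hEK)]
          rw [← relIndex_mul_relIndex E _ K le_normalizer hNK, h.idx, pow_succ'] at hi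
          exact Nat.eq_of_mul_eq_mul_left hp.out.pos hi)
      rw [← map_lowerCentralSeries, Subgroup.map_eq_bot_iff, QuotientGroup.ker_mk'] at h1
      exact commutator_eq_bot_iff_le_centralizer.mpr (h1.trans inf_le_right)
    intro P _ _ hP E K h hEK hK hi
    have hlt : E < K := lt_of_le_not_ge hEK fun h1 => by
      rw [relIndex_eq_one.mpr h1] at hi
      exact (Nat.one_lt_pow (by omega) hp.out.one_lt).ne hi
    have hNK := normalizer_le_of_lt hP h.idx hlt
    obtain ⟨g, hg, hgK⟩ := exists_mem_normalizer hP hK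
    have h1 := key _ (hP.to_subgroup (normalizer (K : Set P))) (E.subgroupOf _) (K.subgroupOf _)
      inferInstance (h.subgroupOf (hNK.trans le_normalizer))
      (by rw [← subgroupOf_normalizer_eq (hEK.trans le_normalizer)]; exact comap_mono hNK)
      (fun h2 => hgK (subgroupOf_eq_top.mp h2 hg)) (by rw [relIndex_subgroupOf le_normalizer, hi])
    rw [← map_subgroupOf_eq_of_le (le_normalizer (H := K)), ← map_lowerCentralSeries, h1,
      Subgroup.map_bot]

theorem IsSoft.relIndex_sup_lcs_le (hP : IsPGroup p P) {E K : Subgroup P} (h : IsSoft p E)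
    (hEK : E ≤ K) (j : ℕ) : ∀ n, K.lowerCentralSeries (n + j + 1) = ⊥ →
      E.relIndex (E ⊔ K.lowerCentralSeries n) ≤ p ^ j := by
  induction j with
  | zero =>
    intro n hn
    rw [relIndex_eq_one.mpr (sup_le le_rfl (((commutator_eq_bot_iff_le_centralizer.mp hn).trans
      (centralizer_le hEK)).trans h.cent)), pow_zero]
  | succ j ih =>
    intro n hn
    have h1 : K.lowerCentralSeries (n + 1) ≤ K.lowerCentralSeries n :=
      Subgroup.lowerCentralSeries_antitone _ (Nat.le_succ n)
    rw [← relIndex_mul_relIndex E (E ⊔ K.lowerCentralSeries (n + 1)) _ le_sup_left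
      (sup_le_sup_left h1 E), pow_succ]
    refine Nat.mul_le_mul (ih _ (by rw [← hn]; congr 1; omega)) ?_
    by_cases h2 : E ⊔ K.lowerCentralSeries (n + 1) = ⊤
    · rw [h2, relIndex_top_left]; exact hp.out.pos
    rw [← h.relIndex_normalizer hP le_sup_left h2]
    refine relIndex_le_of_le_right (sup_le (le_sup_left.trans le_normalizer) ?_)
      index_ne_zero_of_finite
    rw [le_normalizer_iff_commutator_le_right]
    exact (commutator_mono le_rfl (sup_le hEK (K.lowerCentralSeries_le_self _))).trans le_sup_right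

theorem IsSoft.nilpotencyClass_eq (hP : IsPGroup p P) {E K : Subgroup P} (h : IsSoft p E)
    (hEK : E ≤ K) (hK : K ≠ ⊤) {i : ℕ} (hi : E.relIndex K = p ^ i) :
    Group.nilpotencyClass K = i + 1 := by
  have := (hP.to_subgroup K).isNilpotent
  have e : ∀ n, K.lowerCentralSeries n = ⊥ ↔ Group.nilpotencyClass K ≤ n := fun n => by
    rw [← Subgroup.lowerCentralSeries_eq_bot_iff_nilpotencyClass_le,
      ← top_subtype_lowerCentralSeries, map_eq_bot_iff_of_injective _ K.subtype_injective]
  apply le_antisymm ((e _).mp (lcs_eq_bot_aux i P hP E K h hEK hK hi))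
  by_contra hlt
  have h1 := (e i).mpr (by omega)
  rcases i with _ | i
  · have h2 : E = ⊥ := le_bot_iff.mp (hEK.trans (le_of_eq h1))
    apply hK
    rw [eq_top_iff]
    refine le_trans ?_ (h.cent.trans hEK)
    rw [h2, le_centralizer_iff]
    exact bot_le
  · have h2 := h.relIndex_sup_lcs_le hP hEK i 0 (by rwa [zero_add])
    rw [Subgroup.lowerCentralSeries_zero, sup_eq_right.mpr hEK, hi,
      Nat.pow_le_pow_iff_right hp.out.one_lt] at h2
    omega

end CL.Soft
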