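import Mathlib
import Cfsg.Agent.FGS.SolvLin6

/-!
# Derived lengths of small solvable permutation groups and linear groups
-/

open Subgroup
open scoped Pointwise commutatorElement

namespace CL.SolvLin

universe u

section dser
variable {G H : Type*} [Group G] [Group H]

/-- The derived series of a subgroup. -/
def dser (K : Subgroup G) : ℕ → Subgroup G
  | 0 => K
  | n + 1 => ⁅dser K n, dser K n⁆

theorem dser_succ_le (K : Subgroup G) (n : ℕ) : dser K (n + 1) ≤ dser K n :=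
  commutator_le.2 fun _ ha _ hb => mul_mem (mul_mem (mul_mem ha hb) (inv_mem ha)) (inv_mem hb)

theorem dser_anti (K : Subgroup G) : Antitone (dser K) := antitone_nat_of_succ_le (dser_succ_le K)

theorem dser_le (K : Subgroup G) (n : ℕ) : dser K n ≤ K := dser_anti K (Nat.zero_le n)

theorem dser_mono {K L : Subgroup G} (h : K ≤ L) : ∀ n, dser K n ≤ dser L n
  | 0 => h
  | n + 1 => commutator_mono (dser_mono h n) (dser_mono h n)

theorem dser_add (K : Subgroup G) (m : ℕ) : ∀ n, dser K (m + n) = dser (dser K m) n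
  | 0 => rfl
  | n + 1 => by rw [← add_assoc, dser, dser_add K m n, dser]

theorem dser_map (K : Subgroup G) (f : G →* H) : ∀ n, (dser K n).map f = dser (K.map f) n
  | 0 => rfl
  | n + 1 => by rw [dser, Subgroup.map_commutator, dser_map K f n, dser]

theorem dser_top : ∀ n, dser (⊤ : Subgroup G) n = derivedSeries G n
  | 0 => rfl
  | n + 1 => by rw [dser, dser_top n, derivedSeries_succ]

theorem mem_dser_map {K : Subgroup G} {n : ℕ} {g : G} (h : g ∈ dser K n) (f : G →* H) :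
    f g ∈ dser (K.map f) n := dser_map K f n ▸ mem_map_of_mem f h

theorem mem_dser_top {K : Subgroup G} {n : ℕ} {g : G} (h : g ∈ dser K n) (f : G →* H) :
    f g ∈ dser ⊤ n := dser_mono le_top n (mem_dser_map h f)

theorem exists_of_mem_dser {K : Subgroup G} {n : ℕ} {g : G} (h : g ∈ dser K n) (f : H →* G)
    (hf : K ≤ f.range) : ∃ a ∈ dser (K.comap f) n, f a = g := by
  rwa [← map_comap_eq_self hf, ← dser_map] at h

theorem exists_of_mem_dser_le {K L : Subgroup G} {n : ℕ} {g : G} (h : g ∈ dser K n) (hf : K ≤ L) :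
    ∃ a ∈ dser (⊤ : Subgroup L) n, (a : G) = g := by
  obtain ⟨a, ha, e⟩ := exists_of_mem_dser h L.subtype (by rwa [range_subtype])
  exact ⟨a, dser_mono le_top n ha, e⟩

theorem dser_succ_le_of {K L : Subgroup G} {n : ℕ}
    (h : ∀ a ∈ dser K n, ∀ b ∈ dser K n, ⁅a, b⁆ ∈ L) : dser K (n + 1) ≤ L :=
  commutator_le.2 h

/-- The `d`-th derived subgroup acts trivially. -/
def DL (G Ω : Type*) [Group G] [MulAction G Ω] (d : ℕ) : Prop :=
  ∀ g ∈ dser (⊤ : Subgroup G) d, ∀ x : Ω, g • x = x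

theorem DL.mono {Ω : Type*} [MulAction G Ω] {d d' : ℕ} (h : DL G Ω d) (hd : d ≤ d') : DL G Ω d' :=
  fun g hg => h g (dser_anti _ hd hg)

theorem DL.comp {Ω : Type*} [MulAction G Ω] [MulAction H Ω] {d : ℕ} (h : DL H Ω d) (f : G →* H)
    (hf : ∀ g (x : Ω), f g • x = g • x) : DL G Ω d :=
  fun g hg x => by rw [← hf]; exact h _ (mem_dser_top hg f) x

end dser

/-- Bound for the derived length of completely reducible solvable groups. -/
def rho (n : ℕ) : ℕ :=
  if n ≤ 2 then 0 else if n ≤ 3 then 1 else if n ≤ 8 then 2 else if n ≤ 63 then 4 else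
    if n ≤ 4095 then 6 else 8

/-- Bound for the derived length of solvable permutation groups. -/
def sig (n : ℕ) : ℕ :=
  if n ≤ 1 then 0 else if n ≤ 2 then 1 else if n ≤ 3 then 2 else if n ≤ 7 then 3 else
    if n ≤ 8 then 4 else 5

theorem rho_mono {a b : ℕ} (h : a ≤ b) : rho a ≤ rho b := by
  unfold rho; split_ifs <;> omega

theorem sig_mono {a b : ℕ} (h : a ≤ b) : sig a ≤ sig b := by
  unfold sig; split_ifs <;> omega

/-- The inductive statement for modules. -/
def PRho (n : ℕ) : Prop := ∀ (A V : Type u) [Group A] [Finite A] [Group.IsSolvable A]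
  [AddCommGroup V] [Finite V] [DistribMulAction A V], Nat.card V < n → Nat.card V < 65536 →
    CR A V → DL A V (rho (Nat.card V))

theorem card_mul_le_orbs {G Ω : Type*} [Group G] [Finite Ω] [MulAction G Ω]
    [MulAction.IsPretransitive G Ω] (N : Subgroup G) [N.Normal] (S : orbs N Ω) :
    Nat.card (orbs N Ω) * Nat.card (blk (G := G) S.1) ≤ Nat.card Ω := by
  have h1 : ∀ T : orbs N Ω, ∃ g : G, g • S = T := by
    obtain ⟨_, x, rfl⟩ := S
    rintro ⟨_, y, rfl⟩
    obtain ⟨g, rfl⟩ := MulAction.exists_smul_eq G x y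
    exact ⟨g, Subtype.ext (MulAction.smul_orbit_eq_orbit_smul N x g)⟩
  choose g hg using h1
  have h2 : ∀ (T : orbs N Ω) x, x ∈ T.1 → MulAction.orbit N x = T.1 := by
    rintro ⟨_, y, rfl⟩ x hx
    exact MulAction.orbit_eq_iff.2 hx
  have h3 : ∀ T (x : blk (G := G) S.1), g T • (x : Ω) ∈ T.1 := fun T x => by
    rw [← show g T • S.1 = T.1 from congrArg Subtype.val (hg T)]
    exact Set.smul_mem_smul_set (a := g T) x.2
  rw [← Nat.card_prod]
  refine Nat.card_le_card_of_injective (fun p => g p.1 • (p.2 : Ω)) ?_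
  rintro ⟨T, x⟩ ⟨T', x'⟩ e
  simp only at e
  obtain rfl : T = T' := Subtype.ext (by rw [← h2 T _ (h3 T x), e, h2 T' _ (h3 T' x')])
  rw [Subtype.ext (MulAction.injective _ e)]

theorem orbs_trans {G Ω : Type*} [Group G] [MulAction G Ω]
    [MulAction.IsPretransitive G Ω] (N : Subgroup G) [N.Normal] :
    MulAction.IsPretransitive G (orbs N Ω) := ⟨by
  rintro ⟨_, x, rfl⟩ ⟨_, y, rfl⟩
  obtain ⟨g, rfl⟩ := MulAction.exists_smul_eq G x y
  exact ⟨g, Subtype.ext (MulAction.smul_orbit_eq_orbit_smul N x g)⟩⟩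

theorem blk_trans {G Ω : Type*} [Group G] [MulAction G Ω] (N : Subgroup G) [N.Normal]
    (S : orbs N Ω) : MulAction.IsPretransitive (MulAction.stabilizer G S.1) (blk (G := G) S.1) := ⟨by
  obtain ⟨_, x, rfl⟩ := S
  rintro ⟨_, a, rfl⟩ ⟨_, b, rfl⟩
  refine ⟨⟨b * a⁻¹, ?_⟩, Subtype.ext ?_⟩
  · exact MulAction.smul_orbit (b * a⁻¹) x
  · change ((b : G) * (a : G)⁻¹) • (a : G) • x = (b : G) • x
    rw [mul_smul, inv_smul_smul]⟩

/-- In the transitive case with a nontrivial intransitive normal subgroup there are proper blocks. -/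
theorem two_le_blk {G Ω : Type*} [Group G] [Finite Ω] [MulAction G Ω]
    [MulAction.IsPretransitive G Ω] (hf : ∀ g : G, (∀ x : Ω, g • x = x) → g = 1) {N : Subgroup G}
    [hN : N.Normal] (h : N ≠ ⊥) (S : orbs N Ω) : 2 ≤ Nat.card (blk (G := G) S.1) := by
  obtain ⟨_, x, rfl⟩ := S
  obtain ⟨⟨a, ha⟩, ha1⟩ := ne_bot_iff_exists_ne_one.1 h
  obtain ⟨y, hy⟩ := not_forall.1 fun e => ha1 (Subtype.ext (hf a e))
  obtain ⟨g, rfl⟩ := MulAction.exists_smul_eq G x y
  refine Finite.one_lt_card_iff_nontrivial.2 ⟨⟨_, ⟨g⁻¹ * a * g⁻¹⁻¹, hN.conj_mem a ha _⟩, rfl⟩,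
    ⟨x, MulAction.mem_orbit_self x⟩, fun e => hy ?_⟩
  have : (g⁻¹ * a * g⁻¹⁻¹) • x = x := congrArg Subtype.val e
  rwa [inv_inv, mul_smul, mul_smul, inv_smul_eq_iff] at this

theorem two_le_orbs {G Ω : Type*} [Group G] [Finite Ω] [MulAction G Ω] {N : Subgroup G} [N.Normal]
    {ω : Ω} (h : MulAction.orbit N ω ≠ Set.univ) : 2 ≤ Nat.card (orbs N Ω) := by
  obtain ⟨y, hy⟩ := (Set.ne_univ_iff_exists_notMem _).1 h
  exact Finite.one_lt_card_iff_nontrivial.2 ⟨⟨_, ω, rfl⟩, ⟨_, y, rfl⟩, fun e => hy (by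
    rw [show MulAction.orbit N ω = MulAction.orbit N y from congrArg Subtype.val e]
    exact MulAction.mem_orbit_self y)⟩

theorem dl_blk {G Ω : Type*} [Group G] [MulAction G Ω] {N : Subgroup G} [N.Normal] {a b : ℕ}
    (h1 : DL G (orbs N Ω) a)
    (h2 : ∀ S : orbs N Ω, DL (MulAction.stabilizer G S.1) (blk (G := G) S.1) b) :
    DL G Ω (a + b) := fun g hg x => by
  rw [dser_add] at hg
  obtain ⟨k, hk, rfl⟩ := exists_of_mem_dser_le (L := MulAction.stabilizer G (MulAction.orbit N x))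
    hg fun c hc => congrArg Subtype.val (h1 c hc ⟨_, x, rfl⟩)
  exact congrArg Subtype.val (h2 ⟨_, x, rfl⟩ k hk ⟨x, MulAction.mem_orbit_self x⟩)

theorem cr_of_min {G : Type*} [Group G] {N : Subgroup G} [N.Normal]
    (h : ∀ a ∈ N, ∀ b ∈ N, a * b = b * a)
    (hmin : ∀ L : Subgroup G, L.Normal → ⊥ ≤ L → L ≤ N → L = ⊥ ∨ L = N) : CR G (AbMod N h) :=
  AbMod.cr fun U hU hle => by
    rcases hmin U hU bot_le hle with rfl | rfl
    · exact ⟨N, inferInstance, by simp, by simp⟩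
    · exact ⟨⊥, inferInstance, by simp, by simp⟩

theorem dl_sig {n : ℕ} (hP : PRho.{u} n) (m : ℕ) : ∀ (G Ω : Type u) [Group G] [Finite G]
    [Group.IsSolvable G] [Finite Ω] [MulAction G Ω], Nat.card Ω = m → m < n → m ≤ 15 →
    DL G Ω (sig m) := by
  induction m using Nat.strong_induction_on with
  | _ m ih =>
  intro G₀ Ω _ _ _ _ _ hm hn h15
  let f := (MulAction.toPermHom G₀ Ω).rangeRestrict
  have hfs : Function.Surjective f := MonoidHom.rangeRestrict_surjective _
  refine DL.comp ?_ f fun _ _ => rfl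
  have hsol := Group.isSolvable_of_surjective hfs
  have hf : ∀ g : (MulAction.toPermHom G₀ Ω).range, (∀ x : Ω, g • x = x) → g = 1 :=
    fun g hg => Subtype.ext (Equiv.ext hg)
  generalize (MulAction.toPermHom G₀ Ω).range = G at hsol hf
  clear hfs f
  have hblk : ∀ (N : Subgroup G) [N.Normal], (∀ ω : Ω, MulAction.orbit N ω ≠ Set.univ) →
      ∀ S : orbs N Ω, DL (MulAction.stabilizer G S.1) (blk (G := G) S.1)
        (sig (Nat.card (blk (G := G) S.1))) := by
    rintro N _ ht ⟨_, x, rfl⟩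
    have h5 : Nat.card (blk (G := G) (MulAction.orbit N x)) < m := by
      rw [← hm]
      obtain ⟨y, hy⟩ := (Set.ne_univ_iff_exists_notMem _).1 (ht x)
      exact Finite.card_subtype_lt (x := y) hy
    exact ih _ h5 _ _ rfl (by omega) (by omega)
  by_cases ht : ∀ ω : Ω, MulAction.orbit (⊤ : Subgroup G) ω ≠ Set.univ
  · have := dl_blk (N := ⊤) (a := 0) (b := sig m) (by
      rintro g - ⟨_, x, rfl⟩
      exact Subtype.ext (MulAction.smul_orbit (⟨g, trivial⟩ : (⊤ : Subgroup G)) x))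
      fun S => (hblk ⊤ ht S).mono (sig_mono (hm ▸ Finite.card_subtype_le _))
    rwa [zero_add] at this
  push Not at ht
  obtain ⟨ω, ht⟩ := ht
  have : MulAction.IsPretransitive G Ω := (MulAction.isPretransitive_iff_base ω).2 fun x => by
    obtain ⟨g, rfl⟩ : x ∈ MulAction.orbit (⊤ : Subgroup G) ω := ht ▸ trivial
    exact ⟨g, rfl⟩
  by_cases htriv : (⊥ : Subgroup G) = ⊤
  · intro g _ x
    rw [show g = 1 from mem_bot.1 (htriv ▸ trivial), one_smul]
  obtain ⟨N, hNn, h1, -, h2, h3⟩ := exists_step (lt_top_iff_ne_top.2 htriv)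
  have hab : ∀ a ∈ N, ∀ b ∈ N, a * b = b * a := fun a ha b hb =>
    commutatorElement_eq_one_iff_mul_comm.1 (h2 a ha b hb)
  have h4 := two_le_blk (Ω := Ω) hf h1.ne'
  by_cases ht' : ∀ ω : Ω, MulAction.orbit N ω ≠ Set.univ
  · let S₀ : orbs N Ω := ⟨_, ω, rfl⟩
    have h5 := two_le_orbs (ht' ω)
    have h6 : Nat.card (orbs N Ω) < m := by
      have := card_mul_le_orbs N S₀
      have := h4 S₀
      nlinarith
    have h7 : ∀ a ≤ 15, ∀ b ≤ 15, ∀ c ≤ 15, 2 ≤ a ∧ 2 ≤ b ∧ a * b ≤ c → sig b ≤ sig c - sig a := by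
      decide +kernel
    refine (dl_blk (b := sig m - sig (Nat.card (orbs N Ω))) (ih _ h6 _ _ rfl (by omega) (by omega))
      fun S => (hblk N ht' S).mono (h7 _ (by omega) _ ((Finite.card_subtype_le _).trans (by omega))
        _ h15 ⟨h5, h4 S, hm ▸ card_mul_le_orbs N S⟩)).mono ?_
    have := sig_mono h6.le
    omega
  push Not at ht'
  obtain ⟨ω, ht'⟩ := ht'
  have e := Nat.card_eq_of_bijective _ (regular_of_trans hf hab ht')
  have h5 := hP G (AbMod N hab) (by omega) (by omega) (cr_of_min hab h3)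
  have h6 : dser (⊤ : Subgroup G) (rho m) ≤ N := fun g hg => by
    obtain ⟨a, ha⟩ : g • ω ∈ MulAction.orbit N ω := ht' ▸ trivial
    rw [show g = a from (inv_mul_eq_one.1 (hf _ fun x => ?_)).symm]
    · exact a.2
    obtain ⟨b, rfl⟩ : x ∈ MulAction.orbit N ω := ht' ▸ trivial
    have h7 : g * b * g⁻¹ = b := congrArg AbMod.val (h5 g (by rwa [e, hm]) (AbMod.mk hab b b.2))
    change ((a : G)⁻¹ * g) • (b : G) • ω = (b : G) • ω
    rw [mul_smul, ← mul_smul g, mul_inv_eq_iff_eq_mul.1 h7, mul_smul, ← show (a : G) • ω = g • ω from ha,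
      ← mul_smul (b : G), hab _ b.2 _ a.2, mul_smul, inv_smul_smul]
  have h7 : ∀ c ≤ 15, 2 ≤ c → rho c + 1 ≤ sig c := by decide
  refine DL.mono (fun g hg x => ?_) (h7 m h15 ((h4 ⟨_, ω, rfl⟩).trans
    (hm ▸ Finite.card_subtype_le _)))
  rw [mem_bot.1 (dser_succ_le_of (fun a ha b hb => h2 a (h6 ha) b (h6 hb)) hg), one_smul]

section lin
variable {A V : Type*} [Group A] [AddCommGroup V] [DistribMulAction A V]

theorem dser_triv_of_blocks [Finite A] {U : AddSubgroup V} (hirr : Irr A V) (hU : U ≠ ⊥)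
    (g : MulAction.orbit A U → A) (hg : ∀ l, g l • U = l.1) (K : Subgroup A) (b : ℕ)
    (h : ∀ l, ∀ a ∈ dser (K.map (MulAut.conj (g l)⁻¹).toMonoidHom) b, ∀ u ∈ U, a • u = u) :
    ∀ a ∈ dser K b, ∀ v : V, a • v = v := by
  intro a ha v
  have : Finite (MulAction.orbit A U) := Finite.finite_mulAction_orbit U
  have := Fintype.ofFinite (MulAction.orbit A U)
  obtain ⟨y, hy, rfl⟩ := exists_decomp hirr hU (inv_stabilizer U) g hg v
  rw [Finset.smul_sum]
  refine Finset.sum_congr rfl fun l _ => ?_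
  obtain ⟨u, hu, e⟩ := hy l
  have h1 : ((g l)⁻¹ * a * (g l)⁻¹⁻¹) • u = u := h l _ (mem_dser_map ha _) u hu
  rw [inv_inv, mul_smul, mul_smul, inv_smul_eq_iff] at h1
  rw [← e]; exact h1

theorem Indep.pow_le [Finite A] [Finite V] {U : AddSubgroup V} (h : Indep A U) :
    Nat.card U ^ Nat.card (MulAction.orbit A U) ≤ Nat.card V := by
  have : Finite (MulAction.orbit A U) := Finite.finite_mulAction_orbit U
  have := Fintype.ofFinite (MulAction.orbit A U)
  obtain ⟨g, hg⟩ := exists_reps (A := A) U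
  rw [← Nat.card_fun]
  refine Nat.card_le_card_of_injective (fun x => ∑ l, g l • (x l : V)) fun x y e => funext fun l => ?_
  have := h Finset.univ (fun l => g l • ((x l : V) - y l))
    (fun l => hg l ▸ AddSubgroup.smul_mem_pointwise_smul _ _ U (sub_mem (x l).2 (y l).2))
    (by simp only [smul_sub, Finset.sum_sub_distrib, sub_eq_zero]; exact e) l (Finset.mem_univ _)
  exact Subtype.ext (sub_eq_zero.1 ((smul_eq_zero_iff_eq _).1 this))

theorem two_le_orbit [Finite A] {U : AddSubgroup V} (hirr : Irr A V) (h1 : U ≠ ⊥) (h2 : U ≠ ⊤) :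
    2 ≤ Nat.card (MulAction.orbit A U) := by
  have : Finite (MulAction.orbit A U) := Finite.finite_mulAction_orbit U
  refine Finite.one_lt_card_iff_nontrivial.2 (not_subsingleton_iff_nontrivial.1 fun hs => ?_)
  refine (hirr U fun a => inv_stabilizer U a ?_).elim h1 h2
  exact congrArg Subtype.val (hs.elim ⟨_, MulAction.mem_orbit U a⟩ ⟨U, MulAction.mem_orbit_self U⟩)

theorem Str.comm_mem [Finite A] [Finite V] [Nontrivial V] {Z E : Subgroup A} (h : Str V Z E)
    (a b : A) : ⁅a, b⁆ ∈ centralizer (Z : Set A) := by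
  obtain ⟨z, hz⟩ := (h.field.1).exists_generator
  have h1 : ∀ a : A, ∃ n : ℤ, ∀ w ∈ Z, a * w * a⁻¹ = w ^ n := fun a => by
    obtain ⟨n, hn⟩ := hz ⟨_, h.Zn.conj_mem _ z.2 a⟩
    refine ⟨n, fun w hw => ?_⟩
    obtain ⟨m, hm⟩ := hz ⟨w, hw⟩
    have e1 : (z : A) ^ n = a * z * a⁻¹ := congrArg Subtype.val hn
    rw [← show (z : A) ^ m = w from congrArg Subtype.val hm, ← conj_zpow, ← e1, ← zpow_mul,
      ← zpow_mul, mul_comm]
  intro w hw
  obtain ⟨n, hn⟩ := h1 a
  obtain ⟨m, hm⟩ := h1 b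
  have hw' := h.Zn.conj_mem _ (h.Zn.conj_mem _ hw b⁻¹) a⁻¹
  set x := a⁻¹ * (b⁻¹ * w * b⁻¹⁻¹) * a⁻¹⁻¹ with hx
  have e1 : a * (b * x * b⁻¹) * a⁻¹ = b * (a * x * a⁻¹) * b⁻¹ := by
    rw [hm x hw', hn x hw', hn _ (zpow_mem hw' _), hm _ (zpow_mem hw' _), ← zpow_mul, ← zpow_mul,
      mul_comm]
  rw [commutatorElement_def]
  calc _ = b * (a * x * a⁻¹) * b⁻¹ * (a * b * a⁻¹ * b⁻¹) := by rw [hx]; group
    _ = _ := by rw [← e1, hx]; group

end lin

theorem Str.section' {A : Type u} {V : Type*} [Group A] [AddCommGroup V] [DistribMulAction A V]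
    [Finite A] [Finite V] [Nontrivial V] {Z E : Subgroup A} (h : Str V Z E) :
    ∃ (W : Type u) (_ : AddCommGroup W) (_ : Finite W) (_ : DistribMulAction A W),
      Nat.card W = Z.relIndex E ∧ CR A W ∧
      ∀ g ∈ centralizer (Z : Set A), (∀ w : W, g • w = w) → g ∈ E := by
  have := h.Zn
  have := h.En
  let π := QuotientGroup.mk' Z
  have hπ : Function.Surjective π := QuotientGroup.mk'_surjective Z
  have hk : π.ker = Z := QuotientGroup.ker_mk' Z
  have hk' : ∀ a, π a = 1 ↔ a ∈ Z := fun a => QuotientGroup.eq_one_iff a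
  let N := E.map π
  have : N.Normal := h.En.map π hπ
  have hab : ∀ a ∈ N, ∀ b ∈ N, a * b = b * a := by
    rintro _ ⟨a, ha, rfl⟩ _ ⟨b, hb, rfl⟩
    rw [← commutatorElement_eq_one_iff_mul_comm, ← map_commutatorElement, hk']
    exact h.comm a ha b hb
  have hcr : CR (A ⧸ Z) (AbMod N hab) := AbMod.cr fun U hU hle => by
    have := hU.comap π
    obtain ⟨U', h1, h2, h3⟩ := h.compl (U := U.comap π) (hk.ge.trans (ker_le_comap π U)) (by
      have := comap_mono (f := π) hle
      rwa [comap_map_eq_self (hk.le.trans h.le)] at this)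
    have h4 : Z ≤ U' := h2 ▸ inf_le_right
    refine ⟨U'.map π, h1.map π hπ, comap_injective hπ ?_, ?_⟩
    · rw [comap_inf, comap_map_eq_self (hk.le.trans h4), h2, MonoidHom.comap_bot, hk]
    · rw [← map_comap_eq_self_of_surjective hπ U, ← Subgroup.map_sup, h3]
  refine ⟨AbMod N hab, inferInstance, inferInstance, DistribMulAction.compHom _ π, ?_,
    fun U hU => ?_, fun g hg h1 => h.mem_of_comm hg fun y hy => ?_⟩
  · rw [AbMod.card, ← relIndex_ker, hk]
  · obtain ⟨W, h1, h2⟩ := hcr U fun a => by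
      obtain ⟨a, rfl⟩ := hπ a
      exact hU a
    exact ⟨W, fun a => h1 (π a), h2⟩
  · have h3 : π g * π y * (π g)⁻¹ = π y :=
      congrArg AbMod.val (h1 (AbMod.mk hab (π y) ⟨y, hy, rfl⟩))
    rw [← hk', commutatorElement_def, map_mul, map_mul, map_mul, map_inv, h3, map_inv,
      mul_inv_cancel]

section str
variable {A : Type u} {V : Type*} [Group A] [AddCommGroup V] [DistribMulAction A V]
  [Finite A] [Finite V] [Nontrivial V] {Z E : Subgroup A} (h : Str V Z E)
include h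

theorem Str.dser_le [Group.IsSolvable A] {n k : ℕ} (hP : PRho.{u} n) (h1 : Z.relIndex E < n)
    (h2 : Z.relIndex E < 65536) (hk : rho (Z.relIndex E) ≤ k) (hk1 : 1 ≤ k) :
    dser (⊤ : Subgroup A) k ≤ E := by
  obtain ⟨W, _, _, _, hW, hcr, hk'⟩ := h.section'
  rw [← hW] at h1 h2 hk
  exact fun g hg => hk' g (dser_succ_le_of (n := 0) (fun a _ b _ => h.comm_mem a b)
    (dser_anti _ hk1 hg)) ((hP A W h1 h2 hcr).mono hk g hg)

omit [Finite A] [Finite V] [Nontrivial V] in
theorem Str.dl_of_le {k : ℕ} (hk : dser (⊤ : Subgroup A) k ≤ E) : DL A V (k + 2) := by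
  intro g hg v
  have h1 : dser (⊤ : Subgroup A) (k + 1) ≤ Z :=
    dser_succ_le_of fun a ha b hb => h.comm a (hk ha) b (hk hb)
  rw [mem_bot.1 (dser_succ_le_of (fun a ha b hb => mem_bot.2
    (commutatorElement_eq_one_iff_mul_comm.2 (h.ab (h1 ha) (h1 hb)))) hg), one_smul]

/-- The numerical parameters. -/
theorem Str.params : ∃ q e : ℕ, IsPrimePow q ∧ Nat.card Z ∣ q - 1 ∧ Z.relIndex E = e ^ 2 ∧ 1 ≤ e ∧
    q ^ e ≤ Nat.card V ∧ (∀ r, r.Prime → r ∣ e → r ∣ Nat.card Z ∧ r < q) ∧ Nat.card Z < q ∧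
    (Odd (Nat.card V) → Odd q) := by
  obtain ⟨U, h1, h2, h3⟩ := exists_min_inv (V := V) E
  let := resAct E U h2
  have : Nontrivial U := (AddSubgroup.nontrivial_iff_ne_bot U).2 h1
  obtain ⟨-, q, d, h5, h6, h7, h8⟩ := exists_field_aux (irr_res h2 h3) (Z := Z.subgroupOf E)
    (fun z hz x => Subtype.ext (h.cen z hz x x.2))
    (fun z hz v hv => (h.fpf z hz v (congrArg Subtype.val hv)).imp Subtype.ext Subtype.ext)
    (fun x y => h.comm x x.2 y y.2)
    (fun x hx => h.selfc x fun y hy => congrArg Subtype.val (hx ⟨y, hy⟩))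
  rw [Nat.card_congr (subgroupOfEquivOfLe h.le).toEquiv] at h6
  obtain ⟨e, he⟩ := h.exists_sq
  have he1 : 1 ≤ e := Nat.pos_of_ne_zero fun e' => by
    rw [e'] at he
    exact FiniteIndex.index_ne_zero he
  have hed : e ≤ d := (Nat.pow_le_pow_iff_left two_ne_zero).1 (he ▸ h8)
  have hq := h5.two_le
  have hz : Nat.card Z < q := by have := Nat.le_of_dvd (by omega) h6; omega
  refine ⟨q, e, h5, h6, he, he1, (Nat.pow_le_pow_right (by omega) hed).trans
    (h7 ▸ U.card_le_card_addGroup), fun r hr hd => ?_, hz, fun ho => ?_⟩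
  · have := h.prime_dvd hr (he ▸ hd.trans (dvd_pow_self e two_ne_zero))
    exact ⟨this, (Nat.le_of_dvd Nat.card_pos this).trans_lt hz⟩
  · exact (Nat.odd_pow_iff (by omega : d ≠ 0)).1 (h7 ▸ ho.of_dvd_nat U.card_addSubgroup_dvd_card)

end str

theorem three_le_of_params {q e z : ℕ} (h : ∀ r, r.Prime → r ∣ e → r ∣ z ∧ r < q) (he : 2 ≤ e) :
    3 ≤ q := by
  have h1 := Nat.minFac_prime (by omega : e ≠ 1)
  have := h1.two_le
  have := (h _ h1 (Nat.minFac_dvd e)).2
  omega

theorem sq_lt_three_pow (e : ℕ) : e ^ 2 < 3 ^ e := by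
  induction e with
  | zero => simp
  | succ e ih =>
    rcases Nat.lt_or_ge e 2 with h | h
    · interval_cases e <;> simp
    · rw [pow_succ 3]; nlinarith

theorem pRho_aux {A V : Type u} [Group A] [Finite A] [Group.IsSolvable A] [AddCommGroup V]
    [Finite V] [DistribMulAction A V] (ih : PRho.{u} (Nat.card V)) (hV : Nat.card V < 65536)
    (hcr : CR A V) (hf : ∀ g : A, (∀ v : V, g • v = v) → g = 1) : DL A V (rho (Nat.card V)) := by
  have hlt : ∀ U : AddSubgroup V, U ≠ ⊤ → Nat.card U < Nat.card V := fun U hU =>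
    lt_of_le_of_ne U.card_le_card_addGroup fun e => hU (AddSubgroup.eq_top_of_card_eq _ e)
  have hsub : ∀ (H : Subgroup A) (U : AddSubgroup V) (h : Inv H U), U ≠ ⊤ →
      (letI := resAct H U h; CR H U) → ∀ K ≤ H, ∀ g ∈ dser K (rho (Nat.card U)), ∀ u ∈ U,
        g • u = u := fun H U h hU hc K hK g hg u hu => by
    let := resAct H U h
    obtain ⟨a, ha, rfl⟩ := exists_of_mem_dser_le hg hK
    exact congrArg Subtype.val (ih H U (hlt U hU) ((hlt U hU).trans hV) hc a ha ⟨u, hu⟩)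
  by_cases hirr : Irr A V
  swap
  · simp only [Irr, not_forall, not_or] at hirr
    obtain ⟨U, hU, h1, h2⟩ := hirr
    obtain ⟨W, hW, h3, h4⟩ := hcr U hU
    have hU' : Inv (⊤ : Subgroup A) U := fun a _ => hU a
    have hW' : Inv (⊤ : Subgroup A) W := fun a _ => hW a
    intro g hg v
    obtain ⟨u, hu, w, hw, rfl⟩ := AddSubgroup.mem_sup.1 (show v ∈ U ⊔ W from h4 ▸ trivial)
    rw [smul_add, hsub ⊤ U hU' h2 (cr_res_of_cr hcr hU') ⊤ le_rfl g
      (dser_anti _ (rho_mono U.card_le_card_addGroup) hg) u hu,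
      hsub ⊤ W hW' (fun e => h1 (by rwa [e, inf_top_eq] at h3)) (cr_res_of_cr hcr hW') ⊤ le_rfl g
      (dser_anti _ (rho_mono W.card_le_card_addGroup) hg) w hw]
  rcases subsingleton_or_nontrivial V with hV' | hV'
  · exact fun _ _ _ => Subsingleton.elim _ _
  by_cases h3 : Nat.card V ≤ 3
  · let S : SubMulAction A V :=
      { carrier := {v | v ≠ 0}
        smul_mem' := fun a _ hv e => hv ((smul_eq_zero_iff_eq a).1 e) }
    have h1 : Nat.card S < Nat.card V := Finite.card_subtype_lt (x := 0) fun e => e rfl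
    have h2 : ∀ c ≤ 3, ∀ b < c, sig b ≤ rho c := by decide
    intro g hg v
    by_cases hv : v = 0
    · rw [hv, smul_zero]
    · exact congrArg Subtype.val ((dl_sig ih _ A S rfl h1 (by omega)).mono (h2 _ h3 _ h1) g hg ⟨v, hv⟩)
  by_cases hp : Prim A V
  · obtain ⟨Z, E, h⟩ := exists_str hp
    obtain ⟨q, e, -, -, he, he1, hN, hr, -, -⟩ := h.params
    have h4 : e ^ 2 < Nat.card V ∧ max (rho (e ^ 2)) 1 + 2 ≤ rho (Nat.card V) ∨ e = 1 := by
      refine or_iff_not_imp_right.2 fun h1 => ?_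
      have h5 := (Nat.pow_le_pow_left (three_le_of_params hr (by omega)) e).trans hN
      refine ⟨(sq_lt_three_pow e).trans_le h5, ?_⟩
      have h6 : e ≤ 10 := by
        by_contra h6
        have := Nat.pow_le_pow_right (by norm_num : 0 < 3) (by omega : 11 ≤ e)
        omega
      by_cases h7 : e = 3
      · subst h7
        have := (Nat.pow_le_pow_left (hr 3 Nat.prime_three dvd_rfl).2 3).trans hN
        exact le_trans (by decide) (rho_mono this)
      · refine le_trans ?_ (rho_mono h5)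
        interval_cases e <;> first | omega | decide
    rcases h4 with ⟨h4, h5⟩ | rfl
    · exact (h.dl_of_le (h.dser_le ih (he ▸ h4) (he ▸ h4.trans hV) (he ▸ le_max_left _ _)
        (le_max_right _ _))).mono h5
    · have hEZ : E ≤ Z := relIndex_eq_one.1 he
      refine DL.mono (d := 2) (fun g hg v => ?_) (rho_mono (by omega : 4 ≤ Nat.card V))
      have h5 := (h.dser_le (k := 1) ih (by omega) (by omega) (by rw [he]; decide) le_rfl).trans hEZ
      rw [mem_bot.1 (dser_succ_le_of (fun a ha b hb => mem_bot.2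
        (commutatorElement_eq_one_iff_mul_comm.2 (h.ab (h5 ha) (h5 hb)))) hg), one_smul]
  obtain ⟨U, h1, h2, h4⟩ := exists_indep hf hp
  have : Finite (MulAction.orbit A U) := Finite.finite_mulAction_orbit U
  have h5 := h4.pow_le
  have h6 := two_le_orbit hirr h1 h2
  have h7 : 2 ≤ Nat.card U := (AddSubgroup.one_lt_card_iff_ne_bot U).2 h1
  have h8 : Nat.card (MulAction.orbit A U) ≤ 15 := by
    by_contra h8
    have := (Nat.pow_le_pow_right (by norm_num) (by omega : 16 ≤ _)).trans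
      ((Nat.pow_le_pow_left h7 _).trans h5)
    omega
  have h9 : Nat.card U < 256 := by
    by_contra h9
    have := (Nat.pow_le_pow_left (by omega : 256 ≤ _) 2).trans
      ((Nat.pow_le_pow_right (by omega) h6).trans h5)
    omega
  have h10 : ∀ k ≤ 15, ∀ u < 256, 2 ≤ k ∧ 2 ≤ u ∧ u ^ k < 65536 → sig k + rho u ≤ rho (u ^ k) := by
    decide +kernel
  obtain ⟨g, hg⟩ := exists_reps (A := A) U
  refine DL.mono (fun a ha => ?_) ((h10 _ h8 _ h9 ⟨h6, h7, h5.trans_lt hV⟩).trans (rho_mono h5))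
  rw [dser_add] at ha
  refine dser_triv_of_blocks hirr h1 g hg _ _ (fun l => hsub _ U (inv_stabilizer U) h2
    (cr_res_of_irr _ (h4.irr hirr)) _ ?_) a ha
  rintro _ ⟨c, hc, rfl⟩
  have := congrArg Subtype.val (dl_sig ih _ A _ rfl (h4.card_lt h1) h8 c hc l)
  change ((g l)⁻¹ * c * (g l)⁻¹⁻¹) • U = U
  rw [inv_inv, mul_smul, mul_smul, hg, show c • l.1 = l.1 from this, ← hg, inv_smul_smul]

theorem pRho (n : ℕ) : PRho.{u} n := by
  induction n with
  | zero => exact fun _ _ _ _ _ _ _ _ h => absurd h (Nat.not_lt_zero _)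
  | succ n ih =>
  intro A₀ V _ _ _ _ _ _ hn hV hcr₀
  rcases Nat.lt_succ_iff_lt_or_eq.1 hn with hn | rfl
  · exact ih A₀ V hn hV hcr₀
  have := Group.isSolvable_of_surjective (toImg_surj (A := A₀) (V := V))
  have : Finite (Img A₀ V) := Finite.of_surjective _ toImg_surj
  exact (pRho_aux ih hV hcr₀.img img_faithful).comp (toImg V) fun _ _ => rfl

theorem dl_perm (G Ω : Type u) [Group G] [Finite G] [Group.IsSolvable G] [Finite Ω] [MulAction G Ω]
    {m : ℕ} (h : Nat.card Ω ≤ m) (hm : m ≤ 15) : DL G Ω (sig m) :=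
  (dl_sig (pRho _) _ G Ω rfl (Nat.lt_succ_self _) (h.trans hm)).mono (sig_mono h)

end CL.SolvLin
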