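import Mathlib
import Cfsg.Agent.FGS.StabDL1
import Cfsg.Agent.FGS.Base4

/-!
# Colourings of solvable permutation groups whose stabilisers have small derived length
-/

open Subgroup
open scoped Pointwise commutatorElement

namespace CL.SolvLin

universe u

/-- The stabiliser of the colouring has derived length at most `d`. -/
def Col (G : Type*) {Ω κ : Type*} [Group G] [MulAction G Ω] (c : Ω → κ) (d : ℕ) : Prop :=
  ∀ K : Subgroup G, (∀ g ∈ K, ∀ x, c (g • x) = c x) → ∀ g ∈ dser K d, ∀ x : Ω, g • x = x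

/-- There are `t` inequivalent colourings with stabilisers of derived length at most `d`. -/
def Types (G Ω κ : Type*) [Group G] [MulAction G Ω] (t d : ℕ) : Prop :=
  ∃ c : Fin t → Ω → κ, (∀ k, Col G (c k) d) ∧
    ∀ k k' (g : G), (∀ x, c k (g • x) = c k' x) → k = k'

section
variable {G H Ω κ : Type*} [Group G] [Group H] [MulAction G Ω]

theorem Types.comp [MulAction H Ω] {t d : ℕ} (h : Types H Ω κ t d) (f : G →* H)
    (hf : ∀ g (x : Ω), f g • x = g • x) : Types G Ω κ t d := by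
  obtain ⟨c, h1, h2⟩ := h
  refine ⟨c, fun k K hK g hg x => ?_, fun k k' g hg => h2 k k' (f g) fun x => by rw [hf, hg]⟩
  rw [← hf]
  refine h1 k (K.map f) ?_ _ (mem_dser_map hg f) x
  rintro _ ⟨a, ha, rfl⟩ y
  rw [hf, hK a ha]

theorem Types.mono {t d d' : ℕ} (h : Types G Ω κ t d) (hd : d ≤ d') : Types G Ω κ t d' := by
  obtain ⟨c, h1, h2⟩ := h
  exact ⟨c, fun k K hK g hg => h1 k K hK g (dser_anti _ hd hg), h2⟩

theorem types_of_blk [Nonempty κ] {N : Subgroup G} [N.Normal] {s t a b : ℕ}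
    (h1 : Types G (orbs N Ω) (Fin s) t a)
    (h2 : ∀ S : orbs N Ω, Types (MulAction.stabilizer G S.1) (blk (G := G) S.1) κ s b) :
    Types G Ω κ t (a + b) := by
  classical
  obtain ⟨Γ, hΓ1, hΓ2⟩ := h1
  have h4 : ∀ S : orbs N Ω, ∃ d : Fin s → Ω → κ, (∀ k k' (g : G), g • S = S →
      (∀ x ∈ S.1, d k (g • x) = d k' x) → k = k') ∧ ∀ k (K : Subgroup G), (∀ g ∈ K, g • S = S ∧
      ∀ x ∈ S.1, d k (g • x) = d k x) → ∀ g ∈ dser K b, ∀ x ∈ S.1, g • x = x := by
    intro S
    obtain ⟨d, hd1, hd2⟩ := h2 S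
    have h7 : ∀ k k' (g : MulAction.stabilizer G S.1), (∀ x ∈ S.1,
        (if hy : (g : G) • x ∈ S.1 then d k ⟨_, hy⟩ else Classical.arbitrary κ) =
          if hy : x ∈ S.1 then d k' ⟨_, hy⟩ else Classical.arbitrary κ) →
        ∀ y : blk (G := G) S.1, d k (g • y) = d k' y := fun k k' g h6 y => by
      have h8 := h6 y y.2
      have h9 : (g : G) • (y : Ω) ∈ S.1 := (g • y).2
      have h10 : (y : Ω) ∈ S.1 := y.2
      simp only [dif_pos h9, dif_pos h10] at h8
      exact h8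
    refine ⟨fun k y => if hy : y ∈ S.1 then d k ⟨y, hy⟩ else Classical.arbitrary κ,
      fun k k' g hg h6 => hd2 k k' ⟨g, congrArg Subtype.val hg⟩ (h7 _ _ _ h6),
      fun k K hK g hg x hx => ?_⟩
    obtain ⟨g', hg', rfl⟩ := exists_of_mem_dser hg (MulAction.stabilizer G S.1).subtype (by
      rw [range_subtype]; exact fun c hc => congrArg Subtype.val (hK c hc).1)
    exact congrArg Subtype.val (hd1 k _ (fun c hc => h7 _ _ c (hK c hc).2) g' hg' ⟨x, hx⟩)
  choose d hd1 hd2 using h4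
  let π : Ω → orbs N Ω := fun x => ⟨_, x, rfl⟩
  have hπ : ∀ (S : orbs N Ω), ∀ x ∈ S.1, π x = S := by
    rintro ⟨_, y, rfl⟩ x hx
    exact Subtype.ext (MulAction.orbit_eq_iff.2 hx)
  have hπs : ∀ (g : G) x, π (g • x) = g • π x := fun g x =>
    Subtype.ext (MulAction.smul_orbit_eq_orbit_smul N x g).symm
  let r : orbs N Ω → orbs N Ω := fun S => (Quotient.mk (MulAction.orbitRel G _) S).out
  have hr : ∀ (g : G) S, r (g • S) = r S := fun g S =>
    congrArg Quotient.out (Quotient.sound (MulAction.mem_orbit S g))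
  have ht' : ∀ S, ∃ t : G, t • S = r S := fun S =>
    Quotient.exact (s := MulAction.orbitRel G _) (Quotient.out_eq (Quotient.mk _ S))
  choose τ ht using ht'
  let c : Fin t → Ω → κ := fun k x => d (r (π x)) (Γ k (π x)) (τ (π x) • x)
  have h5 : ∀ (g : G) S, (τ (g • S) * g * (τ S)⁻¹) • r S = r S := fun g S => by
    rw [← ht S, mul_smul, inv_smul_smul, mul_smul, ht, hr, ht]
  have h6 : ∀ k k' (g : G), (∀ x, c k (g • x) = c k' x) → ∀ S, ∀ y ∈ (r S).1,
      d (r S) (Γ k (g • S)) ((τ (g • S) * g * (τ S)⁻¹) • y) = d (r S) (Γ k' S) y := by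
    intro k k' g hg S y hy
    have h6 : π ((τ S)⁻¹ • y) = S := by rw [hπs, hπ _ y hy, ← ht S, inv_smul_smul]
    have h7 := hg ((τ S)⁻¹ • y)
    simp only [c, hπs g, h6, hr, smul_inv_smul] at h7
    rw [mul_smul, mul_smul, h7]
  have h7 := fun k k' g hg S => hd1 _ _ _ _ (h5 g S) (h6 k k' g hg S)
  refine ⟨c, fun k K hK g hg x => ?_, fun k k' g hg => hΓ2 k k' g (h7 k k' g hg)⟩
  rw [dser_add] at hg
  have h8 := hΓ1 k K fun g hg => h7 k k g (hK g hg)
  have h9 : (τ (π x) * g * (τ (π x))⁻¹) • τ (π x) • x = τ (π x) • x :=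
    hd2 (r (π x)) (Γ k (π x)) _ (by
      rintro _ ⟨c, hc, rfl⟩
      have e1 := h5 c (π x)
      have e2 := h6 k k c (hK c (dser_le _ _ hc)) (π x)
      rw [h8 c hc] at e1 e2
      exact ⟨e1, e2⟩) _ (mem_dser_map hg (MulAut.conj (τ (π x))).toMonoidHom) _ (by
      rw [← ht, ← hπs]; exact MulAction.mem_orbit_self _)
  rwa [mul_smul, inv_smul_smul, mul_smul, smul_left_cancel_iff] at h9

end

theorem types_five (G Ω : Type u) [Group G] [Finite G] [Group.IsSolvable G] [Finite Ω]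
    [Nonempty Ω] [MulAction G Ω] : Types G Ω (Fin 5) 5 0 := by
  obtain ⟨c, hc⟩ := exists_col_five G Ω
  let Y := Ω → Fin 5
  let _ : MulAction G Y := arrowAction
  let _ : MulAction (alternatingGroup (Fin 5)) Y := Pi.mulAction _
  obtain ⟨f, hf⟩ := exists_five (G := G) (Y := Y) (L := alternatingGroup (Fin 5))
    (fun _ _ _ => rfl) (commutator_alternatingGroup_eq_top (by simp)) (y := c) (by
      refine ⟨⟨finRotate 5, Equiv.Perm.mem_alternatingGroup.2 (by decide)⟩, fun e => ?_⟩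
      have := congrFun e (Classical.arbitrary Ω)
      revert this
      change finRotate 5 (c _) ≠ c _
      generalize c (Classical.arbitrary Ω) = k
      revert k
      decide)
  refine ⟨fun k => f k • c, fun k K hK g hg => hc g fun x => (f k).1.injective (hK g hg x),
    fun k k' g hg => hf k k' g⁻¹ (funext fun x => ?_)⟩
  change (f k • c) (g⁻¹⁻¹ • x) = _
  rw [inv_inv]
  exact hg x

/-- There is a base with at most `m` points. -/
def BaseLe (G Ω : Type*) [Group G] [MulAction G Ω] (m : ℕ) : Prop :=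
  ∃ β : Finset Ω, β.card ≤ m ∧ ∀ g : G, (∀ x ∈ β, g • x = x) → ∀ x : Ω, g • x = x

/-- The number of positions below `n` with colour `j`. -/
def cs {κ : Type*} [DecidableEq κ] (f : ℕ → κ) (n : ℕ) (j : κ) : ℕ :=
  ((Finset.range n).filter (f · = j)).card

theorem cs_add {κ : Type*} [DecidableEq κ] (p : List κ) (ρ : κ) (n : ℕ) (j : κ) :
    cs (p.getD · ρ) (p.length + n) j =
      cs (p.getD · ρ) p.length j + if ρ = j then n else 0 := by
  induction n with
  | zero => simp
  | succ n ih =>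
    rw [← add_assoc, cs, Finset.range_add_one, Finset.filter_insert,
      List.getD_eq_default _ _ (Nat.le_add_right _ _)]
    split_ifs with h
    · rw [Finset.card_insert_of_notMem (by simp), ← cs, ih, if_pos h, add_assoc]
    · rw [← cs, ih, if_neg h]

theorem types_of_cs {G Ω : Type u} {κ : Type*} [DecidableEq κ] [Group G] [Finite G]
    [Group.IsSolvable G] [Finite Ω] [MulAction G Ω] {m n t s : ℕ} (hb : BaseLe G Ω m)
    (hn : Nat.card Ω = n) (hs : s ≤ 15) (f : Fin t → ℕ → κ)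
    (h1 : ∀ k, ∀ i < m, i < n → cs (f k) n (f k i) ≤ s)
    (h2 : ∀ k k', (∀ j, cs (f k) n j = cs (f k') n j) → k = k') : Types G Ω κ t (sig s) := by
  classical
  obtain ⟨β, hβ, hb⟩ := hb
  have := Fintype.ofFinite Ω
  obtain ⟨e, he⟩ : ∃ e : Ω ≃ Fin n, ∀ x ∈ β, (e x : ℕ) < m := by
    refine ⟨(Equiv.sumCompl (· ∈ β)).symm.trans (((Fintype.equivFin _).sumCongr
      (Fintype.equivFin _)).trans (finSumFinEquiv.trans (finCongr ?_))), fun x hx => ?_⟩
    · rw [← Fintype.card_sum, Fintype.card_congr (Equiv.sumCompl (· ∈ β)), ← hn,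
        Nat.card_eq_fintype_card]
    · simp only [Equiv.trans_apply, Equiv.sumCompl_symm_apply_of_pos hx, Equiv.sumCongr_apply,
        Sum.map_inl, finSumFinEquiv_apply_left, finCongr_apply, Fin.val_cast, Fin.val_castAdd]
      exact (Fin.is_lt _).trans_le (by simpa using hβ)
  have h3 : ∀ k j, Nat.card {x // f k (e x) = j} = cs (f k) n j := fun k j => by
    rw [Nat.card_eq_fintype_card, Fintype.card_subtype, cs]
    refine Finset.card_bij (fun x _ => e x) (fun x hx => ?_) (fun x _ y _ h => ?_) fun i hi => ?_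
    · simpa using hx
    · exact e.injective (Fin.ext h)
    · simp only [Finset.mem_filter, Finset.mem_range] at hi
      exact ⟨e.symm ⟨i, hi.1⟩, by simpa using hi.2, by simp⟩
  refine ⟨fun k x => f k (e x), fun k K hK g hg => hb g fun x hx => ?_,
    fun k k' g hg => h2 k k' fun j => ?_⟩
  · let S : SubMulAction K Ω :=
      { carrier := {y | f k (e y) = f k (e x)}
        smul_mem' := fun a y hy => (hK a a.2 y).trans hy }
    obtain ⟨a, ha, rfl⟩ := exists_of_mem_dser_le hg le_rfl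
    exact congrArg Subtype.val (dl_perm K S ((h3 k _).trans_le (h1 k _ (he x hx) (e x).2)) hs a ha
      ⟨x, rfl⟩)
  · rw [← h3, ← h3]
    exact (Nat.card_congr ((MulAction.toPerm g).subtypeEquiv fun x =>
      iff_of_eq (congrArg (· = j) (hg x).symm))).symm

theorem baseLe_card (G Ω : Type*) [Group G] [Finite Ω] [MulAction G Ω] :
    BaseLe G Ω (Nat.card Ω) := by
  have := Fintype.ofFinite Ω
  exact ⟨Finset.univ, by simp, fun g h x => h x (Finset.mem_univ x)⟩

theorem baseLe_affine {G Ω : Type u} [Group G] [Finite G] [Group.IsSolvable G] [Finite Ω]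
    [MulAction G Ω] (hf : ∀ g : G, (∀ x : Ω, g • x = x) → g = 1) {N : Subgroup G} [N.Normal]
    (h : ∀ a ∈ N, ∀ b ∈ N, a * b = b * a)
    (hmin : ∀ L : Subgroup G, L.Normal → ⊥ ≤ L → L ≤ N → L = ⊥ ∨ L = N) {ω : Ω}
    (ht : MulAction.orbit N ω = Set.univ) : BaseLe G Ω 4 ∧ (Nat.card Ω = 11 → BaseLe G Ω 2) := by
  classical
  have hb := regular_of_trans hf h ht
  have key : ∀ (g : G) (v : AbMod N h), g • ω = ω → g • v.val • ω = (g • v).val • ω :=
    fun g v hg => by rw [AbMod.val_smul, mul_smul, mul_smul, inv_smul_eq_iff.2 hg.symm]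
  have fin : ∀ g : G, g • ω = ω → (∀ v : AbMod N h, g • v = v) → ∀ x : Ω, g • x = x := by
    intro g hg h1 x
    obtain ⟨v, rfl⟩ := hb.2 x
    exact (key g v hg).trans (by rw [h1])
  constructor
  · obtain ⟨x, hx⟩ := hasBase_three (cr_of_min h hmin)
    refine ⟨insert ω (Finset.univ.image fun i => (x i).val • ω), (Finset.card_insert_le _ _).trans
      (Nat.succ_le_succ (Finset.card_image_le.trans (by simp))), fun g hg => ?_⟩
    have h1 := hg ω (by simp)
    exact fin g h1 (hx g fun i => hb.1 ((key g _ h1).symm.trans (hg _ (by simp))))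
  · intro h11
    rw [← Nat.card_eq_of_bijective _ hb] at h11
    have : Nontrivial (AbMod N h) := Finite.one_lt_card_iff_nontrivial.1 (by omega)
    obtain ⟨v, hv⟩ := exists_ne (0 : AbMod N h)
    refine ⟨{ω, v.val • ω}, Finset.card_le_two, fun g hg => ?_⟩
    have h1 := hg ω (by simp)
    have h2 : v ∈ fix _ g := hb.1 ((key g _ h1).symm.trans (hg _ (by simp)))
    have : Fact (Nat.card (AbMod N h)).Prime := ⟨by rw [h11]; norm_num⟩
    rcases (fix (AbMod N h) g).eq_bot_or_eq_top_of_prime_card with h3 | h3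
    · exact absurd (h3 ▸ h2) (by simpa using hv)
    · exact fin g h1 fun w => (h3 ▸ trivial : w ∈ fix _ g)

/-- Induction along blocks. -/
theorem types_ind (κ : Type*) [Nonempty κ] (n₀ d : ℕ)
    (haff : ∀ (G Ω : Type u) [Group G] [Finite G] [Group.IsSolvable G] [Finite Ω] [MulAction G Ω],
      n₀ ≤ Nat.card Ω → BaseLe G Ω 4 → (Nat.card Ω = 11 → BaseLe G Ω 2) → Types G Ω κ 5 d)
    (hsm : ∀ b, 2 ≤ b → b < n₀ → ∃ s d₁ d₂, d₂ + d₁ ≤ d ∧
      (∀ (G Ω : Type u) [Group G] [Finite G] [Group.IsSolvable G] [Finite Ω] [MulAction G Ω],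
        Nat.card Ω = b → Types G Ω κ s d₁) ∧
      ∀ (G Ω : Type u) [Group G] [Finite G] [Group.IsSolvable G] [Finite Ω] [MulAction G Ω]
        [MulAction.IsPretransitive G Ω], 2 ≤ Nat.card Ω → Types G Ω (Fin s) 5 d₂)
    (hn₀ : 2 ≤ n₀) (m : ℕ) : ∀ (G Ω : Type u) [Group G] [Finite G] [Group.IsSolvable G] [Finite Ω]
      [MulAction G Ω] [MulAction.IsPretransitive G Ω], Nat.card Ω = m → n₀ ≤ m →
      Types G Ω κ 5 d := by
  induction m using Nat.strong_induction_on with
  | _ m ih =>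
  intro G₀ Ω _ _ _ _ _ _ hm hn
  let f := (MulAction.toPermHom G₀ Ω).rangeRestrict
  have hfs : Function.Surjective f := MonoidHom.rangeRestrict_surjective _
  refine Types.comp ?_ f fun _ _ => rfl
  have hsol := Group.isSolvable_of_surjective hfs
  have hf : ∀ g : (MulAction.toPermHom G₀ Ω).range, (∀ x : Ω, g • x = x) → g = 1 :=
    fun g hg => Subtype.ext (Equiv.ext hg)
  have ht : MulAction.IsPretransitive (MulAction.toPermHom G₀ Ω).range Ω := ⟨fun x y => by
    obtain ⟨g, rfl⟩ := MulAction.exists_smul_eq G₀ x y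
    exact ⟨f g, rfl⟩⟩
  generalize (MulAction.toPermHom G₀ Ω).range = G at hsol hf ht
  clear hfs f
  have : Nontrivial Ω := Finite.one_lt_card_iff_nontrivial.1 (by omega)
  obtain ⟨ω, ω', hω⟩ := exists_pair_ne Ω
  have htriv : (⊥ : Subgroup G) ≠ ⊤ := fun e => by
    obtain ⟨g, rfl⟩ := MulAction.exists_smul_eq G ω ω'
    rw [show g = 1 from mem_bot.1 (e ▸ trivial), one_smul] at hω
    exact hω rfl
  obtain ⟨N, hNn, h1, -, h2, h3⟩ := exists_step (lt_top_iff_ne_top.2 htriv)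
  have hab : ∀ a ∈ N, ∀ b ∈ N, a * b = b * a := fun a ha b hb =>
    commutatorElement_eq_one_iff_mul_comm.1 (h2 a ha b hb)
  by_cases ht' : MulAction.orbit N ω = Set.univ
  · obtain ⟨h4, h5⟩ := baseLe_affine hf hab h3 ht'
    exact haff G Ω (hm ▸ hn) h4 h5
  have h4 := two_le_blk (Ω := Ω) hf h1.ne'
  have h5 := two_le_orbs ht'
  have := orbs_trans (Ω := Ω) N
  let S₀ : orbs N Ω := ⟨_, ω, rfl⟩
  have h6 : ∀ S : orbs N Ω, Nat.card (blk (G := G) S.1) = Nat.card (blk (G := G) S₀.1) := by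
    intro S
    obtain ⟨g, rfl⟩ := MulAction.exists_smul_eq G S₀ S
    exact Set.ncard_smul_set g S₀.1
  by_cases h7 : n₀ ≤ Nat.card (blk (G := G) S₀.1)
  · have : Nonempty (orbs N Ω) := ⟨S₀⟩
    have := types_of_blk (types_five G (orbs N Ω)) fun S => by
      have := blk_trans N S
      refine ih _ ?_ _ (blk (G := G) S.1) rfl (h6 S ▸ h7)
      have := card_mul_le_orbs N S
      have := h4 S
      nlinarith
    rwa [zero_add] at this
  · obtain ⟨s, d₁, d₂, h8, h9, h10⟩ := hsm _ (h4 S₀) (not_le.1 h7)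
    exact (types_of_blk (h10 G _ h5) fun S => h9 _ _ (h6 S)).mono h8

theorem types_of_list {G Ω : Type u} {κ : Type*} [DecidableEq κ] [Group G] [Finite G]
    [Group.IsSolvable G] [Finite Ω] [MulAction G Ω] {m M t s : ℕ} (hb : BaseLe G Ω m)
    (hn : M ≤ Nat.card Ω) (hs : s ≤ 15) (p : Fin t → List κ) (ρ : κ) (hp : ∀ k, (p k).length = M)
    (h1 : ∀ k, ∀ i < m, (p k).getD i ρ ≠ ρ ∧ cs ((p k).getD · ρ) M ((p k).getD i ρ) ≤ s)
    (h2 : ∀ k k', (∀ j, cs ((p k).getD · ρ) M j = cs ((p k').getD · ρ) M j) → k = k') :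
    Types G Ω κ t (sig s) := by
  obtain ⟨n, hn⟩ := Nat.exists_eq_add_of_le hn
  have h3 : ∀ k j, cs ((p k).getD · ρ) (M + n) j =
      cs ((p k).getD · ρ) M j + if ρ = j then n else 0 := fun k j => by
    rw [← hp k, cs_add]
  refine types_of_cs hb hn hs (fun k => ((p k).getD · ρ)) (fun k i hi _ => ?_)
    fun k k' h => h2 k k' fun j => ?_
  · rw [h3, if_neg (h1 k i hi).1.symm]
    exact (h1 k i hi).2
  · have := h j
    rwa [h3, h3, add_left_inj] at this

theorem types_four (G Ω : Type u) [Group G] [Finite G] [Group.IsSolvable G] [Finite Ω]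
    [MulAction G Ω] [MulAction.IsPretransitive G Ω] (h : 2 ≤ Nat.card Ω) :
    Types G Ω (Fin 4) 5 1 := by
  refine types_ind (Fin 4) 2 1 (fun G Ω _ _ _ _ _ h hb _ => ?_) (fun b h1 h2 => by omega) le_rfl _
    G Ω rfl h
  rcases (by omega : Nat.card Ω = 2 ∨ Nat.card Ω = 3 ∨ 4 ≤ Nat.card Ω) with h | h | h
  · exact types_of_cs (s := 2) (h ▸ baseLe_card G Ω) h (by norm_num)
      (fun k => ((![[0, 0], [0, 1], [1, 1], [0, 2], [2, 2]] k).getD · 3)) (by decide) (by decide)
  · exact types_of_cs (s := 2) (h ▸ baseLe_card G Ω) h (by norm_num)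
      (fun k => ((![[0, 0, 1], [0, 1, 1], [0, 0, 2], [0, 1, 2], [1, 1, 2]] k).getD · 3))
      (by decide) (by decide)
  · exact types_of_list (s := 2) hb h (by norm_num)
      ![[0, 0, 1, 1], [0, 0, 2, 2], [1, 1, 2, 2], [0, 0, 1, 2], [0, 1, 1, 2]] 3
      (by decide) (by decide) (by decide)

theorem types_three (G Ω : Type u) [Group G] [Finite G] [Group.IsSolvable G] [Finite Ω]
    [MulAction G Ω] [MulAction.IsPretransitive G Ω] (h : 2 ≤ Nat.card Ω) :
    Types G Ω (Fin 3) 5 2 := by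
  refine types_ind (Fin 3) 2 2 (fun G Ω _ _ _ _ _ h hb _ => ?_) (fun b h1 h2 => by omega) le_rfl _
    G Ω rfl h
  rcases (by omega : Nat.card Ω = 2 ∨ Nat.card Ω = 3 ∨ Nat.card Ω = 4 ∨ 5 ≤ Nat.card Ω)
    with h | h | h | h
  · exact types_of_cs (s := 3) (h ▸ baseLe_card G Ω) h (by norm_num)
      (fun k => ((![[0, 0], [0, 1], [1, 1], [0, 2], [2, 2]] k).getD · 2)) (by decide) (by decide)
  · exact types_of_cs (s := 3) (h ▸ baseLe_card G Ω) h (by norm_num)
      (fun k => ((![[0, 0, 1], [0, 1, 1], [0, 0, 2], [0, 1, 2], [1, 1, 2]] k).getD · 2))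
      (by decide) (by decide)
  · exact types_of_cs (s := 3) hb h (by norm_num) (fun k =>
      ((![[0, 0, 0, 1], [0, 0, 1, 1], [0, 1, 1, 1], [0, 0, 1, 2], [0, 1, 1, 2]] k).getD · 2))
      (by decide) (by decide)
  · exact types_of_list (s := 3) hb h (by norm_num)
      ![[0, 0, 0, 1, 2], [0, 0, 1, 1, 2], [0, 1, 1, 1, 2], [0, 0, 0, 1, 1], [0, 0, 1, 1, 1]] 2
      (by decide) (by decide) (by decide)

theorem types_two_small (G Ω : Type u) [Group G] [Finite G] [Group.IsSolvable G] [Finite Ω]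
    [MulAction G Ω] : (Nat.card Ω = 2 → Types G Ω (Fin 2) 3 1) ∧
      (Nat.card Ω = 3 → Types G Ω (Fin 2) 4 2) :=
  ⟨fun h => types_of_cs (s := 2) (h ▸ baseLe_card G Ω) h (by norm_num)
    (fun k i => if i < k.1 then 0 else 1) (by decide) (by decide),
  fun h => types_of_cs (s := 3) (h ▸ baseLe_card G Ω) h (by norm_num)
    (fun k i => if i < k.1 then 0 else 1) (by decide) (by decide)⟩

theorem types_two (G Ω : Type u) [Group G] [Finite G] [Group.IsSolvable G] [Finite Ω]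
    [MulAction G Ω] [MulAction.IsPretransitive G Ω] (h : 4 ≤ Nat.card Ω) :
    Types G Ω (Fin 2) 5 3 := by
  refine types_ind (Fin 2) 4 3 (fun G Ω _ _ _ _ _ h hb hb' => ?_) (fun b h1 h2 => ?_) (by norm_num)
    _ G Ω rfl h
  swap
  · interval_cases b
    · exact ⟨3, 1, 2, le_rfl, fun G Ω _ _ _ _ _ => (types_two_small G Ω).1, types_three⟩
    · exact ⟨4, 2, 1, le_rfl, fun G Ω _ _ _ _ _ => (types_two_small G Ω).2, types_four⟩
  generalize hn : Nat.card Ω = n at h hb'
  by_cases h7 : n ≤ 7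
  · refine types_of_cs (s := 7) hb hn (by norm_num) (fun k i => if i < k.1 then 0 else 1) ?_ ?_ <;>
      interval_cases n <;> decide
  by_cases h10 : n ≤ 10
  · refine types_of_cs (s := 7) hb hn (by norm_num)
      (fun k i => if k = 4 then (if i < 7 then 1 else 0) else if i < k.1 + 4 then 0 else 1) ?_ ?_ <;>
      interval_cases n <;> decide
  by_cases h11 : n = 11
  · subst h11
    exact types_of_cs (s := 7) (hb' rfl) hn (by norm_num)
      (fun k i => if i < k.1 + 2 then 0 else 1) (by decide) (by decide)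
  obtain ⟨n, rfl⟩ := Nat.exists_eq_add_of_le (by omega : 7 ≤ n)
  let p : Fin 5 → List (Fin 2) := ![[0, 0, 0, 0, 1, 1, 1], [0, 0, 0, 0, 0, 1, 1],
    [0, 0, 0, 0, 0, 0, 1], [0, 0, 0, 0, 0, 0, 0], [1, 1, 1, 1, 0, 0, 0]]
  let ρ : Fin 5 → Fin 2 := ![1, 1, 1, 1, 0]
  have h3 : ∀ k j, cs ((p k).getD · (ρ k)) (7 + n) j =
      cs ((p k).getD · (ρ k)) 7 j + if ρ k = j then n else 0 := fun k j => by
    rw [← (by decide : ∀ k, (p k).length = 7) k, cs_add]
  have h4 : ∀ k, ∀ i < 4, ρ k ≠ (p k).getD i (ρ k) ∧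
      cs ((p k).getD · (ρ k)) 7 ((p k).getD i (ρ k)) ≤ 7 := by decide
  have h5 : ∀ k, cs ((p k).getD · (ρ k)) 7 0 = if k = 4 then 3 else k.1 + 4 := by decide
  have h6 : ∀ k, ρ k = 0 ↔ k = 4 := by decide
  refine types_of_cs (s := 7) hb hn (by norm_num) (fun k => ((p k).getD · (ρ k)))
    (fun k i hi _ => ?_) fun k k' e => ?_
  · rw [h3, if_neg (h4 k i hi).1]
    exact (h4 k i hi).2
  · have := e 0
    simp only [h3, h5, h6] at this
    split_ifs at this <;> omega

end CL.SolvLin
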