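import Mathlib
import Cfsg.Agent.TECH.SylIn
import Cfsg.Agent.SOLV.Basic

/-!
Counting Sylow subgroups contained in a subgroup.
-/

set_option autoImplicit false

namespace CL.SylRat

open Subgroup CL.MSS MulAction

variable {G : Type*} [Group G] {p : ℕ}

/-- The number of Sylow `p`-subgroups of `G` contained in `X`. -/
noncomputable def nu (p : ℕ) (X : Subgroup G) : ℕ := {P : Sylow p G | (P : Subgroup G) ≤ X}.ncard

/-- The subgroup generated by the Sylow `p`-subgroups of `G` contained in `X`. -/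
def gen (p : ℕ) (X : Subgroup G) : Subgroup G :=
  ⨆ (P : Sylow p G) (_ : (P : Subgroup G) ≤ X), (P : Subgroup G)

theorem gen_le_iff {X Y : Subgroup G} :
    gen p X ≤ Y ↔ ∀ P : Sylow p G, (P : Subgroup G) ≤ X → (P : Subgroup G) ≤ Y := by
  simp [gen]

theorem gen_le (X : Subgroup G) : gen p X ≤ X := gen_le_iff.2 fun _ h => h

theorem le_gen_iff {X : Subgroup G} {P : Sylow p G} :
    (P : Subgroup G) ≤ gen p X ↔ (P : Subgroup G) ≤ X :=
  ⟨fun h => h.trans (gen_le X), gen_le_iff.1 le_rfl P⟩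

theorem nu_congr {X Y : Subgroup G}
    (h : ∀ P : Sylow p G, (P : Subgroup G) ≤ X ↔ (P : Subgroup G) ≤ Y) : nu p X = nu p Y := by
  simp only [nu, h]

theorem gen_congr {X Y : Subgroup G}
    (h : ∀ P : Sylow p G, (P : Subgroup G) ≤ X ↔ (P : Subgroup G) ≤ Y) : gen p X = gen p Y := by
  simp only [gen, h]

theorem gen_gen (X : Subgroup G) : gen p (gen p X) = gen p X := gen_congr fun _ => le_gen_iff

theorem nu_gen (X : Subgroup G) : nu p (gen p X) = nu p X := nu_congr fun _ => le_gen_iff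

theorem smul_le_cj_iff (g : G) {P : Sylow p G} {X : Subgroup G} :
    ((g • P : Sylow p G) : Subgroup G) ≤ g •ᶜ X ↔ (P : Subgroup G) ≤ X := by
  rw [sylow_coe_smul, cj_le_cj_iff]

theorem nu_cj (g : G) (X : Subgroup G) : nu p (g •ᶜ X) = nu p X := by
  refine (Set.ncard_congr (fun P _ => g • P) (fun P h => (smul_le_cj_iff g).2 h)
    (fun P Q _ _ h => MulAction.injective g h) fun Q h => ⟨g⁻¹ • Q, ?_, smul_inv_smul g Q⟩).symm
  exact (smul_le_cj_iff g).1 (by rw [smul_inv_smul]; exact h)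

theorem cj_gen_le (g : G) (X : Subgroup G) : g •ᶜ gen p X ≤ gen p (g •ᶜ X) := by
  rw [cj_le_iff, gen_le_iff]
  intro P hP
  rw [← cj_le_iff, ← sylow_coe_smul, le_gen_iff, smul_le_cj_iff]
  exact hP

theorem gen_cj (g : G) (X : Subgroup G) : gen p (g •ᶜ X) = g •ᶜ gen p X := by
  refine le_antisymm ?_ (cj_gen_le g X)
  have := cj_gen_le (p := p) g⁻¹ (g •ᶜ X)
  rwa [inv_cj_cj, ← le_cj_iff] at this

theorem normalizer_le_gen (X : Subgroup G) :
    normalizer (X : Set G) ≤ normalizer ((gen p X : Subgroup G) : Set G) := fun g hg => by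
  rw [mem_normalizer_iff_cj] at hg ⊢
  rw [← gen_cj, hg]

variable [Finite G] [hp : Fact p.Prime]

omit hp in
theorem nu_mono {X Y : Subgroup G} (h : X ≤ Y) : nu p X ≤ nu p Y :=
  Set.ncard_le_ncard fun _ hP => le_trans hP h

omit hp in
theorem nu_pos_iff {X : Subgroup G} : 0 < nu p X ↔ ∃ P : Sylow p G, (P : Subgroup G) ≤ X :=
  Set.ncard_pos

theorem exists_smul_eq {X : Subgroup G} {P Q : Sylow p G} (hP : (P : Subgroup G) ≤ X)
    (hQ : (Q : Subgroup G) ≤ X) : ∃ x ∈ X, x • P = Q := by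
  obtain ⟨x, hx, h⟩ := (sylIn_sylow P hP).exists_conj (sylIn_sylow Q hQ)
  exact ⟨x, hx, Sylow.ext (by rw [sylow_coe_smul, h])⟩

theorem le_of_le_normalizer {Y : Subgroup G} (hY : 0 < nu p Y) {R : Subgroup G}
    (hR : IsPGroup p R) (h : R ≤ normalizer (Y : Set G)) : R ≤ Y := by
  obtain ⟨P, hP⟩ := nu_pos_iff.1 hY
  obtain ⟨x, hx, h1⟩ := (sylIn_sylow P (hP.trans le_normalizer)).exists_le_conj hR h
  exact h1.trans (cj_le_of_mem_normalizer hP hx)

theorem closed_le_of_le_normalizer {X Y : Subgroup G} (hX : gen p X = X) (hY : 0 < nu p Y)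
    (h : X ≤ normalizer (Y : Set G)) : X ≤ Y := by
  rw [← hX, gen_le_iff]
  exact fun P hP => le_of_le_normalizer hY P.isPGroup' (hP.trans h)

theorem nu_inf_normalizer (X : Subgroup G) {Y : Subgroup G} (hY : 0 < nu p Y) :
    nu p (X ⊓ normalizer (Y : Set G)) = nu p (X ⊓ Y) :=
  nu_congr fun P => by
    rw [le_inf_iff, le_inf_iff]
    exact and_congr_right fun _ =>
      ⟨le_of_le_normalizer hY P.isPGroup', fun h => h.trans le_normalizer⟩

theorem dvd_relIndex_of_nu_eq_zero {X Y : Subgroup G} (hX : 0 < nu p X)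
    (h : nu p (X ⊓ Y) = 0) : p ∣ Y.relIndex X := by
  by_contra hcon
  obtain ⟨P, hP⟩ := nu_pos_iff.1 hX
  obtain ⟨R, hR⟩ := exists_sylIn p (X ⊓ Y)
  have h1 : SylIn p R X := sylIn_of_not_dvd_relIndex hR.pgroup (hR.le.trans inf_le_left) (by
    rw [← relIndex_mul_relIndex _ _ _ hR.le inf_le_left, inf_relIndex_left]
    exact fun h => (hp.out.dvd_mul.1 h).elim hR.not_dvd_relIndex hcon)
  obtain ⟨Q, hQ⟩ := sylIn_top_iff.1 (h1.trans_of_sylIn le_top (sylIn_top P) hP)
  exact (nu_pos_iff.2 ⟨Q, hQ ▸ hR.le⟩).ne' h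

section Action

variable {Ω : Type*} [MulAction G Ω]

omit [Finite G] hp in
theorem stabilizer_smul' (g : G) (a : Ω) : stabilizer G (g • a) = g •ᶜ stabilizer G a :=
  stabilizer_smul_eq_stabilizer_map_conj g a

omit [Finite G] hp in
theorem nu_inf_stabilizer_smul {X : Subgroup G} {x : G} (hx : x ∈ X) (a : Ω) :
    nu p (X ⊓ stabilizer G (x • a)) = nu p (X ⊓ stabilizer G a) := by
  rw [stabilizer_smul', ← nu_cj x (X ⊓ stabilizer G a), cj_inf, cj_eq_of_mem hx]

open Classical in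
theorem double_count {X : Subgroup G} {P : Sylow p G} (hP : (P : Subgroup G) ≤ X) (Λ : Finset Ω)
    (hΛ : ∀ x ∈ X, ∀ a ∈ Λ, x • a ∈ Λ) :
    (Λ.filter fun a => (P : Subgroup G) ≤ stabilizer G a).card * nu p X =
      ∑ a ∈ Λ, nu p (X ⊓ stabilizer G a) := by
  have := Fintype.ofFinite (Sylow p G)
  have h1 : ∀ Y : Subgroup G, nu p Y =
      ∑ Q : Sylow p G, if (Q : Subgroup G) ≤ Y then 1 else 0 := fun Y => by
    rw [nu, Set.ncard_eq_toFinset_card', Finset.sum_boole, Nat.cast_id]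
    congr 1
    ext Q
    simp
  simp_rw [h1]
  rw [Finset.sum_comm, Finset.mul_sum]
  refine Finset.sum_congr rfl fun Q _ => ?_
  split_ifs with hQ
  · obtain ⟨x, hx, rfl⟩ := exists_smul_eq hP hQ
    rw [mul_one, Finset.sum_boole, Nat.cast_id]
    refine Finset.card_bij (fun a _ => x • a) (fun a ha => ?_)
      (fun a _ b _ h => MulAction.injective x h) fun b hb => ⟨x⁻¹ • b, ?_, smul_inv_smul x b⟩
    · rw [Finset.mem_filter] at ha ⊢
      refine ⟨hΛ x hx a ha.1, le_inf hQ ?_⟩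
      rw [stabilizer_smul', smul_le_cj_iff]
      exact ha.2
    · rw [Finset.mem_filter] at hb ⊢
      refine ⟨hΛ _ (inv_mem hx) b hb.1, ?_⟩
      rw [← smul_le_cj_iff x, ← stabilizer_smul', smul_inv_smul]
      exact hb.2.trans inf_le_right
  · rw [mul_zero, eq_comm]
    exact Finset.sum_eq_zero fun a _ => if_neg fun h => hQ (h.trans inf_le_left)

/-- The orbit of `a` under `X`, as a finite set. -/
noncomputable def orb (X : Subgroup G) (a : Ω) : Finset Ω := (Set.finite_range fun x : X =>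
  (x : G) • a).toFinset

omit hp in
theorem mem_orb {X : Subgroup G} {a b : Ω} : b ∈ orb X a ↔ ∃ x ∈ X, x • a = b := by
  simp [orb]

omit hp in
theorem self_mem_orb (X : Subgroup G) (a : Ω) : a ∈ orb X a := mem_orb.2 ⟨1, one_mem _, one_smul _ _⟩

omit hp in
theorem smul_mem_orb {X : Subgroup G} {a : Ω} : ∀ x ∈ X, ∀ b ∈ orb X a, x • b ∈ orb X a := by
  intro x hx b hb
  obtain ⟨y, hy, rfl⟩ := mem_orb.1 hb
  exact mem_orb.2 ⟨x * y, mul_mem hx hy, mul_smul _ _ _⟩

omit hp in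
theorem card_orb (X : Subgroup G) (a : Ω) : (orb X a).card = (stabilizer G a).relIndex X := by
  rw [orb, ← Set.ncard_eq_toFinset_card _ (Set.finite_range _)]
  exact (index_stabilizer X a).symm

omit hp in
theorem sum_orb {X Y : Subgroup G} (h : Y ≤ X) (a : Ω) :
    ∑ b ∈ orb Y a, nu p (X ⊓ stabilizer G b) =
      (stabilizer G a).relIndex Y * nu p (X ⊓ stabilizer G a) := by
  rw [← card_orb, ← smul_eq_mul, ← Finset.sum_const]
  refine Finset.sum_congr rfl fun b hb => ?_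
  obtain ⟨y, hy, rfl⟩ := mem_orb.1 hb
  exact nu_inf_stabilizer_smul (h hy) a

theorem le_card_orb {R : Subgroup G} (hR : IsPGroup p R) {a : Ω} (h : ¬ R ≤ stabilizer G a) :
    p ≤ (orb R a).card := by
  rw [card_orb]
  obtain ⟨b, hb⟩ := IsPGroup.iff_card.1 hR
  obtain ⟨c, -, hc⟩ := (Nat.dvd_prime_pow hp.out).1 (hb ▸ relIndex_dvd_card (stabilizer G a) R)
  rw [hc]
  refine Nat.le_self_pow (fun h0 => h ?_) p
  rwa [h0, pow_zero, relIndex_eq_one] at hc

theorem exists_not_le_stabilizer {Y : Subgroup G} (hY : gen p Y = Y) {P : Sylow p G}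
    (hP : (P : Subgroup G) ≤ Y) {a : Ω} (h : ¬ Y ≤ stabilizer G a) :
    ∃ y ∈ Y, ¬ (P : Subgroup G) ≤ stabilizer G (y • a) := by
  by_contra hcon
  push Not at hcon
  refine h ?_
  rw [← hY, gen_le_iff]
  intro Q hQ
  obtain ⟨y, hy, rfl⟩ := exists_smul_eq hQ hP
  have := hcon y hy
  rwa [stabilizer_smul', smul_le_cj_iff] at this

end Action

end CL.SylRat
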