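import Mathlib
import Cfsg.Agent.FGS.SylRat1

/-!
If `X` is generated by Sylow `p`-subgroups, then a proper subgroup contains at most a proportion
`(p - 1) / (2 p - 1)` of them.
-/

set_option autoImplicit false

namespace CL.SylRat

open Subgroup CL.MSS MulAction

variable {G : Type*} [Group G] {p : ℕ}

/-- The conjugation action on subgroups. -/
@[reducible] def cjAct (G : Type*) [Group G] : MulAction G (Subgroup G) where
  smul g Q := g •ᶜ Q
  one_smul := cj_one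
  mul_smul := cj_mul

attribute [local instance] cjAct

theorem cjAct_smul (g : G) (Q : Subgroup G) : g • Q = g •ᶜ Q := rfl

theorem stabilizer_cjAct (Q : Subgroup G) : stabilizer G Q = normalizer (Q : Set G) := by
  ext g
  rw [mem_stabilizer_iff, mem_normalizer_iff_cj, cjAct_smul]

/-- The bound for `X`. -/
def Bd (p : ℕ) (X : Subgroup G) : Prop :=
  ∀ Y : Subgroup G, ¬ X ≤ Y → (2 * p - 1) * nu p (X ⊓ Y) ≤ (p - 1) * nu p X

/-- The deficiency of the action of `X` on the conjugates of `Y` is less than `j`. -/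
def Def (p j : ℕ) (X Y : Subgroup G) : Prop :=
  0 < nu p Y ∧ (normalizer (Y : Set G)).relIndex X * ((p - 1) * nu p X) <
    p * j * nu p X + (normalizer (Y : Set G)).relIndex X * ((2 * p - 1) * nu p Y)

variable [Finite G] [hp : Fact p.Prime]

open Classical in
theorem fix_mul {X Y : Subgroup G} (hYX : Y ≤ X) (hY : 0 < nu p Y) {P : Sylow p G}
    (hP : (P : Subgroup G) ≤ X) :
    ((orb X Y).filter fun a => (P : Subgroup G) ≤ stabilizer G a).card * nu p X =
      (normalizer (Y : Set G)).relIndex X * nu p Y := by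
  rw [double_count hP _ smul_mem_orb, sum_orb le_rfl, stabilizer_cjAct, nu_inf_normalizer _ hY,
    inf_eq_right.2 hYX]

open Classical in
theorem Def.fix {j : ℕ} {X Y : Subgroup G} (h : Def p j X Y) (hYX : Y ≤ X) {P : Sylow p G}
    (hP : (P : Subgroup G) ≤ X) : (orb X Y).card * (p - 1) < p * j +
      (2 * p - 1) * ((orb X Y).filter fun a => (P : Subgroup G) ≤ stabilizer G a).card := by
  have h1 := fix_mul hYX h.1 hP
  have h2 := h.2
  rw [mul_left_comm _ (2 * p - 1), ← h1, ← mul_assoc, ← mul_assoc, ← add_mul] at h2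
  rw [card_orb, stabilizer_cjAct]
  exact Nat.lt_of_mul_lt_mul_right h2

theorem step {j : ℕ} (hj : j + 2 ≤ p) {X X' Y : Subgroup G}
    (hX'X : X' ≤ X) (hX'0 : 0 < nu p X') (hB : Bd p X') (hYX : Y ≤ X) (hD : Def p j X Y)
    (hk : ∀ x₁ ∈ X, ∀ x₂ ∈ X, X' ≤ x₁ •ᶜ Y → X' ≤ x₂ •ᶜ Y → x₁ •ᶜ Y = x₂ •ᶜ Y)
    (hn : ¬ X' ≤ Y) : Def p (j + 1) X' (gen p (X' ⊓ Y)) := by
  classical
  obtain ⟨P, hP⟩ := nu_pos_iff.1 hX'0
  have h1 := hD.fix hYX (hP.trans hX'X)
  have h2 := double_count hP (orb X Y) fun x hx => smul_mem_orb x (hX'X hx)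
  have hsub : orb X' Y ⊆ orb X Y := fun a ha => by
    obtain ⟨x, hx, rfl⟩ := mem_orb.1 ha
    exact mem_orb.2 ⟨x, hX'X hx, rfl⟩
  rw [← Finset.sum_sdiff hsub, sum_orb le_rfl, stabilizer_cjAct, nu_inf_normalizer _ hD.1] at h2
  have h3 : ∑ a ∈ orb X Y \ orb X' Y, (2 * p - 1) * nu p (X' ⊓ stabilizer G a) ≤
      ∑ a ∈ orb X Y \ orb X' Y, ((p - 1) * nu p X' + if X' ≤ a then p * nu p X' else 0) := by
    refine Finset.sum_le_sum fun a ha => ?_
    obtain ⟨x, hx, rfl⟩ := mem_orb.1 (Finset.mem_sdiff.1 ha).1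
    rw [stabilizer_cjAct, nu_inf_normalizer _ (by rw [cjAct_smul, nu_cj]; exact hD.1)]
    split_ifs with h
    · rw [inf_eq_left.2 h, ← add_mul]
      exact Nat.mul_le_mul_right _ (by omega)
    · exact hB _ h
  rw [← Finset.mul_sum, Finset.sum_add_distrib, Finset.sum_const, ← Finset.sum_filter,
    Finset.sum_const, smul_eq_mul, smul_eq_mul] at h3
  have h4 : ((orb X Y \ orb X' Y).filter fun a => X' ≤ a).card ≤ 1 := by
    refine Finset.card_le_one.2 fun a ha b hb => ?_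
    rw [Finset.mem_filter, Finset.mem_sdiff] at ha hb
    obtain ⟨x, hx, rfl⟩ := mem_orb.1 ha.1.1
    obtain ⟨y, hy, rfl⟩ := mem_orb.1 hb.1.1
    exact hk x hx y hy ha.2 hb.2
  have h5 := Finset.card_sdiff_add_card_eq_card hsub
  rw [card_orb X', stabilizer_cjAct] at h5
  set n₀ := (normalizer (Y : Set G)).relIndex X'
  have h6 : n₀ * ((p - 1) * nu p X') <
      p * (j + 1) * nu p X' + n₀ * ((2 * p - 1) * nu p (X' ⊓ Y)) := by
    have h7 := Nat.mul_lt_mul_of_pos_right h1 hX'0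
    have h8 := Nat.mul_le_mul_right (p * nu p X') h4
    rw [← h5, add_mul (p * j), mul_assoc (2 * p - 1), h2] at h7
    nlinarith
  have h7 : 0 < nu p (X' ⊓ Y) := by
    by_contra h0
    have h8 : nu p (X' ⊓ Y) = 0 := by omega
    have h9 : p ≤ n₀ := Nat.le_of_dvd (Nat.pos_of_ne_zero index_ne_zero_of_finite)
      (dvd_relIndex_of_nu_eq_zero hX'0 (by rwa [nu_inf_normalizer _ hD.1]))
    rw [h8, mul_zero, mul_zero, add_zero, ← mul_assoc] at h6
    have h10 := Nat.lt_of_mul_lt_mul_right h6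
    have h11 := Nat.mul_le_mul h9 (show j + 1 ≤ p - 1 by omega)
    omega
  refine ⟨by rwa [nu_gen], ?_⟩
  rw [nu_gen]
  have h8 : (normalizer ((gen p (X' ⊓ Y) : Subgroup G) : Set G)).relIndex X' ≤ n₀ := by
    rw [show n₀ = (X' ⊓ normalizer (Y : Set G)).relIndex X' from (inf_relIndex_left _ _).symm]
    refine relIndex_le_of_le_left ?_ index_ne_zero_of_finite
    exact (le_normalizer_inf (inf_le_left.trans le_normalizer) inf_le_right).trans
      (normalizer_le_gen _)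
  obtain ⟨m, hm⟩ := Nat.exists_eq_add_of_le h8
  have h9 := Nat.mul_le_mul_left m (hB Y hn)
  rw [hm] at h6
  nlinarith

theorem two_mul_le {a b : ℕ} (h : (2 * p - 1) * a ≤ (p - 1) * b) : 2 * a ≤ b := by
  obtain ⟨k, rfl⟩ : ∃ k, p = k + 2 := ⟨p - 2, by have := hp.out.two_le; omega⟩
  rw [show 2 * (k + 2) - 1 = 2 * k + 3 by omega, show k + 2 - 1 = k + 1 by omega] at h
  nlinarith

theorem unique_over {j : ℕ} (hj : j + 2 ≤ p) {X X' Y₁ Y₂ : Subgroup G} (hX : gen p X = X)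
    (hD : Def p j X X') (hBX : Bd p X) (hY₁ : gen p Y₁ = Y₁) (hB₁ : Bd p Y₁)
    (hY₁X : Y₁ < X) (hn : ¬ Y₁ ≤ Y₂) (h₁ : X' ≤ Y₁) (h₂ : X' ≤ Y₂) : False := by
  classical
  obtain ⟨P, hP⟩ := nu_pos_iff.1 hD.1
  have hX'X : X' ≤ X := h₁.trans hY₁X.le
  have h1 := hD.fix hX'X (hP.trans hX'X)
  have h2 := fix_mul hX'X hD.1 (hP.trans hX'X)
  have h3 := two_mul_le (hBX Y₁ hY₁X.not_ge)
  have h4 := two_mul_le (hB₁ Y₂ hn)
  have h5 := nu_mono (p := p) (le_inf h₁ h₂)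
  rw [inf_eq_right.2 hY₁X.le] at h3
  rw [← stabilizer_cjAct, ← card_orb] at h2
  set F := (orb X X').filter fun a => (P : Subgroup G) ≤ stabilizer G a with hF
  have h6 : 4 * F.card ≤ (orb X X').card := by
    refine Nat.le_of_mul_le_mul_right ?_ hD.1
    rw [← h2, mul_comm 4, mul_assoc]
    exact Nat.mul_le_mul_left _ (by omega)
  have hne : ∀ x ∈ X, ¬ Y₁ ≤ stabilizer G (x • X') := fun x _ h => by
    rw [stabilizer_cjAct] at h
    have h7 := closed_le_of_le_normalizer hY₁ (by rw [cjAct_smul, nu_cj]; exact hD.1) h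
    have h8 := card_le_of_le h7
    rw [cjAct_smul, card_cj] at h8
    exact hn ((eq_of_le_of_card_ge h₁ h8).ge.trans h₂)
  obtain ⟨y₁, hy₁, h7⟩ := exists_not_le_stabilizer hY₁ (hP.trans h₁) (hne 1 (one_mem _))
  obtain ⟨x, hx, h8⟩ : ∃ x ∈ X, ¬ x • X' ≤ Y₁ := by
    by_contra hcon
    push Not at hcon
    refine hY₁X.not_ge ?_
    rw [← hX, gen_le_iff]
    intro Q hQ
    obtain ⟨x, hx, rfl⟩ := exists_smul_eq (hP.trans hX'X) hQ
    exact ((smul_le_cj_iff x).2 hP).trans (hcon x hx)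
  obtain ⟨y₂, hy₂, h9⟩ := exists_not_le_stabilizer hY₁ (hP.trans h₁) (hne x hx)
  have h10 := le_card_orb P.isPGroup' h7
  have h11 := le_card_orb P.isPGroup' h9
  have hsub : ∀ z ∈ X, ¬ (P : Subgroup G) ≤ stabilizer G (z • X') →
      orb (P : Subgroup G) (z • X') ⊆ orb X X' \ F := fun z hz h a ha => by
    obtain ⟨u, hu, rfl⟩ := mem_orb.1 ha
    refine Finset.mem_sdiff.2 ⟨smul_mem_orb u (hX'X (hP hu)) _ (mem_orb.2 ⟨z, hz, rfl⟩),
      fun h' => h ?_⟩
    have := (Finset.mem_filter.1 h').2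
    rwa [stabilizer_smul', ← cj_eq_of_mem hu, cj_le_cj_iff] at this
  rw [← mul_smul] at h7 h9 h10 h11
  have hdis : Disjoint (orb (P : Subgroup G) ((y₁ * 1) • X'))
      (orb (P : Subgroup G) ((y₂ * x) • X')) := by
    refine Finset.disjoint_left.2 fun a ha hb => h8 ?_
    obtain ⟨u, hu, rfl⟩ := mem_orb.1 ha
    obtain ⟨v, hv, h⟩ := mem_orb.1 hb
    have h12 : x • X' = (y₂⁻¹ * v⁻¹ * u * y₁) • X' := by
      rw [mul_smul, mul_smul, mul_smul, ← mul_one y₁, ← h, inv_smul_smul, mul_smul, inv_smul_smul]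
    rw [h12]
    exact cj_le_of_mem h₁ (mul_mem (mul_mem (mul_mem (inv_mem hy₂) (inv_mem (h₁ (hP hv))))
      (h₁ (hP hu))) hy₁)
  have h12 := Finset.card_le_card (Finset.union_subset
    (hsub _ (mul_mem (hY₁X.le hy₁) (one_mem _)) h7) (hsub _ (mul_mem (hY₁X.le hy₂) hx) h9))
  rw [Finset.card_union_of_disjoint hdis] at h12
  have h13 := Finset.card_sdiff_add_card_eq_card (show F ⊆ orb X X' from Finset.filter_subset _ _)
  obtain ⟨k, rfl⟩ : ∃ k, p = j + 2 + k := ⟨p - (j + 2), by omega⟩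
  rw [show 2 * (j + 2 + k) - 1 = 2 * j + 2 * k + 3 by omega,
    show j + 2 + k - 1 = j + k + 1 by omega, ← h13] at h1
  rw [← h13] at h6
  set s := (orb X X' \ F).card
  obtain ⟨t, ht⟩ : ∃ t, s = 2 * (j + 2 + k) + t := ⟨s - 2 * (j + 2 + k), by omega⟩
  have h14 := Nat.mul_le_mul_left (j + 2 + k) (show 3 * F.card ≤ s by omega)
  rw [ht] at h1 h14
  nlinarith

theorem bd (X : Subgroup G) : gen p X = X → Bd p X := by
  induction X using CL.subgroup_induction with | _ X ih => ?_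
  intro hX Y₀ hY₀
  by_contra hcon
  push Not at hcon
  set H := gen p (X ⊓ Y₀) with hH
  have hHc : gen p H = H := gen_gen _
  have hHX : H < X := lt_of_le_of_ne ((gen_le _).trans inf_le_left)
    fun h => hY₀ (h.ge.trans ((gen_le _).trans inf_le_right))
  rw [← nu_gen (X ⊓ Y₀), ← hH] at hcon
  have hH0 : 0 < nu p H := Nat.pos_of_mul_pos_left (Nat.zero_lt_of_lt hcon)
  have hcj : ∀ x ∈ X, gen p (x •ᶜ H) = x •ᶜ H ∧ x •ᶜ H < X ∧ Def p 0 X (x •ᶜ H) := fun x hx => by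
    refine ⟨by rw [gen_cj, hHc], ?_, by rwa [nu_cj], ?_⟩
    · rw [← cj_eq_of_mem hx, cj_lt_cj_iff]
      exact hHX
    · rw [nu_cj, mul_zero, zero_mul, zero_add]
      exact Nat.mul_lt_mul_of_pos_left hcon (Nat.pos_of_ne_zero index_ne_zero_of_finite)
  obtain ⟨x, hx, hxp, hx1, hx2⟩ : ∃ x ∈ X, IsPGroup p (zpowers x) ∧
      x ∉ normalizer (H : Set G) ∧ x ^ p ∈ normalizer (H : Set G) := by
    classical
    obtain ⟨P, hP, h1⟩ : ∃ P : Sylow p G, (P : Subgroup G) ≤ X ∧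
        ¬ (P : Subgroup G) ≤ normalizer (H : Set G) := by
      by_contra h
      push Not at h
      exact hHX.not_ge (closed_le_of_le_normalizer hX hH0 (hX ▸ gen_le_iff.2 h))
    obtain ⟨y, hy, h2⟩ := SetLike.not_le_iff_exists.1 h1
    have h3 : ∃ k, y ^ p ^ k ∈ normalizer (H : Set G) := by
      obtain ⟨k, hk⟩ := isPGroup_iff_forall_mem.1 P.isPGroup' y hy
      exact ⟨k, hk ▸ one_mem _⟩
    have h4 := Nat.find_spec h3
    obtain ⟨k, hk⟩ := Nat.exists_eq_succ_of_ne_zero (n := Nat.find h3)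
      fun h => h2 (by simpa [h] using h4)
    refine ⟨y ^ p ^ k, hP (pow_mem hy _), P.isPGroup'.to_le (zpowers_le.2 (pow_mem hy _)),
      Nat.find_min h3 (by omega), ?_⟩
    rwa [← pow_mul, ← pow_succ, ← Nat.succ_eq_add_one, ← hk]
  have key : ∀ j, j + 2 ≤ p → ∃ Z : Subgroup G, gen p Z = Z ∧ Z < X ∧ 0 < nu p Z ∧
      (∀ i ≤ j, Z ≤ (x ^ i) •ᶜ H) ∧
      ∀ g ∈ X, Z ≤ g •ᶜ H ∨ Def p (j + 1) Z (gen p (Z ⊓ g •ᶜ H)) := by
    intro j
    induction j with
    | zero =>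
      refine fun hj => ⟨H, hHc, hHX, hH0, fun i hi => ?_, fun g hg => ?_⟩
      · rw [Nat.le_zero.1 hi, pow_zero, cj_one]
      · rw [or_iff_not_imp_left]
        refine step hj hHX.le hH0 (ih H hHX hHc) (hcj g hg).2.1.le (hcj g hg).2.2
          fun x₁ _ x₂ _ h₁ h₂ => ?_
        rw [← cj_mul] at h₁ h₂ ⊢
        rw [← cj_mul, cj_eq_of_ge h₁, cj_eq_of_ge h₂]
    | succ j ihj =>
      intro hj
      obtain ⟨Z, hZ, hZX, hZ0, hZi, hZg⟩ := ihj (by omega)
      have hmono : ∀ {A B : Subgroup G}, Def p (j + 1) A B → Def p (j + 1 + 1) A B :=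
        fun h => ⟨h.1, h.2.trans_le (Nat.add_le_add_right (Nat.mul_le_mul_right _
          (Nat.mul_le_mul_left _ (Nat.le_succ _))) _)⟩
      by_cases hβ : Z ≤ (x ^ (j + 1)) •ᶜ H
      · refine ⟨Z, hZ, hZX, hZ0, fun i hi => ?_, fun g hg => (hZg g hg).imp_right hmono⟩
        rcases Nat.le_succ_iff.1 hi with h | rfl
        exacts [hZi i h, hβ]
      have hD := (hZg _ (pow_mem hx (j + 1))).resolve_left hβ
      set Z' := gen p (Z ⊓ (x ^ (j + 1)) •ᶜ H) with hZ'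
      have hZ'Z : Z' ≤ Z := (gen_le _).trans inf_le_left
      have hZ'X := hZ'Z.trans_lt hZX
      refine ⟨Z', gen_gen _, hZ'X, hD.1, fun i hi => ?_, fun g hg => ?_⟩
      · rcases Nat.le_succ_iff.1 hi with h | rfl
        exacts [hZ'Z.trans (hZi i h), (gen_le _).trans inf_le_right]
      rw [or_iff_not_imp_left]
      intro hn
      have hn' : ¬ Z ≤ g •ᶜ H := fun h => hn (hZ'Z.trans h)
      set Y := gen p (Z ⊓ g •ᶜ H) with hY
      have hYZ : Y < Z := lt_of_le_of_ne ((gen_le _).trans inf_le_left)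
        fun h => hn' (h.ge.trans ((gen_le _).trans inf_le_right))
      have h1 := step hj hZ'Z hD.1 (ih _ hZ'X (gen_gen _)) hYZ.le
        ((hZg g hg).resolve_left hn') (fun x₁ h₁ x₂ _ k₁ k₂ => ?_)
        fun h => hn (h.trans ((gen_le _).trans inf_le_right))
      · rwa [gen_congr (X := Z' ⊓ Y) (Y := Z' ⊓ g •ᶜ H) fun P => ?_] at h1
        rw [le_inf_iff, le_inf_iff]
        exact ⟨fun h => ⟨h.1, h.2.trans ((gen_le _).trans inf_le_right)⟩,
          fun h => ⟨h.1, le_gen_iff.2 (le_inf (h.1.trans hZ'Z) h.2)⟩⟩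
      · by_contra hne
        have h2 : gen p (x₁ •ᶜ Y) = x₁ •ᶜ Y := by rw [gen_cj, gen_gen]
        have h3 : x₁ •ᶜ Y < Z := by
          rw [← cj_eq_of_mem h₁, cj_lt_cj_iff]
          exact hYZ
        exact unique_over hj hZ hD (ih Z hZX hZ) h2 (ih _ (h3.trans hZX) h2) h3
          (fun h => hne (eq_of_le_of_card_ge h (by rw [card_cj, card_cj]))) k₁ k₂
  obtain ⟨k, hk⟩ : ∃ k, p = k + 2 := ⟨p - 2, by have := hp.out.two_le; omega⟩
  obtain ⟨Z, -, -, hZ0, hZi, hZg⟩ := key k hk.ge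
  obtain ⟨P, hP⟩ : ∃ P : Sylow p G, (P : Subgroup G) ≤ Z ⊓ (x ^ (k + 1)) •ᶜ H := by
    rcases hZg _ (pow_mem hx (k + 1)) with h | h
    · rw [inf_eq_left.2 h]
      exact nu_pos_iff.1 hZ0
    · exact nu_pos_iff.1 (nu_gen (p := p) (Z ⊓ _) ▸ h.1)
  have h1 : (P : Subgroup G) ≤ ⨅ i : ℕ, (x ^ i) •ᶜ H := le_iInf fun i => by
    rw [← Nat.mod_add_div i p, pow_add, pow_mul, cj_mul, cj_eq_of_mem_normalizer (pow_mem hx2 _)]
    rcases Nat.le_succ_iff.1 (show i % p ≤ k + 1 by have := Nat.mod_lt i hp.out.pos; omega) with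
      h | h
    · exact hP.trans (inf_le_left.trans (hZi _ h))
    · rw [h]
      exact hP.trans inf_le_right
  have h2 : x⁻¹ ∈ normalizer ((⨅ i : ℕ, (x ^ i) •ᶜ H : Subgroup G) : Set G) :=
    mem_normalizer_of_cj_le (le_iInf fun i => by
      rw [← le_cj_iff, ← cj_mul, ← pow_succ']
      exact iInf_le (fun i : ℕ => (x ^ i) •ᶜ H) _)
  have h3 := le_of_le_normalizer (nu_pos_iff.2 ⟨P, h1⟩) hxp
    (zpowers_le.2 (inv_mem_iff.1 h2)) (mem_zpowers x)
  have h4 := iInf_le (fun i : ℕ => (x ^ i) •ᶜ H) 0 h3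
  rw [pow_zero, cj_one] at h4
  exact hx1 (le_normalizer h4)

omit [Finite G] hp in
theorem gen_eq_top (h : closure {g : G | ∃ k : ℕ, orderOf g = p ^ k} = ⊤) :
    gen p (⊤ : Subgroup G) = ⊤ := by
  rw [eq_top_iff, ← h, closure_le]
  rintro g ⟨k, hk⟩
  obtain ⟨P, hP⟩ := (isPGroup_zpowers (k := k) (x := g) (hk ▸ pow_orderOf_eq_one g)).exists_le_sylow
  rw [h]
  exact le_gen_iff.2 le_top (hP (mem_zpowers g))

omit [Finite G] hp in
theorem nu_top : nu p (⊤ : Subgroup G) = Nat.card (Sylow p G) := by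
  simp [nu]

theorem card_sylow_le_nu {H : Subgroup G} {P : Sylow p G} (hP : (P : Subgroup G) ≤ H) :
    Nat.card (Sylow p H) ≤ nu p H := by
  refine Nat.card_le_card_of_injective (β := {P : Sylow p G | (P : Subgroup G) ≤ H})
    (fun S => ⟨((sylIn_map_subtype S).trans_of_sylIn le_top (sylIn_top P) hP).toSylowTop,
      map_subtype_le _⟩) fun S T h => Sylow.ext (map_injective H.subtype_injective ?_)
  exact congrArg (fun Q : {P : Sylow p G | (P : Subgroup G) ≤ H} => (Q.1 : Subgroup G)) h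

open Classical in
theorem card_fixed_le {Ω : Type*} [MulAction G Ω] {X : Subgroup G} (hX : gen p X = X)
    {P : Sylow p G} (hP : (P : Subgroup G) ≤ X) (Λ : Finset Ω) (hΛ : ∀ x ∈ X, ∀ a ∈ Λ, x • a ∈ Λ)
    (h : ∀ a ∈ Λ, ¬ X ≤ stabilizer G a) :
    (2 * p - 1) * (Λ.filter fun a => (P : Subgroup G) ≤ stabilizer G a).card ≤
      (p - 1) * Λ.card := by
  refine Nat.le_of_mul_le_mul_right ?_ (nu_pos_iff.2 ⟨P, hP⟩)
  rw [mul_assoc, double_count hP Λ hΛ, Finset.mul_sum, mul_comm (p - 1), mul_assoc,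
    ← smul_eq_mul Λ.card, ← Finset.sum_const]
  exact Finset.sum_le_sum fun a ha => bd X hX _ (h a ha)

open Classical in
theorem mul_card_orbits_le {Ω : Type*} [Fintype Ω] [MulAction G Ω] {P : Subgroup G}
    (hP : IsPGroup p P) : p * Nat.card (orbitRel.Quotient P Ω) ≤ Fintype.card Ω +
      (p - 1) * (Finset.univ.filter fun a : Ω => P ≤ stabilizer G a).card := by
  have := Fintype.ofFinite (orbitRel.Quotient P Ω)
  rw [← Finset.card_univ, Finset.card_eq_sum_card_fiberwise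
    (f := fun a : Ω => (Quotient.mk'' a : orbitRel.Quotient P Ω)) (t := Finset.univ)
    (fun _ _ => Finset.mem_coe.2 (Finset.mem_univ _)), Finset.card_eq_sum_card_fiberwise
    (f := fun a : Ω => (Quotient.mk'' a : orbitRel.Quotient P Ω)) (t := Finset.univ)
    (s := Finset.univ.filter _) (fun _ _ => Finset.mem_coe.2 (Finset.mem_univ _)),
    Finset.mul_sum, ← Finset.sum_add_distrib, Nat.card_eq_fintype_card, mul_comm, ← smul_eq_mul,
    ← Finset.card_univ, ← Finset.sum_const]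
  refine Finset.sum_le_sum fun c _ => ?_
  obtain ⟨a, rfl⟩ := Quotient.exists_rep c
  by_cases h : P ≤ stabilizer G a
  · have h1 : 1 ≤ (Finset.univ.filter fun b : Ω =>
        (Quotient.mk'' b : orbitRel.Quotient P Ω) = ⟦a⟧).card :=
      Finset.card_pos.2 ⟨a, Finset.mem_filter.2 ⟨Finset.mem_univ _, rfl⟩⟩
    have h2 : 1 ≤ ((Finset.univ.filter fun a : Ω => P ≤ stabilizer G a).filter fun b : Ω =>
        (Quotient.mk'' b : orbitRel.Quotient P Ω) = ⟦a⟧).card :=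
      Finset.card_pos.2 ⟨a, Finset.mem_filter.2 ⟨Finset.mem_filter.2 ⟨Finset.mem_univ _, h⟩, rfl⟩⟩
    have := Nat.mul_le_mul_left (p - 1) h2
    omega
  · refine (le_card_orb hP h).trans ((Finset.card_le_card fun b hb => ?_).trans
      (Nat.le_add_right _ _))
    obtain ⟨x, hx, rfl⟩ := mem_orb.1 hb
    exact Finset.mem_filter.2 ⟨Finset.mem_univ _, Quotient.sound' ⟨⟨x, hx⟩, rfl⟩⟩

end CL.SylRat
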