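import Mathlib
import Cfsg.Agent.FGS.FpfTwo

/-!
Group theoretic preliminaries for Turull's theorem on the Fitting height of the fixed points of a
coprime automorphism of prime order.
-/

set_option autoImplicit false
open Subgroup Cfsg
open scoped commutatorElement

namespace CL.Tur

open CL.FH CL.HH

variable {Γ Γ' : Type*} [Group Γ] [Group Γ']

/-- The elements of `H` whose order is a power of a prime different from `p`. -/
def PE (p : ℕ) (H : Subgroup Γ) : Set Γ :=
  {y | y ∈ H ∧ ∃ s k : ℕ, s.Prime ∧ s ≠ p ∧ y ^ s ^ k = 1}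

/-- The subgroup generated by the `p'`-elements of `H`. -/
def Opp (p : ℕ) (H : Subgroup Γ) : Subgroup Γ := closure (PE p H)

variable {p : ℕ} {H K : Subgroup Γ}

theorem PE.mono (h : H ≤ K) : PE p H ⊆ PE p K := fun _ hy => ⟨h hy.1, hy.2⟩

theorem Opp_le : Opp p H ≤ H := (closure_le _).2 fun _ hy => hy.1

theorem mem_Opp {y : Γ} (h : y ∈ PE p H) : y ∈ Opp p H := subset_closure h

theorem conj_mem_PE {g y : Γ} (hg : g ∈ normalizer (H : Set Γ)) (hy : y ∈ PE p H) :
    g * y * g⁻¹ ∈ PE p H := by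
  obtain ⟨h1, s, k, hs, hsp, h2⟩ := hy
  exact ⟨(mem_normalizer_iff.1 hg y).1 h1, s, k, hs, hsp, by rw [conj_pow, h2]; group⟩

theorem le_normalizer_Opp {A : Subgroup Γ} (h : A ≤ normalizer (H : Set Γ)) :
    A ≤ normalizer (Opp p H : Set Γ) := by
  refine le_normalizer_of_conj_mem fun a ha b hb => ?_
  induction hb using closure_induction with
  | mem y hy => exact mem_Opp (conj_mem_PE (h ha) hy)
  | one => simp
  | mul y z _ _ hy hz =>
    have : a * (y * z) * a⁻¹ = (a * y * a⁻¹) * (a * z * a⁻¹) := by group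
    rw [this]; exact mul_mem hy hz
  | inv y _ hy =>
    have : a * y⁻¹ * a⁻¹ = (a * y * a⁻¹)⁻¹ := by group
    rw [this]; exact inv_mem hy

theorem mem_of_coprime_pow {y : Γ} {a b : ℕ} (h : a.Coprime b) (ha : y ^ a ∈ K) (hb : y ^ b ∈ K) :
    y ∈ K := by
  have h1 : y = (y ^ a) ^ Nat.gcdA a b * (y ^ b) ^ Nat.gcdB a b := by
    rw [← zpow_natCast, ← zpow_natCast, ← zpow_mul, ← zpow_mul, ← zpow_add, ← Nat.gcd_eq_gcd_ab, h]
    simp
  rw [h1]; exact mul_mem (zpow_mem ha _) (zpow_mem hb _)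

theorem mem_Opp_of_pow (hp : p.Prime) (n : ℕ) :
    ∀ y ∈ H, n ≠ 0 → n.Coprime p → y ^ n = 1 → y ∈ Opp p H := by
  induction n using Nat.recOnPosPrimePosCoprime with
  | prime_pow s k hs hk =>
    intro y hy _ hc h1
    refine mem_Opp ⟨hy, s, k, hs, ?_, h1⟩
    rintro rfl
    exact hp.one_lt.ne' ((Nat.coprime_pow_left_iff hk s s).1 hc |> (Nat.coprime_self s).1)
  | zero => intro _ _ h; exact absurd rfl h
  | one => intro y _ _ _ h; rw [pow_one] at h; rw [h]; exact one_mem _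
  | coprime a b ha hb hab iha ihb =>
    intro y hy _ hc h1
    exact mem_of_coprime_pow hab
      (ihb _ (pow_mem hy a) (by omega) (Nat.Coprime.coprime_mul_left hc) (by rw [← pow_mul, h1]))
      (iha _ (pow_mem hy b) (by omega) (Nat.Coprime.coprime_mul_right hc)
        (by rw [← pow_mul, mul_comm, h1]))

theorem exists_split (hp : p.Prime) [Finite H] {y : Γ} (hy : y ∈ H) :
    ∃ k m : ℕ, m ≠ 0 ∧ m.Coprime p ∧ y ^ (p ^ k * m) = 1 := by
  obtain ⟨k, m, hm, e⟩ := Nat.exists_eq_pow_mul_and_not_dvd (Nat.card_pos (α := H)).ne' p hp.ne_one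
  refine ⟨k, m, by rintro rfl; exact hm (dvd_zero p),
    ((Nat.Prime.coprime_iff_not_dvd hp).2 hm).symm, ?_⟩
  rw [← e]
  exact congrArg Subtype.val (pow_card_eq_one' (x := (⟨y, hy⟩ : H)))

theorem exists_pow_mem_Opp (hp : p.Prime) [Finite H] {y : Γ} (hy : y ∈ H) :
    ∃ k, y ^ p ^ k ∈ Opp p H := by
  obtain ⟨k, m, h0, hm, h⟩ := exists_split hp hy
  exact ⟨k, mem_Opp_of_pow hp m _ (pow_mem hy _) h0 hm (by rw [← pow_mul, h])⟩

theorem exists_lift [Finite H] (f : Γ →* Γ') {s k : ℕ} (hs : s.Prime) {y : Γ'} (hy : y ∈ H.map f)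
    (h : y ^ s ^ k = 1) : ∃ z ∈ H, f z = y ∧ ∃ j, z ^ s ^ j = 1 := by
  obtain ⟨z, hz, rfl⟩ := hy
  obtain ⟨j, m, h0, hm, h1⟩ := exists_split hs hz
  have hpos : 0 < (s ^ k).totient := Nat.totient_pos.2 (pow_pos hs.pos k)
  refine ⟨z ^ m ^ (s ^ k).totient, pow_mem hz _, ?_, j, ?_⟩
  · rw [map_pow]
    have := Nat.ModEq.pow_totient (hm.pow_right k)
    conv_rhs => rw [← pow_one (f z)]
    exact pow_eq_pow_iff_modEq.2 (this.of_dvd (orderOf_dvd_of_pow_eq_one h))
  · obtain ⟨c, hc⟩ := dvd_pow_self m hpos.ne'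
    rw [hc, ← pow_mul, show m * c * s ^ j = s ^ j * m * c by ring, pow_mul, h1, one_pow]

theorem PE.map (f : Γ →* Γ') {y : Γ} (hy : y ∈ PE p H) : f y ∈ PE p (H.map f) := by
  obtain ⟨h1, s, k, hs, hsp, h2⟩ := hy
  exact ⟨mem_map_of_mem f h1, s, k, hs, hsp, by rw [← map_pow, h2, map_one]⟩

theorem PE.lift [Finite H] (f : Γ →* Γ') {y : Γ'} (hy : y ∈ PE p (H.map f)) :
    ∃ z ∈ PE p H, f z = y := by
  obtain ⟨h1, s, k, hs, hsp, h2⟩ := hy
  obtain ⟨z, hz, e, j, hj⟩ := exists_lift f hs h1 h2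
  exact ⟨z, ⟨hz, s, j, hs, hsp, hj⟩, e⟩

theorem mul_pow_index {X : Type*} [Group X] [Finite X] {A : Subgroup X} (hA : A ≤ center X)
    (a b : X) : (a * b) ^ A.index = a ^ A.index * b ^ A.index := by
  letI : CommGroup A :=
    { (inferInstance : Group A) with
      mul_comm := fun u v => Subtype.ext (mem_center_iff.1 (hA v.2) u) }
  have key : ∀ (g : X) (k : ℕ) (g₀ : X), g₀⁻¹ * g ^ k * g₀ ∈ A → g₀⁻¹ * g ^ k * g₀ = g ^ k := by
    intro g k g₀ h
    have h1 := mem_center_iff.1 (hA h) g₀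
    calc g₀⁻¹ * g ^ k * g₀ = (g₀⁻¹ * g ^ k * g₀) * g₀ * g₀⁻¹ := by group
      _ = g₀ * (g₀⁻¹ * g ^ k * g₀) * g₀⁻¹ := by rw [h1]
      _ = g ^ k := by group
  have h := (MonoidHom.transfer (MonoidHom.id A)).map_mul a b
  rw [MonoidHom.transfer_eq_pow _ _ (key _), MonoidHom.transfer_eq_pow _ _ (key _),
    MonoidHom.transfer_eq_pow _ _ (key _)] at h
  exact congrArg Subtype.val h

/-- A central Hall subgroup of the nilpotent residual is its own commutator with the group. -/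
theorem le_commutator_of_central {N A : Subgroup Γ} [Finite N] (hA : A ≤ nres N)
    (hc : A ≤ centralizer (nres N : Set Γ)) {f : ℕ} (hf : ∀ a ∈ A, a ^ f = 1)
    (he : ∀ g ∈ nres N, ∃ e, e.Coprime f ∧ g ^ e ∈ A) : A ≤ ⁅A, N⁆ := by
  set R := nres N
  have : Finite R := finite_of_le (nres_le N)
  have hA' : A.subgroupOf R ≤ center R := fun a ha =>
    mem_center_iff.2 fun g => Subtype.ext (hc ha g g.2)
  have hn : (A.subgroupOf R).Normal := normal_of_le_center hA'
  set i := (A.subgroupOf R).index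
  have hi : i.Coprime f := by
    refine Nat.Coprime.symm (Nat.coprime_of_dvd' fun l hl h1 h2 => ?_)
    have := Fact.mk hl
    obtain ⟨g, hg⟩ := exists_prime_orderOf_dvd_card' (G := R ⧸ A.subgroupOf R) l h2
    obtain ⟨g, rfl⟩ := QuotientGroup.mk_surjective g
    obtain ⟨e, h3, h4⟩ := he g g.2
    have h5 : ((g : R ⧸ A.subgroupOf R)) ^ e = 1 := by
      rw [← QuotientGroup.mk_pow, QuotientGroup.eq_one_iff]; exact h4
    rw [← h3]
    exact Nat.dvd_gcd (hg ▸ orderOf_dvd_of_pow_eq_one h5) h1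
  have hmul : ∀ a ∈ R, ∀ b ∈ R, (a * b) ^ i = a ^ i * b ^ i := fun a ha b hb =>
    congrArg Subtype.val (mul_pow_index hA' ⟨a, ha⟩ ⟨b, hb⟩)
  have hpow : ∀ a ∈ R, a ^ i ∈ A := fun a ha => (A.subgroupOf R).pow_index_mem ⟨a, ha⟩
  let J : Subgroup Γ :=
    { carrier := {g | g ∈ R ∧ g ^ i ∈ ⁅A, N⁆}
      one_mem' := ⟨one_mem _, by simp⟩
      mul_mem' := fun {a b} ha hb =>
        ⟨mul_mem ha.1 hb.1, by rw [hmul a ha.1 b hb.1]; exact mul_mem ha.2 hb.2⟩
      inv_mem' := fun {a} ha => ⟨inv_mem ha.1, by rw [inv_pow]; exact inv_mem ha.2⟩ }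
  have hNR : N ≤ normalizer (R : Set Γ) := le_normalizer_nres le_normalizer
  have hRJ : R ≤ J := by
    conv_lhs => rw [← show ⁅R, N⁆ = R from commutator_nres N]
    rw [commutator_le]
    intro g hg n hn
    have h1 : n * g⁻¹ * n⁻¹ ∈ R := (mem_normalizer_iff.1 (hNR hn) _).1 (inv_mem hg)
    have h2 : ⁅g, n⁆ = g * (n * g⁻¹ * n⁻¹) := by simp only [commutatorElement_def]; group
    refine ⟨h2 ▸ mul_mem hg h1, ?_⟩
    have h3 : ⁅g, n⁆ ^ i = ⁅g ^ i, n⁆ := by
      rw [h2, hmul g hg _ h1, conj_pow, commutatorElement_def, inv_pow]; group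
    rw [h3]
    exact commutator_mem_commutator (hpow g hg) hn
  intro a ha
  exact mem_of_coprime_pow hi (hRJ (hA ha)).2 (by rw [hf a ha]; exact one_mem _)

theorem le_sup_of_sylow [Finite K] [Fact p.Prime] (P : Sylow p K) {M : Subgroup Γ}
    (hM : K ≤ normalizer (M : Set Γ)) (h : ∀ g ∈ K, ∃ k, g ^ p ^ k ∈ M) :
    K ≤ (P : Subgroup K).map K.subtype ⊔ M := by
  have hn : (M.subgroupOf K).Normal := normal_subgroupOf_of_le_normalizer hM
  have hq : IsPGroup p (K ⧸ M.subgroupOf K) := fun g => by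
    obtain ⟨g, rfl⟩ := QuotientGroup.mk_surjective g
    obtain ⟨k, hk⟩ := h g g.2
    exact ⟨k, by rw [← QuotientGroup.mk_pow, QuotientGroup.eq_one_iff]; exact hk⟩
  obtain ⟨n, hn⟩ := IsPGroup.iff_card.1 hq
  have h1 : ((P : Subgroup K) ⊔ M.subgroupOf K).index ∣ p ^ n :=
    hn ▸ index_dvd_of_le le_sup_right
  have h2 : ((P : Subgroup K) ⊔ M.subgroupOf K).index ∣ (P : Subgroup K).index :=
    index_dvd_of_le le_sup_left
  have h3 : (P : Subgroup K) ⊔ M.subgroupOf K = ⊤ := index_eq_one.1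
    (Nat.eq_one_of_dvd_coprimes (Nat.Coprime.pow_left n
      ((Nat.Prime.coprime_iff_not_dvd Fact.out).2 P.not_dvd_index)) h1 h2)
  have h4 := congrArg (map K.subtype) h3
  rw [← MonoidHom.range_eq_map, range_subtype, Subgroup.map_sup, subgroupOf_map_subtype] at h4
  exact h4.ge.trans (sup_le_sup_left inf_le_left _)

theorem coprime_zpowers {x : Γ} {r n : ℕ} (hx : x ^ r = 1) (hn : n.Coprime r) :
    (Nat.card (zpowers x)).Coprime n := by
  rw [Nat.card_zpowers]
  exact (hn.coprime_dvd_right (orderOf_dvd_of_pow_eq_one hx)).symm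

theorem commutator_sup_le {A B C M : Subgroup Γ} (hA : A ≤ normalizer (M : Set Γ))
    (hB : B ≤ normalizer (M : Set Γ)) (h1 : ⁅C, A⁆ ≤ M) (h2 : ⁅C, B⁆ ≤ M) : ⁅C, A ⊔ B⁆ ≤ M :=
  (MSS.le_secC_iff.1 (sup_le (MSS.le_secC_iff.2 ⟨hA, h1⟩) (MSS.le_secC_iff.2 ⟨hB, h2⟩))).2

/-- The top of a tower. -/
theorem exists_top [Finite Γ] {G : Subgroup Γ} [G.Normal] (hG : Group.IsSolvable G) {x : Γ} {r : ℕ}
    (hx : x ^ r = 1) (hcop : (Nat.card G).Coprime r) (hp : p.Prime) {m k : ℕ} {y : Γ}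
    (hy : y ∈ res (m + 1) G) (hy1 : y ≠ 1) (hyk : y ^ p ^ k = 1) :
    ∃ P G' : Subgroup Γ, G' ≤ G ∧ P ≤ G' ∧ IsPGroup p P ∧ x ∈ normalizer (P : Set Γ) ∧
      x ∈ normalizer (G' : Set Γ) ∧ G' ≤ normalizer (P : Set Γ) ∧
      ∃ t ∈ PE p (res m G'), t ∉ centralizer (P : Set Γ) := by
  have := Fact.mk hp
  set N := res m G
  set R := res (m + 1) G with hR
  let R1 : Subgroup Γ := normalClosure {g | g ∈ R ∧ ∃ k, g ^ p ^ k = 1}
  have hR1 : R1 ≤ R := normalClosure_le_normal fun g hg => hg.1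
  have hR1G : R1 ≤ G := hR1.trans (res_le _ _)
  have hs1 : Group.IsSolvable R1 := isSolvable_of_le hR1G hG
  obtain ⟨P0, hP0⟩ := coprime_exists_invariant_sylow (zpowers x) R1 le_normalizer_of_normal
    (coprime_zpowers hx (coprime_of_le hR1G hcop)) (Or.inr hs1) p
  set P := (P0 : Subgroup R1).map R1.subtype
  have hPR : P ≤ R1 := map_subtype_le _
  refine ⟨P, G ⊓ normalizer (P : Set Γ), inf_le_left, le_inf (hPR.trans hR1G) le_normalizer,
    P0.isPGroup'.map _, hP0 (mem_zpowers x),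
    le_normalizer_inf le_normalizer_of_normal (hP0.trans le_normalizer) (mem_zpowers x),
    inf_le_right, ?_⟩
  by_contra hcon
  push Not at hcon
  set G' := G ⊓ normalizer (P : Set Γ)
  set R2 := ⁅R1, R1⁆
  have hpq : ∀ g ∈ R1, ∃ k, g ^ p ^ k ∈ R2 := by
    have h1 : R1.map (QuotientGroup.mk' R2) ≤ (pCore p (Γ ⧸ R2)) := by
      rw [map_le_iff_le_comap]
      refine normalClosure_le_normal fun g hg => ?_
      have hg1 : g ∈ R1 := subset_normalClosure hg
      obtain ⟨-, k, hk⟩ := hg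
      let B : Subgroup (Γ ⧸ R2) :=
        { carrier := {u | u ∈ R1.map (QuotientGroup.mk' R2) ∧ ∃ k, u ^ p ^ k = 1}
          one_mem' := ⟨one_mem _, 0, by simp⟩
          mul_mem' := by
            rintro _ _ ⟨⟨a, ha, rfl⟩, i, hi⟩ ⟨⟨b, hb, rfl⟩, j, hj⟩
            refine ⟨⟨a * b, mul_mem ha hb, rfl⟩, i + j, ?_⟩
            have hc : Commute (QuotientGroup.mk' R2 a) (QuotientGroup.mk' R2 b) := by
              rw [← commutatorElement_eq_one_iff_commute, ← map_commutatorElement]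
              exact (QuotientGroup.eq_one_iff _).2 (commutator_mem_commutator ha hb)
            rw [hc.mul_pow, pow_add, pow_mul, hi, one_pow, one_mul, mul_comm, pow_mul, hj, one_pow]
          inv_mem' := by
            rintro u ⟨h1, k, hk⟩
            exact ⟨inv_mem h1, k, by rw [inv_pow, hk, inv_one]⟩ }
      have hBn : B.Normal := ⟨fun u hu g => ⟨Normal.conj_mem (Normal.map inferInstance _
        (QuotientGroup.mk'_surjective R2)) u hu.1 g, by
          obtain ⟨k, hk⟩ := hu.2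
          exact ⟨k, by rw [conj_pow, hk]; group⟩⟩⟩
      have hB : B ≤ pCore p _ := le_pCore fun u => by
        obtain ⟨k, hk⟩ := u.2.2
        exact ⟨k, Subtype.ext hk⟩
      exact hB ⟨mem_map_of_mem _ hg1, k, by rw [← map_pow, hk, map_one]⟩
    intro g hg
    obtain ⟨k, hk⟩ := isPGroup_pCore p _ ⟨_, h1 (mem_map_of_mem _ hg)⟩
    exact ⟨k, (QuotientGroup.eq_one_iff _).1 (congrArg Subtype.val hk)⟩
  have hcov : R1 ≤ P ⊔ R2 := le_sup_of_sylow P0 le_normalizer_of_normal hpq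
  set C := MSS.secC R1 R2
  have hCn : C.Normal := normalizer_eq_top_iff.1 (top_le_iff.1
    (MSS.le_normalizer_secC (H := ⊤) le_normalizer_of_normal le_normalizer_of_normal))
  have hR1C : R1 ≤ C := MSS.le_secC_iff.2 ⟨le_normalizer_of_normal, le_rfl⟩
  have hGG' : G.map (QuotientGroup.mk' C) = G'.map (QuotientGroup.mk' C) := by
    refine le_antisymm ?_ (map_mono inf_le_left)
    rintro _ ⟨g, hg, rfl⟩
    have h1 : g ∈ ((normalizer (P : Set Γ) ⊔ R1 : Subgroup Γ) : Set Γ) := by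
      rw [Sylow.normalizer_sup_eq_top P0]; exact mem_top g
    rw [mul_normal] at h1
    obtain ⟨a, ha, b, hb, rfl⟩ := h1
    refine ⟨a, ⟨(mul_mem_cancel_right (hR1G hb)).1 hg, ha⟩, ?_⟩
    simp only [map_mul, QuotientGroup.mk'_apply]
    rw [(QuotientGroup.eq_one_iff b).2 (hR1C hb), mul_one]
  have hOC : Opp p (res m G') ≤ C := (closure_le _).2 fun t ht => by
    refine ⟨le_normalizer_of_normal (mem_top t), fun u hu => ?_⟩
    have : P ⊔ R2 ≤ cmod R2 t := sup_le (fun a ha => ⟨le_normalizer_of_normal (mem_top a), by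
      rw [commutatorElement_eq_one_iff_mul_comm.2 (hcon t ht a ha)]; exact one_mem _⟩)
      (le_cmod_self (le_normalizer_of_normal (mem_top t)))
    exact (this (hcov hu)).2
  have hNC : ∀ n ∈ N, ∃ k, n ^ p ^ k ∈ C := fun n hn => by
    have h1 : QuotientGroup.mk' C n ∈ (res m G').map (QuotientGroup.mk' C) := by
      rw [map_res, ← hGG', ← map_res]; exact mem_map_of_mem _ hn
    obtain ⟨n', hn', e⟩ := h1
    obtain ⟨k, hk⟩ := exists_pow_mem_Opp hp hn'
    refine ⟨k, (QuotientGroup.eq_one_iff _).1 ?_⟩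
    rw [← QuotientGroup.mk'_apply, map_pow, ← e, ← map_pow]
    exact (QuotientGroup.eq_one_iff _).2 (hOC hk)
  have hRC : R ≤ C := by
    have h1 : IsPGroup p (N.map (QuotientGroup.mk' C)) := by
      rintro ⟨_, n, hn, rfl⟩
      obtain ⟨k, hk⟩ := hNC n hn
      exact ⟨k, Subtype.ext (by
        simp only [SubmonoidClass.mk_pow, OneMemClass.coe_one, ← map_pow]
        exact (QuotientGroup.eq_one_iff _).2 hk)⟩
    have h2 := nres_eq_bot_iff.2 h1.isNilpotent
    rw [← map_nres, Subgroup.map_eq_bot_iff, QuotientGroup.ker_mk'] at h2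
    rw [hR, res_succ]; exact h2
  set f := QuotientGroup.mk' R2
  have hAp : IsPGroup p (R1.map f) := by
    rintro ⟨_, n, hn, rfl⟩
    obtain ⟨k, hk⟩ := hpq n hn
    exact ⟨k, Subtype.ext (by
      simp only [SubmonoidClass.mk_pow, OneMemClass.coe_one, ← map_pow]
      exact (QuotientGroup.eq_one_iff _).2 hk)⟩
  obtain ⟨j, hj⟩ := IsPGroup.iff_card.1 hAp
  have hCA : ⁅R1.map f, C.map f⁆ = ⊥ := by
    rw [← map_commutator, Subgroup.map_eq_bot_iff, QuotientGroup.ker_mk']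
    exact MSS.commutator_secC_le _ _
  have hnr : nres (N.map f) = R.map f := by
    rw [← map_nres]; exact congrArg _ (res_succ m G).symm
  have h3 := le_commutator_of_central (N := N.map f) (A := R1.map f) (hnr ▸ map_mono hR1)
    (by
      rw [hnr, ← commutator_eq_bot_iff_le_centralizer, eq_bot_iff, ← hCA]
      exact commutator_mono le_rfl (map_mono hRC)) (f := p ^ j)
    (fun a ha => by
      rw [← hj]; exact congrArg Subtype.val (pow_card_eq_one' (x := (⟨a, ha⟩ : R1.map f))))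
    (by
      rw [hnr]
      rintro _ ⟨g, hg, rfl⟩
      obtain ⟨k, e, -, he, h⟩ := exists_split hp hg
      refine ⟨e, he.pow_right j, ?_⟩
      rw [← map_pow]
      exact mem_map_of_mem _ (subset_normalClosure ⟨pow_mem hg e, k, by
        rw [← pow_mul, mul_comm, h]⟩))
  obtain ⟨S⟩ : Nonempty (Sylow p N) := inferInstance
  have h4 := le_sup_of_sylow S le_normalizer_of_normal hNC
  set S' := (S : Subgroup N).map N.subtype
  have hAn : (R1.map f).Normal := Normal.map inferInstance _ (QuotientGroup.mk'_surjective R2)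
  have hne : R1.map f ≠ ⊥ := by
    rw [Ne, Subgroup.map_eq_bot_iff, QuotientGroup.ker_mk']
    have hne : R1 ≠ ⊥ := fun e => hy1 (mem_bot.1 (e ▸ subset_normalClosure ⟨hy, k, hyk⟩))
    have := (nontrivial_iff_ne_bot R1).2 hne
    intro hle
    have h5 := IsSolvable.commutator_lt_top_of_nontrivial R1
    refine h5.ne (map_injective R1.subtype_injective ?_)
    rw [map_subtype_commutator, ← MonoidHom.range_eq_map, range_subtype]
    exact le_antisymm (commutator_le_self _) hle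
  have h5 := commutator_lt_of_isPGroup hAp ((S.isPGroup'.map N.subtype).map f)
    le_normalizer_of_normal hne
  refine h5.not_ge (h3.trans ((commutator_mono le_rfl (map_mono h4)).trans ?_))
  rw [Subgroup.map_sup]
  refine commutator_sup_le (le_normalizer_commutator le_normalizer_of_normal le_normalizer) ?_
    le_rfl (hCA ▸ bot_le)
  refine (le_centralizer_iff.1 ?_).trans (centralizer_le_normalizer _)
  exact (commutator_le_left _ _).trans (commutator_eq_bot_iff_le_centralizer.1 hCA)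

end CL.Tur
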