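import Mathlib
import Cfsg.Agent.FGS.Tur1

/-!
Minimal subgroups acted on nontrivially by the `p'`-elements of a subgroup.
-/

set_option autoImplicit false
open Subgroup Cfsg
open scoped commutatorElement

namespace CL.Tur

open CL.FH CL.HH

variable {Γ : Type*} [Group Γ] {p : ℕ}

theorem map_nres_top (N : Subgroup Γ) [Finite N] :
    (nres (⊤ : Subgroup N)).map N.subtype = nres N := by
  rw [map_nres, ← MonoidHom.range_eq_map, range_subtype]

theorem mem_nres_top {N : Subgroup Γ} [Finite N] {g : N} :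
    g ∈ nres (⊤ : Subgroup N) ↔ (g : Γ) ∈ nres N := by
  rw [← map_nres_top N]; exact (mem_map_iff_mem N.subtype_injective).symm

theorem nres_le_of_PE (hp : p.Prime) {N K : Subgroup Γ} [Finite N]
    (hK : N ≤ normalizer (K : Set Γ)) (h : ∀ y ∈ PE p N, y ∈ K) : nres N ≤ K := by
  have := Fact.mk hp
  have hn : (K.subgroupOf N).Normal := normal_subgroupOf_of_le_normalizer hK
  have hq : IsPGroup p (N ⧸ K.subgroupOf N) := fun g => by
    obtain ⟨g, rfl⟩ := QuotientGroup.mk_surjective g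
    obtain ⟨k, hk⟩ := exists_pow_mem_Opp hp g.2
    exact ⟨k, by
      rw [← QuotientGroup.mk_pow, QuotientGroup.eq_one_iff]; exact (closure_le K).2 h hk⟩
  have h2 := nres_eq_bot_iff.2 (hq.to_subgroup (map (QuotientGroup.mk' _) ⊤)).isNilpotent
  rw [← map_nres, Subgroup.map_eq_bot_iff, QuotientGroup.ker_mk'] at h2
  intro g hg
  exact h2 (mem_nres_top.2 hg : (⟨g, nres_le N hg⟩ : N) ∈ _)

theorem le_of_PE_PE {q : ℕ} (hp : p.Prime) (hq : q.Prime) (hpq : p ≠ q) {N K : Subgroup Γ}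
    [Finite N] (h1 : ∀ y ∈ PE p N, y ∈ K) (h2 : ∀ y ∈ PE q N, y ∈ K) : N ≤ K := fun y hy => by
  obtain ⟨i, hi⟩ := exists_pow_mem_Opp hp hy
  obtain ⟨j, hj⟩ := exists_pow_mem_Opp hq hy
  exact mem_of_coprime_pow (Nat.Coprime.pow i j ((Nat.coprime_primes hp hq).2 hpq))
    ((closure_le K).2 h1 hi) ((closure_le K).2 h2 hj)

theorem le_of_central_mod {N K Y : Subgroup Γ} [Finite N] (hK : N ≤ normalizer (K : Set Γ))
    (hY : Y ≤ nres N) (hc : ⁅Y, N⁆ ≤ K) {f : ℕ} (hf : ∀ y ∈ Y, y ^ f ∈ K)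
    (he : ∀ g ∈ nres N, ∃ e, e.Coprime f ∧ g ^ e ∈ Y) : Y ≤ K := by
  have hn : (K.subgroupOf N).Normal := normal_subgroupOf_of_le_normalizer hK
  set φ := QuotientGroup.mk' (K.subgroupOf N)
  have hYN : Y ≤ N := hY.trans (nres_le N)
  have h0 : ⁅(Y.subgroupOf N).map φ, map φ ⊤⁆ = ⊥ := by
    rw [← map_commutator, Subgroup.map_eq_bot_iff, QuotientGroup.ker_mk', commutator_le]
    exact fun a ha b _ => hc (commutator_mem_commutator ha b.2)
  have h1 := le_commutator_of_central (N := map φ ⊤) (A := (Y.subgroupOf N).map φ) (f := f)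
    (by rw [← map_nres]; exact map_mono fun g hg => mem_nres_top.2 (hY hg))
    ((commutator_eq_bot_iff_le_centralizer.1 h0).trans (MSS.centralizer_anti (nres_le _)))
    (by
      rintro _ ⟨a, ha, rfl⟩
      rw [← map_pow]
      exact (QuotientGroup.eq_one_iff _).2 (hf a ha))
    (by
      rw [← map_nres]
      rintro _ ⟨g, hg, rfl⟩
      obtain ⟨e, h1, h2⟩ := he g (mem_nres_top.1 hg)
      exact ⟨e, h1, by rw [← map_pow]; exact mem_map_of_mem _ h2⟩)
  rw [h0, le_bot_iff, Subgroup.map_eq_bot_iff, QuotientGroup.ker_mk'] at h1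
  exact fun y hy => h1 (show (⟨y, hYN hy⟩ : N) ∈ _ from hy)

theorem Opp_le_of_central (hp : p.Prime) (hp2 : p ≠ 2) {N K : Subgroup Γ} [Finite N]
    (hK : N ≤ normalizer (K : Set Γ))
    (h : ∀ t ∈ PE p (nres N), (∀ n ∈ N, ⁅n, t⁆ ∈ K) ∧ t ^ 2 ∈ K) : Opp p (nres N) ≤ K := by
  have : Finite (nres N) := finite_of_le (nres_le N)
  let J : Subgroup Γ :=
    { carrier := {y | y ∈ N ⊓ MSS.secC N K ∧ y ^ 2 ∈ K}
      one_mem' := ⟨one_mem _, by simp⟩
      mul_mem' := fun {a b} ha hb => ⟨mul_mem ha.1 hb.1, by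
        rw [show (a * b) ^ 2 = a ^ 2 * ⁅a⁻¹, b⁆ * b ^ 2 by
          simp only [commutatorElement_def, pow_two]; group]
        exact mul_mem (mul_mem ha.2 (hb.1.2.2 _ (inv_mem ha.1.1))) hb.2⟩
      inv_mem' := fun {a} ha => ⟨inv_mem ha.1, by rw [inv_pow]; exact inv_mem ha.2⟩ }
  have hJ : Opp p (nres N) ≤ J := (closure_le J).2 fun t ht =>
    ⟨⟨nres_le N ht.1, hK (nres_le N ht.1), (h t ht).1⟩, (h t ht).2⟩
  refine le_of_central_mod hK Opp_le ?_ (f := 2) (fun y hy => (hJ hy).2) fun g hg => ?_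
  · rw [commutator_comm, commutator_le]
    exact fun n hn y hy => (hJ hy).1.2.2 n hn
  · obtain ⟨k, hk⟩ := exists_pow_mem_Opp hp hg
    exact ⟨_, ((Nat.coprime_primes hp Nat.prime_two).2 hp2).pow_left k, hk⟩

theorem PE.coprime [hp : Fact p.Prime] {H E : Subgroup Γ} [Finite E] (hE : IsPGroup p E) {t : Γ}
    (ht : t ∈ PE p H) : (Nat.card (zpowers t)).Coprime (Nat.card E) := by
  obtain ⟨-, s, k, hs, hsp, h⟩ := ht
  exact coprime_zpowers_of_pow h (coprime_of_isPGroup_of_ne hs hsp hE)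

theorem PE.commutator_eq [Finite Γ] [hp : Fact p.Prime] {H E : Subgroup Γ} (hE : IsPGroup p E)
    {t : Γ} (ht : t ∈ PE p H) (htE : t ∈ normalizer (E : Set Γ)) :
    ⁅⁅E, zpowers t⁆, zpowers t⁆ = ⁅E, zpowers t⁆ :=
  coprime_commutator_commutator _ E (zpowers_le.2 htE) (PE.coprime hE ht)
    (Or.inl (isSolvable_zpowers t))

theorem commutator_le_res [Finite Γ] [hp : Fact p.Prime] {C A : Subgroup Γ} (hA : IsPGroup p A)
    (hAC : A ≤ C) {m : ℕ} {y : Γ} (hy : y ∈ PE p (res m C)) (hyA : y ∈ normalizer (A : Set Γ)) :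
    ⁅A, zpowers y⁆ ≤ res (m + 1) C := by
  rw [res_succ]
  refine le_nres_of_le_commutator ((commutator_mono hAC (zpowers_le.2 hy.1)).trans
    (le_normalizer_iff_commutator_le_right.1 (le_normalizer_res m le_normalizer))) ?_
  conv_lhs => rw [← PE.commutator_eq hA hy hyA]
  exact commutator_mono le_rfl (zpowers_le.2 hy.1)

theorem commutator_zpowers_eq_bot_iff {E : Subgroup Γ} {t : Γ} :
    ⁅E, zpowers t⁆ = ⊥ ↔ t ∈ centralizer (E : Set Γ) := by
  rw [commutator_comm, commutator_eq_bot_iff_le_centralizer, zpowers_le]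

/-- `E` is a minimal `H`-invariant `p`-group not centralized by the `p'`-elements of `N`. -/
structure MinE (p : ℕ) (E N H : Subgroup Γ) : Prop where
  pg : IsPGroup p E
  le : N ≤ H
  norm : H ≤ normalizer (N : Set Γ)
  min : MinAct E (Opp p N) H ⊥

variable {E N H : Subgroup Γ}

theorem exists_minE [Finite Γ] {P : Subgroup Γ} (hP : IsPGroup p P) (h1 : N ≤ H)
    (h2 : H ≤ normalizer (N : Set Γ)) (h3 : H ≤ normalizer (P : Set Γ)) {t : Γ} (ht : t ∈ PE p N)
    (htP : t ∉ centralizer (P : Set Γ)) : ∃ E ≤ P, MinE p E N H := by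
  obtain ⟨E, hE, hm⟩ := exists_minAct (R := Opp p N) (K := ⊥) h3 (by
    rw [le_bot_iff, commutator_comm, commutator_eq_bot_iff_le_centralizer]
    exact fun h => htP (h (mem_Opp ht)))
  exact ⟨E, hE, hP.to_le hE, h1, h2, hm⟩

namespace MinE

variable (h : MinE p E N H)
include h

theorem HE : H ≤ normalizer (E : Set Γ) := h.min.1

theorem YH : Opp p N ≤ H := Opp_le.trans h.le

theorem HY : H ≤ normalizer (Opp p N : Set Γ) := le_normalizer_Opp h.norm

theorem HZ : H ≤ normalizer ((E ⊓ centralizer (Opp p N : Set Γ) : Subgroup Γ) : Set Γ) :=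
  le_normalizer_inf h.HE (le_normalizer_centralizer h.HY)

theorem not_le : ¬ E ≤ centralizer (Opp p N : Set Γ) := fun e =>
  h.min.2.1 (commutator_eq_bot_iff_le_centralizer.2 e).le

theorem ne_bot : E ≠ ⊥ := fun e => h.not_le (e ▸ bot_le)

theorem eq_or_le {J : Subgroup Γ} (h1 : J ≤ E) (h2 : H ≤ normalizer (J : Set Γ)) :
    J = E ∨ J ≤ centralizer (Opp p N : Set Γ) :=
  h1.eq_or_lt.imp_right fun e =>
    commutator_eq_bot_iff_le_centralizer.1 (le_bot_iff.1 (h.min.2.2 J e h2))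

theorem exists_PE : ∃ t ∈ PE p N, t ∉ centralizer (E : Set Γ) := by
  by_contra! hc
  exact h.not_le (MSS.le_centralizer_symm ((closure_le _).2 hc))

variable [Finite Γ] [hp : Fact p.Prime]

theorem mem_centralizer {t : Γ} (ht : t ∈ PE p N)
    (hc : ⁅E, zpowers t⁆ ≤ centralizer (Opp p N : Set Γ)) : t ∈ centralizer (E : Set Γ) := by
  rw [← commutator_zpowers_eq_bot_iff, ← PE.commutator_eq h.pg ht (h.HE (h.le ht.1)),
    commutator_eq_bot_iff_le_centralizer]
  exact hc.trans (MSS.centralizer_anti (zpowers_le.2 (mem_Opp ht)))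

theorem commutator_eq : ⁅E, Opp p N⁆ = E := by
  refine (h.eq_or_le (le_normalizer_iff_commutator_le_left.1 (h.YH.trans h.HE))
    (le_normalizer_commutator h.HE h.HY)).resolve_right fun e => ?_
  obtain ⟨t, ht, htE⟩ := h.exists_PE
  exact htE (h.mem_centralizer ht ((commutator_mono le_rfl (zpowers_le.2 (mem_Opp ht))).trans e))

theorem commutator_le : ⁅E, E⁆ ≤ E ⊓ centralizer (Opp p N : Set Γ) :=
  le_inf (commutator_le_self E) (commutator_eq_bot_iff_le_centralizer.1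
    (le_bot_iff.1 (h.min.commutator_commutator_le h.pg h.HY)))

theorem le_centralizer : E ⊓ centralizer (Opp p N : Set Γ) ≤ centralizer (E : Set Γ) :=
  commutator_eq_bot_iff_le_centralizer.1 (le_bot_iff.1 (commutator_le_of_commutator_eq
    h.commutator_eq (h.min.commutator_commutator_le h.pg h.HY) inf_le_left
    (commutator_eq_bot_iff_le_centralizer.2 inf_le_right).le))

end MinE

/-- The data needed to exclude the exceptional case of the Hall-Higman theorem. -/
def Tow (p r : ℕ) (E Z : Subgroup Γ) (x : Γ) : Prop :=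
  ∃ (s : ℕ) (T Q : Subgroup Γ), s.Prime ∧ s ≠ p ∧ s ≠ r ∧ IsPGroup s T ∧ Q ≤ E ∧ E ≤ Q ⊔ Z ∧
    T ≤ normalizer (Q : Set Γ) ∧ x ∈ normalizer (Q : Set Γ) ∧ x ∈ normalizer (T : Set Γ) ∧
    ⁅Q, T⁆ = Q ∧ ⁅⁅Q, Q⁆, T⁆ = ⊥ ∧ ⁅Q, ⁅T, T⁆⁆ = ⊥

theorem MinE.tow [Finite Γ] [hp : Fact p.Prime] (h : MinE p E N H) (hN : Group.IsSolvable N)
    {r : ℕ} (hr : (Nat.card N).Coprime r) {x : Γ} (hx : x ^ r = 1) (hxH : x ∈ H) :
    Tow p r E (E ⊓ centralizer (Opp p N : Set Γ)) x := by
  set Y := Opp p N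
  set Z := E ⊓ centralizer (Y : Set Γ)
  obtain ⟨A, hAY, hAH, hA1, hA2⟩ := exists_minAct (Q := Y) (R := E) (K := Z) h.HY (by
    rw [commutator_comm, h.commutator_eq]
    exact fun e => h.not_le (e.trans inf_le_right))
  have hAN : A ≤ N := hAY.trans Opp_le
  have hAs : Group.IsSolvable A := isSolvable_of_le hAN hN
  have hAH' : A ≤ H := hAY.trans h.YH
  set A0 := A ⊓ MSS.secC E Z
  have hA0 : ∀ U < A, H ≤ normalizer (U : Set Γ) → U ≤ A0 := fun U hU hHU =>
    le_inf hU.le (MSS.le_secC_iff.2 ⟨(hU.le.trans hAH').trans h.HZ,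
      commutator_comm U E ▸ hA2 U hU hHU⟩)
  have hA0A : ¬ A ≤ A0 := fun e =>
    hA1 (commutator_comm E A ▸ (MSS.le_secC_iff.1 (e.trans inf_le_right)).2)
  have hHA0 : H ≤ normalizer (A0 : Set Γ) :=
    le_normalizer_inf hAH (MSS.le_normalizer_secC h.HE h.HZ)
  have hAA : ⁅A, A⁆ ≤ A0 := by
    refine hA0 _ (lt_of_le_of_ne (commutator_le_self A) fun e => ?_)
      (le_normalizer_commutator hAH hAH)
    have := (nontrivial_iff_ne_bot A).2 fun e => hA0A (e.le.trans bot_le)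
    refine (IsSolvable.commutator_lt_top_of_nontrivial A).ne (map_injective A.subtype_injective ?_)
    rw [map_subtype_commutator, ← MonoidHom.range_eq_map, range_subtype, e]
  have hn : (A0.subgroupOf A).Normal := normal_subgroupOf_of_le_normalizer (hAH'.trans hHA0)
  obtain ⟨s, hs, hd⟩ := Nat.exists_prime_and_dvd (n := Nat.card (A ⧸ A0.subgroupOf A))
    fun e => hA0A (subgroupOf_eq_top.1 (index_eq_one.1 e))
  have := Fact.mk hs
  have hmk : ∀ a (ha : a ∈ A), ((⟨a, ha⟩ : A) : A ⧸ A0.subgroupOf A) = 1 ↔ a ∈ A0 :=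
    fun a ha => QuotientGroup.eq_one_iff _
  let B : Subgroup Γ :=
    { carrier := {a | a ∈ A ∧ ∃ k, a ^ s ^ k ∈ A0}
      one_mem' := ⟨one_mem _, 0, by simp⟩
      mul_mem' := by
        rintro a b ⟨ha, i, hi⟩ ⟨hb, j, hj⟩
        refine ⟨mul_mem ha hb, i + j, (hmk _ (pow_mem (mul_mem ha hb) _)).1 ?_⟩
        have hc : Commute ((⟨a, ha⟩ : A) : A ⧸ A0.subgroupOf A) (⟨b, hb⟩ : A) := by
          rw [← commutatorElement_eq_one_iff_commute]
          exact (hmk _ (commutator_le_self A (commutator_mem_commutator ha hb))).2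
            (hAA (commutator_mem_commutator ha hb))
        have h1 : ((⟨a, ha⟩ : A) : A ⧸ A0.subgroupOf A) ^ s ^ i = 1 := (hmk _ (pow_mem ha _)).2 hi
        have h2 : ((⟨b, hb⟩ : A) : A ⧸ A0.subgroupOf A) ^ s ^ j = 1 := (hmk _ (pow_mem hb _)).2 hj
        change (((⟨a, ha⟩ : A) : A ⧸ A0.subgroupOf A) * (⟨b, hb⟩ : A)) ^ s ^ (i + j) = 1
        rw [hc.mul_pow, pow_add, pow_mul, h1, one_pow, one_mul, mul_comm, pow_mul, h2, one_pow]
      inv_mem' := by
        rintro u ⟨h1, k, hk⟩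
        exact ⟨inv_mem h1, k, by rw [inv_pow]; exact inv_mem hk⟩ }
  have hB : B = A := by
    by_contra hne
    obtain ⟨g, hg⟩ := exists_prime_orderOf_dvd_card' s hd
    obtain ⟨⟨a, ha⟩, rfl⟩ := QuotientGroup.mk_surjective g
    have h1 := hA0 B (lt_of_le_of_ne (fun a ha => ha.1) hne) (le_normalizer_of_conj_mem
      fun g hg b ⟨hb, k, hk⟩ => ⟨(hAH hg b).1 hb, k, by rw [conj_pow]; exact (hHA0 hg _).1 hk⟩)
      (⟨ha, 1, (hmk _ (pow_mem ha _)).1 (by
        rw [← pow_orderOf_eq_one ((⟨a, ha⟩ : A) : A ⧸ A0.subgroupOf A), hg, pow_one]; rfl)⟩ : a ∈ B)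
    rw [(hmk a ha).2 h1, orderOf_one] at hg
    exact hs.one_lt.ne hg
  obtain ⟨S, hS⟩ := coprime_exists_invariant_sylow (zpowers x) A ((zpowers_le.2 hxH).trans hAH)
    (coprime_zpowers hx (coprime_of_le hAN hr)) (Or.inr hAs) s
  have h1 := le_sup_of_sylow S (hAH'.trans hHA0) fun g hg => (hB.ge hg).2
  set T := (S : Subgroup A).map A.subtype
  have hT : IsPGroup s T := S.isPGroup'.map _
  have hTA : T ≤ A := map_subtype_le _
  have hTE : T ≤ normalizer (E : Set Γ) := (hTA.trans hAH').trans h.HE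
  have hZT : Z ≤ centralizer (T : Set Γ) :=
    inf_le_right.trans (MSS.centralizer_anti (hTA.trans hAY))
  set Q := ⁅E, T⁆
  have hQE : Q ≤ E := le_normalizer_iff_commutator_le_left.1 hTE
  have hTQ : T ≤ normalizer (Q : Set Γ) := normalizer_commutator_ge_right E T
  have hEA : ⁅E, A⁆ = E := by
    refine (h.eq_or_le (le_normalizer_iff_commutator_le_left.1 (hAH'.trans h.HE))
      (le_normalizer_commutator h.HE hAH)).resolve_right fun e => hA1 ?_
    rw [commutator_comm]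
    exact le_inf (le_normalizer_iff_commutator_le_left.1 (hAH'.trans h.HE)) e
  have h2 : E ≤ Q ⊔ Z := by
    conv_lhs => rw [← hEA]
    have h3 : ⁅E, A0⁆ ≤ Q ⊔ Z := (MSS.le_secC_iff.1 inf_le_right).2.trans le_sup_right
    exact (commutator_mono le_rfl h1).trans (MSS.commutator_sup_le_of_normalizes
      (MSS.le_normalizer_of_between le_sup_left (sup_le hQE inf_le_left))
      (MSS.le_normalizer_of_between h3 (sup_le hQE inf_le_left)) le_sup_left h3)
  have hQT : ⁅Q, T⁆ ≤ Q := le_normalizer_iff_commutator_le_left.1 hTQ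
  have h3 : Q ≤ ⁅Q, T⁆ := (commutator_mono h2 le_rfl).trans (MSS.sup_commutator_le_of_normalizes
    (normalizer_commutator_ge_left Q T) (MSS.le_normalizer_of_le_centralizer
      (h.le_centralizer.trans (MSS.centralizer_anti (hQT.trans hQE)))) le_rfl
    ((commutator_eq_bot_iff_le_centralizer.2 hZT).le.trans bot_le))
  have hQ0 : Q ≠ ⊥ := fun e => h.not_le (h2.trans (sup_le (e.le.trans bot_le) inf_le_right))
  have hsp : s ≠ p := by
    rintro rfl
    exact (commutator_lt_of_isPGroup (h.pg.to_le hQE) hT hTQ hQ0).not_ge h3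
  refine ⟨s, T, Q, hs, hsp, ?_, hT, hQE, h2, hTQ, le_normalizer_commutator
    ((zpowers_le.2 hxH).trans h.HE) hS (mem_zpowers x), hS (mem_zpowers x), le_antisymm hQT h3,
    commutator_eq_bot_iff_le_centralizer.2
      (((commutator_mono hQE hQE).trans h.commutator_le).trans hZT), ?_⟩
  · rintro rfl
    refine hQ0 ?_
    rw [show Q = ⁅E, T⁆ from rfl,
      eq_bot_of_isPGroup_of_coprime hT (coprime_of_le (hTA.trans hAN) hr), commutator_bot_right]
  · have hT' : ⁅T, T⁆ ≤ T := commutator_le_self T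
    refine commutator_eq_bot_iff_le_centralizer.2 (hQE.trans
      (coprime_le_centralizer_of_trivial_on_factors ⁅T, T⁆ E Z
        (((hT'.trans hTA).trans hAH').trans h.HZ) (coprime_card_of_isPGroup (h.pg.to_le inf_le_left)
          (coprime_of_isPGroup_of_ne hp.out hsp.symm (hT.to_le hT')))
        (hZT.trans (MSS.centralizer_anti hT')) ?_))
    exact (MSS.le_secC_iff.1 (((commutator_mono hTA hTA).trans hAA).trans inf_le_right)).2

end CL.Tur
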