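import Mathlib
import Cfsg.Agent.FGS.Tur2

/-!
Linear characters of a subgroup, their eigenspaces, and the traces of an element of prime order.
-/

set_option autoImplicit false
open Subgroup Cfsg
open scoped commutatorElement

namespace CL.Tur

open CL.FH CL.HH

variable {F Γ V : Type*} [Field F] [Group Γ] [AddCommGroup V] [Module F V]

/-- `l` is multiplicative on `Z`. -/
def IsCh (Z : Subgroup Γ) (l : Γ → F) : Prop :=
  l 1 = 1 ∧ ∀ a ∈ Z, ∀ b ∈ Z, l (a * b) = l a * l b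

/-- The eigenspace of a linear character. -/
def Eig (ρ : Representation F Γ V) (Z : Subgroup Γ) (l : Γ → F) : Submodule F V where
  carrier := {v | ∀ z ∈ Z, ρ z v = l z • v}
  zero_mem' := fun z _ => by simp
  add_mem' := fun ha hb z hz => by rw [map_add, ha z hz, hb z hz, smul_add]
  smul_mem' := fun c v hv z hz => by rw [map_smul, hv z hz, smul_comm]

/-- A multiple of the projection onto the eigenspace. -/
noncomputable def proj (ρ : Representation F Γ V) (Z : Subgroup Γ) [Fintype Z] (l : Γ → F) :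
    Module.End F V := ∑ z : Z, l (z : Γ)⁻¹ • ρ z

/-- The stabilizer of a character. -/
def fixes (Z : Subgroup Γ) (l : Γ → F) : Subgroup Γ where
  carrier := {g | g ∈ normalizer (Z : Set Γ) ∧ ∀ z ∈ Z, l (g⁻¹ * z * g) = l z}
  one_mem' := ⟨one_mem _, fun z _ => by simp⟩
  mul_mem' := fun {a b} ha hb => ⟨mul_mem ha.1 hb.1, fun z hz => by
    rw [show (a * b)⁻¹ * z * (a * b) = b⁻¹ * (a⁻¹ * z * a) * b by group,
      hb.2 _ ((mem_normalizer_iff''.1 ha.1 z).1 hz), ha.2 z hz]⟩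
  inv_mem' := fun {a} ha => ⟨inv_mem ha.1, fun z hz => by
    rw [← ha.2 _ ((mem_normalizer_iff''.1 (inv_mem ha.1) z).1 hz)]; congr 1; group⟩

/-- The trace of `x`. -/
noncomputable def tau (ρ : Representation F Γ V) (x : Γ) (r : ℕ) : Module.End F V :=
  ∑ i ∈ Finset.range r, ρ (x ^ i)

/-- The span of the traces of the vectors moved by `x`. -/
def Wsp (ρ : Representation F Γ V) (x : Γ) (r : ℕ) (S : Set V) : Submodule F V :=
  Submodule.span F {w | ∃ v ∈ S, ρ x v ≠ v ∧ tau ρ x r v = w}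

variable {ρ : Representation F Γ V} {Z : Subgroup Γ} {l : Γ → F} {x : Γ} {r : ℕ} {S : Set V}

theorem IsCh.inv_mul (h : IsCh Z l) {z : Γ} (hz : z ∈ Z) : l z⁻¹ * l z = 1 := by
  rw [← h.2 _ (inv_mem hz) z hz, inv_mul_cancel, h.1]

theorem IsCh.ne_zero (h : IsCh Z l) {z : Γ} (hz : z ∈ Z) : l z ≠ 0 :=
  right_ne_zero_of_mul_eq_one (h.inv_mul hz)

theorem IsCh.pow (h : IsCh Z l) {z : Γ} (hz : z ∈ Z) (n : ℕ) : l (z ^ n) = l z ^ n := by
  induction n with
  | zero => simp [h.1]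
  | succ n ih => rw [pow_succ, h.2 _ (pow_mem hz n) z hz, ih, pow_succ]

theorem IsCh.le_scal (h : IsCh Z l) : Z ≤ scal ρ (Eig ρ Z l) :=
  fun z hz => ⟨l z, h.ne_zero hz, fun _ hv => hv z hz⟩

theorem exists_isCh {U : Submodule F V} (hU : U ≠ ⊥) (h : Z ≤ scal ρ U) :
    ∃ l, IsCh Z l ∧ U ≤ Eig ρ Z l := by
  have h1 : ∀ z, ∃ c : F, z ∈ Z → ∀ v ∈ U, ρ z v = c • v := fun z => by
    by_cases hz : z ∈ Z
    · obtain ⟨c, -, hc⟩ := h hz
      exact ⟨c, fun _ => hc⟩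
    · exact ⟨1, fun e => absurd e hz⟩
  choose l hl using h1
  obtain ⟨u, hu, hu0⟩ := (Submodule.ne_bot_iff _).1 hU
  refine ⟨l, ⟨smul_left_injective F hu0 ?_, fun a ha b hb => smul_left_injective F hu0 ?_⟩,
    fun v hv z hz => hl z hz v hv⟩
  · simp only [← hl 1 (one_mem _) u hu, map_one, Module.End.one_apply, one_smul]
  · simp only [← hl _ (mul_mem ha hb) u hu]
    rw [rho_mul, hl b hb u hu, map_smul, hl a ha u hu, smul_smul, mul_comm]

theorem fixes_le_stab : fixes Z l ≤ stab ρ (Eig ρ Z l) := Inv.le_stab fun g hg v hv z hz => by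
  rw [← rho_mul, show z * g = g * (g⁻¹ * z * g) by group, rho_mul,
    hv _ ((mem_normalizer_iff''.1 hg.1 z).1 hz), hg.2 z hz, map_smul]

theorem centralizer_le_fixes : centralizer (Z : Set Γ) ≤ fixes Z l := fun g hg =>
  ⟨centralizer_le_normalizer _ hg, fun z hz => by rw [mul_assoc, hg z hz, inv_mul_cancel_left]⟩

theorem tau_apply (v : V) : tau ρ x r v = ∑ i ∈ Finset.range r, ρ (x ^ i) v := by
  rw [tau, LinearMap.sum_apply]

theorem rho_pow_of_fixed {v : V} (h : ρ x v = v) (i : ℕ) : ρ (x ^ i) v = v :=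
  MulAction.mem_stabilizer_iff.1 (pow_mem (show ρ.toHomUnits x ∈
    MulAction.stabilizer (Module.End F V)ˣ v from h) i) |>.symm.trans (by rw [← map_pow]; rfl)
    |>.symm

theorem tau_of_fixed {v : V} (h : ρ x v = v) : tau ρ x r v = (r : F) • v := by
  rw [tau_apply, Finset.sum_congr rfl fun i _ => rho_pow_of_fixed h i, Finset.sum_const,
    Finset.card_range, Nat.cast_smul_eq_nsmul]

theorem rho_tau (hx : x ^ r = 1) (v : V) : ρ x (tau ρ x r v) = tau ρ x r v := by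
  have h := Finset.sum_range_succ' (fun i => ρ (x ^ i) v) r
  rw [Finset.sum_range_succ, hx, pow_zero, add_left_inj] at h
  rw [tau_apply, map_sum, h]
  exact Finset.sum_congr rfl fun i _ => by rw [pow_succ', rho_mul]

theorem rho_tau_comm {c : Γ} (h : Commute c x) (v : V) :
    ρ c (tau ρ x r v) = tau ρ x r (ρ c v) := by
  rw [tau_apply, tau_apply, map_sum]
  exact Finset.sum_congr rfl fun i _ => by rw [← rho_mul, (h.pow_right i).eq, rho_mul]

theorem tau_mem {U : Submodule F V} (h : x ∈ stab ρ U) {v : V} (hv : v ∈ U) : tau ρ x r v ∈ U := by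
  rw [tau_apply]
  exact U.sum_mem fun i _ => apply_mem_of_mem_stab (pow_mem h i) hv

theorem tau_mem_Wsp {v : V} (hv : v ∈ S) (h : ρ x v ≠ v) : tau ρ x r v ∈ Wsp ρ x r S :=
  Submodule.subset_span ⟨v, hv, h, rfl⟩

theorem inv_Wsp {C : Subgroup Γ} (h1 : ∀ c ∈ C, Commute c x) (h2 : ∀ c ∈ C, ∀ v ∈ S, ρ c v ∈ S) :
    Inv ρ C (Wsp ρ x r S) := fun c hc => by
  refine (Submodule.span_le (p := (Wsp ρ x r S).comap (ρ c))).2 ?_
  rintro _ ⟨v, hv, h, rfl⟩
  change ρ c _ ∈ Wsp ρ x r S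
  rw [rho_tau_comm (h1 c hc)]
  refine tau_mem_Wsp (h2 c hc v hv) fun e => h (rho_injective ρ c ?_)
  rw [← rho_mul, (h1 c hc).eq, rho_mul, e]

theorem Wsp_fixed (hx : x ^ r = 1) : x ∈ triv ρ (Wsp ρ x r S) :=
  (Submodule.span_le (p := LinearMap.eqLocus (ρ x) LinearMap.id)).2 (by
    rintro _ ⟨v, -, -, rfl⟩; exact rho_tau hx v)

variable [Fintype Z]

theorem proj_apply (v : V) : proj ρ Z l v = ∑ z : Z, l (z : Γ)⁻¹ • ρ z v := by
  rw [proj, LinearMap.sum_apply]; rfl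

theorem IsCh.proj_mem (h : IsCh Z l) (v : V) : proj ρ Z l v ∈ Eig ρ Z l := fun y hy => by
  rw [proj_apply, map_sum, Finset.smul_sum]
  refine Fintype.sum_equiv (Equiv.mulLeft (⟨y, hy⟩ : Z)) _ _ fun z => ?_
  change _ = l y • l (y * z)⁻¹ • ρ (y * z) v
  rw [map_smul, rho_mul, smul_smul, mul_inv_rev, h.2 _ (inv_mem z.2) _ (inv_mem hy), mul_comm (l y),
    mul_assoc, h.inv_mul hy, mul_one]

theorem IsCh.proj_rho (h : IsCh Z l) {y : Γ} (hy : y ∈ Z) (v : V) :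
    proj ρ Z l (ρ y v) = l y • proj ρ Z l v := by
  rw [proj_apply, proj_apply, Finset.smul_sum]
  refine Fintype.sum_equiv (Equiv.mulRight (⟨y, hy⟩ : Z)) _ _ fun z => ?_
  change _ = l y • l (z * y)⁻¹ • ρ (z * y) v
  rw [rho_mul, smul_smul, mul_inv_rev, h.2 _ (inv_mem hy) _ (inv_mem z.2), ← mul_assoc,
    mul_comm (l y), h.inv_mul hy, one_mul]

theorem IsCh.proj_of_mem (h : IsCh Z l) {v : V} (hv : v ∈ Eig ρ Z l) :
    proj ρ Z l v = (Nat.card Z : F) • v := by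
  rw [proj_apply, Finset.sum_congr rfl fun z _ => by
    rw [hv z z.2, smul_smul, h.inv_mul z.2, one_smul], Finset.sum_const, Finset.card_univ,
    Nat.card_eq_fintype_card, Nat.cast_smul_eq_nsmul]

theorem rho_proj {g : Γ} (hg : g ∈ fixes Z l) (v : V) :
    ρ g (proj ρ Z l v) = proj ρ Z l (ρ g v) := by
  rw [proj_apply, proj_apply, map_sum]
  refine Fintype.sum_equiv (Z.normalizerMonoidHom ⟨g, hg.1⟩).toEquiv _ _ fun z => ?_
  change _ = l (g * z * g⁻¹)⁻¹ • ρ (g * z * g⁻¹) (ρ g v)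
  rw [map_smul, ← rho_mul, ← rho_mul, inv_mul_cancel_right,
    ← hg.2 _ (inv_mem ((mem_normalizer_iff.1 hg.1 _).1 z.2))]
  congr 2
  group

theorem proj_tau (hx : x ∈ fixes Z l) (v : V) :
    proj ρ Z l (tau ρ x r v) = tau ρ x r (proj ρ Z l v) := by
  rw [tau_apply, tau_apply, map_sum]
  exact Finset.sum_congr rfl fun i _ => (rho_proj (pow_mem hx i) v).symm

theorem IsCh.eq_of_proj_ne (h : IsCh Z l) {v : V} (hv : proj ρ Z l v ≠ 0) {a b : Γ} (ha : a ∈ Z)
    (hb : b ∈ Z) (e : ρ a v = ρ b v) : l a = l b :=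
  smul_left_injective F hv (by simp only [← h.proj_rho ha, ← h.proj_rho hb, e])

theorem IsCh.mem_fixes (h : IsCh Z l) {u : V} (hu : u ∈ Eig ρ Z l) {g : Γ}
    (hg : g ∈ normalizer (Z : Set Γ)) (h0 : proj ρ Z l (ρ g u) ≠ 0) : g ∈ fixes Z l :=
  ⟨hg, fun z hz => smul_left_injective F h0 (by
    simp only
    rw [← h.proj_rho hz, ← map_smul, ← map_smul, ← hu _ ((mem_normalizer_iff''.1 hg z).1 hz),
      ← rho_mul, ← rho_mul]
    congr 3
    group)⟩

theorem IsCh.le_span (h : IsCh Z l) (hZ : (Nat.card Z : F) ≠ 0) {M : Submodule F V}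
    (hM : ∀ v ∈ S, proj ρ Z l v ∈ M) {w : V} (hw : w ∈ Eig ρ Z l) (hS : w ∈ Submodule.span F S) :
    w ∈ M := by
  have := (Submodule.span_le (p := M.comap (proj ρ Z l))).2 hM hS
  rwa [Submodule.mem_comap, h.proj_of_mem hw, M.smul_mem_iff hZ] at this

theorem IsCh.exists_fixed (h : IsCh Z l) (hx : x ^ r = 1) (hr : (Nat.card Z).Coprime r)
    (hxZ : x ∈ normalizer (Z : Set Γ)) : ∃ m : Γ → F, IsCh Z m ∧ x ∈ fixes Z m ∧
      ∀ z ∈ Z, (∀ i : ℕ, l ((x ^ i)⁻¹ * z * x ^ i) = l z) → m z = l z := by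
  set k := r ^ ((Nat.card Z).totient - 1)
  have hc : ∀ i : ℕ, ∀ z ∈ Z, (x ^ i)⁻¹ * z * x ^ i ∈ Z := fun i z hz =>
    (mem_normalizer_iff''.1 (pow_mem hxZ i) z).1 hz
  refine ⟨fun z => (∏ i ∈ Finset.range r, l ((x ^ i)⁻¹ * z * x ^ i)) ^ k, ⟨by simp [h.1],
    fun a ha b hb => ?_⟩, ⟨hxZ, fun z hz => ?_⟩, fun z hz e => ?_⟩
  · rw [← mul_pow, ← Finset.prod_mul_distrib]
    refine congrArg (· ^ k) (Finset.prod_congr rfl fun i _ => ?_)
    rw [← h.2 _ (hc i a ha) _ (hc i b hb)]; congr 1; group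
  · have h1 := Finset.prod_range_succ' (fun i => l ((x ^ i)⁻¹ * z * x ^ i)) r
    rw [Finset.prod_range_succ, hx, pow_zero, mul_left_inj' (by simpa using h.ne_zero hz)] at h1
    simp only [h1]
    refine congrArg (· ^ k) (Finset.prod_congr rfl fun i _ => ?_)
    congr 1; group
  · simp only [e, Finset.prod_const, Finset.card_range]
    have h1 : l z ^ Nat.card Z = 1 := by
      rw [← h.pow hz, show z ^ Nat.card Z = 1 from
        congrArg Subtype.val (pow_card_eq_one' (x := (⟨z, hz⟩ : Z))), h.1]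
    rw [← pow_mul, ← pow_succ', Nat.sub_add_cancel (Nat.totient_pos.2 Nat.card_pos)]
    conv_rhs => rw [← pow_one (l z)]
    exact pow_eq_pow_of_modEq (Nat.ModEq.pow_totient hr.symm) h1

theorem IsCh.exists_Wsp (h : IsCh Z l) (hx : x ^ r = 1) (hr : (Nat.card Z).Coprime r)
    (hxZ : x ∈ normalizer (Z : Set Γ)) (hS : ∀ z ∈ Z, ∀ v ∈ S, ρ z v ∈ S) {v : V} (hv : v ∈ S)
    (h0 : proj ρ Z l v ≠ 0) : ∃ w', (∀ z ∈ Z, ρ (x⁻¹ * z * x) w' = ρ z w') ∧
      tau ρ x r (proj ρ Z l v) + w' ∈ Wsp ρ x r S := by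
  by_cases hf : ∃ z ∈ Z, ρ x (ρ z v) = ρ z v
  swap
  · push Not at hf
    refine ⟨0, by simp, ?_⟩
    rw [add_zero, proj_apply, map_sum]
    exact Submodule.sum_mem _ fun z _ => by
      rw [map_smul]; exact Submodule.smul_mem _ _ (tau_mem_Wsp (hS z z.2 v hv) (hf z z.2))
  obtain ⟨z₀, hz₀, hf⟩ := hf
  obtain ⟨m, hm, hxm, hml⟩ := h.exists_fixed hx hr hxZ
  have h1 : proj ρ Z l (ρ z₀ v) ≠ 0 := by
    rw [h.proj_rho hz₀]; exact smul_ne_zero (h.ne_zero hz₀) h0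
  have h2 := tau_mem (r := r) (fixes_le_stab (ρ := ρ) hxm) (hm.proj_mem (ρ z₀ v))
  refine ⟨-(l z₀⁻¹ • tau ρ x r (proj ρ Z m (ρ z₀ v))), fun z hz => ?_, ?_⟩
  · rw [map_neg, map_neg, map_smul, map_smul, h2 z hz, h2 _ ((mem_normalizer_iff''.1 hxZ z).1 hz),
      hxm.2 z hz]
  · rw [← one_smul F (proj ρ Z l v), ← h.inv_mul hz₀, mul_smul, ← h.proj_rho hz₀, map_smul,
      ← sub_eq_add_neg, ← smul_sub, ← map_sub, proj_apply, proj_apply, ← Finset.sum_sub_distrib,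
      map_sum]
    refine Submodule.smul_mem _ _ (Submodule.sum_mem _ fun z _ => ?_)
    rw [← sub_smul, map_smul]
    by_cases e : ρ x (ρ z (ρ z₀ v)) = ρ z (ρ z₀ v)
    · have h3 := hml z z.2 fun i => h.eq_of_proj_ne h1
        ((mem_normalizer_iff''.1 (pow_mem hxZ i) _).1 z.2) z.2 (by
          rw [rho_mul, rho_mul, rho_pow_of_fixed hf, ← rho_pow_of_fixed e i, rho_inv_rho,
            rho_pow_of_fixed e i])
      have h4 : l (z : Γ)⁻¹ = m (z : Γ)⁻¹ :=
        mul_right_cancel₀ (h.ne_zero z.2) (by rw [h.inv_mul z.2, ← h3, hm.inv_mul z.2])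
      rw [h4, sub_self, zero_smul]
      exact Submodule.zero_mem _
    · exact Submodule.smul_mem _ _ (tau_mem_Wsp (hS z z.2 _ (hS z₀ hz₀ v hv)) e)

/-- A character moved by `x`. -/
theorem IsCh.moved (h : IsCh Z l) (hZ : (Nat.card Z : F) ≠ 0) (hr : r.Prime) (hx : x ^ r = 1)
    (hrZ : (Nat.card Z).Coprime r) (hxZ : x ∈ normalizer (Z : Set Γ)) (hxl : x ∉ fixes Z l)
    (hS : ∀ z ∈ Z, ∀ v ∈ S, ρ z v ∈ S) {v : V} (hv : v ∈ S) :
    (Wsp ρ x r S = ⊥ → proj ρ Z l v = 0) ∧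
      ∀ t ∈ triv ρ (Wsp ρ x r S), t ∈ normalizer (Z : Set Γ) → Commute t x →
        ∀ n, n.Coprime r → t ^ n = 1 → ρ t (proj ρ Z l v) = proj ρ Z l v := by
  by_cases h0 : proj ρ Z l v = 0
  · simp [h0]
  obtain ⟨w', hw', hw⟩ := h.exists_Wsp hx hrZ hxZ hS hv h0
  set u := proj ρ Z l v
  have hu : u ∈ Eig ρ Z l := h.proj_mem v
  have h1 : ∀ t ∈ normalizer (Z : Set Γ), Commute t x → proj ρ Z l (ρ t w') = 0 := by
    intro t ht hc
    by_contra hne
    refine hxl ⟨hxZ, fun z hz => h.eq_of_proj_ne hne ((mem_normalizer_iff''.1 hxZ z).1 hz) hz ?_⟩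
    have := congrArg (ρ t) (hw' _ ((mem_normalizer_iff''.1 ht z).1 hz))
    rw [← rho_mul, ← rho_mul] at this
    rw [← rho_mul, ← rho_mul]
    convert this using 3
    · rw [mul_assoc _ x, ← hc.eq, ← mul_assoc t, ← mul_assoc t, hc.inv_right.eq]; group
    · group
  have h2 : ∀ t ∈ normalizer (Z : Set Γ), Commute t x → ∀ n, n.Coprime r → t ^ n = 1 →
      proj ρ Z l (ρ t (tau ρ x r u + w')) = proj ρ Z l (ρ t u) := by
    intro t ht hc n hn htn
    rw [map_add, map_add, h1 t ht hc, add_zero, tau_apply, map_sum, map_sum,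
      Finset.sum_eq_single 0, pow_zero, map_one, Module.End.one_apply]
    · intro i hi hi0
      by_contra hne
      rw [← rho_mul] at hne
      have h3 := pow_mem (h.mem_fixes hu (mul_mem ht (pow_mem hxZ i)) hne) n
      rw [(hc.pow_right i).mul_pow, htn, one_mul, ← pow_mul] at h3
      exact hi0 (Nat.eq_zero_of_dvd_of_lt (hn.symm.dvd_of_dvd_mul_right
        (dvd_of_pow_mem hr hxl (hx ▸ one_mem _) h3)) (Finset.mem_range.1 hi))
    · exact fun e => absurd (Finset.mem_range.2 hr.pos) e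
  have h3 := h2 1 (one_mem _) (Commute.one_left x) 1 (Nat.coprime_one_left r) (one_pow 1)
  simp only [map_one, Module.End.one_apply] at h3
  have h4 : proj ρ Z l u ≠ 0 := by rw [h.proj_of_mem hu]; exact smul_ne_zero hZ h0
  refine ⟨fun e => absurd ?_ h4, fun t ht htZ hc n hn htn => ?_⟩
  · rw [e, Submodule.mem_bot] at hw
    rw [← h3, hw, map_zero]
  · have h5 := h2 t htZ hc n hn htn
    rw [ht _ hw, h3] at h5
    rw [← rho_proj (h.mem_fixes hu htZ (h5 ▸ h4)), h.proj_of_mem hu, map_smul] at h5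
    exact (smul_right_injective V hZ h5).symm

end CL.Tur
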