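import Mathlib
import Cfsg.Agent.FGS.Tur3

/-!
A `p`-group of class at most two acting on the eigenspace of an invariant central character.
-/

set_option autoImplicit false
open Subgroup Cfsg
open scoped commutatorElement

namespace CL.Tur

open CL.FH CL.HH

variable {F Γ V : Type*} [Field F] [Group Γ] [AddCommGroup V] [Module F V]

/-- The elements of `E` whose action on `M` commutes with that of `E`. -/
def rad (ρ : Representation F Γ V) (E : Subgroup Γ) (M : Submodule F V) : Subgroup Γ :=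
  E ⊓ MSS.secC E (⁅E, E⁆ ⊓ triv ρ M)

theorem commutator_triv_le {ρ : Representation F Γ V} {U : Submodule F V} {A B : Subgroup Γ}
    (hA : A ≤ stab ρ U) (hB : B ≤ triv ρ U) : ⁅A, B⁆ ≤ triv ρ U := by
  rw [commutator_comm]; exact commutator_le_triv (hB.trans triv_le_scal) hA

theorem natCast_card_ne_zero {p : ℕ} [Fact p.Prime] {E : Subgroup Γ} [Finite E]
    (hE : IsPGroup p E) (hp : (p : F) ≠ 0) : (Nat.card E : F) ≠ 0 := by
  obtain ⟨n, hn⟩ := IsPGroup.iff_card.1 hE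
  rw [hn, Nat.cast_pow]; exact pow_ne_zero n hp

/-- The setting: `l` is an `x`-invariant character of the central subgroup `Z ≥ E'` of `E`. -/
structure Ctx (F : Type*) [Field F] (p r : ℕ) (E Z : Subgroup Γ) (x : Γ) (l : Γ → F) : Prop where
  hp : p.Prime
  hr : r.Prime
  pr : r ≠ p
  pF : (p : F) ≠ 0
  rF : (r : F) ≠ 0
  pg : IsPGroup p E
  ZE : Z ≤ E
  comm : ⁅E, E⁆ ≤ Z
  cent : Z ≤ centralizer (E : Set Γ)
  xr : x ^ r = 1
  xE : x ∈ normalizer (E : Set Γ)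
  xl : x ∈ fixes Z l
  ch : IsCh Z l

variable {ρ : Representation F Γ V} {p r : ℕ} {E Z : Subgroup Γ} {x : Γ} {l : Γ → F}

theorem mem_rad {M : Submodule F V} (hc : ⁅E, E⁆ ≤ centralizer (E : Set Γ)) {e : Γ} :
    e ∈ rad ρ E M ↔ e ∈ E ∧ ∀ b ∈ E, ⁅b, e⁆ ∈ triv ρ M :=
  ⟨fun h => ⟨h.1, fun b hb => (h.2.2 b hb).2⟩, fun h => ⟨h.1, centralizer_le_normalizer _
    (MSS.le_centralizer_symm (inf_le_left.trans hc) h.1),
    fun b hb => ⟨commutator_mem_commutator hb h.1, h.2 b hb⟩⟩⟩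

theorem le_normalizer_rad {M : Submodule F V} {A : Subgroup Γ} (h1 : A ≤ normalizer (E : Set Γ))
    (h2 : A ≤ normalizer ((⁅E, E⁆ ⊓ triv ρ M : Subgroup Γ) : Set Γ)) :
    A ≤ normalizer (rad ρ E M : Set Γ) :=
  le_normalizer_inf h1 (MSS.le_normalizer_secC h1 h2)

theorem le_normalizer_rad' {M : Submodule F V} {A : Subgroup Γ} (h1 : A ≤ normalizer (E : Set Γ))
    (h2 : A ≤ stab ρ M) : A ≤ normalizer (rad ρ E M : Set Γ) :=
  le_normalizer_rad h1 (le_normalizer_inf (le_normalizer_commutator h1 h1)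
    (h2.trans stab_le_normalizer_triv))

namespace Ctx

variable (h : Ctx F p r E Z x l)
include h

theorem E_fixes : E ≤ fixes Z l := (MSS.le_centralizer_symm h.cent).trans centralizer_le_fixes

theorem E_stab : E ≤ stab ρ (Eig ρ Z l) := h.E_fixes.trans fixes_le_stab

theorem x_stab : x ∈ stab ρ (Eig ρ Z l) := fixes_le_stab h.xl

theorem mem_triv {M : Submodule F V} (hM : M ≤ Eig ρ Z l) (h0 : M ≠ ⊥) {z : Γ} (hz : z ∈ Z)
    (ht : z ∈ triv ρ M) : z ∈ triv ρ (Eig ρ Z l) :=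
  mem_triv_of_mem_scal (h.ch.le_scal hz) hM h0 ht

theorem mem_rad {M : Submodule F V} {e : Γ} :
    e ∈ rad ρ E M ↔ e ∈ E ∧ ∀ b ∈ E, ⁅b, e⁆ ∈ triv ρ M := Tur.mem_rad (h.comm.trans h.cent)

theorem Z_le_rad {M : Submodule F V} : Z ≤ rad ρ E M := fun z hz => h.mem_rad.2 ⟨h.ZE hz,
  fun b hb => by rw [commutatorElement_eq_one_iff_mul_comm.2 (h.cent hz b hb)]; exact one_mem _⟩

theorem mem_rad_of_scal {M : Submodule F V} (hM : M ≤ Eig ρ Z l) (h0 : M ≠ ⊥) (hE : Inv ρ E M)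
    {e : Γ} (he : e ∈ E) (hs : e ∈ scal ρ M) : e ∈ rad ρ E (Eig ρ Z l) :=
  h.mem_rad.2 ⟨he, fun b hb => h.mem_triv hM h0 (h.comm (commutator_mem_commutator hb he)) (by
    rw [← commutatorElement_inv]
    exact inv_mem (commutator_scal_stab_le (commutator_mem_commutator hs (hE.le_stab hb))))⟩

theorem rad_eq [IsAlgClosed F] [FiniteDimensional F V] {U : Submodule F V} (hU : Irr ρ E U)
    (hl : U ≤ Eig ρ Z l) : rad ρ E (Eig ρ Z l) = E ⊓ scal ρ U :=
  le_antisymm (fun e he => ⟨he.1, hU.mem_scal (hU.2.1.le_stab he.1) fun b hb => by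
    rw [← commutatorElement_inv]
    exact inv_mem (triv_anti hl ((h.mem_rad.1 he).2 b hb))⟩)
    fun _ he => h.mem_rad_of_scal hl hU.1 hU.2.1 he.1 he.2

theorem normalizer_of_between {B : Subgroup Γ} (h1 : Z ≤ B) (h2 : B ≤ E) :
    E ≤ normalizer (B : Set Γ) := MSS.le_normalizer_of_between (h.comm.trans h1) h2

theorem comm_cent {y : Γ} (hy : y ∈ normalizer (E : Set Γ)) (hyl : y ∈ fixes Z l) {C : Subgroup Γ}
    (h1 : C ≤ E) (h2 : C ≤ centralizer (zpowers y : Set Γ)) :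
    ⁅⁅E, zpowers y⁆, C⁆ ≤ triv ρ (Eig ρ Z l) := by
  have hY : zpowers y ≤ stab ρ (Eig ρ Z l) := zpowers_le.2 (fixes_le_stab hyl)
  refine MSS.three_subgroups_of_normalizes (h.E_stab.trans stab_le_normalizer_triv)
    (hY.trans stab_le_normalizer_triv) ((h1.trans h.E_stab).trans stab_le_normalizer_triv) ?_
    (commutator_le_triv (((commutator_mono h1 le_rfl).trans h.comm).trans h.ch.le_scal) hY)
  rw [commutator_comm _ C, commutator_eq_bot_iff_le_centralizer.2 h2, commutator_bot_left]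
  exact bot_le

variable [Finite Γ]

theorem coprime {A : Subgroup Γ} (hA : A ≤ E) : (Nat.card A).Coprime r :=
  haveI := Fact.mk h.hp
  coprime_of_isPGroup_of_ne h.hr h.pr (h.pg.to_le hA)

theorem card_ne {A : Subgroup Γ} (hA : A ≤ E) : (Nat.card A : F) ≠ 0 :=
  haveI := Fact.mk h.hp
  natCast_card_ne_zero (h.pg.to_le hA) h.pF

theorem sup_eq : ⁅E, zpowers x⁆ ⊔ E ⊓ centralizer (zpowers x : Set Γ) = E :=
  haveI := Fact.mk h.hp
  coprime_commutator_sup_centralizer _ E (zpowers_le.2 h.xE)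
    (coprime_zpowers h.xr (h.coprime le_rfl)) (Or.inl (isSolvable_zpowers x))

theorem exists_commute {B : Subgroup Γ} (h1 : Z ≤ B) (h2 : B ≤ E)
    (hx : x ∈ normalizer (B : Set Γ)) {b : Γ} (hb : b ∈ E) {i : ℕ} (hi : ¬ r ∣ i)
    (hc : ⁅b, x ^ i⁆ ∈ B) : ∃ s ∈ B, Commute (b * s) x := by
  have h3 : x ∈ cmod B b := by
    by_contra hne
    exact hi (dvd_of_pow_mem h.hr hne (h.xr ▸ one_mem _) (mem_cmod_symm (pow_mem hx i) hc))
  exact mem_of_commutatorElement_mem h.hr (m := 1) (by rw [pow_one, h.xr]) hx (h.coprime h2)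
    (h.normalizer_of_between h1 h2 hb) (commutatorElement_mem_of_mem_cmod h3)

section vec
variable {u : V} (hu : u ∈ Eig ρ Z l) (hxu : ρ x u = u)
include hu hxu

omit hxu [Finite Γ] in
theorem Z_le_scal : Z ≤ E ⊓ scal ρ (F ∙ u) :=
  le_inf h.ZE (h.ch.le_scal.trans (scal_anti ((Submodule.span_singleton_le_iff_mem _ _).2 hu)))

omit h hu [Finite Γ] in
theorem _root_.CL.Tur.mem_triv_span : x ∈ triv ρ (F ∙ u) := fun v hv => by
  obtain ⟨c, rfl⟩ := Submodule.mem_span_singleton.1 hv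
  rw [map_smul, hxu]

omit hu [Finite Γ] in
theorem x_norm_scal : x ∈ normalizer ((E ⊓ scal ρ (F ∙ u) : Subgroup Γ) : Set Γ) :=
  le_normalizer_inf (zpowers_le.2 h.xE) (zpowers_le.2 (stab_le_normalizer_scal
    (triv_le_stab (mem_triv_span hxu)))) (mem_zpowers x)

theorem fixed_iff {b : Γ} (hb : b ∈ E) :
    ρ x (ρ b u) = ρ b u ↔ b ∈ cmod (E ⊓ scal ρ (F ∙ u)) x := by
  have hn := h.normalizer_of_between (h.Z_le_scal hu) inf_le_left
  constructor
  · intro e
    refine inv_mem_iff.1 ⟨hn (inv_mem hb), le_normalizer_iff_commutator_le_left.1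
      (zpowers_le.2 h.xE) (commutator_mem_commutator (inv_mem hb) (mem_zpowers x)),
      triv_le_scal (mem_triv_span ?_)⟩
    rw [commutatorElement_def, inv_inv, rho_mul, rho_mul, rho_mul,
      inv_mem (mem_triv_span hxu) u (Submodule.mem_span_singleton_self u), e, rho_inv_rho]
  · intro e
    obtain ⟨s, hs, hc⟩ := h.exists_commute (h.Z_le_scal hu) inf_le_left (h.x_norm_scal hxu) hb
      (i := 1) (fun e => h.hr.one_lt.ne' (Nat.dvd_one.1 e)) (by rw [pow_one]; exact e.2)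
    obtain ⟨c, -, hc'⟩ := (scal ρ (F ∙ u)).inv_mem hs.2
    rw [← mul_inv_cancel_right b s, rho_mul, hc' u (Submodule.mem_span_singleton_self u), map_smul,
      map_smul, ← rho_mul, ← hc.eq, rho_mul, hxu]

theorem map_tau {Φ : Module.End F V} (hΦ : ∀ e ∈ E, ρ x (ρ e u) ≠ ρ e u → Φ (ρ e u) = 0) {b : Γ}
    (hb : b ∈ E) (hne : ρ x (ρ b u) ≠ ρ b u) : Φ (ρ b⁻¹ (tau ρ x r (ρ b u))) = Φ u := by
  set B := E ⊓ cmod (E ⊓ scal ρ (F ∙ u)) x
  have hx := h.x_norm_scal hxu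
  have hZB : Z ≤ B := le_inf h.ZE ((h.Z_le_scal hu).trans (le_cmod_self hx))
  have hxB : zpowers x ≤ normalizer (B : Set Γ) := le_normalizer_inf (zpowers_le.2 h.xE)
    (le_normalizer_of_conj_mem fun a ha b hb => conj_mem_cmod (zpowers_le.2 hx ha)
      (by obtain ⟨k, rfl⟩ := ha; exact Commute.zpow_self x k) hb)
  rw [tau_apply, map_sum, map_sum, Finset.sum_eq_single 0, pow_zero, map_one, Module.End.one_apply,
    rho_inv_rho]
  · intro i hi hi0
    have h1 : ⁅b⁻¹, x ^ i⁆ ∈ E := le_normalizer_iff_commutator_le_left.1 (zpowers_le.2 h.xE)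
      (commutator_mem_commutator (inv_mem hb) (pow_mem (mem_zpowers x) i))
    have h2 : ρ ⁅b⁻¹, x ^ i⁆ u = ρ b⁻¹ (ρ (x ^ i) (ρ b u)) := by
      rw [commutatorElement_def, inv_inv, rho_mul, rho_mul, rho_mul,
        inv_mem (pow_mem (mem_triv_span hxu) i) u (Submodule.mem_span_singleton_self u)]
    rw [← h2]
    refine hΦ _ h1 fun e => hne ((h.fixed_iff hu hxu hb).2 ?_)
    obtain ⟨s, hs, hc⟩ := h.exists_commute hZB inf_le_left (hxB (mem_zpowers x)) (inv_mem hb)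
      (fun e => hi0 (Nat.eq_zero_of_dvd_of_lt e (Finset.mem_range.1 hi)))
      ⟨h1, (h.fixed_iff hu hxu h1).1 e⟩
    have h3 : b⁻¹ * s ∈ cmod (E ⊓ scal ρ (F ∙ u)) x :=
      ⟨h.normalizer_of_between (h.Z_le_scal hu) inf_le_left (mul_mem (inv_mem hb) hs.1), by
        rw [commutatorElement_eq_one_iff_commute.2 hc]; exact one_mem _⟩
    exact inv_mem_iff.1 ((Subgroup.mul_mem_cancel_right _ hs.2).1 h3)
  · exact fun e => absurd (Finset.mem_range.2 h.hr.pos) e

theorem commutator_le_rad_of_fixed (h0 : u ≠ 0)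
    (hf : ∀ e ∈ E, ρ x (ρ e u) ≠ ρ e u → tau ρ x r (ρ e u) = 0) :
    ⁅E, zpowers x⁆ ≤ rad ρ E (Eig ρ Z l) := by
  have h1 : ∀ b ∈ E, ρ x (ρ b u) = ρ b u := fun b hb => by
    by_contra hne
    have := h.map_tau hu hxu hf hb hne
    rw [hf b hb hne, map_zero, map_zero, tau_of_fixed hxu] at this
    exact smul_ne_zero h.rF h0 this.symm
  let M : Submodule F V := Eig ρ Z l ⊓ ⨅ b : E, LinearMap.eqLocus (ρ x * ρ b) (ρ b)
  have hM : ∀ v, v ∈ M ↔ v ∈ Eig ρ Z l ∧ ∀ b ∈ E, ρ x (ρ b v) = ρ b v := fun v => by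
    simp [M, Submodule.mem_iInf]
  have hE : Inv ρ E M := fun e he v hv => (hM _).2 ⟨apply_mem_of_mem_stab (h.E_stab he) hv.1,
    fun b hb => by rw [← rho_mul ρ b]; exact ((hM v).1 hv).2 _ (mul_mem hb he)⟩
  have h2 : ⁅E, zpowers x⁆ ≤ triv ρ M := commutator_triv_le hE.le_stab (zpowers_le.2
    fun v hv => by simpa using ((hM v).1 hv).2 1 (one_mem _))
  exact fun e he => h.mem_rad_of_scal inf_le_left
    ((Submodule.ne_bot_iff _).2 ⟨u, (hM u).2 ⟨hu, h1⟩, h0⟩) hE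
    (le_normalizer_iff_commutator_le_left.1 (zpowers_le.2 h.xE) he) (triv_le_scal (h2 he))

end vec

theorem eq_bot_of_not_mem_rad {M : Submodule F V} (hM : M ≤ Eig ρ Z l)
    (hC : Inv ρ (E ⊓ centralizer (zpowers x : Set Γ)) M) {e : Γ} (he : e ∈ E) (hc : Commute e x)
    (ht : e ∈ triv ρ M) (hne : e ∉ rad ρ E (Eig ρ Z l)) : M = ⊥ := by
  by_contra h0
  refine hne (h.mem_rad.2 ⟨he, fun b hb => ?_⟩)
  have hn : E ≤ normalizer (triv ρ (Eig ρ Z l) : Set Γ) := h.E_stab.trans stab_le_normalizer_triv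
  have hxE := le_normalizer_iff_commutator_le_left.1 (zpowers_le.2 h.xE)
  have h1 : E ≤ cmod (triv ρ (Eig ρ Z l)) e := by
    conv_lhs => rw [← h.sup_eq]
    refine sup_le (fun a ha => ⟨hn (hxE ha), h.comm_cent h.xE h.xl (zpowers_le.2 he)
      (zpowers_le.2 ?_) (commutator_mem_commutator ha (mem_zpowers e))⟩) fun a ha =>
      ⟨hn ha.1, h.mem_triv hM h0 (h.comm (commutator_mem_commutator ha.1 he))
        (commutator_triv_le hC.le_stab (zpowers_le.2 ht)
          (commutator_mem_commutator ha (mem_zpowers e)))⟩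
    rw [MSS.centralizer_zpowers, mem_centralizer_singleton_iff]
    exact hc.eq
  exact (h1 hb).2

variable [IsAlgClosed F] [FiniteDimensional F V]

theorem commutator_le_rad_of_tau (ht : Tow p r E Z x) (h0 : Eig ρ Z l ≠ ⊥)
    (hf : ∀ v ∈ Eig ρ Z l, tau ρ x r v = 0) : ⁅E, zpowers x⁆ ≤ rad ρ E (Eig ρ Z l) := by
  have := Fact.mk h.hp
  obtain ⟨s, T, Q, hs, hsp, hsr, hT, hQE, hEQ, hTQ, hxQ, hxT, h1, h2, h4⟩ := ht
  have := Fact.mk hs
  have hQF := h.card_ne hQE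
  have hQQ : ⁅Q, Q⁆ ≤ Z := (commutator_mono hQE hQE).trans h.comm
  obtain ⟨U, hUl, hU⟩ := exists_irr_le (inv_iff_le_stab.2 (hQE.trans h.E_stab)) h0
  have hxU : x ∈ classStab ρ Q U := by
    by_contra hne
    obtain ⟨v, hv, hv0⟩ := (Submodule.ne_bot_iff _).1 hU.1
    have := eq_zero_of_sum_eq_zero hQF (Finset.range r) (X := fun i => U.map (ρ (x ^ i)))
      (fun i _ => hU.map_normalizer (pow_mem hxQ i)) (fun i hi j hj hij e => by
        have h5 := inv_mul_mem_classStab hQF hU (pow_mem hxQ i) (pow_mem hxQ j) e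
        rw [Finset.mem_range] at hi hj
        rcases lt_or_gt_of_ne hij with h6 | h6
        · obtain ⟨k, rfl⟩ := Nat.exists_eq_add_of_lt h6
          rw [add_assoc, pow_add, inv_mul_cancel_left] at h5
          have := Nat.le_of_dvd k.succ_pos (dvd_of_pow_mem h.hr hne (h.xr ▸ one_mem _) h5)
          omega
        · obtain ⟨k, rfl⟩ := Nat.exists_eq_add_of_lt h6
          rw [← inv_mem_iff, mul_inv_rev, inv_inv, add_assoc, pow_add, inv_mul_cancel_left] at h5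
          have := Nat.le_of_dvd k.succ_pos (dvd_of_pow_mem h.hr hne (h.xr ▸ one_mem _) h5)
          omega) (fun i => ρ (x ^ i) v) (fun i _ => le_comp (Submodule.mem_map_of_mem hv))
      (by rw [← tau_apply, hf v (hUl hv)]) 0 (Finset.mem_range.2 h.hr.pos)
    exact hv0 (by simpa using this)
  obtain ⟨U', hU', hi, -, hst⟩ := exists_iso_map_eq hQF hU hxQ hxU.2.1 hUl
    (fun v hv => apply_mem_of_mem_stab h.x_stab hv)
  have hxp' : x ^ r ^ 1 = 1 := by rw [pow_one, h.xr]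
  have h3 : ⁅⁅Q, Q⁆, Q⁆ ≤ ρ.ker := (commutator_eq_bot_iff_le_centralizer.2
    ((hQQ.trans h.cent).trans (MSS.centralizer_anti hQE))).le.trans bot_le
  have h5 : Q ≤ cmod (scal ρ U') x := by
    by_contra hne
    have := (hi.critical_fixed hQF (hi.le_scal_of_le_ker (commutator_le_self Q) h3) h.hr
      (h.coprime hQE) hxQ hst (n := 0) hxp' (by rw [zero_add, hxp']; exact one_mem _)
      (by rwa [pow_zero, pow_one]) (by
        rw [zero_add, pow_one]
        refine ann_of_sum_eq_zero h.hr.pos fun v hv => ?_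
        rw [← hf v (hU' hv), tau_apply]
        exact Finset.sum_congr rfl fun i _ => by rw [map_pow])).1
    rw [pow_zero, pow_one, zero_add, pow_one] at this
    exact hne (hi.le_cmod_of_tower (isSolvable_of_isPGroup (h.pg.to_le hQE)) hs h.hr hT hsr
      (h.coprime hQE) (coprime_card_of_isPGroup hT (coprime_of_isPGroup_of_ne hs hsp
        (h.pg.to_le hQE))) hTQ h.xr hst hxQ hxT h1 (h2.le.trans bot_le) h3 (h4.le.trans bot_le) this)
  have hn : E ≤ normalizer (rad ρ E (Eig ρ Z l) : Set Γ) :=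
    h.normalizer_of_between h.Z_le_rad inf_le_left
  have hn' : E ≤ normalizer (triv ρ (Eig ρ Z l) : Set Γ) := h.E_stab.trans stab_le_normalizer_triv
  refine (commutator_mono hEQ le_rfl).trans (MSS.sup_commutator_le_of_normalizes (hQE.trans hn)
    (h.ZE.trans hn) (fun e he => ?_)
    ((le_normalizer_iff_commutator_le_left.1 (zpowers_le.2 h.xl.1)).trans h.Z_le_rad))
  have heQ : e ∈ Q := le_normalizer_iff_commutator_le_left.1 (zpowers_le.2 hxQ) he
  have he' : e ∈ scal ρ U' := (le_cmod_iff (stab_le_normalizer_scal hst)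
    (hi.2.1.le_stab.trans stab_le_normalizer_scal)).1 h5 he
  have h6 : Q ⊔ Z ≤ cmod (triv ρ (Eig ρ Z l)) e := sup_le (fun b hb => ⟨hn' (hQE hb),
    h.mem_triv hU' hi.1 (hQQ (commutator_mem_commutator hb heQ)) (by
      rw [← commutatorElement_inv]
      exact inv_mem (commutator_scal_stab_le (commutator_mem_commutator he' (hi.2.1.le_stab hb))))⟩)
    fun b hb => ⟨hn' (h.ZE hb), by
      rw [commutatorElement_eq_one_iff_mul_comm.2 (h.cent hb e (hQE heQ)).symm]; exact one_mem _⟩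
  exact h.mem_rad.2 ⟨hQE heQ, fun b hb => (h6 (hEQ hb)).2⟩

variable [Fintype Z] {S : Set V}

theorem map_Wsp_ne_bot (ht : Tow p r E Z x) (h0 : Eig ρ Z l ≠ ⊥) (hS : ∀ e ∈ E, ∀ v ∈ S, ρ e v ∈ S)
    (hsp : Submodule.span F S = ⊤) (hne : ¬ ⁅E, zpowers x⁆ ≤ rad ρ E (Eig ρ Z l)) :
    (Wsp ρ x r S).map (proj ρ Z l) ≠ ⊥ := by
  intro hW
  have h1 : ∀ v ∈ S, ρ x v ≠ v → tau ρ x r (proj ρ Z l v) = 0 := fun v hv e => by
    rw [← proj_tau h.xl, ← Submodule.mem_bot F, ← hW]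
    exact Submodule.mem_map_of_mem (tau_mem_Wsp hv e)
  by_cases h2 : ∀ v ∈ S, tau ρ x r (proj ρ Z l v) = 0
  · exact hne (h.commutator_le_rad_of_tau ht h0 fun v hv => h.ch.le_span (h.card_ne h.ZE)
      (M := LinearMap.ker (tau ρ x r)) h2 hv (hsp ▸ Submodule.mem_top))
  push Not at h2
  obtain ⟨v, hv, h2⟩ := h2
  have h3 : ρ x v = v := by_contra fun e => h2 (h1 v hv e)
  refine hne (h.commutator_le_rad_of_fixed (h.ch.proj_mem v) (by rw [rho_proj h.xl, h3])
    (fun e => h2 (by rw [e, map_zero])) fun e he h4 => ?_)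
  rw [rho_proj (h.E_fixes he)] at h4 ⊢
  exact h1 _ (hS e he v hv) fun h5 => h4 (by rw [rho_proj h.xl, h5])

end Ctx

theorem mem_triv_map_proj [Fintype Z] {M : Submodule F V} {t : Γ} (h1 : t ∈ fixes Z l)
    (h2 : t ∈ triv ρ M) : t ∈ triv ρ (M.map (proj ρ Z l)) := by
  rintro _ ⟨v, hv, rfl⟩
  rw [rho_proj h1, h2 v hv]

theorem inv_map_proj [Fintype Z] {M : Submodule F V} {C : Subgroup Γ} (h1 : C ≤ fixes Z l)
    (h2 : Inv ρ C M) : Inv ρ C (M.map (proj ρ Z l)) := by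
  rintro c hc _ ⟨v, hv, rfl⟩
  exact ⟨_, h2 c hc v hv, (rho_proj (h1 hc) v).symm⟩

theorem IsCh.map_proj_le [Fintype Z] (h : IsCh Z l) (M : Submodule F V) :
    M.map (proj ρ Z l) ≤ Eig ρ Z l := by
  rintro _ ⟨v, -, rfl⟩
  exact h.proj_mem v

end CL.Tur
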