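import Mathlib
import Cfsg.Agent.FGS.Tur4

/-!
The critical case of the Hall-Higman theorem for a cyclic group of order `r * s ^ j`.
-/

set_option autoImplicit false
open Subgroup Cfsg Module Polynomial
open scoped commutatorElement

namespace CL.HH

variable {F G V : Type*} [Field F] [Group G] [AddCommGroup V] [Module F V]
variable {ρ : Representation F G V} {Q : Subgroup G} {U : Submodule F V}

theorem Irr.critical_gen [IsAlgClosed F] [FiniteDimensional F V] [Finite Q]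
    (hQ : (Nat.card Q : F) ≠ 0) (h : Irr ρ Q U) (hc : ⁅Q, Q⁆ ≤ scal ρ U) {g y : G}
    (hg : g ∈ normalizer (Q : Set G)) (hgU : g ∈ stab ρ U) (hyg : y ∈ zpowers g)
    [Finite (zpowers y)] (hcop : (Nat.card (zpowers y)).Coprime (Nat.card Q)) {N : ℕ} (e4 : 1 < N)
    (hsemi : ∀ u ∈ Q, ∀ k, 0 < k → k < N → ⁅u, g ^ k⁆ ∈ scal ρ U → u ∈ cmod (scal ρ U) y)
    (hy : ¬ Q ≤ cmod (scal ρ U) y) (hs : Ann (ρ g) U N) :
    Q ⊓ cmod (scal ρ U) y ≤ cmod (scal ρ U) g ∧ ¬ Ann (ρ g) U (N - 1) := by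
  set S := scal ρ U
  set D := Q ⊓ cmod S y
  set E := ⁅Q, zpowers y⁆
  have hQU : Q ≤ stab ρ U := h.2.1.le_stab
  have hSN : stab ρ U ≤ normalizer (S : Set G) := stab_le_normalizer_scal
  have hTN : stab ρ U ≤ normalizer (triv ρ U : Set G) := stab_le_normalizer_triv
  have hyU : y ∈ stab ρ U := zpowers_le.2 hgU hyg
  have hYQ : zpowers y ≤ normalizer (Q : Set G) := zpowers_le.2 (zpowers_le.2 hg hyg)
  have hEQ : E ≤ Q := le_normalizer_iff_commutator_le_left.1 hYQ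
  have hgy : Commute g y := by obtain ⟨k, rfl⟩ := hyg; exact Commute.self_zpow g k
  have hsup : E ⊔ D = Q := by
    refine le_antisymm (sup_le hEQ inf_le_left) ?_
    conv_lhs => rw [← coprime_commutator_sup_centralizer (zpowers y) Q hYQ
      hcop (Or.inl (isSolvable_zpowers y))]
    exact sup_le_sup_left (le_inf inf_le_left (centralizer_inf_le_cmod (hQU.trans hSN))) _
  have hDY : ⁅D, zpowers y⁆ ≤ S := commutator_zpowers_le (hSN hyU) fun u hu => hu.2.2
  have hED : ⁅E, D⁆ ≤ triv ρ U :=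
    MSS.three_subgroups_of_normalizes (hQU.trans hTN) ((zpowers_le.2 hyU).trans hTN)
      ((inf_le_left.trans hQU).trans hTN)
      (commutator_le_triv (by rw [commutator_comm]; exact hDY) hQU)
      (commutator_le_triv ((commutator_mono inf_le_left le_rfl).trans hc) (zpowers_le.2 hyU))
  have hkey : ∀ u ∈ E, (∀ e ∈ E, ⁅u, e⁆ ∈ triv ρ U) → u ∈ S := by
    intro u hu he
    have h1 : Q ≤ cmod (triv ρ U) u := by
      rw [← hsup]
      exact sup_le (fun e he' => mem_cmod_symm (hTN (hQU (hEQ he'))) (he e he'))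
        fun d hd => mem_cmod_symm (hTN (hQU hd.1)) (hED (commutator_mem_commutator hu hd))
    exact h.mem_scal (hQU (hEQ hu)) fun w hw => commutatorElement_mem_of_mem_cmod (h1 hw)
  have hDE : ∀ u ∈ E, u ∈ D → u ∈ S := fun u hu hd => hkey u hu fun e he => by
    rw [← commutatorElement_inv]; exact inv_mem (hED (commutator_mem_commutator he hd))
  replace hsemi : ∀ u ∈ Q, ∀ k, 0 < k → k < N → ⁅u, g ^ k⁆ ∈ S → u ∈ D :=
    fun u hu k hk0 hk hm => ⟨hu, hsemi u hu k hk0 hk hm⟩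
  have : Finite E := finite_of_le hEQ
  have hE : (Nat.card E : F) ≠ 0 := card_cast_ne_zero_of_le hQ hEQ
  have hgE : g ∈ normalizer (E : Set G) := le_normalizer_commutator (zpowers_le.2 hg)
    (MSS.le_normalizer_of_le_centralizer (by
      rw [MSS.centralizer_zpowers, zpowers_le, mem_centralizer_singleton_iff]; exact hgy.eq))
    (mem_zpowers g)
  obtain ⟨U0, hU0, hU0i⟩ := exists_irr_le (h.2.1.mono hEQ) h.1
  have hcomp : U ≤ comp ρ E U0 := by
    obtain ⟨π, hπ, hπ1, hπ2⟩ := exists_proj hQ h.2.1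
    rcases h.2.2 (U ⊓ comp ρ E U0) inf_le_left (by
      rw [inv_iff_le_stab, ← hsup]
      refine sup_le ((h.2.1.mono hEQ).inf hU0i.2.1.comp).le_stab (Inv.le_stab fun d hd v hv =>
        ⟨h.2.1 d hd.1 v hv.1, ?_⟩)
      have h1 : Equi ρ E (ρ d * π) := fun e he w => by
        rw [Module.End.mul_apply, Module.End.mul_apply, hπ e (hEQ he)]
        exact ((commutatorElement_mem_triv_iff (hQU (hEQ he)) (hQU hd.1)).1
          (hED (commutator_mem_commutator he hd)) _ (hπ1 w)).symm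
      have h2 := h1.apply_mem_comp hv.2
      rwa [Module.End.mul_apply, hπ2 v hv.1] at h2) with e | e
    · exact absurd (eq_bot_iff.2 (e ▸ le_inf hU0 le_comp)) hU0i.1
    · exact e ▸ inf_le_right
  have hgv : ∀ v ∈ U, ρ g v ∈ U := fun v hv => apply_mem_of_mem_stab hgU hv
  obtain ⟨U1, hU1, hU1i, -, hgU1⟩ := exists_iso_map_eq hE hU0i hgE
    (iso_of_le_comp hE hU0i.2.1 (hU0i.map_normalizer hgE) (le_trans (by
      rintro _ ⟨v, hv, rfl⟩; exact hgv v (hU0 hv)) hcomp)) hU0 hgv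
  have hS1 : ∀ u ∈ E, u ∈ scal ρ U1 → u ∈ S := fun u hu hs1 => hkey u hu fun e he =>
    mem_triv_of_mem_scal (hc (commutator_mem_commutator (hEQ hu) (hEQ he))) hU1 hU1i.1
      (commutator_scal_stab_le (commutator_mem_commutator hs1 (hU1i.2.1.le_stab he)))
  have hc1 : ⁅E, E⁆ ≤ scal ρ U1 := ((commutator_mono hEQ hEQ).trans hc).trans (scal_anti hU1)
  obtain ⟨h1, h2⟩ := hU1i.critical hc1 hgE hgU1 (N := N) (fun u hu k hk0 hk hm => by
      refine scal_anti hU1 (hDE u hu (hsemi u (hEQ hu) k hk0 hk (hS1 _ ?_ hm)))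
      exact le_normalizer_iff_commutator_le_left.1 (zpowers_le.2 hgE)
        (commutator_mem_commutator hu (pow_mem (mem_zpowers g) k)))
    (fun e => hy ((le_cmod_iff (hSN hyU) (hQU.trans hSN)).2 fun u hu => hS1 u hu (e hu)))
    (hs.mono hU1 le_rfl)
  have hSD : Q ⊓ S ≤ D := inf_le_inf_left _ (le_cmod_self (hSN hyU))
  have h3 : D.relIndex Q = (N - 1) ^ 2 := by
    have hDn : E ≤ normalizer (D : Set G) := le_normalizer_iff_commutator_le_left.2
      ((le_inf (le_normalizer_iff_commutator_le_left.1 (hEQ.trans le_normalizer) |>.trans'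
        (commutator_mono inf_le_left le_rfl)) ((commutator_mono inf_le_left hEQ).trans hc)).trans hSD)
    have : Finite ↥(E ⊔ D) := hsup ▸ inferInstance
    rw [← hsup, relIndex_sup_of_le_normalizer hDn, ← h1, add_tsub_cancel_right, hU1i.sq_finrank hc1,
      ← inf_relIndex_right, ← inf_relIndex_right (scal ρ U1)]
    congr 1
    exact le_antisymm (fun u hu => ⟨scal_anti hU1 (hDE u hu.2 hu.1), hu.2⟩)
      fun u hu => ⟨hSD ⟨hEQ hu.2, hS1 u hu.2 hu.1⟩, hu.2⟩
  have h4 : ¬ Ann (ρ g) U (N - 1) := fun e => h2 (e.mono hU1 le_rfl)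
  refine ⟨fun u hu => ⟨hSN (hQU hu.1), ?_⟩, h4⟩
  have := h.isIrreducible
  have hN0 : 0 < N := zero_lt_one.trans e4
  have h5 := inv_mul_mem_scalars_of_le (sub h.2.1) (fun u v => by
      rw [scalars_sub]; exact hc (commutator_mem_commutator u.2 v.2))
    (Q.normalizerMonoidHom ⟨g, hg⟩) _ (toHomUnits_intertwine h.2.1 hg hgU) (D.subgroupOf Q)
    (by rw [scalars_sub]; exact fun u hu => hSD ⟨u.2, hu⟩) (fun u => ⟨fun hu => ⟨u.2, by
      have := conj_mem_cmod (inv_mem (hSN hgU)) hgy.inv_left hu.2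
      change g⁻¹ * (g * u * g⁻¹) * g⁻¹⁻¹ ∈ _ at this
      rwa [show g⁻¹ * (g * u * g⁻¹) * g⁻¹⁻¹ = u by group] at this⟩,
      fun hu => ⟨Subtype.prop _, conj_mem_cmod (hSN hgU) hgy hu.2⟩⟩) N hN0
    (fun u hu k hk0 hk hm => by
      rw [scalars_sub, mem_subgroupOf, Subgroup.coe_mul, coe_normalizerMonoidHom_pow,
        Subgroup.coe_inv, inv_mul_conj_eq] at hm
      exact hu (inv_mem_iff.1 (hsemi _ (inv_mem u.2) k hk0 hk hm))) (by
      rw [scalars_sub, relIndex_subgroupOf inf_le_left]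
      have e1 := sq_finrank_le_minpoly ((ρ g).restrict hgv)
      have e2 := (ann_iff_minpoly hgv).1 hs
      have e3 : finrank F U ^ 2 = S.relIndex D * (N - 1) ^ 2 := by
        rw [h.sq_finrank hc, ← h3, ← inf_relIndex_left, ← relIndex_mul_relIndex _ D _ hSD inf_le_left,
          inf_comm Q S, ← inf_relIndex_right S D, ← inf_relIndex_right (S ⊓ Q) D, inf_assoc,
          inf_eq_right.2 (inf_le_left : D ≤ Q)]
      change N * S.relIndex D + finrank F U ^ 2 ≤
        N * finrank F (commutant ((ρ g).restrict hgv)) + S.relIndex D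
      obtain ⟨M, hM⟩ : ∃ M, N = M + 2 := ⟨N - 2, by omega⟩
      rw [e3] at e1 ⊢
      rw [hM] at e1 e2 ⊢
      generalize finrank F (commutant ((ρ g).restrict hgv)) = c at *
      generalize S.relIndex D = e at *
      have e5 : e * (M + 1) ^ 2 ≤ (M + 1) * c :=
        e1.trans (Nat.mul_le_mul_right _ (Nat.lt_succ_iff.1 e2))
      have e6 : e * (M + 1) ≤ c := Nat.le_of_mul_le_mul_left (by linarith) (Nat.succ_pos M)
      change (M + 2) * e + e * (M + 1) ^ 2 ≤ (M + 2) * c + e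
      nlinarith) ⟨u⁻¹, inv_mem hu.1⟩ (inv_mem hu : u⁻¹ ∈ D)
  rw [scalars_sub, mem_subgroupOf] at h5
  change u⁻¹⁻¹ * (g * u⁻¹ * g⁻¹) ∈ S at h5
  rwa [inv_mul_conj_eq, inv_inv] at h5

theorem Irr.iso_map [IsAlgClosed F] [FiniteDimensional F V] [Finite Q]
    (hQ : (Nat.card Q : F) ≠ 0) (h : Irr ρ Q U) (hc : ⁅Q, Q⁆ ≤ scal ρ U) {g : G}
    (hg : g ∈ normalizer (Q : Set G)) (hgS : ∀ s ∈ Q, s ∈ scal ρ U → ⁅s, g⁻¹⁆ ∈ triv ρ U) :
    Iso ρ Q U (U.map (ρ g)) := by
  have := h.isIrreducible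
  obtain ⟨T, hT⟩ := exists_intertwiner (sub h.2.1) (fun u v => by
      rw [scalars_sub]; exact hc (commutator_mem_commutator u.2 v.2))
    (Q.normalizerMonoidHom ⟨g⁻¹, inv_mem hg⟩) (by
    intro s hs
    rw [scalars_sub, mem_subgroupOf] at hs
    ext v
    rw [sub_apply, sub_apply]
    have e : ((Q.normalizerMonoidHom ⟨g⁻¹, inv_mem hg⟩ s : Q) : G) = s * ⁅(s : G)⁻¹, g⁻¹⁆ := by
      rw [← inv_mul_conj_eq, mul_inv_cancel_left]; rfl
    rw [e, rho_mul, hgS _ (inv_mem s.2) (inv_mem hs) v v.2])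
  obtain ⟨π, hπ, hπ1, hπ2⟩ := exists_proj hQ h.2.1
  refine ⟨ρ g ∘ₗ U.subtype ∘ₗ (T : Module.End F U) ∘ₗ π.codRestrict U hπ1, fun u hu v => ?_,
    le_antisymm ?_ ?_⟩
  · have h1 : π.codRestrict U hπ1 (ρ u v) = sub h.2.1 ⟨u, hu⟩ (π.codRestrict U hπ1 v) :=
      Subtype.ext (hπ u hu v)
    have h2 := LinearMap.congr_fun (hT ⟨u, hu⟩) (π.codRestrict U hπ1 v)
    simp only [LinearMap.comp_apply, Module.End.mul_apply] at h2 ⊢
    rw [h1, h2, Submodule.subtype_apply, sub_apply]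
    change ρ g (ρ (g⁻¹ * u * g⁻¹⁻¹) _) = _
    rw [← rho_mul, ← rho_mul, inv_inv, ← mul_assoc, mul_inv_cancel_left]
    rfl
  · rintro _ ⟨v, -, rfl⟩
    exact Submodule.mem_map_of_mem (Subtype.prop _)
  · rintro _ ⟨v, hv, rfl⟩
    refine ⟨((T⁻¹ : (Module.End F U)ˣ) : Module.End F U) ⟨v, hv⟩, Subtype.prop _, ?_⟩
    have h1 : ∀ w : U, π.codRestrict U hπ1 w = w := fun w => Subtype.ext (hπ2 w w.2)
    simp only [LinearMap.comp_apply]
    rw [h1, ← Module.End.mul_apply, T.mul_inv]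
    rfl

theorem ann_of_tau {T : Module.End F V} {c : F} {r m : ℕ} (hr : 0 < r) (hm : 0 < m)
    (h : ∀ v ∈ U, (T - 1) (∑ i ∈ Finset.range r, ((c • T ^ m) ^ i) v) = 0) :
    Ann T U ((r - 1) * m + 2) := by
  refine ⟨(X - 1) * ∑ i ∈ Finset.range r, (C c * X ^ m) ^ i, fun e => ?_, ?_, fun v hv => ?_⟩
  · have := congrArg (eval 0) e
    simp [eval_finset_sum, hm.ne', hr.ne'] at this
  · have h1 : (∑ i ∈ Finset.range r, (C c * X ^ m) ^ i).natDegree ≤ (r - 1) * m :=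
      natDegree_sum_le_of_forall_le _ _ fun i hi => natDegree_pow_le.trans
        (Nat.mul_le_mul (by have := Finset.mem_range.1 hi; omega) (natDegree_C_mul_X_pow_le c m))
    have h2 : (X - 1 : F[X]).natDegree ≤ 1 := natDegree_X_sub_C_le 1
    have := natDegree_mul_le (p := X - 1) (q := ∑ i ∈ Finset.range r, (C c * X ^ m) ^ i)
    omega
  · rw [← h v hv]
    simp [LinearMap.sum_apply, Algebra.algebraMap_eq_smul_one]

end CL.HH
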