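import Mathlib
import Cfsg.Agent.FGS.Tur5

/-!
Elements commuting with `x` which are trivial on the traces of `x`.
-/

set_option autoImplicit false
open Subgroup Cfsg
open scoped commutatorElement

namespace CL.Tur

open CL.FH CL.HH

variable {F Γ V : Type*} [Field F] [Group Γ] [AddCommGroup V] [Module F V]

/-- `a` inverts `E` modulo `A`. -/
def Invs (E A : Subgroup Γ) (a : Γ) : Prop :=
  a ∈ normalizer (E : Set Γ) ∧ a ∈ normalizer (A : Set Γ) ∧ ∀ e ∈ E, a * e * a⁻¹ * e ∈ A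

variable {ρ : Representation F Γ V} {p r : ℕ} {E Z A : Subgroup Γ} {x : Γ} {l : Γ → F}

theorem Invs.mul_mem (hE : E ≤ normalizer (A : Set Γ)) {a b : Γ} (ha : Invs E A a)
    (hb : Invs E A b) : a * b ∈ MSS.secC E A := ⟨Subgroup.mul_mem _ ha.2.1 hb.2.1, fun e he => by
  rw [show ⁅e, a * b⁆ = e * (a * (b * e⁻¹ * b⁻¹ * e⁻¹) * a⁻¹ * (a * e * a⁻¹ * e)) * e⁻¹ by
    simp only [commutatorElement_def]; group]
  exact (hE he _).1 (A.mul_mem ((ha.2.1 _).1 (hb.2.2 _ (inv_mem he))) (ha.2.2 e he))⟩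

theorem Invs.inv (hE : E ≤ normalizer (A : Set Γ)) {a : Γ} (ha : Invs E A a) : Invs E A a⁻¹ :=
  ⟨inv_mem ha.1, inv_mem ha.2.1, fun e he => by
    have := (mem_normalizer_iff.1 (hE (inv_mem he)) _).1 (ha.2.2 _ ((inv_mem ha.1 e).1 he))
    convert this using 1
    group⟩

theorem Invs.conj {a n : Γ} (ha : Invs E A a) (h1 : n ∈ normalizer (E : Set Γ))
    (h2 : n ∈ normalizer (A : Set Γ)) : Invs E A (n * a * n⁻¹) :=
  ⟨Subgroup.mul_mem _ (Subgroup.mul_mem _ h1 ha.1) (inv_mem h1),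
    Subgroup.mul_mem _ (Subgroup.mul_mem _ h2 ha.2.1) (inv_mem h2), fun e he => by
    have := (mem_normalizer_iff.1 h2 _).1 (ha.2.2 _ ((inv_mem h1 e).1 he))
    convert this using 1
    group⟩

namespace Ctx

variable [Finite Γ] (h : Ctx F p r E Z x l) (hfp : ∀ e ∈ E, Commute e x → e ∈ Z)
include h hfp

theorem mem_of_fpf {B : Subgroup Γ} (h1 : Z ≤ B) (h2 : B ≤ E)
    (hx : x ∈ normalizer (B : Set Γ)) {b : Γ} (hb : b ∈ E) {i : ℕ} (hi : ¬ r ∣ i)
    (hc : ⁅b, x ^ i⁆ ∈ B) : b ∈ B := by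
  obtain ⟨s, hs, h3⟩ := h.exists_commute h1 h2 hx hb hi hc
  exact (Subgroup.mul_mem_cancel_right _ hs).1 (h1 (hfp _ (mul_mem hb (h2 hs)) h3))

theorem mem_of_fpf' {B : Subgroup Γ} (h1 : Z ≤ B) (h2 : B ≤ E)
    (hx : x ∈ normalizer (B : Set Γ)) {b : Γ} (hb : b ∈ E) (hc : ⁅b, x⁆ ∈ B) : b ∈ B :=
  h.mem_of_fpf hfp h1 h2 hx hb (i := 1) (fun e => h.hr.one_lt.ne' (Nat.dvd_one.1 e))
    (by rwa [pow_one])

variable {s k : ℕ} {t : Γ} (hs : s.Prime) (hsp : s ≠ p) (hsr : s ≠ r) (htk : t ^ s ^ k = 1)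
  (htx : Commute t x) (htE : t ∈ normalizer (E : Set Γ)) (htl : t ∈ fixes Z l)
include hs hsp hsr htk htx htE htl

theorem commutator_le_rad_or [Fintype Z] {S : Set V} (hS : ∀ e ∈ E, ∀ v ∈ S, ρ e v ∈ S)
    (hsp' : Submodule.span F S = ⊤) (ht : t ∈ triv ρ ((Wsp ρ x r S).map (proj ρ Z l))) :
    ⁅E, zpowers t⁆ ≤ rad ρ E (Eig ρ Z l) ∨ ∀ w ∈ Eig ρ Z l, ρ x w = w → ρ t w = w := by
  have := Fact.mk h.hp
  set Φ : Module.End F V := (ρ t - 1) * tau ρ x r
  have hΦ : ∀ v, Φ v = ρ t (tau ρ x r v) - tau ρ x r v := fun v => rfl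
  have hΦt : ∀ v, Φ (ρ t v) = ρ t (Φ v) := fun v => by
    rw [hΦ, hΦ, map_sub, ← rho_tau_comm htx]
  have h1 : ∀ v ∈ S, ρ x v ≠ v → Φ (proj ρ Z l v) = 0 := fun v hv e => by
    rw [hΦ, ← proj_tau h.xl, ht _ (Submodule.mem_map_of_mem (tau_mem_Wsp hv e)), sub_self]
  by_cases h2 : ∀ v ∈ S, Φ (proj ρ Z l v) = 0
  · refine Or.inr fun w hw hx => ?_
    have h3 : Φ w = 0 := h.ch.le_span (h.card_ne h.ZE) (M := LinearMap.ker Φ) h2 hw
      (hsp' ▸ Submodule.mem_top)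
    rw [hΦ, tau_of_fixed hx, map_smul, sub_eq_zero] at h3
    exact smul_right_injective V h.rF h3
  left
  push Not at h2
  obtain ⟨v, hv, h2⟩ := h2
  have h3 : ρ x v = v := by_contra fun e => h2 (h1 v hv e)
  have h4 : ∀ e ∈ E, ρ x (ρ e (proj ρ Z l v)) ≠ ρ e (proj ρ Z l v) →
      Φ (ρ e (proj ρ Z l v)) = 0 := fun e he h4 => by
    rw [rho_proj (h.E_fixes he)] at h4 ⊢
    exact h1 _ (hS e he v hv) fun h5 => h4 (by rw [rho_proj h.xl, h5])
  have hu := h.ch.proj_mem (ρ := ρ) v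
  have hxu : ρ x (proj ρ Z l v) = proj ρ Z l v := by rw [rho_proj h.xl, h3]
  generalize proj ρ Z l v = u at h2 h4 hu hxu
  have hu0 : (F ∙ u) ≠ ⊥ := fun e => h2 (by rw [Submodule.span_singleton_eq_bot.1 e, map_zero])
  have hx := h.x_norm_scal hxu
  have hZB := h.Z_le_scal hu
  set B := E ⊓ scal ρ (F ∙ u)
  have hEB : E ≤ normalizer (B : Set Γ) := h.normalizer_of_between hZB inf_le_left
  have h5 : ∀ e ∈ E, ρ x (ρ e u) = ρ e u ↔ e ∈ B := fun e he => (h.fixed_iff hu hxu he).trans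
    ⟨fun h5 => h.mem_of_fpf' hfp hZB inf_le_left hx he h5.2, fun h5 => le_cmod_self hx h5⟩
  have h6 : ∀ b ∈ E, b ∉ B → ∃ i < r, t⁻¹ * b⁻¹ * t * (x ^ i * b * (x ^ i)⁻¹) ∈ B := by
    intro b hb hbB
    have hne := mt (h5 b hb).1 hbB
    have h6 := h.map_tau hu hxu h4 hb hne
    have h7 := h4 b hb hne
    rw [hΦ, sub_eq_zero] at h7
    rw [← h7, tau_apply, map_sum, map_sum, map_sum] at h6
    obtain ⟨i, hi, h8⟩ := Finset.exists_ne_zero_of_sum_ne_zero (h6 ▸ h2)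
    have h9 : t⁻¹ * b⁻¹ * t * (x ^ i * b * (x ^ i)⁻¹) ∈ E := mul_mem
      ((mem_normalizer_iff''.1 htE _).1 (inv_mem hb)) ((pow_mem h.xE i _).1 hb)
    refine ⟨i, Finset.mem_range.1 hi, (h5 _ h9).1 (by_contra fun e => h8 ?_)⟩
    rw [← map_zero (ρ t), ← h4 _ h9 e, ← hΦt]
    simp only [rho_mul, rho_rho_inv]
    rw [inv_mem (pow_mem (mem_triv_span hxu) i) u (Submodule.mem_span_singleton_self u)]
  have h7 : t ∈ normalizer (B : Set Γ) := mem_normalizer_fintype fun b hb => by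
    by_contra hne
    obtain ⟨i, -, hi⟩ := h6 _ ((htE b).1 hb.1) hne
    rw [show t⁻¹ * (t * b * t⁻¹)⁻¹ * t = b⁻¹ by group,
      Subgroup.mul_mem_cancel_left _ (inv_mem hb)] at hi
    exact hne ((pow_mem hx i _).2 hi)
  have h8 : ⁅E, zpowers t⁆ ≤ B := commutator_zpowers_le h7 fun b hb => by
    by_cases hbB : b ∈ B
    · exact (le_cmod_self h7 hbB).2
    obtain ⟨i, hi, h8⟩ := h6 _ (inv_mem hb) (mt inv_mem_iff.1 hbB)
    have h9 : ⁅b, t * x ^ i⁆ ∈ B := by
      have := (mem_normalizer_iff.1 h7 _).1 h8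
      convert this using 1
      simp only [commutatorElement_def]; group
    have h10 := pow_mem (mem_cmod_symm (mul_mem h7 (pow_mem hx i)) h9) (s ^ k)
    rw [(htx.pow_right i).mul_pow, htk, one_mul, ← pow_mul] at h10
    have h11 : r ∣ i * s ^ k := by_contra fun e => hbB (h.mem_of_fpf hfp hZB inf_le_left hx hb e
      (commutatorElement_mem_of_mem_cmod h10))
    rwa [Nat.eq_zero_of_dvd_of_lt ((((Nat.coprime_primes h.hr hs).2 hsr.symm).pow_right
      k).dvd_of_dvd_mul_right h11) hi, pow_zero, mul_one] at h9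
  have hn : E ≤ normalizer (triv ρ (Eig ρ Z l) : Set Γ) := h.E_stab.trans stab_le_normalizer_triv
  intro e he
  have h9 : E ≤ cmod (triv ρ (Eig ρ Z l)) e := by
    conv_lhs => rw [← coprime_commutator_sup_centralizer _ E (zpowers_le.2 htE)
      (coprime_zpowers_of_pow htk (coprime_of_isPGroup_of_ne hs hsp h.pg))
      (Or.inl (isSolvable_zpowers t))]
    refine sup_le (fun b hb => ⟨hn (h8 hb).1, h.mem_triv
      ((Submodule.span_singleton_le_iff_mem _ _).2 hu) hu0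
      (h.comm (commutator_mem_commutator (h8 hb).1 (h8 he).1)) (commutator_scal_stab_le
        (commutator_mem_commutator (h8 hb).2 (scal_le_stab (h8 he).2)))⟩) fun b hb => ⟨hn hb.1, ?_⟩
    rw [← commutatorElement_inv]
    exact inv_mem (h.comm_cent htE htl inf_le_left inf_le_right (commutator_mem_commutator he hb))
  exact h.mem_rad.2 ⟨(h8 he).1, fun b hb => (h9 hb).2⟩

variable [IsAlgClosed F] [FiniteDimensional F V]

omit hsp in
theorem rad_le_scal (hV : ∀ w ∈ Eig ρ Z l, ρ x w = w → ρ t w = w)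
    (hne : ¬ ⁅E, zpowers t⁆ ≤ rad ρ E (Eig ρ Z l)) :
    rad ρ E (Eig ρ Z l) ≤ scal ρ (Eig ρ Z l) := by
  set A := rad ρ E (Eig ρ Z l)
  have hAE : A ≤ E := inf_le_left
  have hn : ∀ g ∈ normalizer (E : Set Γ), g ∈ fixes Z l → g ∈ normalizer (A : Set Γ) :=
    fun g h1 h2 => le_normalizer_rad' (zpowers_le.2 h1) (zpowers_le.2 (fixes_le_stab h2))
      (mem_zpowers g)
  have hxA := hn x h.xE h.xl
  have := Fintype.ofFinite A
  have h1 : ⁅A, zpowers x⁆ ≤ triv ρ (Eig ρ Z l) := fun g hg =>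
    mem_triv_of_forall_irr (h.card_ne le_rfl) (inv_iff_le_stab.2 h.E_stab) fun U hUl hU => by
    obtain ⟨m, hm, hUm⟩ := exists_isCh (Z := A) hU.1 ((h.rad_eq hU hUl).le.trans inf_le_right)
    by_cases hxm : x ∈ fixes A m
    · exact triv_anti hUm (commutator_le_triv hm.le_scal (zpowers_le.2 (fixes_le_stab hxm)) hg)
    refine absurd ?_ hne
    have h2 : t ∈ triv ρ U := fun v hv => by
      have := (hm.moved (h.card_ne hAE) h.hr h.xr (h.coprime hAE) hxA hxm (S := Eig ρ Z l)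
        (fun z hz v hv => apply_mem_of_mem_stab (h.E_stab (hAE hz)) hv) (hUl hv)).2 t
        (fun w hw => hV w ((Submodule.span_le.2 (by
          rintro _ ⟨v, hv, -, rfl⟩; exact tau_mem h.x_stab hv)) hw) (Wsp_fixed h.xr w hw))
        (hn t htE htl) htx _ (((Nat.coprime_primes hs h.hr).2 hsr).pow_left k) htk
      rw [hm.proj_of_mem (hUm hv), map_smul] at this
      exact smul_right_injective V (h.card_ne hAE) this
    rw [show A = _ from h.rad_eq hU hUl]
    exact le_inf (le_normalizer_iff_commutator_le_left.1 (zpowers_le.2 htE))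
      ((commutator_triv_le hU.2.1.le_stab (zpowers_le.2 h2)).trans triv_le_scal)
  conv_lhs => rw [← coprime_commutator_sup_centralizer _ A (zpowers_le.2 hxA)
    (coprime_zpowers h.xr (h.coprime hAE)) (Or.inl (isSolvable_zpowers x))]
  exact sup_le (h1.trans triv_le_scal) fun e he =>
    h.ch.le_scal (hfp e (hAE he.1) (he.2 x (mem_zpowers x)).symm)

theorem invs (h0 : Eig ρ Z l ≠ ⊥) (hV : ∀ w ∈ Eig ρ Z l, ρ x w = w → ρ t w = w)
    (hne : ¬ ⁅E, zpowers t⁆ ≤ rad ρ E (Eig ρ Z l)) :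
    s = 2 ∧ Invs E (rad ρ E (Eig ρ Z l)) t := by
  classical
  have := Fact.mk h.hp
  have hAs := h.rad_le_scal hfp hs hsr htk htx htE htl hV hne
  set A := rad ρ E (Eig ρ Z l)
  have hAE : A ≤ E := inf_le_left
  have hEF := h.card_ne (le_refl E)
  have htA : t ∈ normalizer (A : Set Γ) :=
    le_normalizer_rad' (zpowers_le.2 htE) (zpowers_le.2 (fixes_le_stab htl)) (mem_zpowers t)
  have hxA : x ∈ normalizer (A : Set Γ) :=
    le_normalizer_rad' (zpowers_le.2 h.xE) (zpowers_le.2 h.x_stab) (mem_zpowers x)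
  have hrs : ∀ j, r.Coprime (s ^ j) := fun j => ((Nat.coprime_primes h.hr hs).2 hsr.symm).pow_right j
  have hgE : x * t ∈ normalizer (E : Set Γ) := mul_mem h.xE htE
  have hgl : x * t ∈ stab ρ (Eig ρ Z l) := mul_mem h.x_stab (fixes_le_stab htl)
  have hEE : ∀ U ≤ Eig ρ Z l, ⁅E, E⁆ ≤ scal ρ U := fun U hU =>
    (h.comm.trans h.ch.le_scal).trans (scal_anti hU)
  obtain ⟨U0, hU0l, hU0⟩ := exists_irr_le (inv_iff_le_stab.2 h.E_stab) h0
  obtain ⟨U, hUl, hU, -, hgU⟩ := exists_iso_map_eq hEF hU0 hgE (hU0.iso_map hEF (hEE _ hU0l) hgE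
    fun a ha ha' => triv_anti hU0l (commutator_scal_stab_le (commutator_mem_commutator
      (hAs ((h.rad_eq hU0 hU0l).ge ⟨ha, ha'⟩)) (inv_mem hgl)))) hU0l
    fun v hv => apply_mem_of_mem_stab hgl hv
  have hA : A = E ⊓ scal ρ U := h.rad_eq hU hUl
  have hpow : ∀ n, (x * t) ^ n = x ^ n * t ^ n := fun n => htx.symm.mul_pow n
  have htg : t ∈ zpowers (x * t) := mem_of_coprime_pow (hrs k) (by
    have := pow_mem (mem_zpowers (x * t)) r
    rwa [hpow, h.xr, one_mul] at this) (htk ▸ one_mem _)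
  have htU : t ∈ stab ρ U := zpowers_le.2 (show x * t ∈ stab ρ U from hgU) htg
  have hxU : x ∈ stab ρ U := (Subgroup.mul_mem_cancel_right _ htU).1 hgU
  have hSN : stab ρ U ≤ normalizer (scal ρ U : Set Γ) := stab_le_normalizer_scal
  have hcE : ∀ g ∈ normalizer (E : Set Γ), ∀ e ∈ E, ⁅e, g⁆ ∈ E := fun g hg e he =>
    le_normalizer_iff_commutator_le_left.1 (zpowers_le.2 hg)
      (commutator_mem_commutator he (mem_zpowers g))
  have hex : ∃ j, t ^ s ^ j ∈ MSS.secC E A := ⟨k, htk ▸ one_mem _⟩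
  obtain ⟨j, hj⟩ : ∃ j, Nat.find hex = j + 1 := Nat.exists_eq_succ_of_ne_zero fun e => by
    have := Nat.find_spec hex
    rw [e, pow_zero, pow_one] at this
    exact hne (MSS.le_secC_iff.1 (zpowers_le.2 this)).2
  have hz := Nat.find_spec hex
  have hy := Nat.find_min hex (m := j) (by omega)
  rw [hj] at hz
  have hcop : ∀ i, (Nat.card (zpowers (t ^ i))).Coprime (Nat.card E) := fun i =>
    coprime_zpowers_of_pow (pow_pow_eq_one htk) (coprime_of_isPGroup_of_ne hs hsp h.pg)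
  have hz' : t ^ s ^ (j + 1) ∈ scal ρ U := by
    have h1 := commutator_le_triv (((MSS.le_secC_iff.1 (zpowers_le.2 hz)).2.trans hA.le).trans
      inf_le_right) (zpowers_le.2 (pow_mem htU (s ^ (j + 1))))
    rw [coprime_commutator_commutator _ E (zpowers_le.2 (pow_mem htE _)) (hcop _)
      (Or.inl (isSolvable_zpowers _))] at h1
    refine hU.mem_scal (pow_mem htU _) fun e he => ?_
    rw [← commutatorElement_inv]
    exact inv_mem (h1 (commutator_mem_commutator he (mem_zpowers _)))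
  have hxc : ∀ u ∈ E, x ∈ cmod (scal ρ U) u → u ∈ A := fun u hu hc =>
    h.mem_of_fpf' hfp h.Z_le_rad hAE hxA hu
      (hA.ge ⟨hcE x h.xE u hu, commutatorElement_mem_of_mem_cmod hc⟩)
  obtain ⟨c, hc0, hc⟩ := id hz'
  have hm1 : 1 < s ^ (j + 1) := Nat.one_lt_pow j.succ_ne_zero hs.one_lt
  have hann : Ann (ρ (x * t)) U ((r - 1) * s ^ (j + 1) + 2) := by
    set m := s ^ (j + 1)
    refine ann_of_tau (c := c⁻¹) h.hr.pos (by omega) fun v hv => ?_
    have h1 : ∀ i, ((c⁻¹ • ρ (x * t) ^ m) ^ i) v = ρ ((x ^ m) ^ i) v := fun i => by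
      induction i with
      | zero => simp
      | succ i ih =>
        rw [pow_succ', Module.End.mul_apply, ih, LinearMap.smul_apply, ← map_pow, hpow, rho_mul,
          hc _ (apply_mem_of_mem_stab (pow_mem (pow_mem hxU m) i) hv), map_smul, smul_smul,
          inv_mul_cancel₀ hc0, one_smul, pow_succ', rho_mul]
    rw [Finset.sum_congr rfl fun i _ => h1 i, ← tau_apply]
    have h2 : x ∈ triv ρ (F ∙ tau ρ (x ^ m) r v) := mem_of_coprime_pow (hrs (j + 1))
      (h.xr ▸ one_mem _) (mem_triv_span (rho_tau (by rw [← pow_mul, mul_comm, pow_mul, h.xr,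
        one_pow]) v))
    have h3 := h2 _ (Submodule.mem_span_singleton_self _)
    rw [LinearMap.sub_apply, rho_mul, hV _ (tau_mem (pow_mem h.x_stab m) (hUl hv)) h3, h3]
    exact sub_self _
  obtain ⟨r', hr'⟩ : ∃ r', r = r' + 2 := ⟨r - 2, by have := h.hr.two_le; omega⟩
  have hN : (r - 1) * s ^ (j + 1) + s ^ (j + 1) = r * s ^ (j + 1) := by
    rw [hr', show r' + 2 - 1 = r' + 1 from rfl]; ring
  obtain ⟨h1, h2⟩ := hU.critical_gen hEF (hEE U hUl) hgE hgU (pow_mem htg (s ^ j)) (hcop _)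
    (N := r * s ^ (j + 1)) (by nlinarith) (fun u hu i hi0 hi hm => by
      have huN := hSN (hU.2.1.le_stab hu)
      have h1 := mem_cmod_symm (hSN (pow_mem (show x * t ∈ stab ρ U from hgU) i)) hm
      have h2 : t ^ s ^ (j + 1) ∈ cmod (scal ρ U) u := le_cmod_self huN hz'
      by_cases hri : r ∣ i
      · obtain ⟨i, rfl⟩ := hri
        rw [pow_mul, hpow, h.xr, one_mul] at h1
        have h3 := mem_of_pow_mem hs (x := t ^ r) (n := j) (by
          rw [← pow_mul, mul_comm, pow_mul]; exact pow_mem h2 r) h1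
          (Nat.pos_of_mul_pos_left hi0) (Nat.lt_of_mul_lt_mul_left hi)
        exact ⟨huN, commutatorElement_mem_of_mem_cmod (mem_of_coprime_pow (hrs 1)
          (by rwa [← pow_mul, mul_comm, pow_mul]) (by rwa [← pow_mul, ← pow_add]))⟩
      · have h3 := pow_mem h1 (s ^ (j + 1))
        rw [← pow_mul, hpow, mul_comm i, pow_mul t,
          Subgroup.mul_mem_cancel_right _ (pow_mem h2 i)] at h3
        refine le_cmod_self (hSN (pow_mem htU _)) (hA.le (hxc u hu ?_)).2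
        by_contra e
        exact hri ((hrs _).dvd_of_dvd_mul_left (dvd_of_pow_mem h.hr e (h.xr ▸ one_mem _) h3)))
    (fun e => hy ⟨pow_mem htA _, fun u hu => hA.ge ⟨hcE _ (pow_mem htE _) u hu, (e hu).2⟩⟩)
    (hann.mono le_rfl (by omega))
  have h3 : s ^ (j + 1) ≤ 2 := by
    by_contra e
    exact h2 (hann.mono le_rfl (by omega))
  have h4 : s ≤ s ^ (j + 1) := Nat.le_self_pow j.succ_ne_zero s
  obtain rfl : s = 2 := by have := hs.two_le; omega
  obtain rfl : j = 0 := by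
    by_contra e
    have : 2 ^ 2 ≤ 2 ^ (j + 1) := Nat.pow_le_pow_right two_pos (by omega)
    omega
  simp only [pow_zero, pow_one, zero_add] at h1 hz
  refine ⟨rfl, htE, htA, fun e he => ?_⟩
  have h5 : t * e * t⁻¹ * e ∈ E := mul_mem ((htE e).1 he) he
  have h6 : ⁅t * e * t⁻¹ * e, t⁆ ∈ scal ρ U := by
    rw [show ⁅t * e * t⁻¹ * e, t⁆ = ⁅t * e * t⁻¹, e⁆ * ⁅e, t ^ 2⁆ by
      simp only [commutatorElement_def, pow_two]; group]
    exact mul_mem (hEE U hUl (commutator_mem_commutator ((htE e).1 he) he)) (hA.le (hz.2 e he)).2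
  exact hxc _ h5 ((Subgroup.mul_mem_cancel_right _ (mem_cmod_symm (hSN htU) h6)).1
    (mem_cmod_symm (hSN hgU) (h1 ⟨h5, hSN (hU.2.1.le_stab h5), h6⟩).2))

end Ctx

end CL.Tur
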