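import Mathlib
import Cfsg.Agent.FGS.Tur6

/-!
The inductive statement for Turull's theorem, its reduction to faithful modules, and the passage
to the module of additive characters of a `p`-subgroup.
-/

set_option autoImplicit false
open Subgroup Cfsg
open scoped commutatorElement

namespace CL.Tur

open CL.FH CL.HH

universe u

section transfer
variable {F Γ V Γ' V' : Type*} [Field F] [Group Γ] [AddCommGroup V] [Module F V]
  [Group Γ'] [AddCommGroup V'] [Module F V']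

/-- Some `q'`-element of `H` acts nontrivially on `U`. -/
def NT (ρ : Representation F Γ V) (q : ℕ) (H : Subgroup Γ) (U : Submodule F V) : Prop :=
  ∃ y ∈ PE q H, y ∉ triv ρ U

/-- The inductive statement for one module. -/
def Res (ρ : Representation F Γ V) (q r n : ℕ) (G : Subgroup Γ) (x : Γ) (S : Set V) : Prop :=
  NT ρ q (res n G) (Submodule.span F S) →
    ¬ NT ρ q (res n (G ⊓ centralizer (zpowers x : Set Γ))) (Submodule.span F S) →
    (∃ v ∈ S, ρ x v ≠ v) ∧ (1 ≤ n → Wsp ρ x r S ≠ ⊥) ∧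
      ∀ m, n = m + 2 → NT ρ q (res m (G ⊓ centralizer (zpowers x : Set Γ))) (Wsp ρ x r S)

variable {ρ : Representation F Γ V} {ρ' : Representation F Γ' V'} {φ : Γ →* Γ'} {ι : V →ₗ[F] V'}

theorem nt_map (hι : Function.Injective ι) (h : ∀ g v, ι (ρ g v) = ρ' (φ g) (ι v)) {q : ℕ}
    {H : Subgroup Γ} [Finite H] {M : Submodule F V} :
    NT ρ' q (H.map φ) (M.map ι) ↔ NT ρ q H M := by
  have h1 : ∀ y, φ y ∈ triv ρ' (M.map ι) ↔ y ∈ triv ρ M := fun y =>
    ⟨fun e v hv => hι ((h y v).trans (e _ ⟨v, hv, rfl⟩)), by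
      rintro e _ ⟨v, hv, rfl⟩; rw [← h, e v hv]⟩
  constructor
  · rintro ⟨y, hy, hy'⟩
    obtain ⟨z, hz, rfl⟩ := PE.lift φ hy
    exact ⟨z, hz, mt (h1 z).2 hy'⟩
  · rintro ⟨y, hy, hy'⟩
    exact ⟨φ y, PE.map φ hy, mt (h1 y).1 hy'⟩

theorem map_Wsp (hι : Function.Injective ι) (h : ∀ g v, ι (ρ g v) = ρ' (φ g) (ι v)) {x : Γ} {r : ℕ}
    {S : Set V} : (Wsp ρ x r S).map ι = Wsp ρ' (φ x) r (ι '' S) := by
  have h1 : ∀ v, ι (tau ρ x r v) = tau ρ' (φ x) r (ι v) := fun v => by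
    simp only [tau_apply, map_sum, h, map_pow φ]
  rw [Wsp, Submodule.map_span]
  congr 1
  ext w
  constructor
  · rintro ⟨_, ⟨v, hv, h2, rfl⟩, rfl⟩
    exact ⟨_, ⟨v, hv, rfl⟩, fun e => h2 (hι ((h x v).trans e)), (h1 v).symm⟩
  · rintro ⟨_, ⟨v, hv, rfl⟩, h2, rfl⟩
    exact ⟨_, ⟨v, hv, fun e => h2 (by rw [← h, e]), rfl⟩, h1 v⟩

theorem map_inf_centralizer [Finite Γ] (φ : Γ →* Γ') {G : Subgroup Γ} {x : Γ} {r : ℕ}
    (hx : x ^ r = 1) (hr : (Nat.card G).Coprime r) (hxG : x ∈ normalizer (G : Set Γ)) :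
    (G ⊓ centralizer (zpowers x : Set Γ)).map φ =
      G.map φ ⊓ centralizer (zpowers (φ x) : Set Γ') := by
  apply le_antisymm
  · rintro _ ⟨g, hg, rfl⟩
    refine ⟨⟨g, hg.1, rfl⟩, ?_⟩
    rintro _ ⟨k, rfl⟩
    simpa using congrArg φ (hg.2 _ (zpow_mem (mem_zpowers x) k))
  · rintro _ ⟨⟨g, hg, rfl⟩, hc⟩
    obtain ⟨s, hs, h⟩ := coprime_fixed_point_quotient (zpowers x) (G ⊓ φ.ker)
      (le_normalizer_inf (zpowers_le.2 hxG) le_normalizer_of_normal)
      (coprime_zpowers hx (coprime_of_le inf_le_left hr)) (Or.inl (isSolvable_zpowers x)) g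
      (le_normalizer_inf le_normalizer le_normalizer_of_normal hg) fun a ha =>
        ⟨G.mul_mem ((zpowers_le.2 hxG ha g).1 hg) (G.inv_mem hg), by
          have := hc (φ a) (by rw [← MonoidHom.map_zpowers]; exact mem_map_of_mem φ ha)
          simp [this]⟩
    exact ⟨g * s, ⟨mul_mem hg hs.1, h⟩, by rw [map_mul, show φ s = 1 from hs.2, mul_one]⟩

theorem res_map_iff [Finite Γ] (hι : Function.Injective ι) (h : ∀ g v, ι (ρ g v) = ρ' (φ g) (ι v))
    {q r n : ℕ} {G : Subgroup Γ} {x : Γ} (hx : x ^ r = 1) (hr : (Nat.card G).Coprime r)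
    (hxG : x ∈ normalizer (G : Set Γ)) {S : Set V} :
    Res ρ' q r n (G.map φ) (φ x) (ι '' S) ↔ Res ρ q r n G x S := by
  have h1 : ∀ M : Submodule F V, M.map ι = ⊥ ↔ M = ⊥ := fun M => by
    rw [← Submodule.map_bot ι]; exact (Submodule.map_injective_of_injective hι).eq_iff
  simp only [Res, ← map_inf_centralizer φ hx hr hxG, ← map_res, ← Submodule.map_span,
    ← map_Wsp hι h, nt_map hι h, Set.exists_mem_image, ← h, Ne, h1, hι.eq_iff]

end transfer

/-- The inductive statement. -/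
def Claim (r n : ℕ) : Prop :=
  ∀ {Γ : Type u} [Group Γ] [Finite Γ] {F : Type} [Field F] [IsAlgClosed F] {V : Type u}
    [AddCommGroup V] [Module F V] [FiniteDimensional F V] (ρ : Representation F Γ V) {q : ℕ},
    q.Prime → CharP F q → q ≠ r → ∀ {G : Subgroup Γ} {x : Γ} {S : Set V}, Group.IsSolvable G →
    (Nat.card G).Coprime r → x ^ r = 1 → x ∈ normalizer (G : Set Γ) →
    (∀ g ∈ G, ∀ v ∈ S, ρ g v ∈ S) → (∀ v ∈ S, ρ x v ∈ S) → Res ρ q r n G x S

/-- The inductive statement for faithful modules. -/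
def Claim0 (r n : ℕ) : Prop :=
  ∀ {Γ : Type u} [Group Γ] [Finite Γ] {F : Type} [Field F] [IsAlgClosed F] {V : Type u}
    [AddCommGroup V] [Module F V] [FiniteDimensional F V] (ρ : Representation F Γ V) {q : ℕ},
    q.Prime → CharP F q → q ≠ r → ∀ {G : Subgroup Γ} [G.Normal] {x : Γ} {S : Set V},
    Group.IsSolvable G → (Nat.card G).Coprime r → x ^ r = 1 → (∀ g ∈ G, ∀ v ∈ S, ρ g v ∈ S) →
    ρ.ker = ⊥ → Submodule.span F S = ⊤ → Res ρ q r n G x S

theorem Claim0.claim {r n : ℕ} (h : Claim0.{u} r n) : Claim.{u} r n := by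
  intro Γ _ _ F _ _ V _ _ _ ρ q hq hF hqr G x S hG hr hx hxG hS hxS
  set L := G ⊔ zpowers x
  set U := Submodule.span F S
  have h1 : ∀ g, (∀ v ∈ S, ρ g v ∈ S) → g ∈ stab ρ U := fun g hg =>
    Submodule.eq_of_le_of_finrank_eq (Submodule.map_span_le _ _ _ |>.2 fun v hv =>
      Submodule.subset_span (hg v hv)) (finrank_map_rho g U)
  have hL : Inv ρ L U :=
    inv_iff_le_stab.2 (sup_le (fun g hg => h1 g (hS g hg)) (zpowers_le.2 (h1 x hxS)))
  set σ := sub hL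
  let x₀ : L := ⟨x, mem_sup_right (mem_zpowers x)⟩
  have hn : (G.subgroupOf L).Normal :=
    normal_subgroupOf_of_le_normalizer (sup_le le_normalizer (zpowers_le.2 hxG))
  have hx₀ : x₀ ^ r = 1 := Subtype.ext hx
  have hr₀ : (Nat.card (G.subgroupOf L)).Coprime r := by rwa [card_subgroupOf_of_le le_sup_left]
  have e1 : (G.subgroupOf L).map L.subtype = G := map_subgroupOf_eq_of_le le_sup_left
  have e2 : U.subtype '' (U.subtype ⁻¹' S) = S :=
    Set.image_preimage_eq_of_subset fun v hv => ⟨⟨v, Submodule.subset_span hv⟩, rfl⟩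
  have hG₀ : Group.IsSolvable (G.subgroupOf L) :=
    solvable_of_solvable_injective (f := (subgroupOfEquivOfLe (le_sup_left : G ≤ L)).toMonoidHom)
      (MulEquiv.injective _)
  rw [← e1, ← e2]
  refine (res_map_iff (ρ := σ) (φ := L.subtype) (x := x₀) U.injective_subtype (fun _ _ => rfl) hx₀
    hr₀ (le_normalizer_of_normal (mem_top _))).2 ?_
  let ρ' : Representation F (L ⧸ σ.ker) U := QuotientGroup.lift σ.ker σ le_rfl
  refine (res_map_iff (ρ' := ρ') (φ := QuotientGroup.mk' σ.ker) (ι := LinearMap.id)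
    Function.injective_id (fun _ _ => rfl) hx₀ hr₀ (le_normalizer_of_normal (mem_top _))).1 ?_
  have := hn.map _ (QuotientGroup.mk'_surjective σ.ker)
  refine h ρ' hq hF hqr (FH.isSolvable_map hG₀ _) (hr₀.coprime_dvd_left (card_map_dvd _ _))
    (by rw [← map_pow, hx₀, map_one]) ?_ ?_ ?_
  · rintro _ ⟨g, hg, rfl⟩ _ ⟨v, hv, rfl⟩
    exact ⟨_, hS g hg v hv, rfl⟩
  · refine eq_bot_iff.2 fun g hg => ?_
    obtain ⟨g, rfl⟩ := QuotientGroup.mk_surjective g
    exact (QuotientGroup.eq_one_iff g).2 hg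
  · rw [LinearMap.id_coe, Set.image_id]
    exact Submodule.span_span_coe_preimage

section dual
variable {Γ : Type*} [Group Γ] (K : Type*) [Field K]

/-- The conjugation action on functions. -/
def cj : Representation K Γ (Γ → K) where
  toFun g := LinearMap.funLeft K K fun y => g⁻¹ * y * g
  map_one' := by ext; simp
  map_mul' a b := by ext; simp [LinearMap.funLeft_apply, Pi.single_apply, mul_assoc]

/-- Additive characters of `E`, extended by zero. -/
def Ad (E : Subgroup Γ) : Submodule K (Γ → K) where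
  carrier := {f | (∀ a ∈ E, ∀ b ∈ E, f (a * b) = f a + f b) ∧ ∀ y ∉ E, f y = 0}
  zero_mem' := by simp
  add_mem' := fun {f g} hf hg => ⟨fun a ha b hb => by
    simp only [Pi.add_apply, hf.1 a ha b hb, hg.1 a ha b hb]; ring, fun y hy => by
    simp [hf.2 y hy, hg.2 y hy]⟩
  smul_mem' := fun c f hf => ⟨fun a ha b hb => by
    simp only [Pi.smul_apply, hf.1 a ha b hb, smul_add], fun y hy => by simp [hf.2 y hy]⟩

variable {K} {E : Subgroup Γ} {f : Γ → K}

theorem cj_apply (g : Γ) (f : Γ → K) (y : Γ) : cj K g f y = f (g⁻¹ * y * g) := rfl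

theorem inv_Ad : Inv (cj K) (normalizer (E : Set Γ)) (Ad K E) := fun g hg f hf =>
  ⟨fun a ha b hb => by
    simp only [cj_apply]
    rw [← hf.1 _ ((mem_normalizer_iff''.1 hg a).1 ha) _ ((mem_normalizer_iff''.1 hg b).1 hb)]
    congr 1; group, fun y hy => hf.2 _ (mt (mem_normalizer_iff''.1 hg y).2 hy)⟩

theorem Ad_one (hf : f ∈ Ad K E) : f 1 = 0 := by simpa using hf.1 1 (one_mem _) 1 (one_mem _)

theorem Ad_inv (hf : f ∈ Ad K E) {a : Γ} (ha : a ∈ E) : f a⁻¹ = -f a := by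
  rw [eq_neg_iff_add_eq_zero, ← hf.1 _ (inv_mem ha) a ha, inv_mul_cancel, Ad_one hf]

/-- The kernel of an additive character. -/
def kerAd (hf : f ∈ Ad K E) : Subgroup Γ where
  carrier := {e | e ∈ E ∧ f e = 0}
  one_mem' := ⟨one_mem _, Ad_one hf⟩
  mul_mem' := fun {a b} ha hb => ⟨mul_mem ha.1 hb.1, by rw [hf.1 a ha.1 b hb.1, ha.2, hb.2, add_zero]⟩
  inv_mem' := fun {a} ha => ⟨inv_mem ha.1, by rw [Ad_inv hf ha.1, ha.2, neg_zero]⟩

theorem cj_eq_iff (hf : f ∈ Ad K E) {t : Γ} (ht : t ∈ normalizer (E : Set Γ)) :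
    cj K t f = f ↔ ⁅E, zpowers t⁆ ≤ kerAd hf := by
  constructor
  · intro h
    refine commutator_le.2 fun e he a ha => ?_
    have h1 := zpowers_le.2 ht ha
    have h2 := congrFun (inv_mem (zpowers_le.2 (mem_triv_span h) ha) f
      (Submodule.mem_span_singleton_self f)) e⁻¹
    rw [cj_apply, inv_inv] at h2
    rw [commutatorElement_def, mul_assoc, mul_assoc, ← mul_assoc a]
    have h3 := (h1 _).1 (inv_mem he)
    exact ⟨mul_mem he h3, by rw [hf.1 e he _ h3, h2, Ad_inv hf he, add_neg_cancel]⟩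
  · intro h
    ext y
    by_cases hy : y ∈ E
    · have h1 := (h (commutator_mem_commutator (inv_mem hy) (inv_mem (mem_zpowers t)))).2
      rw [commutatorElement_def, inv_inv, inv_inv, mul_assoc, mul_assoc, ← mul_assoc t⁻¹,
        hf.1 _ (inv_mem hy) _ ((mem_normalizer_iff''.1 ht y).1 hy), Ad_inv hf hy,
        neg_add_eq_zero] at h1
      exact h1.symm
    · rw [hf.2 y hy, (inv_Ad t ht f hf).2 y hy]

theorem le_normalizer_kerAd (hf : f ∈ Ad K E) : E ≤ normalizer (kerAd hf : Set Γ) :=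
  le_normalizer_of_conj_mem fun a ha b hb => ⟨mul_mem (mul_mem ha hb.1) (inv_mem ha), by
    rw [hf.1 _ (mul_mem ha hb.1) _ (inv_mem ha), hf.1 a ha b hb.1, hb.2, Ad_inv hf ha]; ring⟩

theorem exists_Ad {p : ℕ} [hp : Fact p.Prime] [CharP K p] [Finite E] (hE : IsPGroup p E)
    {B : Subgroup Γ} (hB : ¬ E ≤ B) : ∃ f ∈ Ad K E, f ≠ 0 ∧ ∀ e ∈ E, e ∈ B → f e = 0 := by
  classical
  obtain ⟨M, hM, hBM⟩ := (eq_top_or_exists_le_coatom (B.subgroupOf E)).resolve_left
    (mt subgroupOf_eq_top.1 hB)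
  have := PG.coatom_normal hE hM
  have hc : Nat.card (E ⧸ M) = p := PG.coatom_index hE hM
  let φ : E ⧸ M ≃* Multiplicative (ZMod p) := mulEquivOfPrimeCardEq hc (by simp)
  let ψ := ZMod.castHom (dvd_refl p) K
  refine ⟨fun y => if h : y ∈ E then ψ (φ (⟨y, h⟩ : E)).toAdd else 0, ⟨fun a ha b hb => ?_,
    fun y hy => dif_neg hy⟩, fun e => hM.1 (eq_top_iff.2 fun g _ => ?_), fun e he hb => ?_⟩
  · simp only [dif_pos ha, dif_pos hb, dif_pos (mul_mem ha hb)]
    rw [← map_add, ← toAdd_mul, ← map_mul, ← QuotientGroup.mk_mul]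
    rfl
  · have h1 := congrFun e g
    rw [dif_pos g.2, Pi.zero_apply, map_eq_zero, toAdd_eq_zero, map_eq_one_iff _ φ.injective] at h1
    exact (QuotientGroup.eq_one_iff g).1 h1
  · simp only [dif_pos he]
    rw [(QuotientGroup.eq_one_iff _).2 (hBM (show (⟨e, he⟩ : E) ∈ B.subgroupOf E from hb))]
    simp

end dual

theorem Claim.dual {r m : ℕ} (hr : r.Prime) (ih : Claim.{u} r m) {Γ : Type u} [Group Γ] [Finite Γ]
    {G E : Subgroup Γ} {x : Γ} (hG : Group.IsSolvable G) (hGr : (Nat.card G).Coprime r)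
    (hx : x ^ r = 1) (hxG : x ∈ normalizer (G : Set Γ)) {p : ℕ} [hp : Fact p.Prime]
    (hE : MinE p E (res m G) (G ⊔ zpowers x)) (hEG : E ≤ G)
    (h2 : ∀ y ∈ PE p (res m (G ⊓ centralizer (zpowers x : Set Γ))), y ∈ centralizer (E : Set Γ))
    {T : Set (Subgroup Γ)}
    (hT : ∀ B ∈ T, ∀ g ∈ G ⊔ zpowers x, ∃ B' ∈ T, ∀ e ∈ B', g⁻¹ * e * g ∈ B)
    (h0 : ∃ B ∈ T, ¬ E ≤ B) :
    (∃ B ∈ T, ¬ ⁅E, zpowers x⁆ ≤ B) ∧ ∀ k, m = k + 1 → ∃ B ∈ T, ¬ ⁅E, zpowers x⁆ ≤ B ∧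
      ∃ e ∈ E ⊓ res k (G ⊓ centralizer (zpowers x : Set Γ)), e ∉ B := by
  let K := AlgebraicClosure (ZMod p)
  set D := G ⊓ centralizer (zpowers x : Set Γ)
  let S : Set (Γ → K) := {f | f ∈ Ad K E ∧ ∃ B ∈ T, ∀ e ∈ E, e ∈ B → f e = 0}
  have hS : ∀ g ∈ G ⊔ zpowers x, ∀ f ∈ S, cj K g f ∈ S := by
    rintro g hg f ⟨h1, B, hB, h3⟩
    obtain ⟨B', hB', h4⟩ := hT B hB g hg
    exact ⟨inv_Ad g (hE.HE hg) f h1, B', hB', fun e he h5 =>
      h3 _ ((mem_normalizer_iff''.1 (hE.HE hg) e).1 he) (h4 e h5)⟩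
  have hSA : Submodule.span K S ≤ Ad K E := Submodule.span_le.2 fun f hf => hf.1
  have hpr : p ≠ r := by
    rintro rfl
    exact hE.ne_bot (eq_bot_of_isPGroup_of_coprime hE.pg (coprime_of_le hEG hGr))
  have hxE : x ∈ normalizer (E : Set Γ) := hE.HE (mem_sup_right (mem_zpowers x))
  have hxE' := le_normalizer_iff_commutator_le_left.1 (zpowers_le.2 hxE)
  obtain ⟨⟨f, hf, hfx⟩, h3, h4⟩ := ih (cj K) hp.out inferInstance hpr hG hGr hx hxG
    (fun g hg => hS g (mem_sup_left hg)) (hS x (mem_sup_right (mem_zpowers x))) (by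
      obtain ⟨t, ht, htE⟩ := hE.exists_PE
      refine ⟨t, ht, fun h3 => htE (hE.mem_centralizer ht ?_)⟩
      let J : Subgroup Γ := E ⊓ ⨅ f : S, kerAd f.2.1
      have hJ : ∀ e, e ∈ J ↔ e ∈ E ∧ ∀ f ∈ S, f e = 0 := fun e =>
        ⟨fun h => ⟨h.1, fun f hf => (mem_iInf.1 h.2 ⟨f, hf⟩).2⟩,
          fun h => ⟨h.1, mem_iInf.2 fun f => ⟨h.1, h.2 f f.2⟩⟩⟩
      have htE' := hE.HE (hE.le ht.1)
      refine le_trans (le_inf (le_normalizer_iff_commutator_le_left.1 (zpowers_le.2 htE'))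
        (le_iInf fun f => (cj_eq_iff f.2.1 htE').1 (h3 _ (Submodule.subset_span f.2))))
        ((hE.eq_or_le (J := J) inf_le_left (le_normalizer_of_conj_mem fun g hg e he =>
          (hJ _).2 ⟨(hE.HE hg e).1 he.1, fun f hf => ?_⟩)).resolve_left fun e => ?_)
      · simpa [cj_apply] using ((hJ e).1 he).2 _ (hS _ (inv_mem hg) f hf)
      · obtain ⟨B, hB, h4⟩ := h0
        obtain ⟨f, h5, h6, h7⟩ := exists_Ad (K := K) hE.pg h4
        refine h6 (funext fun y => ?_)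
        by_cases hy : y ∈ E
        · exact ((hJ y).1 (e.ge hy)).2 f ⟨h5, B, hB, h7⟩
        · exact h5.2 y hy) (by
      rintro ⟨y, hy, h3⟩
      refine h3 fun f hf => (cj_eq_iff (hSA hf) (centralizer_le_normalizer _ (h2 y hy))).2 ?_
      rw [commutator_zpowers_eq_bot_iff.2 (h2 y hy)]
      exact bot_le)
  have h5 : ∀ f ∈ S, cj K x f ≠ f → ∀ B, (∀ e ∈ E, e ∈ B → f e = 0) → ¬ ⁅E, zpowers x⁆ ≤ B :=
    fun f hf h5 B hB e => h5 ((cj_eq_iff hf.1 hxE).2 fun a ha => ⟨hxE' ha, hB a (hxE' ha) (e ha)⟩)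
  refine ⟨?_, fun k hk => ?_⟩
  · obtain ⟨B, hB, h6⟩ := hf.2
    exact ⟨B, hB, h5 f hf hfx B h6⟩
  have hA : ∀ f ∈ S, tau (cj K) x r f ∈ Ad K E := fun f hf => tau_mem (inv_Ad.le_stab hxE) hf.1
  have hsup : ⁅E, zpowers x⁆ ⊔ E ⊓ centralizer (zpowers x : Set Γ) = E :=
    coprime_commutator_sup_centralizer _ E (zpowers_le.2 hxE)
      (coprime_zpowers hx (coprime_of_le hEG hGr)) (Or.inl (isSolvable_zpowers x))
  have hker : ∀ f (hf : f ∈ S), ⁅E, zpowers x⁆ ≤ kerAd (hA f hf) := fun f hf =>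
    (cj_eq_iff _ hxE).1 (rho_tau hx f)
  suffices h6 : ∃ f, ∃ hf : f ∈ S, cj K x f ≠ f ∧ ¬ E ⊓ res k D ≤ kerAd (hA f hf) by
    obtain ⟨f, hf, h6, h7⟩ := h6
    obtain ⟨e, he, h8⟩ := SetLike.not_le_iff_exists.1 h7
    obtain ⟨B, hB, h9⟩ := hf.2
    refine ⟨B, hB, h5 f hf h6 B h9, e, he, fun h10 => h8 ⟨he.1, ?_⟩⟩
    rw [tau_apply, Finset.sum_apply]
    refine Finset.sum_eq_zero fun i _ => ?_
    rw [cj_apply, mul_assoc, ← (res_le k D he.2).2 _ (pow_mem (mem_zpowers x) i),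
      inv_mul_cancel_left, h9 e he.1 h10]
  by_contra! h6
  have hCD : E ⊓ centralizer (zpowers x : Set Γ) ≤ D := inf_le_inf_right _ hEG
  rcases k with _ | k
  · refine h3 (by omega) (Submodule.span_eq_bot.2 ?_)
    rintro _ ⟨f, hf, h7, rfl⟩
    ext y
    by_cases hy : y ∈ E
    · exact ((sup_le (hker f hf) ((le_inf inf_le_left hCD).trans (h6 f hf h7))) (hsup.ge hy)).2
    · exact (hA f hf).2 y hy
  · obtain ⟨y, hy, h7⟩ := h4 k hk
    have hyD := res_le k D hy.1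
    have hyE : y ∈ normalizer (E : Set Γ) := hE.HE (mem_sup_left hyD.1)
    have hyx : zpowers y ≤ normalizer (zpowers x : Set Γ) :=
      zpowers_le.2 (centralizer_le_normalizer _ hyD.2)
    have hyC := le_normalizer_inf (zpowers_le.2 hyE) (le_normalizer_centralizer hyx)
    refine h7 ((Submodule.span_le (p := LinearMap.eqLocus (cj K y) LinearMap.id)).2 ?_)
    rintro _ ⟨f, hf, h8, rfl⟩
    refine (cj_eq_iff (hA f hf) hyE).2 ?_
    refine (commutator_mono hsup.ge le_rfl).trans (MSS.sup_commutator_le_of_normalizes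
      (hxE'.trans (le_normalizer_kerAd _)) (inf_le_left.trans (le_normalizer_kerAd _))
      ((le_normalizer_iff_commutator_le_left.1 (le_normalizer_commutator (zpowers_le.2 hyE)
        hyx)).trans (hker f hf)) (le_trans (le_inf ?_ ?_) (h6 f hf h8)))
    · exact (le_normalizer_iff_commutator_le_left.1 hyC).trans inf_le_left
    · exact commutator_le_res (hE.pg.to_le inf_le_left) hCD hy (hyC (mem_zpowers y))

end CL.Tur
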