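import Mathlib
import Cfsg.Agent.FGS.Tur7

/-!
Turull's theorem: the Fitting height of a solvable group exceeds that of the fixed points of a
coprime automorphism of prime order by at most two.
-/

set_option autoImplicit false
open Subgroup Cfsg
open scoped commutatorElement

namespace CL.Tur

open CL.FH CL.HH

universe u

variable {F Γ V : Type*} [Field F] [Group Γ] [AddCommGroup V] [Module F V]

/-- A minimal subgroup `E` acting on a faithful module spanned by the invariant set `S`. -/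
structure Mod (ρ : Representation F Γ V) (p r : ℕ) (E N H : Subgroup Γ) (x : Γ) (S : Set V) :
    Prop where
  min : MinE p E N H
  hr : r.Prime
  pr : r ≠ p
  pF : (p : F) ≠ 0
  rF : (r : F) ≠ 0
  xr : x ^ r = 1
  xH : x ∈ H
  sol : Group.IsSolvable N
  cop : (Nat.card N).Coprime r
  ker : ρ.ker = ⊥
  span : Submodule.span F S = ⊤
  inv : ∀ e ∈ E, ∀ v ∈ S, ρ e v ∈ S

namespace Mod

variable {ρ : Representation F Γ V} {p r : ℕ} {E N H : Subgroup Γ} {x : Γ} {S : Set V}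
  [Finite Γ] [hp : Fact p.Prime] (h : Mod ρ p r E N H x S)
include h

theorem coprime {A : Subgroup Γ} (hA : A ≤ E) : (Nat.card A).Coprime r :=
  coprime_of_isPGroup_of_ne h.hr h.pr (h.min.pg.to_le hA)

theorem card_ne {A : Subgroup Γ} (hA : A ≤ E) : (Nat.card A : F) ≠ 0 :=
  natCast_card_ne_zero (h.min.pg.to_le hA) h.pF

theorem moved {Z : Subgroup Γ} (hZ : Z ≤ E) (hx : x ∈ normalizer (Z : Set Γ)) {l : Γ → F}
    (hl : IsCh Z l) (hxl : x ∉ fixes Z l) (h0 : Eig ρ Z l ≠ ⊥) :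
    Wsp ρ x r S ≠ ⊥ ∧ ∀ t ∈ triv ρ (Wsp ρ x r S), t ∈ normalizer (Z : Set Γ) → Commute t x →
      ∀ n, n.Coprime r → t ^ n = 1 → t ∈ triv ρ (Eig ρ Z l) := by
  have := Fintype.ofFinite Z
  have h1 := fun v (hv : v ∈ S) => hl.moved (h.card_ne hZ) h.hr h.xr (h.coprime hZ) hx hxl
    (fun z hz => h.inv z (hZ hz)) hv
  exact ⟨fun e => h0 (eq_bot_iff.2 fun w hw => hl.le_span (h.card_ne hZ) (M := ⊥)
    (fun v hv => (h1 v hv).1 e) hw (h.span ▸ Submodule.mem_top)),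
    fun t h2 h3 h4 n h5 h6 w hw => hl.le_span (h.card_ne hZ)
      (M := LinearMap.eqLocus (ρ t) LinearMap.id) (fun v hv => (h1 v hv).2 t h2 h3 h4 n h5 h6) hw
      (h.span ▸ Submodule.mem_top)⟩

theorem ctx {l : Γ → F} (hl : IsCh (E ⊓ centralizer (Opp p N : Set Γ)) l)
    (hxl : x ∈ fixes (E ⊓ centralizer (Opp p N : Set Γ)) l) :
    Ctx F p r E (E ⊓ centralizer (Opp p N : Set Γ)) x l :=
  ⟨hp.out, h.hr, h.pr, h.pF, h.rF, h.min.pg, inf_le_left, h.min.commutator_le,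
    h.min.le_centralizer, h.xr, h.min.HE h.xH, hxl, hl⟩

theorem tow : Tow p r E (E ⊓ centralizer (Opp p N : Set Γ)) x :=
  h.min.tow h.sol h.cop h.xr h.xH

variable [IsAlgClosed F] [FiniteDimensional F V]

theorem eq_one {e : Γ} (he : ∀ U, Irr ρ E U → e ∈ triv ρ U) : e = 1 := by
  have := mem_triv_of_forall_irr (h.card_ne le_rfl) inv_top fun U _ => he U
  rwa [triv_top, h.ker, mem_bot] at this

theorem exists_ch {U : Submodule F V} (hU : Irr ρ E U) :
    ∃ l, IsCh (E ⊓ centralizer (Opp p N : Set Γ)) l ∧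
      U ≤ Eig ρ (E ⊓ centralizer (Opp p N : Set Γ)) l :=
  exists_isCh hU.1 (hU.le_scal_of_le_ker inf_le_left
    ((commutator_eq_bot_iff_le_centralizer.2 h.min.le_centralizer).le.trans bot_le))

theorem exists_moved (ha : ⁅E, E⁆ = ⊥) {U : Submodule F V} (hU : Irr ρ E U)
    (hx : ¬ ⁅E, zpowers x⁆ ≤ triv ρ U) : ∃ l, IsCh E l ∧ U ≤ Eig ρ E l ∧ x ∉ fixes E l := by
  obtain ⟨l, hl, hUl⟩ := exists_isCh hU.1 (hU.le_scal_of_le_ker le_rfl (ha.le.trans bot_le))
  exact ⟨l, hl, hUl, fun e => hx ((commutator_le_triv hl.le_scal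
    (zpowers_le.2 (fixes_le_stab e))).trans (triv_anti hUl))⟩

theorem exists_not_triv : ∃ U, Irr ρ E U ∧ ¬ E ≤ triv ρ U := by
  by_contra! hc
  exact h.min.ne_bot (eq_bot_iff.2 fun e he => h.eq_one fun U hU => hc U hU he)

theorem exists_not_scal (ha : ⁅E, E⁆ ≠ ⊥) : ∃ U, Irr ρ E U ∧ ¬ E ≤ scal ρ U := by
  by_contra! hc
  exact ha (eq_bot_iff.2 fun e he => h.eq_one fun U hU =>
    commutator_le_triv (hc U hU) hU.2.1.le_stab he)

theorem key : ∃ B : Submodule F V → Subgroup Γ,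
    (∀ U g e, e ∈ B (U.map (ρ g)) ↔ g⁻¹ * e * g ∈ B U) ∧ (∃ U, Irr ρ E U ∧ ¬ E ≤ B U) ∧
    ∀ U, Irr ρ E U → ¬ ⁅E, zpowers x⁆ ≤ B U → Wsp ρ x r S ≠ ⊥ ∧
      ∀ e ∈ E, Commute e x → e ∈ triv ρ (Wsp ρ x r S) → e ∈ B U := by
  have hpow : ∀ e ∈ E, e ^ Nat.card E = 1 := fun e he =>
    congrArg Subtype.val (pow_card_eq_one' (x := (⟨e, he⟩ : E)))
  by_cases ha : ⁅E, E⁆ = ⊥
  · refine ⟨triv ρ, fun _ _ _ => mem_triv_map, h.exists_not_triv, fun U hU hx => ?_⟩
    obtain ⟨l, hl, hUl, hxl⟩ := h.exists_moved ha hU hx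
    obtain ⟨h1, h2⟩ := h.moved le_rfl (h.min.HE h.xH) hl hxl (ne_bot_of_le_ne_bot hU.1 hUl)
    exact ⟨h1, fun e he hc ht => triv_anti hUl
      (h2 e ht (le_normalizer he) hc _ (h.coprime le_rfl) (hpow e he))⟩
  refine ⟨scal ρ, fun _ _ _ => mem_scal_map, h.exists_not_scal ha, fun U hU hx => ?_⟩
  obtain ⟨l, hl, hUl⟩ := h.exists_ch hU
  have h0 := ne_bot_of_le_ne_bot hU.1 hUl
  by_cases hxl : x ∈ fixes (E ⊓ centralizer (Opp p N : Set Γ)) l
  · have hc := h.ctx hl hxl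
    have := Fintype.ofFinite ↥(E ⊓ centralizer (Opp p N : Set Γ))
    have h1 := hc.map_Wsp_ne_bot h.tow h0 h.inv h.span
      fun e => hx ((e.trans (hc.rad_eq hU hUl).le).trans inf_le_right)
    refine ⟨fun e => h1 (by rw [e, Submodule.map_bot]), fun e he h2 ht => ?_⟩
    by_contra hne
    exact h1 (hc.eq_bot_of_not_mem_rad (hl.map_proj_le _) (inv_map_proj
      (inf_le_left.trans hc.E_fixes) (inv_Wsp (fun c hc => (hc.2 x (mem_zpowers x)).symm)
        fun c hc => h.inv c hc.1)) he h2 (mem_triv_map_proj (hc.E_fixes he) ht)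
      fun e => hne ((hc.rad_eq hU hUl).le e).2)
  · obtain ⟨h1, h2⟩ := h.moved inf_le_left (h.min.HZ h.xH) hl hxl h0
    exact ⟨h1, fun e he hc ht => triv_le_scal (triv_anti hUl (h2 e ht (centralizer_le_normalizer _
      (MSS.le_centralizer_symm h.min.le_centralizer he)) hc _ (h.coprime le_rfl) (hpow e he)))⟩

theorem base {q m : ℕ} (hq : q.Prime) (hpq : p ≠ q) {D : Subgroup Γ} (hN : N = res (m + 1) D)
    (hDH : D ≤ H) (hDx : ∀ c ∈ D, Commute c x) (hDS : ∀ c ∈ D, ∀ v ∈ S, ρ c v ∈ S)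
    (hCD : ∀ e ∈ E, Commute e x → e ∈ D)
    (hfp : ∀ e ∈ E, Commute e x → e ∈ E ⊓ centralizer (Opp p N : Set Γ))
    (hEx : ⁅E, zpowers x⁆ = E) : NT ρ q (res m D) (Wsp ρ x r S) := by
  by_contra hnt
  simp only [NT, not_exists, not_and, not_not] at hnt
  set W := Wsp ρ x r S
  set Z := E ⊓ centralizer (Opp p N : Set Γ)
  set M := res m D
  have hMD : M ≤ D := res_le m D
  have hN' : N = nres M := hN.trans (res_succ m D)
  have hND : N ≤ D := hN ▸ res_le _ D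
  have hDW : D ≤ stab ρ W := (inv_Wsp hDx hDS).le_stab
  have hNW : N ≤ triv ρ W :=
    hN' ▸ nres_le_of_PE hq ((hMD.trans hDW).trans stab_le_normalizer_triv) hnt
  have hA : ∀ Z ≤ E, H ≤ normalizer (Z : Set Γ) → ∀ l, IsCh Z l → x ∉ fixes Z l → Eig ρ Z l ≠ ⊥ →
      E ≤ fixes Z l → E ≤ triv ρ (Eig ρ Z l) := fun Z hZ hH l hl hxl h0 hE => by
    rw [← h.min.commutator_eq]
    exact commutator_triv_le (hE.trans fixes_le_stab) (Opp_le.trans fun t ht =>
      (h.moved hZ (hH h.xH) hl hxl h0).2 t (hNW ht) (hH (h.min.le ht)) (hDx t (hND ht)) _ h.cop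
        (congrArg Subtype.val (pow_card_eq_one' (x := (⟨t, ht⟩ : N)))))
  by_cases ha : ⁅E, E⁆ = ⊥
  · obtain ⟨U, hU, hEU⟩ := h.exists_not_triv
    obtain ⟨l, hl, hUl, hxl⟩ := h.exists_moved ha hU (by rwa [hEx])
    exact hEU ((hA E le_rfl h.min.HE l hl hxl (ne_bot_of_le_ne_bot hU.1 hUl)
      ((commutator_eq_bot_iff_le_centralizer.1 ha).trans centralizer_le_fixes)).trans
      (triv_anti hUl))
  have := Fintype.ofFinite Z
  have hB : ∀ U, Irr ρ E U → ¬ E ≤ scal ρ U → ∃ l, Ctx F p r E Z x l ∧ U ≤ Eig ρ Z l ∧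
      W.map (proj ρ Z l) ≠ ⊥ := fun U hU hEU => by
    obtain ⟨l, hl, hUl⟩ := h.exists_ch hU
    have h0 := ne_bot_of_le_ne_bot hU.1 hUl
    have hc := h.ctx hl (by_contra fun e => hEU (((hA Z inf_le_left h.min.HZ l hl e h0
      ((MSS.le_centralizer_symm h.min.le_centralizer).trans centralizer_le_fixes)).trans
      (triv_anti hUl)).trans triv_le_scal))
    exact ⟨l, hc, hUl, hc.map_Wsp_ne_bot h.tow h0 h.inv h.span fun e =>
      hEU (((hEx.ge.trans e).trans (hc.rad_eq hU hUl).le).trans inf_le_right)⟩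
  have hE' : H ≤ normalizer ((⁅E, E⁆ : Subgroup Γ) : Set Γ) :=
    le_normalizer_commutator h.min.HE h.min.HE
  have hC : ∀ e ∈ ⁅E, E⁆, (∀ U l, Ctx F p r E Z x l → U ≤ Eig ρ Z l → W.map (proj ρ Z l) ≠ ⊥ →
      e ∈ triv ρ (Eig ρ Z l)) → e = 1 := fun e he h1 => h.eq_one fun U hU => by
    by_cases hEU : E ≤ scal ρ U
    · exact commutator_le_triv hEU hU.2.1.le_stab he
    · obtain ⟨l, h2, h3, h4⟩ := hB U hU hEU
      exact triv_anti h3 (h1 U l h2 h3 h4)
  have hE'D : ⁅E, E⁆ ≤ D := fun e he => hCD e (commutator_le_self E he)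
    (commutatorElement_eq_one_iff_commute.1 (hC _ (le_normalizer_iff_commutator_le_left.1 hE'
      (commutator_mem_commutator he h.xH)) fun U l hc _ _ => commutator_scal_stab_le
      (commutator_mem_commutator (hc.ch.le_scal (hc.comm he)) hc.x_stab)))
  have hE'W : ⁅E, E⁆ ⊓ triv ρ W ≤ ⊥ := fun e he => hC e he.1 fun U l hc _ h1 =>
    hc.mem_triv (hc.ch.map_proj_le W) h1 (hc.comm he.1)
      (mem_triv_map_proj (hc.E_fixes (commutator_le_self E he.1)) he.2)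
  have hcom : ∀ y ∈ M, ⁅⁅E, E⁆, zpowers y⁆ ≤ triv ρ W →
      y ∈ centralizer ((⁅E, E⁆ : Subgroup Γ) : Set Γ) := fun y hy h1 =>
    commutator_zpowers_eq_bot_iff.1 (eq_bot_iff.2 ((le_inf (le_normalizer_iff_commutator_le_left.1
      (zpowers_le.2 (hE' (hDH (hMD hy))))) h1).trans hE'W))
  have hMC : M ≤ centralizer ((⁅E, E⁆ : Subgroup Γ) : Set Γ) := le_of_PE_PE hp.out hq hpq
    (fun y hy => hcom y hy.1 ((commutator_le_res (h.min.pg.to_le (commutator_le_self E)) hE'D hy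
      (hE' (hDH (hMD hy.1)))).trans (hN ▸ hNW)))
    fun y hy => hcom y hy.1 (commutator_triv_le (hE'D.trans hDW) (zpowers_le.2 (hnt y hy)))
  obtain ⟨U, hU, hEU⟩ := h.exists_not_scal ha
  obtain ⟨l, hc, hUl, -⟩ := hB U hU hEU
  set A := rad ρ E (Eig ρ Z l)
  have hME : M ≤ normalizer (E : Set Γ) := (hMD.trans hDH).trans h.min.HE
  have hMA : M ≤ normalizer (A : Set Γ) := le_normalizer_rad hME
    (MSS.le_normalizer_of_le_centralizer (hMC.trans (MSS.centralizer_anti inf_le_left)))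
  have hEA : E ≤ normalizer (A : Set Γ) := hc.normalizer_of_between hc.Z_le_rad inf_le_left
  have hMK : M ≤ normalizer (MSS.secC E A : Set Γ) := MSS.le_normalizer_secC hME hMA
  have hNM : N ≤ M := hN' ▸ nres_le M
  have h1 : ∀ t ∈ PE p N, t ∈ MSS.secC E A ∨ p ≠ 2 ∧ Invs E A t := by
    intro t ht
    by_cases h1 : ⁅E, zpowers t⁆ ≤ A
    · exact Or.inl (MSS.le_secC_iff.2 ⟨zpowers_le.2 (hMA (hNM ht.1)), h1⟩ (mem_zpowers t))
    have htl : t ∈ fixes Z l := centralizer_le_fixes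
      (MSS.le_centralizer_symm (inf_le_right : Z ≤ _) (mem_Opp ht))
    obtain ⟨htN, s, k, hs, hsp, htk⟩ := ht
    have hsr : s ≠ r := by
      rintro rfl
      refine h1 ?_
      rw [zpowers_eq_bot.2 (mem_bot.1 (mem_of_coprime_pow (h.cop.pow_right k) (mem_bot.2
        (congrArg Subtype.val (pow_card_eq_one' (x := (⟨t, htN⟩ : N))))) (mem_bot.2 htk))),
        commutator_bot_right]
      exact bot_le
    obtain ⟨h2, h3⟩ := hc.invs hfp hs hsp hsr htk (hDx t (hND htN)) (hME (hNM htN)) htl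
      (ne_bot_of_le_ne_bot hU.1 hUl) ((hc.commutator_le_rad_or hfp hs hsp hsr htk (hDx t (hND htN))
        (hME (hNM htN)) htl h.inv h.span (mem_triv_map_proj htl (hNW htN))).resolve_left h1) h1
    exact Or.inr ⟨fun e => hsp (h2.trans e.symm), h3⟩
  have h2 : Opp p N ≤ MSS.secC E A := by
    by_cases hp2 : p = 2
    · exact (closure_le _).2 fun t ht => (h1 t ht).resolve_right fun e => e.1 hp2
    rw [hN'] at h1 ⊢
    refine Opp_le_of_central hp.out hp2 hMK fun t ht => ?_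
    rcases h1 t ht with h2 | ⟨-, h2⟩
    · exact ⟨fun n hn => mul_mem ((mem_normalizer_iff.1 (hMK hn) t).1 h2) (inv_mem h2),
        pow_mem h2 2⟩
    · exact ⟨fun n hn => (h2.conj (hME hn) (hMA hn)).mul_mem hEA (h2.inv hEA),
        pow_two t ▸ h2.mul_mem hEA h2⟩
  exact hEU (((h.min.commutator_eq.ge.trans (MSS.le_secC_iff.1 h2).2).trans
    (hc.rad_eq hU hUl).le).trans inf_le_right)

end Mod

theorem claim0_moved {ρ : Representation F Γ V} {q n : ℕ} {G : Subgroup Γ} {x : Γ} {S : Set V}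
    (hk : ρ.ker = ⊥) (hS : Submodule.span F S = ⊤) (h1 : NT ρ q (res n G) (Submodule.span F S))
    (h2 : ¬ NT ρ q (res n (G ⊓ centralizer (zpowers x : Set Γ))) (Submodule.span F S)) :
    ∃ v ∈ S, ρ x v ≠ v := by
  by_contra! hc
  have h3 : x ∈ triv ρ (Submodule.span F S) :=
    (Submodule.span_le (p := LinearMap.eqLocus (ρ x) LinearMap.id)).2 hc
  rw [hS, triv_top, hk, mem_bot] at h3
  rw [h3, inf_eq_left.2 fun g _ => by simp [mem_centralizer_iff]] at h2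
  exact h2 h1

theorem claim {r : ℕ} (hr : r.Prime) (n : ℕ) : Claim.{u} r n := by
  induction n with
  | zero =>
    refine Claim0.claim fun ρ q _ _ _ G _ x S _ _ _ _ hk hS h1 h2 =>
      ⟨claim0_moved hk hS h1 h2, fun e => absurd e (by omega), fun m e => absurd e (by omega)⟩
  | succ n ih =>
  refine Claim0.claim ?_
  intro Γ _ _ F _ _ V _ _ _ ρ q hq hF hqr G _ x S hG hGr hx hS hk hsp h1 h2
  refine ⟨claim0_moved hk hsp h1 h2, ?_⟩
  obtain ⟨y, ⟨hy, p, k, hp, hpq, hyk⟩, hy1⟩ := h1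
  have := Fact.mk hp
  obtain ⟨P, G', hG', hPG, hP, hxP, hxG, hGP, t, ht, htP⟩ := exists_top hG hx hGr hp hy
    (fun e => hy1 (e ▸ one_mem _)) hyk
  have hG's := isSolvable_of_le hG' hG
  have hG'r := coprime_of_le hG' hGr
  have hcast : ∀ s : ℕ, s.Prime → s ≠ q → (s : F) ≠ 0 := fun s hs hsq e =>
    hsq ((Nat.prime_dvd_prime_iff_eq hq hs).1 ((CharP.cast_eq_zero_iff F q s).1 e)).symm
  have hmod : ∀ {E N H : Subgroup Γ}, MinE p E N H → E ≤ P → N ≤ G' → x ∈ H →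
      Mod ρ p r E N H x S := fun {E N H} hE hEP hN hxH =>
    ⟨hE, hr, by
      rintro rfl
      exact hE.ne_bot (eq_bot_of_isPGroup_of_coprime hE.pg (coprime_of_le (hEP.trans hPG) hG'r)),
      hcast p hp hpq, hcast r hr hqr.symm, hx, hxH, isSolvable_of_le hN hG's, coprime_of_le hN hG'r,
      hk, hsp, fun e he => hS e (hG' (hPG (hEP he)))⟩
  set D := G' ⊓ centralizer (zpowers x : Set Γ)
  have hDC : D ≤ G ⊓ centralizer (zpowers x : Set Γ) := inf_le_inf_right _ hG'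
  have hDx : ∀ c ∈ D, Commute c x := fun c hc => (hc.2 x (mem_zpowers x)).symm
  have hpe : ∀ {E : Subgroup Γ}, IsPGroup p E → ∀ {M : Subgroup Γ}, ∀ e ∈ E, e ∈ M → e ∈ PE q M :=
    fun {E} hE M e he hM => by
      obtain ⟨j, hj⟩ := hE ⟨e, he⟩
      exact ⟨hM, p, j, hp, hpq, congrArg Subtype.val hj⟩
  by_cases hc : ∀ y ∈ PE p (res n D), y ∈ centralizer (P : Set Γ)
  · obtain ⟨E, hEP, hE⟩ := exists_minE (H := G' ⊔ zpowers x) hP ((res_le n G').trans le_sup_left)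
      (le_normalizer_res n (sup_le le_normalizer (zpowers_le.2 hxG)))
      (sup_le hGP (zpowers_le.2 hxP)) ht htP
    obtain ⟨B, hB1, ⟨U, hU, hB2⟩, hB3⟩ :=
      (hmod hE hEP (res_le n G') (mem_sup_right (mem_zpowers x))).key
    obtain ⟨⟨_, ⟨U, hU, rfl⟩, h3⟩, h4⟩ := ih.dual hr hG's hG'r hx hxG hE (hEP.trans hPG)
      (fun y hy => MSS.centralizer_anti hEP (hc y hy)) (T := B '' {U | Irr ρ E U})
      (by
        rintro _ ⟨U, hU, rfl⟩ g hg
        exact ⟨_, ⟨_, hU.map_normalizer (hE.HE hg), rfl⟩, fun e => (hB1 U g e).1⟩)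
      ⟨_, ⟨U, hU, rfl⟩, hB2⟩
    refine ⟨fun _ => (hB3 U hU h3).1, fun m hm => ?_⟩
    obtain ⟨_, ⟨U, hU, rfl⟩, h5, e, he, h6⟩ := h4 m (by omega)
    exact ⟨e, hpe hE.pg e he.1 (res_mono m hDC he.2), fun h7 =>
      h6 ((hB3 U hU h5).2 e he.1 (hDx e (res_le m D he.2)) h7)⟩
  push Not at hc
  obtain ⟨t, ht, htP⟩ := hc
  have hxD : zpowers x ≤ centralizer (D : Set Γ) := MSS.le_centralizer_symm inf_le_right
  obtain ⟨E, hEP, hE⟩ := exists_minE (H := D ⊔ zpowers x) hP ((res_le n D).trans le_sup_left)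
    (le_normalizer_res n (sup_le le_normalizer (MSS.le_normalizer_of_le_centralizer hxD)))
    (sup_le (inf_le_left.trans hGP) (zpowers_le.2 hxP)) ht htP
  have hM := hmod hE hEP ((res_le n D).trans inf_le_left) (mem_sup_right (mem_zpowers x))
  have hHx : D ⊔ zpowers x ≤ normalizer (zpowers x : Set Γ) :=
    sup_le (MSS.le_normalizer_of_le_centralizer inf_le_right) le_normalizer
  have hCD : E ⊓ centralizer (zpowers x : Set Γ) ≤ D := inf_le_inf_right _ (hEP.trans hPG)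
  have hCY : E ⊓ centralizer (zpowers x : Set Γ) ≤ centralizer (Opp p (res n D) : Set Γ) := by
    refine MSS.le_centralizer_symm ((closure_le _).2 fun y hy =>
      commutator_zpowers_eq_bot_iff.1 (eq_bot_iff.2 fun e he => ?_))
    have hy' := le_normalizer_inf hE.HE (le_normalizer_centralizer hHx) (hE.le hy.1)
    by_contra hne
    refine h2 ⟨e, hpe hE.pg e (le_normalizer_iff_commutator_le_left.1 (zpowers_le.2 hy') he).1
      (res_mono _ hDC (commutator_le_res (hE.pg.to_le inf_le_left) hCD hy hy' he)), ?_⟩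
    rwa [hsp, triv_top, hk]
  have hxE := zpowers_le.2 (hE.HE hM.xH)
  have hEx : ⁅E, zpowers x⁆ = E := by
    refine (hE.eq_or_le (le_normalizer_iff_commutator_le_left.1 hxE)
      (le_normalizer_commutator hE.HE hHx)).resolve_right fun e => hE.not_le ?_
    rw [← coprime_commutator_sup_centralizer _ E hxE (coprime_zpowers hx (hM.coprime le_rfl))
      (Or.inl (isSolvable_zpowers x))]
    exact sup_le e hCY
  have hcx : ∀ e ∈ E, Commute e x → e ∈ E ⊓ centralizer (zpowers x : Set Γ) := fun e he hc =>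
    ⟨he, by rw [MSS.centralizer_zpowers]; exact mem_centralizer_singleton_iff.2 hc.eq⟩
  obtain ⟨B, -, ⟨U, hU, hB2⟩, hB3⟩ := hM.key
  refine ⟨fun _ => (hB3 U hU (by rwa [hEx])).1, fun m hm => ?_⟩
  obtain rfl : n = m + 1 := by omega
  obtain ⟨y, hy, h3⟩ := hM.base hq hpq rfl le_sup_left hDx (fun c hc => hS c (hG' hc.1))
    (fun e he hc => hCD (hcx e he hc)) (fun e he hc => ⟨he, hCY (hcx e he hc)⟩) hEx
  exact ⟨y, PE.mono (res_mono m hDC) hy, h3⟩

/-- Turull's theorem. -/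
theorem res_add_two_eq_bot {Γ : Type u} [Group Γ] [Finite Γ] {G : Subgroup Γ} [G.Normal]
    (hG : Group.IsSolvable G) {r : ℕ} (hr : r.Prime) (hGr : (Nat.card G).Coprime r) {x : Γ}
    (hx : x ^ r = 1) {n : ℕ} (h : res n (G ⊓ centralizer (zpowers x : Set Γ)) = ⊥) :
    res (n + 2) G = ⊥ := by
  by_contra hne
  obtain ⟨p, hp, hd⟩ := Nat.exists_prime_and_dvd (card_eq_one.not.2 hne)
  have := Fact.mk hp
  obtain ⟨y, hy⟩ := exists_prime_orderOf_dvd_card' p hd
  rw [← orderOf_coe] at hy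
  obtain ⟨P, G', hG', hPG, hP, hxP, hxG, hGP, t, ht, htP⟩ := exists_top hG hx hGr hp (k := 1) y.2
    (fun e => hp.one_lt.ne' (by rw [← hy, e, orderOf_one])) (by rw [pow_one, ← hy, pow_orderOf_eq_one])
  obtain ⟨E, hEP, hE⟩ := exists_minE (H := G' ⊔ zpowers x) hP ((res_le _ G').trans le_sup_left)
    (le_normalizer_res _ (sup_le le_normalizer (zpowers_le.2 hxG)))
    (sup_le hGP (zpowers_le.2 hxP)) ht htP
  have h1 : res n (G' ⊓ centralizer (zpowers x : Set Γ)) = ⊥ :=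
    eq_bot_iff.2 ((res_mono n (inf_le_inf_right _ hG')).trans h.le)
  obtain ⟨_, rfl, -, e, he, h2⟩ := (Claim.dual hr (claim hr (n + 1)) (isSolvable_of_le hG' hG)
    (coprime_of_le hG' hGr) hx hxG hE (hEP.trans hPG) (fun y hy => by
      rw [mem_bot.1 ((res_eq_bot_mono n.le_succ h1).le hy.1)]; exact one_mem _) (T := {⊥})
    (by
      rintro _ rfl g _
      exact ⟨⊥, rfl, fun e he => by simp [mem_bot.1 he]⟩)
    ⟨⊥, rfl, fun e => hE.ne_bot (le_bot_iff.1 e)⟩).2 n rfl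
  exact h2 (h1.le he.2)

end CL.Tur
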