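import Mathlib
import Cfsg.Agent.PLOC.PStable
import Cfsg.Agent.PLOC.QdFree
import Cfsg.Agent.SIG.SPE
import Cfsg.Agent.SOLV.CoprimeGen
import Cfsg.Agent.SOLV.PSolvable
import Cfsg.Agent.SOLV.PGroupCyclicSCN
import Cfsg.Agent.S3815

/-!
Groups in which many two-generated subgroups are solvable.
-/

set_option autoImplicit false
open Subgroup Cfsg CL.MSS
open scoped commutatorElement

namespace CL.TwoGen

variable {G : Type*} [Group G] [Finite G] {p : ℕ} [hp : Fact p.Prime]

/-- An element lying in `O_{p'}(H)` for subgroups `H` covering the group lies in `O_{p'}(G)`. -/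
theorem mem_pPrimeCore_of_forall {d : G}
    (h : ∀ g : G, ∃ H : Subgroup G, g ∈ H ∧ d ∈ (pPrimeCore p H).map H.subtype) :
    d ∈ pPrimeCore p G := by
  have key : ∀ g : G, (orderOf g).Coprime p → (orderOf (d * g)).Coprime p := by
    intro g hg
    obtain ⟨H, hgH, e, he, rfl⟩ := h g
    have h1 : (e * ⟨g, hgH⟩) ^ orderOf g ∈ pPrimeCore p H := by
      rw [← QuotientGroup.eq_one_iff, QuotientGroup.mk_pow, QuotientGroup.mk_mul,
        (QuotientGroup.eq_one_iff e).2 he, one_mul, ← QuotientGroup.mk_pow]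
      rw [show (⟨g, hgH⟩ : H) ^ orderOf g = 1 from Subtype.ext (pow_orderOf_eq_one g)]
      rfl
    have h2 : ((e : G) * g) ^ (orderOf g * Nat.card (pPrimeCore p H)) = 1 := by
      rw [pow_mul]
      exact congrArg Subtype.val (congrArg Subtype.val
        (pow_card_eq_one' (x := (⟨_, h1⟩ : pPrimeCore p H))))
    exact (Nat.Coprime.mul_left hg (coprime_card_pPrimeCore p H)).coprime_dvd_left
      (orderOf_dvd_of_pow_eq_one h2)
  exact Cfsg.Agent.S3815.result d (by simpa using key 1 (by simp)) key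

omit [Finite G] hp in
theorem mem_zpowers_mul_of_coprime {x d : G} (hc : Commute x d)
    (h : (orderOf x).Coprime (orderOf d)) : x ∈ zpowers (x * d) := by
  have h1 : x ^ orderOf d ∈ zpowers (x * d) := by
    rw [← mul_one (x ^ orderOf d), ← pow_orderOf_eq_one d, ← hc.mul_pow]
    exact pow_mem (mem_zpowers _) _
  exact zpowers_le.2 h1 (mem_zpowers_pow_iff.2 h.symm)

/-- A normal `p'`-subgroup of the centralizer of a `p`-subgroup `P` meets a `p`-constrained
subgroup `H ≥ P` inside `O_{p'}(H)`. -/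
theorem inf_le_pPrimeCore {P D H : Subgroup G} (hP : IsPGroup p P) (hPH : P ≤ H)
    (hH : IsPConstrained p H) (hD : D ≤ centralizer (P : Set G))
    (hn : centralizer (P : Set G) ≤ normalizer (D : Set G)) (hc : (Nat.card D).Coprime p) :
    D ⊓ H ≤ (pPrimeCore p H).map H.subtype := by
  have h1 := hH.map_pPrimeCore_centralizer (isPGroup_subgroupOf hP H)
  rw [PSt.centralizer_subgroupOf hPH] at h1
  set C := (centralizer (P : Set G)).subgroupOf H
  have : ((D.subgroupOf H).subgroupOf C).Normal :=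
    ⟨fun n hn' g => conj_mem_of_normalizes hn (x := ((g : H) : G)) g.2 hn'⟩
  have h2 : (D.subgroupOf H).subgroupOf C ≤ pPrimeCore p C := le_pPrimeCore
    (hc.coprime_dvd_left (card_dvd_of_injective
      (((H.subtype.comp C.subtype).comp (Subgroup.subtype _)).codRestrict D fun x => x.2)
      fun _ _ e => Subtype.ext (Subtype.ext (Subtype.ext (congrArg (Subtype.val : D → G) e)))))
  intro d hd
  have h3 : (⟨d, hd.2⟩ : H) ∈ (pPrimeCore p C).map C.subtype :=
    ⟨⟨⟨d, hd.2⟩, hD hd.1⟩, h2 hd.1, rfl⟩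
  rw [h1] at h3
  exact ⟨_, h3.1, rfl⟩

/-- The Frattini argument for a `p`-solvable subgroup meeting a strongly `p`-embedded subgroup. -/
theorem le_sup_of_spe {Y H : Subgroup G} (hY : IsStronglyPEmbedded p Y) (hH : IsPSolvable p H)
    {x : G} (hxH : x ∈ H) (hxY : x ∈ Y) (hx : orderOf x = p) :
    H ≤ (pPrimeCore p H).map H.subtype ⊔ (Y ⊓ H) := by
  obtain ⟨T, hT⟩ := (isPGroup_subgroupOf (SPE.isPGroup_zpowers_of_orderOf hx) H).exists_le_sylow
  have hxT : (⟨x, hxH⟩ : H) ∈ (T : Subgroup H) := hT (mem_zpowers x)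
  have hTY : (T : Subgroup H).map H.subtype ≤ Y :=
    SPE.le_of_inf_ne_bot hY (T.isPGroup'.map _) fun e => SPE.ne_one_of_orderOf_eq hx
      (mem_bot.1 (e ▸ (⟨⟨_, hxT, rfl⟩, hxY⟩ : x ∈ (T : Subgroup H).map H.subtype ⊓ Y)))
  set U : Subgroup H := T ⊓ pPrimePCore p H with hU
  have h1 : pPrimeCore p H ⊔ U = pPrimePCore p H := pPrimeCore_sup_sylow_inf T
  have hne : U ≠ ⊥ := by
    intro e
    have h2 := IsPSolvable.centralizer_sylow_inf_le hH T
    rw [← hU, e] at h2
    rw [e, sup_bot_eq] at h1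
    have h3 : (⟨x, hxH⟩ : H) ∈ pPrimeCore p H := h1 ▸ h2 (by simp [mem_centralizer_iff])
    have h4 := (coprime_card_pPrimeCore p H).coprime_dvd_left (orderOf_dvd_natCard _ h3)
    rw [orderOf_mk, hx] at h4
    exact hp.out.one_lt.ne' ((Nat.coprime_self _).1 h4)
  have h2 := (sylIn_inf_normal T (pPrimePCore p H)).frattini_sup (H := ⊤) le_top
    le_normalizer_of_normal
  rw [← hU, ← h1, top_inf_eq, sup_assoc, sup_eq_right.2 (le_normalizer (H := U))] at h2
  have h3 : (normalizer (U : Set H)).map H.subtype ≤ Y ⊓ H := by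
    refine le_inf (le_trans ?_ (SPE.normalizer_le hY (A := U.map H.subtype)
      ((map_mono inf_le_left).trans hTY) (T.isPGroup'.to_inf_left.map _)
      (by rwa [Ne, map_eq_bot_iff_of_injective _ H.subtype_injective]))) (map_subtype_le _)
    exact le_normalizer_map _
  calc H = (⊤ : Subgroup H).map H.subtype := by rw [← MonoidHom.range_eq_map, range_subtype]
    _ ≤ _ := by rw [← h2, Subgroup.map_sup]; exact sup_le_sup_left h3 _

omit [Finite G] hp in
theorem le_normalizer_map_pPrimeCore (H : Subgroup G) :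
    H ≤ normalizer (((pPrimeCore p H).map H.subtype : Subgroup G) : Set G) := by
  refine le_normalizer_of_cj_le fun x hx => cj_le_iff_forall.2 ?_
  rintro _ ⟨y, hy, rfl⟩
  exact ⟨_, (inferInstance : (pPrimeCore p H).Normal).conj_mem y hy ⟨x, hx⟩, rfl⟩

omit hp in
theorem coprime_map_pPrimeCore (H : Subgroup G) :
    (Nat.card ((pPrimeCore p H).map H.subtype)).Coprime p := coprime_card_map_pPrimeCore _

/-- A `p`-solvable subgroup containing a noncyclic abelian `p`-subgroup of a strongly `p`-embedded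
subgroup `Y` lies in `Y`. -/
theorem le_of_spe_of_noncyclic {Y H E : Subgroup G} (hY : IsStronglyPEmbedded p Y)
    (hH : IsPSolvable p H) (hE : IsPGroup p E) [IsMulCommutative E] (hc : ¬ IsCyclic E)
    (hEH : E ≤ H) (hEY : E ≤ Y) : H ≤ Y := by
  obtain ⟨x, hxE, hx⟩ := SPE.exists_mem_orderOf_eq_of_isPGroup hE
    (fun e => hc (e ▸ inferInstance))
  refine (le_sup_of_spe hY hH (hEH hxE) (hEY hxE) hx).trans (sup_le ?_ inf_le_left)
  obtain ⟨k, hk⟩ := hE.exists_card_eq
  refine coprime_le_of_forall_centralizer_le E _ Y hc (hEH.trans (le_normalizer_map_pPrimeCore H))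
    (hk ▸ (coprime_map_pPrimeCore H).symm.pow_left k) fun a ha h1 => inf_le_right.trans ?_
  rw [← PCyc.centralizer_zpowers]
  exact (centralizer_le_normalizer _).trans (SPE.normalizer_le hY (zpowers_le.2 (hEY ha))
    (hE.to_le (zpowers_le.2 ha)) (by rwa [Ne, zpowers_eq_bot]))

omit [Finite G] in
theorem sylIn_sup {P K : Subgroup G} (hP : IsPGroup p P) (hK : (Nat.card K).Coprime p)
    (hn : P ≤ normalizer (K : Set G)) : SylIn p P (P ⊔ K) := by
  refine ⟨le_sup_left, hP, fun R hR h1 h2 => ?_⟩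
  have h3 : R ⊓ K = ⊥ := eq_bot_of_isPGroup_of_not_dvd hR.to_inf_left inf_le_right
    ((Nat.Prime.coprime_iff_not_dvd hp.out).1 hK.symm)
  rw [← inf_eq_left.2 h2, inf_sup_of_normalizes h1 hn, h3, sup_bot_eq]

/-- If `x` has order `p` in a strongly `p`-embedded subgroup `Y` and all `⟨x, g⟩` are
`p`-solvable, each element `c` normalizing `⟨x⟩` lies with `x` in some `⟨x, g⟩` outside `Y`. -/
theorem exists_not_le_of_spe {Y : Subgroup G} (hY : IsStronglyPEmbedded p Y) {x : G} (hxY : x ∈ Y)
    (hx : orderOf x = p) (h : ∀ g, IsPSolvable p (closure ({x, g} : Set G))) {c : G}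
    (hc : c ∈ normalizer (zpowers x : Set G)) :
    ∃ g, c ∈ closure ({x, g} : Set G) ∧ ¬ closure ({x, g} : Set G) ≤ Y := by
  have hl : ∀ g, x ∈ closure ({x, g} : Set G) := fun g => subset_closure (by simp)
  have hr : ∀ g, g ∈ closure ({x, g} : Set G) := fun g => subset_closure (by simp)
  obtain ⟨g, hg⟩ : ∃ g, g ∉ Y := by
    by_contra! e
    exact (SPE.isStronglyPEmbedded_iff.1 hY).1 (eq_top_iff.2 fun g _ => e g)
  set K := (pPrimeCore p (closure ({x, g} : Set G))).map (Subgroup.subtype _)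
  obtain ⟨k, hkK, hk⟩ : ∃ k ∈ K, k ∉ Y := by
    by_contra! e
    exact hg ((le_sup_of_spe hY (h g) (hl g) hxY hx).trans (sup_le e inf_le_left) (hr g))
  have hP := SPE.isPGroup_zpowers_of_orderOf hx
  have h1 : SylIn p (zpowers x) (zpowers x ⊔ K) := sylIn_sup hP (coprime_map_pPrimeCore _)
    ((zpowers_le.2 (hl g)).trans (le_normalizer_map_pPrimeCore _))
  have h2 := h1.cj_of_mem (mem_sup_right hkK)
  have hB : zpowers x ⊔ k •ᶜ zpowers x ≤ zpowers x ⊔ K := sup_le le_sup_left h2.le
  obtain ⟨b, hb, e⟩ := (h1.of_le le_sup_left hB).exists_conj (h2.of_le le_sup_right hB)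
  have h3 : k •ᶜ zpowers x ≤ closure ({x, b * c} : Set G) := by
    rw [← e, ← cj_eq_of_mem_normalizer hc, ← cj_mul]
    exact cj_le_of_mem (zpowers_le.2 (hl _)) (hr _)
  refine ⟨b * c, ?_, fun e => hk (SPE.mem_of_conj_mem hY hxY hx
    (e (h3 (conj_mem_cj (mem_zpowers x)))))⟩
  exact (mul_mem_cancel_left (sup_le (zpowers_le.2 (hl _)) h3 hb)).1 (hr _)

/-- If all `p`-local subgroups are of characteristic `p` and do not involve `Qd(p)`, then
`N(ZJ(S))` contains the normalizers of its nontrivial `p`-subgroups. -/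
theorem normalizer_le_of_charP (hp2 : p ≠ 2) (S : Sylow p G)
    (h : ∀ A : Subgroup G, IsPGroup p A → A ≠ ⊥ → CharPIn p (normalizer (A : Set G)) ∧
      ¬ Involves (qd p) (normalizer (A : Set G)))
    {A : Subgroup G} (hAY : A ≤ normalizer (centerThompsonAOf (S : Subgroup G) : Set G))
    (hA : IsPGroup p A) (hA1 : A ≠ ⊥) :
    normalizer (A : Set G) ≤ normalizer (centerThompsonAOf (S : Subgroup G) : Set G) := by
  set Y := normalizer (centerThompsonAOf (S : Subgroup G) : Set G) with hY
  obtain ⟨U, hU⟩ := exists_sylIn p (Y ⊓ normalizer (A : Set G))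
  induction U using WellFoundedGT.induction generalizing A with | ind U ih => ?_
  have hAU : A ≤ U := hU.le_of_normalized hA (le_inf hAY le_normalizer) (hU.le.trans inf_le_right)
  have hUY : U ≤ Y := hU.le.trans inf_le_left
  have h1 : normalizer (centerThompsonAOf U : Set G) ≤ Y := by
    obtain ⟨U0, hU0, hle⟩ := exists_sylIn_ge hU.pgroup hUY
    rcases hle.eq_or_lt with rfl | hlt
    · obtain ⟨y, hy, rfl⟩ :=
        (sylIn_sylow S (ThA.le_normalizer_centerThompsonAOf _)).exists_conj hU0
      rw [← ThA.map_centerThompsonAOf _ (MulAut.conj y).injective, cj_eq_of_mem_normalizer hy]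
    · obtain ⟨U', hU', hle'⟩ := exists_sylIn_ge (hU0.pgroup.to_inf_left (K := normalizer (U : Set G)))
        (inf_le_inf hU0.le (ThA.normalizer_le_normalizer_centerThompsonAOf U))
      exact ih U' ((lt_inf_normalizer_of_lt hU0.pgroup hlt).trans_le hle')
        (hU.pgroup.to_le (ThA.centerThompsonAOf_le U))
        (ThA.centerThompsonAOf_ne_bot hU.pgroup (ne_bot_of_le_ne_bot hA1 hAU))
        ((ThA.centerThompsonAOf_le U).trans hUY) hU'
  have h2 : SylIn p U (normalizer (A : Set G)) := hU.of_normalizer_le (hU.le.trans inf_le_right)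
    (le_inf (inf_le_right.trans ((ThA.normalizer_le_normalizer_centerThompsonAOf U).trans h1))
      inf_le_left)
  exact (PC.le_normalizer_centerThompsonAOf_of_sylIn hp2 h2 (h A hA hA1).1
    (PSt.qstable_of_not_involves hp2 (h A hA hA1).2)).trans h1

/-- If the centralizers of nontrivial `p`-elements have characteristic `p` and `N(A)` is
`p`-constrained, it has characteristic `p`. -/
theorem charPIn_normalizer_of_centralizer
    (h : ∀ x : G, orderOf x = p → CharPIn p (centralizer ({x} : Set G))) {A : Subgroup G}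
    (hA : IsPGroup p A) (hA1 : A ≠ ⊥) (hc : IsPConstrained p (normalizer (A : Set G))) :
    CharPIn p (normalizer (A : Set G)) := by
  refine PC.charPIn_iff.2 ⟨hc, ?_⟩
  obtain ⟨x, hxA, hx⟩ := SPE.exists_mem_orderOf_eq_of_isPGroup hA.to_inf_left
    (inf_centralizer_ne_bot hA hA le_normalizer hA1)
  have h1 := PC.CharPIn.inf_centralizer (h x hx) hA
    (PCyc.centralizer_zpowers x ▸ le_centralizer_iff.1 (zpowers_le.2 hxA.2))
  set D := (pPrimeCore p (normalizer (A : Set G))).map (Subgroup.subtype _)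
  have hD : D ≤ centralizer (A : Set G) := by
    rw [← commutator_eq_bot_iff_le_centralizer]
    refine eq_bot_of_isPGroup_of_not_dvd
      (hA.to_le (commutator_le_right_of_normalizes (map_subtype_le _)))
      (commutator_le_left_of_normalizes (le_normalizer.trans (le_normalizer_map_pPrimeCore _)))
      ((Nat.Prime.coprime_iff_not_dvd hp.out).1 (coprime_map_pPrimeCore _).symm)
  have h2 := PC.CharPIn.eq_bot h1 (N := D)
    (le_inf (hD.trans (centralizer_le (Set.singleton_subset_iff.2 hxA.1))) hD)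
    (inf_le_right.trans ((centralizer_le_normalizer _).trans (le_normalizer_map_pPrimeCore _)))
    (coprime_map_pPrimeCore _)
  exact (map_eq_bot_iff_of_injective _ (subtype_injective _)).1 h2

/-- If all two-generated subgroups are `p`-constrained, `O_{p'}(C(x)) ≤ O_{p'}(G)` for every
`p`-element `x`. -/
theorem map_pPrimeCore_centralizer_le (h : ∀ a b : G, IsPConstrained p (closure ({a, b} : Set G)))
    {x : G} (hx : IsPGroup p (zpowers x)) :
    (pPrimeCore p (centralizer ({x} : Set G))).map (Subgroup.subtype _) ≤ pPrimeCore p G := by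
  intro d hd
  refine mem_pPrimeCore_of_forall fun g => ⟨closure {x * d, g}, subset_closure (by simp), ?_⟩
  have hc : Commute x d := ((map_subtype_le _ hd) x rfl)
  obtain ⟨k, hk⟩ := hx.exists_card_eq
  rw [Nat.card_zpowers] at hk
  have h1 : (orderOf x).Coprime (orderOf d) := hk ▸ (((coprime_map_pPrimeCore _).coprime_dvd_left
    (orderOf_dvd_natCard _ hd)).symm.pow_left k)
  have h2 : zpowers (x * d) ≤ closure ({x * d, g} : Set G) := zpowers_le.2 (subset_closure (by simp))
  have h3 := h2 (mem_zpowers_mul_of_coprime hc h1)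
  refine inf_le_pPrimeCore hx (zpowers_le.2 h3) (h _ _) ?_ ?_ (coprime_map_pPrimeCore _)
    ⟨hd, (mul_mem_cancel_left h3).1 (h2 (mem_zpowers _))⟩
  · rw [PCyc.centralizer_zpowers]; exact map_subtype_le _
  · rw [PCyc.centralizer_zpowers]; exact le_normalizer_map_pPrimeCore _

end CL.TwoGen
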