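import Cfsg.Agent.CHAR.CliffordCorr
import Cfsg.Agent.CHAR.Constit
import Cfsg.Agent.CHAR.Quot
import Cfsg.Agent.CHAR.Linear
import Cfsg.Agent.SOLV.PSolvable
import Cfsg.Agent.SOLV.Coprime
import Cfsg.Agent.SOLV.CoprimeGen
import Cfsg.Agent.S0055
import Cfsg.Agent.FGS.DerLen

/-! Vanishing elements of order divisible by `p` in solvable groups. -/

set_option autoImplicit false
open Cfsg CL.Char
open scoped commutatorElement Pointwise

namespace CL.VanP

universe u

/-- `g` is a vanishing element. -/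
def Van {G : Type*} [Group G] (g : G) : Prop := ∃ χ : G → ℂ, IsIrrCharacter G χ ∧ χ g = 0

variable {G : Type u} [Group G]

theorem Van.of_quot {N : Subgroup G} [N.Normal] {g : G} (h : Van (g : G ⧸ N)) : Van g := by
  obtain ⟨χ, hχ, h0⟩ := h
  exact ⟨_, hχ.infl N, h0⟩

theorem van_of_inertia [Finite G] {N : Subgroup G} [N.Normal] {θ : N → ℂ}
    (hθ : IsIrrCharacter N θ) {g : G} (hg : ∀ x : G, x⁻¹ * g * x ∉ inertia N θ) : Van g := by
  classical
  haveI := Fintype.ofFinite G
  haveI := Fintype.ofFinite N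
  obtain ⟨χ, hχ, hin⟩ := hθ.exists_over
  obtain ⟨ψ, -, hψ, -⟩ := clifford_ind_surj (le_inertia hθ.isClassFunction) hθ le_rfl hχ hin
  exact ⟨χ, hχ, by rw [← hψ]; exact indFun_eq_zero_of_not_conj _ _ _ hg⟩

/-- The stabiliser of a linear character. -/
def st (V : Subgroup G) [V.Normal] (lam : V →* ℂˣ) : Subgroup G :=
  inertia V (irrOfHom lam : V → ℂ)

theorem mem_st {V : Subgroup G} [hV : V.Normal] {lam : V →* ℂˣ} {g : G} :
    g ∈ st V lam ↔ ∀ v : V, lam ⟨g * v * g⁻¹, hV.conj_mem v v.2 g⟩ = lam v := by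
  unfold st
  rw [mem_inertia]
  simp only [irrOfHom_apply, Units.val_inj]

theorem triv_comm {V : Subgroup G} [hV : V.Normal] {lam : V →* ℂˣ} {A : Subgroup G}
    (hA : A ≤ st V lam) : ⁅V, A⁆ ≤ lam.ker.map V.subtype := by
  rw [Subgroup.commutator_le]
  intro v hv a ha
  have h1 := mem_st.mp (hA ha) ⟨v⁻¹, V.inv_mem hv⟩
  refine ⟨⟨v, hv⟩ * ⟨a * v⁻¹ * a⁻¹, hV.conj_mem _ (V.inv_mem hv) a⟩, ?_, ?_⟩
  · have h2 : (⟨v⁻¹, V.inv_mem hv⟩ : V) = (⟨v, hv⟩ : V)⁻¹ := rfl
    rw [SetLike.mem_coe, MonoidHom.mem_ker, map_mul]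
    erw [h1]
    rw [h2, map_inv, mul_inv_cancel]
  · simp [commutatorElement_def, mul_assoc]

/-- An abelian group acting coprimely on an abelian normal subgroup has a regular orbit (modulo the
kernel of the action) on the linear characters. -/
theorem exists_regular [Finite G] (V B : Subgroup G) [hV : V.Normal] [IsMulCommutative V]
    [IsMulCommutative B] (hcop : (Nat.card B).Coprime (Nat.card V)) :
    ∃ lam : V →* ℂˣ, ∀ b ∈ B, b ∈ st V lam → b ∈ Subgroup.centralizer (V : Set G) := by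
  classical
  obtain ⟨lam, hmin⟩ : ∃ lam : V →* ℂˣ, ∀ mu : V →* ℂˣ,
      Nat.card (B ⊓ st V lam : Subgroup G) ≤ Nat.card (B ⊓ st V mu : Subgroup G) := by
    obtain ⟨lam, hl⟩ := exists_minimalFor_of_wellFoundedLT (fun _ : V →* ℂˣ => True)
      (fun l => Nat.card (B ⊓ st V l : Subgroup G)) ⟨1, trivial⟩
    exact ⟨lam, fun mu => hl.le trivial⟩
  refine ⟨lam, fun d hdB hd => ?_⟩
  by_contra hdC
  set A := Subgroup.zpowers d with hAdef
  have hAB : A ≤ B := by simpa [hAdef] using hdB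
  have hAn : A ≤ Subgroup.normalizer (V : Set G) := by
    rw [Subgroup.normalizer_eq_top]; exact le_top
  have hc : (Nat.card A).Coprime (Nat.card V) :=
    Nat.Coprime.coprime_dvd_left (Subgroup.card_dvd_of_le hAB) hcop
  obtain ⟨-, hsup⟩ := Cfsg.Agent.S0055.result A V hAn hc
  set C := V ⊓ Subgroup.centralizer (A : Set G) with hC
  set W := ⁅V, A⁆ with hW
  have hWV : W ≤ V := Subgroup.commutator_le_left V A
  obtain ⟨v0, hv0V, hv0⟩ : ∃ v0 ∈ V, v0 ∉ C := by
    by_contra hcon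
    push Not at hcon
    apply hdC
    rw [Subgroup.mem_centralizer_iff]
    intro v hv
    have := (hcon v hv).2
    exact (Subgroup.mem_centralizer_iff.mp this d (Subgroup.mem_zpowers d)).symm
  obtain ⟨mu, hmu1, hmu0⟩ := exists_hom_of_not_mem (C.subgroupOf V)
    (by
      rw [_root_.commutator, Subgroup.commutator_le]
      intro x _ y _
      rw [commutatorElement_eq_one_iff_mul_comm.mpr (mul_comm' x y)]
      exact one_mem _)
    (x := ⟨v0, hv0V⟩) (by simpa [Subgroup.mem_subgroupOf] using hv0)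
  -- decomposition
  have hdec : ∀ v ∈ V, ∃ c ∈ C, ∃ w ∈ W, c * w = v := by
    intro v hv
    have hn : C ≤ Subgroup.normalizer (W : Set G) := by
      intro c hc
      rw [Subgroup.mem_normalizer_iff]
      intro w
      constructor
      · intro hw
        have : c * w * c⁻¹ = w := by
          rw [setLike_mul_comm (s := V) hc.1 (hWV hw)]; group
        rwa [this]
      · intro hw
        have h1 : w ∈ V := by
          have := hV.conj_mem _ (hWV hw) c⁻¹
          simpa [mul_assoc] using this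
        have : c * w * c⁻¹ = w := by
          rw [setLike_mul_comm (s := V) hc.1 h1]; group
        rwa [this] at hw
    have hv' : v ∈ ((C ⊔ W : Subgroup G) : Set G) := by rw [hsup]; exact hv
    rw [Subgroup.coe_mul_of_left_le_normalizer_right C W hn] at hv'
    obtain ⟨c, hc, w, hw, h⟩ := hv'
    exact ⟨c, hc, w, hw, h⟩
  have hlamW : ∀ w (hw : w ∈ W), lam ⟨w, hWV hw⟩ = 1 := by
    intro w hw
    obtain ⟨y, hy, rfl⟩ := triv_comm (lam := lam) (A := A) (by simpa [hAdef] using hd) hw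
    exact hy
  have hmuC : ∀ c (hc : c ∈ C), mu ⟨c, hc.1⟩ = 1 := fun c hc =>
    hmu1 _ (by simpa [Subgroup.mem_subgroupOf] using hc)
  have hbA : ∀ b ∈ B, ∀ a ∈ A, b * a * b⁻¹ = a := by
    intro b hb a ha
    rw [setLike_mul_comm (s := B) hb (hAB ha)]; group
  have hCb : ∀ b ∈ B, ∀ c ∈ C, b * c * b⁻¹ ∈ C := by
    intro b hb c hc
    refine ⟨hV.conj_mem _ hc.1 b, ?_⟩
    have h2 : c ∈ Subgroup.centralizer (A : Set G) := hc.2
    show b * c * b⁻¹ ∈ Subgroup.centralizer (A : Set G)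
    rw [Subgroup.mem_centralizer_iff] at h2 ⊢
    intro a ha
    calc a * (b * c * b⁻¹) = b * (b⁻¹ * a * b⁻¹⁻¹) * c * b⁻¹ := by group
      _ = b * (a * c) * b⁻¹ := by rw [hbA _ (B.inv_mem hb) a ha]; group
      _ = b * c * b⁻¹ * (b * a * b⁻¹) := by rw [h2 a ha]; group
      _ = _ := by rw [hbA b hb a ha]
  have hWb : ∀ b ∈ B, ∀ w ∈ W, b * w * b⁻¹ ∈ W := by
    intro b hb w hw
    have : W ≤ W.comap (MulAut.conj b).toMonoidHom := by
      rw [hW, Subgroup.commutator_le]
      intro v hv a ha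
      rw [Subgroup.mem_comap, map_commutatorElement]
      refine Subgroup.commutator_mem_commutator (hV.conj_mem _ hv b) ?_
      show b * a * b⁻¹ ∈ A
      rw [hbA b hb a ha]; exact ha
    exact this hw
  have hle : B ⊓ st V (lam * mu) ≤ B ⊓ st V lam := by
    intro b hb
    have hb1 : b ∈ B := hb.1
    have hb2 : b ∈ st V (lam * mu) := hb.2
    refine ⟨hb1, ?_⟩
    show b ∈ st V lam
    rw [mem_st] at hb2 ⊢
    intro v
    obtain ⟨c, hc, w, hw, hcw⟩ := hdec v v.2
    have e1 : (⟨b * v * b⁻¹, hV.conj_mem v v.2 b⟩ : V) =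
        ⟨b * c * b⁻¹, (hCb b hb1 c hc).1⟩ * ⟨b * w * b⁻¹, hWV (hWb b hb1 w hw)⟩ := by
      apply Subtype.ext
      simp only [Subgroup.coe_mul, ← hcw]; group
    have e2 : v = ⟨c, hc.1⟩ * ⟨w, hWV hw⟩ := Subtype.ext hcw.symm
    have h3 := hb2 ⟨c, hc.1⟩
    simp only [MonoidHom.mul_apply] at h3
    rw [hmuC c hc, hmuC _ (hCb b hb1 c hc), mul_one, mul_one] at h3
    rw [e1, map_mul, hlamW _ (hWb b hb1 w hw), mul_one, h3]
    conv_rhs => rw [e2, map_mul, hlamW w hw, mul_one]
  have heq : B ⊓ st V (lam * mu) = B ⊓ st V lam :=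
    Subgroup.eq_of_le_of_card_ge hle (hmin _)
  have hd2 : d ∈ st V (lam * mu) := by
    have : d ∈ B ⊓ st V lam := ⟨hdB, hd⟩
    rw [← heq] at this
    exact this.2
  apply hmu0
  obtain ⟨c, hc, w, hw, hcw⟩ := hdec v0 hv0V
  have e2 : (⟨v0, hv0V⟩ : V) = ⟨c, hc.1⟩ * ⟨w, hWV hw⟩ := Subtype.ext hcw.symm
  have h4 : (lam * mu) ⟨w, hWV hw⟩ = 1 := by
    obtain ⟨y, hy, rfl⟩ := triv_comm (lam := lam * mu) (A := A) (by simpa [hAdef] using hd2) hw
    exact hy
  rw [MonoidHom.mul_apply, hlamW w hw, one_mul] at h4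
  rw [e2, map_mul, hmuC c hc, h4, mul_one]

theorem eq_one_of_pow {p : ℕ} [Finite G] {F : Subgroup G} (hF : (Nat.card F).Coprime p) {y : G}
    (hy : y ∈ F) {k : ℕ} (hk : y ^ p ^ k = 1) : y = 1 := by
  have h1 : orderOf y ∣ Nat.card F := Subgroup.orderOf_dvd_natCard F hy
  have h2 : orderOf y ∣ p ^ k := orderOf_dvd_of_pow_eq_one hk
  have h3 : orderOf y ∣ Nat.gcd (Nat.card F) (p ^ k) := Nat.dvd_gcd h1 h2
  rw [(Nat.Coprime.pow_right k hF : Nat.gcd _ _ = 1)] at h3
  exact orderOf_eq_one_iff.mp (Nat.dvd_one.mp h3)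

/-- Roots of an element of an abelian `p`-subgroup `B` with `BF` normal which does not centralise
the normal `p'`-subgroup `F` are vanishing. -/
theorem van_root (p : ℕ) [hp : Fact p.Prime] : ∀ (n : ℕ) (G : Type u) [Group G] [Finite G]
    [Group.IsSolvable G], Nat.card G = n → ∀ (F B : Subgroup G) [F.Normal] [IsMulCommutative B],
    (Nat.card F).Coprime p → IsPGroup p B → (B ⊔ F).Normal → ∀ a ∈ B,
    a ∉ Subgroup.centralizer (F : Set G) → ∀ (g : G) (k : ℕ), g ^ k = a → Van g := by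
  intro n
  induction n using Nat.strong_induction_on with
  | _ n ih =>
  intro G _ _ _ hn F B hFn _ hF hB hBF a ha haF g k hg
  have hF0 : F ≠ ⊥ := by
    rintro rfl
    apply haF
    rw [Subgroup.mem_centralizer_iff]
    intro x hx
    rw [SetLike.mem_coe, Subgroup.mem_bot] at hx
    rw [hx]; simp
  obtain ⟨V, hVm, hVF⟩ := CL.exists_isMinNormal_le F hF0
  haveI := hVm.normal
  haveI : IsMulCommutative V := hVm.isMulCommutative_of_isSolvable inferInstance
  obtain ⟨e, he⟩ := IsPGroup.iff_card.mp hB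
  by_cases hc : ∀ f ∈ F, ⁅f, a⁆ ∈ V
  · -- `a` acts trivially on `F / V`
    have hcopV : (Nat.card B).Coprime (Nat.card V) := by
      rw [he]
      exact Nat.Coprime.pow_left _ (Nat.Coprime.coprime_dvd_left (Subgroup.card_dvd_of_le hVF) hF).symm
    have haV : a ∉ Subgroup.centralizer (V : Set G) := by
      intro haV
      apply haF
      have hA : Subgroup.zpowers a ≤ B := by simpa using ha
      have := CL.coprime_le_centralizer_of_trivial_on_factors (Subgroup.zpowers a) F V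
        (by rw [Subgroup.normalizer_eq_top]; exact le_top)
        (Nat.Coprime.coprime_dvd_left (Subgroup.card_dvd_of_le hA) hcopV)
        (by rw [Subgroup.le_centralizer_iff]; simpa using haV)
        (by
          have h1 : Subgroup.zpowers a ≤ (Subgroup.centralizer
              ((F.map (QuotientGroup.mk' V) : Subgroup (G ⧸ V)) : Set (G ⧸ V))).comap
              (QuotientGroup.mk' V) := by
            rw [Subgroup.zpowers_le, Subgroup.mem_comap, Subgroup.mem_centralizer_iff]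
            rintro _ ⟨f, hf, rfl⟩
            rw [← commutatorElement_eq_one_iff_mul_comm, ← map_commutatorElement]
            exact (QuotientGroup.eq_one_iff _).mpr (hc f hf)
          rw [Subgroup.commutator_le]
          intro f hf x hx
          have h2 := Subgroup.mem_centralizer_iff.mp (Subgroup.mem_comap.mp (h1 hx))
            (QuotientGroup.mk' V f) ⟨f, hf, rfl⟩
          rw [← commutatorElement_eq_one_iff_mul_comm, ← map_commutatorElement] at h2
          exact (QuotientGroup.eq_one_iff _).mp h2)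
      rw [Subgroup.le_centralizer_iff] at this
      exact this (Subgroup.mem_zpowers a)
    obtain ⟨lam, hlam⟩ := exists_regular V B hcopV
    refine van_of_inertia (N := V) (irrOfHom lam).2 fun x hx => haV ?_
    have hx' : x⁻¹ * a * x ∈ st V lam := by
      have := (st V lam).pow_mem hx k
      have e1 : (x⁻¹ * g * x) ^ k = x⁻¹ * g ^ k * x := by
        have := conj_pow (a := x⁻¹) (b := g) (i := k)
        simpa using this
      rwa [e1, hg] at this
    have hmem : x⁻¹ * a * x ∈ B ⊔ F := by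
      have := hBF.conj_mem a (Subgroup.mem_sup_left ha) x⁻¹
      simpa using this
    obtain ⟨b, hb, f, hf, hbf⟩ := Subgroup.mem_sup_of_normal_right.mp hmem
    -- `f ∈ V`
    have hfV : f ∈ V := by
      set π := QuotientGroup.mk' V with hπ
      have hcomm : Commute (π (x⁻¹ * a * x)) (π f) := by
        have h1 := hc (x * f * x⁻¹) (hFn.conj_mem f hf x)
        have h2 : ⁅f, x⁻¹ * a * x⁆ = x⁻¹ * ⁅x * f * x⁻¹, a⁆ * x⁻¹⁻¹ := by
          simp only [commutatorElement_def]; group
        have h3 : ⁅f, x⁻¹ * a * x⁆ ∈ V := by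
          rw [h2]; exact hVm.normal.conj_mem _ h1 _
        symm
        rw [← commutatorElement_eq_one_iff_commute, ← map_commutatorElement]
        exact (QuotientGroup.eq_one_iff _).mpr h3
      have hcomm2 : Commute (π b) (π f) := by
        have : π b = π (x⁻¹ * a * x) * (π f)⁻¹ := by rw [← hbf, map_mul]; group
        rw [this]
        exact hcomm.mul_left (Commute.refl _).inv_left
      have hbp : b ^ p ^ e = 1 := by
        rw [← he]; exact orderOf_dvd_iff_pow_eq_one.mp (Subgroup.orderOf_dvd_natCard B hb)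
      have hap : (x⁻¹ * a * x) ^ p ^ e = 1 := by
        have h1 : a ^ p ^ e = 1 := by
          rw [← he]; exact orderOf_dvd_iff_pow_eq_one.mp (Subgroup.orderOf_dvd_natCard B ha)
        have := conj_pow (a := x⁻¹) (b := a) (i := p ^ e)
        rw [inv_inv] at this
        rw [this, h1]; simp
      have h4 : (π f) ^ p ^ e = 1 := by
        have h5 := congrArg π hap
        rw [← hbf, map_pow, map_mul, hcomm2.mul_pow, ← map_pow, hbp] at h5
        simpa using h5
      have h6 : π f = 1 := eq_one_of_pow (F := F.map π)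
        (Nat.Coprime.coprime_dvd_left (Subgroup.card_map_dvd F π) hF) ⟨f, hf, rfl⟩ h4
      exact (QuotientGroup.eq_one_iff _).mp h6
    have hVst : V ≤ st V lam := le_inertia (irrOfHom lam).2.isClassFunction
    have hbst : b ∈ st V lam := by
      have : b = (x⁻¹ * a * x) * f⁻¹ := by rw [← hbf]; group
      rw [this]
      exact mul_mem hx' (inv_mem (hVst hfV))
    have hVC : V ≤ Subgroup.centralizer (V : Set G) := Subgroup.le_centralizer V
    have h7 : x⁻¹ * a * x ∈ Subgroup.centralizer (V : Set G) := by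
      rw [← hbf]; exact mul_mem (hlam b hb hbst) (hVC hfV)
    have := (inferInstance : (Subgroup.centralizer (V : Set G)).Normal).conj_mem _ h7 x
    simpa [mul_assoc] using this
  · push Not at hc
    obtain ⟨f, hf, hfa⟩ := hc
    set π := QuotientGroup.mk' V with hπ
    have hsurj : Function.Surjective π := QuotientGroup.mk'_surjective V
    haveI : (F.map π).Normal := hFn.map π hsurj
    have hlt : Nat.card (G ⧸ V) < n := by
      rw [← hn, ← Subgroup.index_eq_card, ← Subgroup.index_mul_card V]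
      have h1 : 1 < Nat.card V := (Subgroup.one_lt_card_iff_ne_bot V).mpr hVm.ne_bot
      have h2 : 0 < V.index := Nat.pos_of_ne_zero Subgroup.index_ne_zero_of_finite
      nlinarith
    refine Van.of_quot (N := V) (ih _ hlt (G ⧸ V) rfl (F.map π) (B.map π)
      (Nat.Coprime.coprime_dvd_left (Subgroup.card_map_dvd F π) hF) (hB.map π)
      (by rw [← Subgroup.map_sup]; exact hBF.map π hsurj) (π a) ⟨a, ha, rfl⟩ ?_ (π g) k
      (by rw [← map_pow, hg]))
    intro h
    apply hfa
    have h2 := Subgroup.mem_centralizer_iff.mp h (π f) ⟨f, hf, rfl⟩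
    rw [← commutatorElement_eq_one_iff_mul_comm, ← map_commutatorElement] at h2
    exact (QuotientGroup.eq_one_iff _).mp h2

theorem zpowers_eq_of_card {p : ℕ} [hp : Fact p.Prime] [Finite G] {B : Subgroup G}
    (hB : Nat.card B = p) {b : G} (hb : b ∈ B) (hb1 : b ≠ 1) : Subgroup.zpowers b = B := by
  have hle : Subgroup.zpowers b ≤ B := by simpa using hb
  have h1 : Nat.card (Subgroup.zpowers b) ∣ p := hB ▸ Subgroup.card_dvd_of_le hle
  rcases (Nat.dvd_prime hp.out).mp h1 with h | h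
  · exact absurd (Subgroup.zpowers_eq_bot.mp (Subgroup.card_eq_one.mp h)) hb1
  · exact Subgroup.eq_of_le_of_card_ge hle (by rw [h, hB])

theorem card_dvd_of_cyclic {p : ℕ} [Finite G] {E : Subgroup G} (hE : IsCyclic E)
    (h : ∀ e ∈ E, e ^ p = 1) : Nat.card E ∣ p := by
  obtain ⟨c, hc⟩ := hE.exists_generator
  rw [← orderOf_eq_card_of_forall_mem_zpowers hc]
  exact orderOf_dvd_of_pow_eq_one (Subtype.ext (h c c.2))

/-- Elements of the second centre vanish when the centre has prime order. -/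
theorem van_second {p : ℕ} [hp : Fact p.Prime] [Finite G] {Q : Subgroup G} [Q.Normal]
    (hA : Nat.card (Subgroup.centralizer (Q : Set G)) = p) {x : G} (hxQ : x ∈ Q)
    (hxA : x ∉ Subgroup.centralizer (Q : Set G))
    (hx : ∀ q ∈ Q, ⁅q, x⁆ ∈ Subgroup.centralizer (Q : Set G)) : Van x := by
  set A := Subgroup.centralizer (Q : Set G) with hAdef
  obtain ⟨q, hq, hqx⟩ : ∃ q ∈ Q, ⁅q, x⁆ ≠ 1 := by
    by_contra hcon
    push Not at hcon
    apply hxA
    rw [Subgroup.mem_centralizer_iff]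
    intro q hq
    exact commutatorElement_eq_one_iff_mul_comm.mp (hcon q hq)
  obtain ⟨χ, hχ, -, hne⟩ := exists_irr_ker_of_not_mem (⊥ : Subgroup G) (x := ⁅q, x⁆)
    (by simpa using hqx)
  refine ⟨χ, hχ, hχ.eq_zero_of_coset_isConj A (fun h => hne (h _ (hx q hq))) ?_⟩
  intro n hn
  rw [← zpowers_eq_of_card hA (hx q hq) hqx, ← mem_powers_iff_mem_zpowers] at hn
  obtain ⟨j, rfl⟩ := hn
  have hc : ∀ y ∈ Q, y * ⁅q, x⁆ = ⁅q, x⁆ * y := Subgroup.mem_centralizer_iff.mp (hx q hq)
  have hcx : Commute ⁅q, x⁆ x := (hc x hxQ).symm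
  have hcq : Commute ⁅q, x⁆ q := (hc q hq).symm
  have key : ∀ j : ℕ, q ^ j * x * (q ^ j)⁻¹ = x * ⁅q, x⁆ ^ j := by
    intro j
    induction j with
    | zero => simp
    | succ j ih =>
      calc q ^ (j + 1) * x * (q ^ (j + 1))⁻¹ = q * (q ^ j * x * (q ^ j)⁻¹) * q⁻¹ := by
            rw [pow_succ']; group
        _ = q * x * (⁅q, x⁆ ^ j * q⁻¹) := by rw [ih]; group
        _ = q * x * (q⁻¹ * ⁅q, x⁆ ^ j) := by rw [(hcq.pow_left j).inv_right.eq]
        _ = (⁅q, x⁆ * x) * ⁅q, x⁆ ^ j := by rw [commutatorElement_def]; group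
        _ = x * ⁅q, x⁆ ^ (j + 1) := by rw [hcx.eq, pow_succ', mul_assoc]
  exact isConj_iff.mpr ⟨q ^ j, key j⟩

theorem main (p : ℕ) [hp : Fact p.Prime] [Finite G] [Group.IsSolvable G] (h0 : pCore p G = ⊥)
    (hA : ∀ x y : G, Van x → Van y → x ≠ 1 → (∃ k, x ^ p ^ k = 1) → p ∣ orderOf y →
      ∃ k, y ^ p ^ k = 1)
    (hB : ∀ x : G, Van x → Van (x ^ p) → (∃ k, x ^ p ^ k = 1) → x ^ p = 1)
    (P : Sylow p G) : Nat.card P ∣ p := by
  classical
  set F := pPrimeCore p G with hFdef
  have hF : (Nat.card F).Coprime p := CL.coprime_of_le_pPrimeCore le_rfl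
  have hCF : Subgroup.centralizer (F : Set G) ≤ F :=
    CL.IsPSolvable.centralizer_pPrimeCore_le (CL.isPSolvable_of_isSolvable p G) h0
  set π := QuotientGroup.mk' F with hπ
  have hsurj : Function.Surjective π := QuotientGroup.mk'_surjective F
  set Q := pCore p (G ⧸ F) with hQ
  set A := Subgroup.centralizer (Q : Set (G ⧸ F)) with hAdef
  have hAQ : A ≤ Q := CL.centralizer_pCore_le_of_isSolvable (CL.pPrimeCore_quotient_pPrimeCore p G)
  have hQP : Q ≤ (P : Subgroup G).map π :=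
    (CL.isPGroup_pCore p (G ⧸ F)).le_sylow_of_normal (P.mapSurjective hsurj)
  obtain ⟨m, hm⟩ := IsPGroup.iff_card.mp P.isPGroup'
  have hPp : ∀ x ∈ (P : Subgroup G), x ^ p ^ m = 1 := fun x hx => by
    rw [← hm]; exact orderOf_dvd_iff_pow_eq_one.mp (Subgroup.orderOf_dvd_natCard _ hx)
  have hinj : ∀ x ∈ (P : Subgroup G), π x = 1 → x = 1 := fun x hx h =>
    eq_one_of_pow hF ((QuotientGroup.eq_one_iff _).mp h) (hPp x hx)
  set B := (P : Subgroup G) ⊓ A.comap π with hBdef
  have hQB : ∀ x ∈ (P : Subgroup G), π x ∈ Q → ∀ b ∈ B, x * b = b * x := by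
    intro x hx hxQ b hb
    have hb1 : b ∈ (P : Subgroup G) := hb.1
    have hb2 : π b ∈ A := hb.2
    rw [← commutatorElement_eq_one_iff_mul_comm]
    refine hinj _ (mul_mem (mul_mem (mul_mem hx hb1) (inv_mem hx)) (inv_mem hb1)) ?_
    rw [map_commutatorElement, commutatorElement_eq_one_iff_mul_comm]
    exact Subgroup.mem_centralizer_iff.mp hb2 _ hxQ
  haveI : IsMulCommutative B :=
    ⟨⟨fun a b => Subtype.ext (hQB a a.2.1 (hAQ a.2.2) b b.2)⟩⟩
  have hBA : B.map π = A := by
    apply le_antisymm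
    · rintro _ ⟨b, hb, rfl⟩; exact hb.2
    · intro a ha
      obtain ⟨x, hx, rfl⟩ := hQP (hAQ ha)
      exact ⟨x, ⟨hx, ha⟩, rfl⟩
  have hBF : (B ⊔ F).Normal := by
    have : B ⊔ F = A.comap π := by
      rw [← hBA, Subgroup.comap_map_eq, hπ, QuotientGroup.ker_mk']
    rw [this]; infer_instance
  have hBp : IsPGroup p B := P.isPGroup'.to_le inf_le_left
  have hVB : ∀ a ∈ B, a ≠ 1 → ∀ (g : G) (k : ℕ), g ^ k = a → Van g := by
    intro a ha ha1 g k hg
    refine van_root p _ G rfl F B hF hBp hBF a ha (fun h => ha1 ?_) g k hg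
    exact hinj a ha.1 ((QuotientGroup.eq_one_iff _).mpr (hCF h))
  by_cases hP : (P : Subgroup G) = ⊥
  · rw [Subgroup.card_eq_one.mpr hP]; exact one_dvd _
  obtain ⟨z, hzP, hz1, hzc⟩ : ∃ z ∈ (P : Subgroup G), z ≠ 1 ∧ ∀ x ∈ (P : Subgroup G),
      x * z = z * x := by
    haveI : Nontrivial (P : Subgroup G) := (Subgroup.nontrivial_iff_ne_bot _).mpr hP
    haveI := P.isPGroup'.center_nontrivial
    obtain ⟨z, hz⟩ := exists_ne (1 : Subgroup.center (P : Subgroup G))
    refine ⟨z, z.1.2, fun h => hz (Subtype.ext (Subtype.ext h)), fun x hx => ?_⟩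
    exact congrArg Subtype.val (Subgroup.mem_center_iff.mp z.2 ⟨x, hx⟩)
  have hzB : z ∈ B := by
    refine ⟨hzP, ?_⟩
    show π z ∈ A
    rw [Subgroup.mem_centralizer_iff]
    intro q hq
    obtain ⟨x, hx, rfl⟩ := hQP hq
    rw [← map_mul, ← map_mul, hzc x hx]
  have hVz : Van z := hVB z hzB hz1 z 1 (pow_one z)
  have hF0 : F ≠ ⊥ := by
    intro h
    apply hz1
    have : z ∈ F := hCF (by
      rw [h, Subgroup.mem_centralizer_iff]
      intro x hx
      rw [SetLike.mem_coe, Subgroup.mem_bot] at hx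
      rw [hx]; simp)
    rwa [h, Subgroup.mem_bot] at this
  -- the key contradiction
  have KC : ∀ E : Subgroup G, E ≤ P → IsMulCommutative E →
      (∀ e ∈ E, e ≠ 1 → ∀ y ∈ F, Commute e y → Van (e * y)) → IsCyclic E := by
    intro E hEP _ hE
    by_contra hcyc
    obtain ⟨j, hj⟩ := IsPGroup.iff_card.mp (P.isPGroup'.to_le hEP)
    obtain ⟨e, he, he1, hne⟩ := CL.coprime_exists_centralizer_ne_bot E F hcyc
      (by rw [Subgroup.normalizer_eq_top]; exact le_top)
      (by rw [hj]; exact Nat.Coprime.pow_left _ hF.symm) hF0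
    obtain ⟨⟨y, hy⟩, hy1⟩ := (Subgroup.ne_bot_iff_exists_ne_one).mp hne
    have hyF : y ∈ F := hy.1
    have hcm : Commute e y := by
      have : y ∈ Subgroup.centralizer ({e} : Set G) := hy.2
      exact Subgroup.mem_centralizer_iff.mp this e rfl
    have hord : p ∣ orderOf (e * y) := by
      have h1 : e ^ orderOf (e * y) = 1 := by
        refine hinj _ (pow_mem (hEP he) _) ?_
        have h2 := congrArg π (pow_orderOf_eq_one (e * y))
        have h3 : π y = 1 := (QuotientGroup.eq_one_iff _).mpr hyF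
        rwa [map_pow, map_mul, h3, mul_one, ← map_pow, map_one] at h2
      refine dvd_trans ?_ (orderOf_dvd_of_pow_eq_one h1)
      obtain ⟨i, -, hi⟩ := (Nat.dvd_prime_pow hp.out).mp
        (orderOf_dvd_of_pow_eq_one (hPp e (hEP he)))
      rw [hi]
      refine dvd_pow_self p fun h => he1 ?_
      rw [h, pow_zero] at hi
      exact orderOf_eq_one_iff.mp hi
    obtain ⟨k, hk⟩ := hA z (e * y) hVz (hE e he he1 y hyF hcm) hz1 ⟨m, hPp z hzP⟩ hord
    apply hy1
    apply Subtype.ext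
    refine eq_one_of_pow hF hyF (k := k + m) ?_
    have h1 : (e * y) ^ p ^ (k + m) = 1 := by rw [pow_add, pow_mul, hk, one_pow]
    have h2 : e ^ p ^ (k + m) = 1 := by
      rw [pow_add, mul_comm, pow_mul, hPp e (hEP he), one_pow]
    rwa [hcm.mul_pow, h2, one_mul] at h1
  have hBW : ∀ e ∈ B, e ≠ 1 → ∀ y ∈ F, Commute e y → Van (e * y) := by
    intro e he he1 y hy hcm
    refine hVB (e ^ Nat.card F) (pow_mem he _) (fun h => he1 ?_) _ (Nat.card F) ?_
    · have h1 : orderOf e ∣ Nat.gcd (Nat.card F) (p ^ m) :=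
        Nat.dvd_gcd (orderOf_dvd_of_pow_eq_one h) (orderOf_dvd_of_pow_eq_one (hPp e he.1))
      rw [(Nat.Coprime.pow_right m hF : Nat.gcd _ _ = 1)] at h1
      exact orderOf_eq_one_iff.mp (Nat.dvd_one.mp h1)
    · rw [hcm.mul_pow, orderOf_dvd_iff_pow_eq_one.mp (Subgroup.orderOf_dvd_natCard F hy), mul_one]
  have hBe : ∀ b ∈ B, b ^ p = 1 := by
    intro b hb
    by_contra hne
    have hb1 : b ≠ 1 := by rintro rfl; simp at hne
    exact hne (hB b (hVB b hb hb1 b 1 (pow_one b))
      (hVB _ (pow_mem hb p) hne _ 1 (pow_one _)) ⟨m, hPp b hb.1⟩)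
  have hBc : Nat.card B = p := by
    rcases (Nat.dvd_prime hp.out).mp
      (card_dvd_of_cyclic (KC B inf_le_left inferInstance hBW) hBe) with h | h
    · exact absurd (by rw [Subgroup.card_eq_one.mp h] at hzB; exact hzB) hz1
    · exact h
  have hBz : Subgroup.zpowers z = B := zpowers_eq_of_card hBc hzB hz1
  by_cases hQA : Q ≤ A
  · refine dvd_trans (Subgroup.card_dvd_of_le (K := B) (fun x hx => ⟨hx, ?_⟩)) hBc.dvd
    show π x ∈ A
    rw [Subgroup.mem_centralizer_iff]
    intro q hq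
    have hq' := hQA hq
    rw [← hBA, ← hBz] at hq'
    obtain ⟨b, ⟨i, rfl⟩, rfl⟩ := hq'
    rw [← map_mul, ← map_mul]
    congr 1
    exact (Commute.zpow_left (hzc x hx).symm i).eq
  exfalso
  have hAc : Nat.card A = p := by
    rw [← hBA, ← hBz, MonoidHom.map_zpowers, Nat.card_zpowers]
    refine orderOf_eq_prime (by rw [← map_pow, hBe z hzB, map_one]) fun h => hz1 (hinj z hzP h)
  obtain ⟨xt, hxt, hxc⟩ := CL.DL.exists_second_center (CL.isPGroup_pCore p (G ⧸ F)) (by
    intro h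
    apply hQA
    intro q hq
    rw [Subgroup.mem_centralizer_iff]
    intro r hr
    have : (⟨q, hq⟩ : Q) ∈ Subgroup.center Q := by rw [h]; trivial
    exact congrArg Subtype.val (Subgroup.mem_center_iff.mp this ⟨r, hr⟩))
  have hcen : ∀ t : Q, t ∈ Subgroup.center Q ↔ (t : G ⧸ F) ∈ A := by
    intro t
    rw [Subgroup.mem_center_iff, Subgroup.mem_centralizer_iff]
    exact ⟨fun h r hr => congrArg Subtype.val (h ⟨r, hr⟩), fun h r => Subtype.ext (h r r.2)⟩
  obtain ⟨x, hxP, hx⟩ := hQP xt.2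
  have hxQ : π x ∈ Q := hx ▸ xt.2
  have hxA : π x ∉ A := fun h => hxt ((hcen xt).mpr (hx ▸ h))
  have hxc' : ∀ q ∈ Q, ⁅q, π x⁆ ∈ A := fun q hq => by
    have := (hcen _).mp (hxc ⟨q, hq⟩)
    rw [hx]; exact this
  have hAe : ∀ a ∈ A, a ^ p = 1 := fun a ha => by
    exact orderOf_dvd_iff_pow_eq_one.mp ((Subgroup.orderOf_dvd_natCard A ha).trans hAc.dvd)
  have hxpB : x ^ p ∈ B := by
    refine ⟨pow_mem hxP p, ?_⟩
    show π (x ^ p) ∈ A
    rw [Subgroup.mem_centralizer_iff]
    intro q hq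
    have hc : Commute ⁅q, π x⁆ (π x) :=
      (Subgroup.mem_centralizer_iff.mp (hxc' q hq) _ hxQ).symm
    have h1 : q * π x * q⁻¹ = ⁅q, π x⁆ * π x := by rw [commutatorElement_def]; group
    have h2 : q * π x ^ p * q⁻¹ = π x ^ p := by
      rw [← conj_pow, h1, hc.mul_pow, hAe _ (hxc' q hq), one_mul]
    rw [map_pow]
    calc q * π x ^ p = (q * π x ^ p * q⁻¹) * q := by group
      _ = _ := by rw [h2]
  have hVx : Van x := Van.of_quot (N := F) (van_second hAc hxQ hxA hxc')
  have hxp : x ^ p = 1 := by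
    by_contra hne
    exact hne (hB x hVx (hVB _ hxpB hne _ 1 (pow_one _)) ⟨m, hPp x hxP⟩)
  have hxB : ∀ b ∈ B, Commute x b := hQB x hxP hxQ
  set E := Subgroup.zpowers x ⊔ B with hE
  have hEm : ∀ e ∈ E, ∃ i : ℤ, ∃ b ∈ B, x ^ i * b = e := by
    intro e he
    have hn : Subgroup.zpowers x ≤ Subgroup.normalizer (B : Set G) := by
      refine le_trans ?_ (Subgroup.centralizer_le_normalizer _)
      rw [Subgroup.zpowers_le, Subgroup.mem_centralizer_iff]
      exact fun b hb => (hxB b hb).symm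
    have he' : e ∈ (E : Set G) := he
    rw [hE, Subgroup.coe_mul_of_left_le_normalizer_right _ _ hn] at he'
    obtain ⟨_, ⟨i, rfl⟩, b, hb, h⟩ := he'
    exact ⟨i, b, hb, h⟩
  have hEP : E ≤ P := sup_le (Subgroup.zpowers_le.mpr hxP) inf_le_left
  have hEc : IsMulCommutative E := ⟨⟨fun a c => Subtype.ext (by
    obtain ⟨i, b, hb, h⟩ := hEm a a.2
    obtain ⟨j, d, hd, h'⟩ := hEm c c.2
    show (a : G) * c = c * a
    rw [← h, ← h']
    have h1 : Commute b d := setLike_mul_comm (s := B) hb hd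
    exact (Commute.mul_left (Commute.mul_right (Commute.zpow_zpow_self x i j)
      ((hxB d hd).zpow_left i)) (Commute.mul_right ((hxB b hb).zpow_left j).symm h1)).eq)⟩⟩
  have hcyc : IsCyclic E := by
    refine KC E hEP hEc fun e he he1 y hy hcm => ?_
    by_cases heB : e ∈ B
    · exact hBW e heB he1 y hy hcm
    refine Van.of_quot (N := F) ?_
    have h3 : π y = 1 := (QuotientGroup.eq_one_iff _).mpr hy
    have h4 : ((e * y : G) : G ⧸ F) = π e := by
      show π (e * y) = π e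
      rw [map_mul, h3, mul_one]
    rw [h4]
    have hT : E ≤ (Q ⊓ (Subgroup.centralizer ((Q.map (QuotientGroup.mk' A) :
        Subgroup ((G ⧸ F) ⧸ A)) : Set ((G ⧸ F) ⧸ A))).comap (QuotientGroup.mk' A)).comap π := by
      refine sup_le ?_ fun b hb => ⟨hAQ hb.2, ?_⟩
      · rw [Subgroup.zpowers_le]
        refine ⟨hxQ, ?_⟩
        show QuotientGroup.mk' A (π x) ∈ Subgroup.centralizer _
        rw [Subgroup.mem_centralizer_iff]
        rintro _ ⟨q, hq, rfl⟩
        rw [← commutatorElement_eq_one_iff_mul_comm, ← map_commutatorElement]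
        exact (QuotientGroup.eq_one_iff _).mpr (hxc' q hq)
      · show QuotientGroup.mk' A (π b) ∈ Subgroup.centralizer _
        have : QuotientGroup.mk' A (π b) = 1 := (QuotientGroup.eq_one_iff _).mpr hb.2
        rw [this]; exact one_mem _
    refine van_second hAc (hT he).1 (fun h => heB ⟨hEP he, h⟩) fun q hq => ?_
    have h5 : QuotientGroup.mk' A (π e) ∈ Subgroup.centralizer ((Q.map (QuotientGroup.mk' A) :
        Subgroup ((G ⧸ F) ⧸ A)) : Set ((G ⧸ F) ⧸ A)) := (hT he).2
    have h2 := Subgroup.mem_centralizer_iff.mp h5 _ ⟨q, hq, rfl⟩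
    rw [← commutatorElement_eq_one_iff_mul_comm, ← map_commutatorElement] at h2
    exact (QuotientGroup.eq_one_iff _).mp h2
  have hEe : ∀ e ∈ E, e ^ p = 1 := by
    intro e he
    obtain ⟨i, b, hb, rfl⟩ := hEm e he
    rw [((hxB b hb).zpow_left i).mul_pow, hBe b hb, mul_one, ← zpow_natCast, ← zpow_mul, mul_comm,
      zpow_mul, zpow_natCast, hxp, one_zpow]
  have h1 := card_dvd_of_cyclic hcyc hEe
  have h2 : B = E := Subgroup.eq_of_le_of_card_ge le_sup_right
    (by rw [hBc]; exact Nat.le_of_dvd hp.out.pos h1)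
  have h3 : x ∈ B := by rw [h2]; exact Subgroup.mem_sup_left (Subgroup.mem_zpowers x)
  exact hxA h3.2

/-- If all vanishing elements of order divisible by `p` have the same order then
`|P O_p(G) / O_p(G)|` divides `p`. -/
theorem card_map_dvd (p : ℕ) [hp : Fact p.Prime] [Finite G] [Group.IsSolvable G]
    (h : ∀ x y : G, Van x → Van y → p ∣ orderOf x → p ∣ orderOf y → orderOf x = orderOf y)
    (P : Sylow p G) :
    Nat.card ((P : Subgroup G).map (QuotientGroup.mk' (pCore p G))) ∣ p := by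
  set π := QuotientGroup.mk' (pCore p G) with hπ
  have hsurj : Function.Surjective π := QuotientGroup.mk'_surjective _
  obtain ⟨m, hm⟩ := IsPGroup.iff_card.mp (CL.isPGroup_pCore p G)
  have lift : ∀ (x : G) (k : ℕ), π x ^ p ^ k = 1 → x ^ p ^ (k + m) = 1 := by
    intro x k hk
    rw [← map_pow] at hk
    have h1 : x ^ p ^ k ∈ pCore p G := (QuotientGroup.eq_one_iff _).mp hk
    rw [pow_add, pow_mul, ← hm]
    exact orderOf_dvd_iff_pow_eq_one.mp (Subgroup.orderOf_dvd_natCard _ h1)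
  have hdvd : ∀ (x : G) (k : ℕ), x ≠ 1 → x ^ p ^ k = 1 → p ∣ orderOf x := by
    intro x k hx hk
    obtain ⟨i, -, hi⟩ := (Nat.dvd_prime_pow hp.out).mp (orderOf_dvd_of_pow_eq_one hk)
    rw [hi]
    refine dvd_pow_self p fun h => hx ?_
    rw [h, pow_zero] at hi
    exact orderOf_eq_one_iff.mp hi
  refine main p (CL.pCore_quotient_pCore p G) ?_ ?_ (P.mapSurjective hsurj)
  · rintro x y hx hy hx1 ⟨k, hk⟩ hpy
    obtain ⟨x, rfl⟩ := hsurj x
    obtain ⟨y, rfl⟩ := hsurj y
    have h1 := lift x k hk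
    have h2 := h x y hx.of_quot hy.of_quot
      (hdvd x _ (by rintro rfl; exact hx1 (map_one π)) h1) (hpy.trans (orderOf_map_dvd π y))
    refine ⟨k + m, ?_⟩
    rw [← map_pow, orderOf_dvd_iff_pow_eq_one.mp (h2 ▸ orderOf_dvd_of_pow_eq_one h1 :
      orderOf y ∣ p ^ (k + m)), map_one]
  · rintro x hx hxp ⟨k, hk⟩
    obtain ⟨x, rfl⟩ := hsurj x
    by_contra hne
    have h1 := lift x k hk
    have hx1 : x ^ p ≠ 1 := by
      intro h; apply hne; rw [← map_pow, h, map_one]
    have hx0 : x ≠ 1 := by rintro rfl; simp at hx1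
    have hd := hdvd x _ hx0 h1
    have h2 := h x (x ^ p) hx.of_quot (Van.of_quot (N := pCore p G) hxp) hd
      (hdvd _ (k + m) hx1 (by rw [← pow_mul, mul_comm, pow_mul, h1, one_pow]))
    rw [orderOf_pow_of_dvd hp.out.ne_zero hd] at h2
    have h3 : orderOf x / p < orderOf x := Nat.div_lt_self (orderOf_pos x) hp.out.one_lt
    omega

end CL.VanP
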